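import Mathlib
import Cfsg.Prelude.Def_OddOrderLocal
import Cfsg.Agent.Helper1.BG147A
import Cfsg.Agent.Helper16.BG142b
import Cfsg.Agent.Helper16.BG11R
import Cfsg.Agent.Helper10.BG13H
import Cfsg.Agent.Helper4.BG10f
import Cfsg.Agent.S1419

/-!
# B&G Theorem 14.7: the uniqueness clause of S1367

`M` maximal with a Hall `κ(M)`-subgroup `K ≠ 1`, `y ∈ K* = C_{M_σ}(K)` of prime order: `M` is the
only maximal subgroup containing `C_G(y)`.
-/

set_option autoImplicit false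
set_option linter.unusedSectionVars false
set_option linter.unusedVariables false
set_option linter.style.haveILetI false

namespace Cfsg.Agent.Helper13.BG147U

open Subgroup Cfsg
open Cfsg.Agent.Helper14 (IsSylowIn cj map_cj_eq_self_of_mem exists_isSylowIn_ge mem_map_cj)

universe u

variable {G : Type u} [Group G] [Finite G]

/-- uniqueness clause of B&G 14.7 (S1367): for `y ∈ K*` of prime order, `M` is the only maximal
subgroup containing `C_G(y)` -/
theorem coatom_unique_of_centralizer_le (h : Cfsg.Agent.Helper29.BG14.Hyp G) {M K : Subgroup G}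
    (P : Cfsg.Agent.Helper1.BG147.PT M K) {y : G}
    (hy : y ∈ Cfsg.sigmaCore M ⊓ centralizer (K : Set G)) (hyp : (orderOf y).Prime)
    {L : Subgroup G} (hL : IsCoatom L) (hCL : centralizer ({y} : Set G) ≤ L) : L = M := by
  by_contra hLM
  obtain ⟨r, hr⟩ : ∃ r : ℕ, orderOf y = r := ⟨_, rfl⟩
  rw [hr] at hyp
  haveI : Fact r.Prime := ⟨hyp⟩
  have hb : Cfsg.Agent.Helper16.BG11.BG G := Cfsg.Agent.Helper16.BG11.bg_of_results h.hG
  have hM := P.coatom
  obtain ⟨hCM0, hU⟩ := Cfsg.Agent.Helper16.BG14.key hb h.h1417 h.h1420 h.h1423 h.h1426 h.h1429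
    h.h1430 hM P.hall P.ne hy hr
  have hCM : centralizer ({y} : Set G) ≤ M := by
    rw [← Cfsg.Agent.Helper29.BG14.centralizer_zpowers]; exact hCM0
  have hy1 : y ≠ 1 := by
    intro h0
    rw [h0, orderOf_one] at hr
    exact hyp.one_lt.ne hr
  have hyL : y ∈ L := hCL (mem_centralizer_singleton_iff.mpr rfl)
  have hσM : Cfsg.sigmaCore M ≤ M := Cfsg.Agent.H9.BG12.sigmaCore_le M
  have hYc : Nat.card (zpowers y) = r := by rw [Nat.card_zpowers, hr]
  have hYσ : zpowers y ≤ Cfsg.sigmaCore M := zpowers_le.mpr hy.1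
  have hrM : r ∈ Cfsg.sigma M :=
    Cfsg.Agent.H9.BG12.mem_sigma_of_dvd_card_sigmaCore hyp (hYc ▸ Subgroup.card_dvd_of_le hYσ)
  -- step 1: `r ∉ σ(L)`
  have hrL : r ∉ Cfsg.sigma L := by
    intro hrL
    obtain ⟨g, hg⟩ := Cfsg.Agent.Helper29.BG14.sigma_partition' h hM hL hrM hrL
    have hgM : g ∉ M := by
      intro hgM
      apply hLM
      rw [hg, map_cj_eq_self_of_mem hgM]
    have h0 := (h.h1431 M hM K P.hall P.ne).1 g hgM
    have hmem : y ∈ (Cfsg.sigmaCore M ⊓ centralizer (K : Set G)) ⊓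
        M.map (MulAut.conj g).toMonoidHom := ⟨hy, by rw [hg] at hyL; exact hyL⟩
    rw [h0, mem_bot] at hmem
    exact hy1 hmem
  -- step 2: a Sylow `r`-subgroup `S ∋ y` of `M_σ`
  have hYp : IsPGroup r (zpowers y) := IsPGroup.of_card (n := 1) (by rw [hYc, pow_one])
  obtain ⟨S, hS, hYS⟩ := exists_isSylowIn_ge hYσ hYp
  have hyS : y ∈ S := hYS (mem_zpowers y)
  have hSU : Cfsg.InUniqueMaximal S := by
    have h0 := hU hS.toSylow
    rwa [hS.toSylow_map] at h0
  have hSM : S ≤ M := hS.1.trans hσM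
  have hnc : ¬ S ≤ centralizer ({y} : Set G) := by
    intro hle
    exact hLM (hSU.unique ⟨hL, hle.trans hCL⟩ ⟨hM, hSM⟩)
  obtain ⟨s, hsS, hsy⟩ : ∃ s ∈ S, ¬ s * y = y * s := by
    by_contra hcon
    apply hnc
    intro s hs
    rw [mem_centralizer_singleton_iff]
    by_contra hne
    exact hcon ⟨s, hs, hne⟩
  have hSnab : ¬ IsMulCommutative S := by
    intro hc
    apply hsy
    have := hc.is_comm.comm ⟨s, hsS⟩ ⟨y, hyS⟩
    exact congrArg (fun z : ↥S => (z : G)) this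
  have hSncyc : ¬ IsCyclic S := by
    intro hcyc
    apply hSnab
    exact ⟨⟨fun a b => (IsCyclic.commGroup (α := ↥S)).mul_comm a b⟩⟩
  -- step 3: an elementary abelian `A ∋ y` of order `r ^ 2`, inside `L`
  have hr2 : r ≠ 2 := Cfsg.Agent.H9.BG12.prime_ne_two_of_dvd h.hG
    (hrM.2.1.trans (Subgroup.card_subgroup_dvd_card M))
  obtain ⟨A, hAS, hAe, hAc, hYA⟩ :=
    Cfsg.Agent.Helper4.BG10.exists_elementary_sq_ge hr2 hS.2.1 hSncyc hYS hYc
  have hyA : y ∈ A := hYA (mem_zpowers y)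
  have hAcent : A ≤ centralizer ({y} : Set G) := by
    intro a ha
    rw [mem_centralizer_singleton_iff]
    have := hAe.1.is_comm.comm ⟨a, ha⟩ ⟨y, hyA⟩
    exact congrArg (fun z : ↥A => (z : G)) this
  have hAL : A ≤ L := hAcent.trans hCL
  have hτ : r ∈ Cfsg.tau2 L :=
    ⟨hyp, hrL, Cfsg.Agent.Helper16.BG11.pRankLE_two_of_not_mem_sigma hb hL hrL,
      Cfsg.Agent.Helper16.BG11.not_pRankLE_one_of_elemAb hAL hAe hAc⟩
  -- step 4: the Sylow `r`-subgroups of `G` are nonabelian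
  have hSM' : IsSylowIn r S M := Cfsg.Agent.Helper16.BG11.isSylowIn_of_sigmaCore hb hM hrM hS
  have hStop : IsSylowIn r S ⊤ := Cfsg.Agent.Helper4.BG10.sigma_isSylowIn_top hrM hSM'
  have hSylnab : ∀ S' : Sylow r G, ¬ IsMulCommutative (S' : Subgroup G) := by
    intro S' hc
    have hS'top : IsSylowIn r (S' : Subgroup G) ⊤ :=
      ⟨le_top, S'.isPGroup', fun Q _ hQ hle => S'.is_maximal' hQ hle⟩
    obtain ⟨g, -, hg⟩ := hS'top.exists_conj hStop
    apply hsy
    rw [hg] at hsS hyS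
    obtain ⟨a, ha, rfl⟩ := hsS
    obtain ⟨b, hb', rfl⟩ := hyS
    have := hc.is_comm.comm ⟨a, ha⟩ ⟨b, hb'⟩
    have h1 : a * b = b * a := congrArg (fun z : ↥(S' : Subgroup G) => (z : G)) this
    rw [← map_mul, ← map_mul, h1]
  -- step 5: S1419 for `(L, E, r, A)`
  have hAp : IsPGroup r A := Cfsg.Agent.Helper4.BG10.isPGroup_of_elementary hAe
  obtain ⟨E, hE, hAE⟩ := Cfsg.Agent.Helper10.BG13F.exists_compl_ge hb hL hrL hAL hAp
  obtain ⟨-, -, hX⟩ := Cfsg.Agent.S1419.result h.hG L hL E hE r hτ hSylnab A ⟨hAE, hAe, hAc⟩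
  have hYeq : zpowers y = A ⊓ centralizer (Cfsg.sigmaCore L : Set G) := by
    by_contra hne
    apply (hX (zpowers y) (hYA.trans hAE) hYc hne).2
    rw [Cfsg.Agent.Helper29.BG14.centralizer_zpowers]
    exact hCL
  have hyC : y ∈ centralizer (Cfsg.sigmaCore L : Set G) := by
    have h0 : y ∈ A ⊓ centralizer (Cfsg.sigmaCore L : Set G) := hYeq ▸ mem_zpowers y
    exact h0.2
  -- step 6: `y ∈ sigmaHat L` and S1420
  have hne := Cfsg.Agent.Helper10.BG16.sigmaCore_ne_bot h.hG (Cfsg.Agent.Helper21.BG12.st1350 h.hG)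
    (Cfsg.Agent.Helper21.BG12.uniq96 h.hG) hL
  obtain ⟨⟨w, hw⟩, hw1⟩ := (Subgroup.ne_bot_iff_exists_ne_one).mp hne
  have hw1' : w ≠ 1 := fun h0 => hw1 (Subtype.ext h0)
  have hyHat : y ∈ Cfsg.sigmaHat L :=
    ⟨hyL, w, hw, hw1', ((mem_centralizer_iff.mp hyC) w hw).symm⟩
  have hfin := ((h.h1420 L hL E hE).2.2.2 y hyL hy1 (fun p hp hpd => by
    rw [hr] at hpd
    rw [(Nat.prime_dvd_prime_iff_eq hp hyp).mp hpd]
    exact hτ) hyHat).2 M hM hCM
  exact hLM hfin.symm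

end Cfsg.Agent.Helper13.BG147U
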