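import Mathlib
import Cfsg.Agent.S1445
import Cfsg.Agent.Lead.BG8a
import Cfsg.Agent.Helper29.NilpHall
import Cfsg.Agent.Helper26.Basic
import Cfsg.Agent.Lead.Coprime3

/-!
# A Frobenius-type action lemma (towards B&G 15.2)

`frob_centralizes`: in a finite solvable group of odd order, let `N`, `D`, `K` be subgroups with
`D`, `K` normalizing `N`, `K` normalizing `D`, orders of `N`, `D`, `K` pairwise coprime, `K ≠ 1`, and
every non-identity element of `K` acting without fixed points on `N` and on `D`.  Then `D` centralizes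
`N` (because `N D` is nilpotent: B&G 3.7 = S1445 applied to `(N D) K`).
-/

set_option autoImplicit false
open Cfsg

namespace Cfsg.Agent.Helper13.BG15

open Subgroup

variable {X : Type*} [Group X]

theorem conj_mem_of_le_nzr {A U : Subgroup X} (h : A ≤ normalizer (U : Set X)) {a u : X}
    (ha : a ∈ A) (hu : u ∈ U) : a * u * a⁻¹ ∈ U :=
  (mem_normalizer_iff.mp (h ha) u).mp hu

theorem conj_mem_of_le_nzr' {A U : Subgroup X} (h : A ≤ normalizer (U : Set X)) {a u : X}
    (ha : a ∈ A) (hu : u ∈ U) : a⁻¹ * u * a ∈ U := by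
  have := conj_mem_of_le_nzr h (A.inv_mem ha) hu
  simpa using this

theorem le_nzr_of_conj_mem [Finite X] {A U : Subgroup X}
    (h : ∀ a ∈ A, ∀ u ∈ U, a * u * a⁻¹ ∈ U) : A ≤ normalizer (U : Set X) := by
  intro a ha
  rw [mem_normalizer_iff]
  intro u
  refine ⟨h a ha u, fun hu => ?_⟩
  have hinj : Function.Injective (fun u : U => (⟨a * u * a⁻¹, h a ha u u.2⟩ : U)) := by
    intro u v huv
    have := congrArg Subtype.val huv
    simp only [mul_left_inj, mul_right_inj] at this
    exact Subtype.ext this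
  have hsurj := Finite.surjective_of_injective hinj
  obtain ⟨v, hv⟩ := hsurj ⟨a * u * a⁻¹, hu⟩
  have := congrArg Subtype.val hv
  simp only [mul_left_inj, mul_right_inj] at this
  rw [← this]; exact v.2

theorem le_nzr_sup [Finite X] {A U Z : Subgroup X} (hU : A ≤ normalizer (U : Set X))
    (hZ : A ≤ normalizer (Z : Set X)) : A ≤ normalizer ((U ⊔ Z : Subgroup X) : Set X) := by
  apply le_nzr_of_conj_mem
  intro a ha x hx
  have hle : U ⊔ Z ≤ (U ⊔ Z).comap (MulAut.conj a).toMonoidHom := by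
    apply sup_le
    · intro u hu
      rw [mem_comap]
      simp only [MulEquiv.coe_toMonoidHom, MulAut.conj_apply]
      exact (le_sup_left : U ≤ U ⊔ Z) (conj_mem_of_le_nzr hU ha hu)
    · intro u hu
      rw [mem_comap]
      simp only [MulEquiv.coe_toMonoidHom, MulAut.conj_apply]
      exact (le_sup_right : Z ≤ U ⊔ Z) (conj_mem_of_le_nzr hZ ha hu)
  have := hle hx
  rw [mem_comap] at this
  simpa using this

/-- If `D` normalizes `N`, every element of `N ⊔ D` is a product `n * d`. -/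
theorem mem_sup_of_le_nzr {N D : Subgroup X} (hDN : D ≤ normalizer (N : Set X)) {l : X}
    (hl : l ∈ N ⊔ D) : ∃ n ∈ N, ∃ d ∈ D, l = n * d := by
  have h := coe_mul_of_right_le_normalizer_left N D hDN
  have hl' : l ∈ ((N ⊔ D : Subgroup X) : Set X) := hl
  rw [h] at hl'
  obtain ⟨n, hn, d, hd, rfl⟩ := hl'
  exact ⟨n, hn, d, hd, rfl⟩

theorem card_sup_of_le_nzr [Finite X] {N D : Subgroup X} (hDN : D ≤ normalizer (N : Set X))
    (hcop : (Nat.card N).Coprime (Nat.card D)) :
    Nat.card ↥(N ⊔ D) = Nat.card N * Nat.card D := by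
  have h1 := Cfsg.Agent.Helper26.card_sup_mul_card_inf hDN
  have h2 : D ⊓ N = ⊥ := (Subgroup.disjoint_of_coprime_natCard hcop.symm).eq_bot
  rw [h2, Subgroup.card_bot, mul_one, sup_comm] at h1
  rw [h1, mul_comm]

/-- The version with `X = N D K`. -/
theorem frob_centralizes_top [Finite X] [Group.IsSolvable X] (hodd : Odd (Nat.card X))
    (N D K : Subgroup X) (hDN : D ≤ normalizer (N : Set X)) (hKN : K ≤ normalizer (N : Set X))
    (hKD : K ≤ normalizer (D : Set X)) (htop : N ⊔ D ⊔ K = ⊤)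
    (hcopND : (Nat.card N).Coprime (Nat.card D))
    (hcopNK : (Nat.card N).Coprime (Nat.card K)) (hcopDK : (Nat.card D).Coprime (Nat.card K))
    (hK1 : K ≠ ⊥)
    (hfpfN : ∀ k ∈ K, k ≠ 1 → ∀ n ∈ N, k * n = n * k → n = 1)
    (hfpfD : ∀ k ∈ K, k ≠ 1 → ∀ d ∈ D, k * d = d * k → d = 1) :
    ∀ n ∈ N, ∀ d ∈ D, n * d = d * n := by
  classical
  set L : Subgroup X := N ⊔ D with hL
  have hNL : N ≤ L := le_sup_left
  have hDL : D ≤ L := le_sup_right
  have hND : N ⊓ D = ⊥ := (Subgroup.disjoint_of_coprime_natCard hcopND).eq_bot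
  -- `L` is normal
  have hLnzr : (⊤ : Subgroup X) ≤ normalizer (L : Set X) := by
    rw [← htop]
    refine sup_le (sup_le ?_ ?_) ?_
    · exact hNL.trans le_normalizer
    · exact hDL.trans le_normalizer
    · exact le_nzr_sup hKN hKD
  have hLn : L.Normal := by
    rw [← normalizer_eq_top_iff]; exact top_le_iff.mp hLnzr
  have hLK : L ⊔ K = ⊤ := htop
  have hcardL : Nat.card L = Nat.card N * Nat.card D := card_sup_of_le_nzr hDN hcopND
  have hcopLK : (Nat.card L).Coprime (Nat.card K) := by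
    rw [hcardL]; exact Nat.Coprime.mul_left hcopNK hcopDK
  -- no fixed points of `k ≠ 1` on `L`
  have hfpfL : ∀ k ∈ K, k ≠ 1 → ∀ l ∈ L, k * l = l * k → l = 1 := by
    intro k hk hk1 l hl hkl
    obtain ⟨n, hn, d, hd, rfl⟩ := mem_sup_of_le_nzr hDN hl
    have hn' : k * n * k⁻¹ ∈ N := conj_mem_of_le_nzr hKN hk hn
    have hd' : k * d * k⁻¹ ∈ D := conj_mem_of_le_nzr hKD hk hd
    have e : n⁻¹ * (k * n * k⁻¹) = d * (k * d * k⁻¹)⁻¹ := by
      have h1 : k * (n * d) * k⁻¹ = n * d := by rw [hkl]; group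
      have h2 : (k * n * k⁻¹) * (k * d * k⁻¹) = n * d := by rw [← h1]; group
      calc n⁻¹ * (k * n * k⁻¹) = n⁻¹ * ((k * n * k⁻¹) * (k * d * k⁻¹)) * (k * d * k⁻¹)⁻¹ := by group
        _ = n⁻¹ * (n * d) * (k * d * k⁻¹)⁻¹ := by rw [h2]
        _ = d * (k * d * k⁻¹)⁻¹ := by group
    have hmem : n⁻¹ * (k * n * k⁻¹) ∈ N ⊓ D := by
      refine mem_inf.mpr ⟨N.mul_mem (N.inv_mem hn) hn', ?_⟩
      rw [e]; exact D.mul_mem hd (D.inv_mem hd')
    rw [hND, mem_bot] at hmem
    have hn1 : k * n = n * k := by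
      have : k * n * k⁻¹ = n := by
        have := congrArg (fun t => n * t) hmem
        simpa using this
      calc k * n = (k * n * k⁻¹) * k := by group
        _ = n * k := by rw [this]
    have hnn : n = 1 := hfpfN k hk hk1 n hn hn1
    subst hnn
    have hd1 : k * d = d * k := by simpa using hkl
    have hdd : d = 1 := hfpfD k hk hk1 d hd hd1
    subst hdd
    simp
  -- a non-identity element of `K`
  obtain ⟨k0, hk0, hk01⟩ : ∃ k ∈ K, k ≠ 1 := by
    by_contra hcon
    apply hK1
    rw [eq_bot_iff_forall]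
    intro k hk
    by_contra hk1
    exact hcon ⟨k, hk, hk1⟩
  have hLcentK : L ⊓ centralizer (K : Set X) = ⊥ := by
    rw [eq_bot_iff]
    intro l hl
    obtain ⟨hlL, hlC⟩ := mem_inf.mp hl
    rw [mem_bot]
    exact hfpfL k0 hk0 hk01 l hlL ((mem_centralizer_iff.mp hlC) k0 hk0)
  have hprime : ∀ x ∈ K, x ≠ 1 → L ⊓ centralizer ({x} : Set X) = L ⊓ centralizer (K : Set X) := by
    intro x hx hx1
    rw [hLcentK, eq_bot_iff]
    intro l hl
    obtain ⟨hlL, hlC⟩ := mem_inf.mp hl
    rw [mem_bot]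
    exact hfpfL x hx hx1 l hlL ((mem_centralizer_iff.mp hlC) x rfl)
  have hF : Cfsg.fittingOf L ⊓ centralizer (K : Set X) = ⊥ := by
    rw [eq_bot_iff, ← hLcentK]
    exact inf_le_inf_right _ (Cfsg.Agent.Lead.BG8.fittingOf_le L)
  have h37 := Cfsg.Agent.S1445.result hodd L K hLK hcopLK hprime hF
  -- `L = [L,K]`
  have hKL : K ≤ normalizer (L : Set X) := le_top.trans hLnzr
  have hdec := Cfsg.Agent.Lead.coprime_commutator_sup_centralizer K L hKL hcopLK.symm
    (Or.inr inferInstance)
  rw [hLcentK, sup_bot_eq] at hdec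
  have hLF : L ≤ Cfsg.fittingOf L := by
    calc L = ⁅L, K⁆ := hdec.symm
      _ ≤ Cfsg.fittingOf L := h37
  have hLeq : Cfsg.fittingOf L = L := le_antisymm (Cfsg.Agent.Lead.BG8.fittingOf_le L) hLF
  have hLnil : Group.IsNilpotent L := by
    have := Cfsg.Agent.Lead.BG8.fittingOf_isNilpotent L
    rw [hLeq] at this; exact this
  intro n hn d hd
  have hcomm := Cfsg.Agent.Helper29.commute_of_nilpotent_of_coprime_orderOf (↥L)
    (⟨n, hNL hn⟩ : L) (⟨d, hDL hd⟩ : L) (by
      rw [Subgroup.orderOf_mk, Subgroup.orderOf_mk]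
      exact Nat.Coprime.coprime_dvd_left (Subgroup.orderOf_dvd_natCard N hn)
        (Nat.Coprime.coprime_dvd_right (Subgroup.orderOf_dvd_natCard D hd) hcopND))
  have := congrArg Subtype.val hcomm.eq
  simpa using this


theorem card_subgroupOf_le {H Y : Subgroup X} (h : H ≤ Y) :
    Nat.card (H.subgroupOf Y) = Nat.card H :=
  Nat.card_congr (Subgroup.subgroupOfEquivOfLe h).toEquiv

/-- General version: `D` centralizes `N`. -/
theorem frob_centralizes [Finite X] [Group.IsSolvable X] (hodd : Odd (Nat.card X))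
    (N D K : Subgroup X) (hDN : D ≤ normalizer (N : Set X)) (hKN : K ≤ normalizer (N : Set X))
    (hKD : K ≤ normalizer (D : Set X))
    (hcopND : (Nat.card N).Coprime (Nat.card D))
    (hcopNK : (Nat.card N).Coprime (Nat.card K)) (hcopDK : (Nat.card D).Coprime (Nat.card K))
    (hK1 : K ≠ ⊥)
    (hfpfN : ∀ k ∈ K, k ≠ 1 → ∀ n ∈ N, k * n = n * k → n = 1)
    (hfpfD : ∀ k ∈ K, k ≠ 1 → ∀ d ∈ D, k * d = d * k → d = 1) :
    ∀ n ∈ N, ∀ d ∈ D, n * d = d * n := by
  classical
  set Y : Subgroup X := N ⊔ D ⊔ K with hY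
  have hNY : N ≤ Y := le_sup_left.trans le_sup_left
  have hDY : D ≤ Y := le_sup_right.trans le_sup_left
  have hKY : K ≤ Y := le_sup_right
  have hoddY : Odd (Nat.card Y) := by
    have hdvd : Nat.card Y ∣ Nat.card X := Subgroup.card_subgroup_dvd_card Y
    exact Odd.of_dvd_nat hodd hdvd
  have key := frob_centralizes_top (X := ↥Y) hoddY (N.subgroupOf Y) (D.subgroupOf Y)
    (K.subgroupOf Y)
    (le_nzr_of_conj_mem (fun a ha u hu => by
      rw [mem_subgroupOf] at ha hu ⊢
      simpa using conj_mem_of_le_nzr hDN ha hu))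
    (le_nzr_of_conj_mem (fun a ha u hu => by
      rw [mem_subgroupOf] at ha hu ⊢
      simpa using conj_mem_of_le_nzr hKN ha hu))
    (le_nzr_of_conj_mem (fun a ha u hu => by
      rw [mem_subgroupOf] at ha hu ⊢
      simpa using conj_mem_of_le_nzr hKD ha hu))
    (by
      rw [← Subgroup.subgroupOf_sup hNY hDY, ← Subgroup.subgroupOf_sup (sup_le hNY hDY) hKY]
      exact Subgroup.subgroupOf_self _)
    (by rw [card_subgroupOf_le hNY, card_subgroupOf_le hDY]; exact hcopND)
    (by rw [card_subgroupOf_le hNY, card_subgroupOf_le hKY]; exact hcopNK)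
    (by rw [card_subgroupOf_le hDY, card_subgroupOf_le hKY]; exact hcopDK)
    (by
      intro h
      apply hK1
      rw [eq_bot_iff]
      intro k hk
      have : (⟨k, hKY hk⟩ : Y) ∈ K.subgroupOf Y := by rw [mem_subgroupOf]; exact hk
      rw [h, mem_bot] at this
      rw [mem_bot]
      exact congrArg Subtype.val this)
    (by
      intro k hk hk1 n hn hkn
      rw [mem_subgroupOf] at hk hn
      have h1 : (k : X) ≠ 1 := fun h => hk1 (Subtype.ext h)
      have h2 : (k : X) * (n : X) = (n : X) * (k : X) := by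
        have := congrArg Subtype.val hkn
        simpa using this
      exact Subtype.ext (hfpfN k hk h1 n hn h2))
    (by
      intro k hk hk1 n hn hkn
      rw [mem_subgroupOf] at hk hn
      have h1 : (k : X) ≠ 1 := fun h => hk1 (Subtype.ext h)
      have h2 : (k : X) * (n : X) = (n : X) * (k : X) := by
        have := congrArg Subtype.val hkn
        simpa using this
      exact Subtype.ext (hfpfD k hk h1 n hn h2))
  intro n hn d hd
  have := key ⟨n, hNY hn⟩ (by rw [mem_subgroupOf]; exact hn) ⟨d, hDY hd⟩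
    (by rw [mem_subgroupOf]; exact hd)
  have := congrArg Subtype.val this
  simpa using this

end Cfsg.Agent.Helper13.BG15
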