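import Mathlib
import Cfsg.Agent.Helper20.BG15K2
import Cfsg.Agent.Helper4.BG147L
import Cfsg.Agent.Helper1.BG147A

/-!
# S1373 without S1363 (hence without S1435)

`K ≠ 1`, `U = 1` ⇒ `|K*|` prime: via the partner `M*` (S1366), which then has `U* ≠ 1` (S1369), and
helper4's `card_prime_of_compl_ne` (B&G 15.9(b) from S1430 alone) applied to `(M*, K*)`.
-/

set_option autoImplicit false
set_option linter.unusedSectionVars false
set_option linter.unusedVariables false

open Subgroup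
open Cfsg.Agent.Helper27.BG15

namespace Cfsg.Agent.Helper13.BG147V

variable {G : Type*} [Group G] [Finite G]

/-- in a standard factorisation with `U ≠ 1`, `M ≠ K M_σ` -/
theorem card_ne_of_U_ne_bot {M K U : Subgroup G} (hKU : Cfsg.IsSigmaDecomposition M K U)
    (hK1 : K ≠ ⊥) (hM : IsCoatom M) (hU1 : U ≠ ⊥) :
    Nat.card K * Nat.card (Cfsg.sigmaCore M) ≠ Nat.card M := by
  intro heq
  apply hU1
  have P : Cfsg.Agent.Helper1.BG147.PT M K := ⟨hM, hKU.hall, hK1⟩
  have h1 := Cfsg.Agent.H9.BG12.card_mul_of_isComplIn hKU.compl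
  have hn : K ≤ normalizer (Cfsg.sigmaCore M : Set G) :=
    hKU.hall.1.trans (Cfsg.Agent.H9.BG12.le_normalizer_sigmaCore M)
  have h2 := Cfsg.Agent.Helper17.card_sup_mul_card_inf (Cfsg.sigmaCore M) K hn
  rw [inf_comm, P.K_inf_sigmaCore, Subgroup.card_bot, mul_one, sup_comm] at h2
  rw [h2, mul_comm (Nat.card ↥(Cfsg.sigmaCore M)), heq] at h1
  have hpos : 0 < Nat.card M := Nat.card_pos
  have h3 : Nat.card U = 1 := by
    have : Nat.card U * Nat.card M = 1 * Nat.card M := by rw [h1, one_mul]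
    exact Nat.eq_of_mul_eq_mul_right hpos this
  exact Subgroup.card_eq_one.mp h3

/-- **S1373**, conditionally, without S1353/S1363: `K ≠ 1`, `U = 1` ⇒ `|K*|` prime. -/
theorem s1373_of (hG : Cfsg.IsMinSimpleOddOrder G) (h1351 : St1351 G)
    (h1352 : St1352 G) (h1354 : St1354 G)
    (h1366 : St1366 G) (h1369 : St1369 G) (h1430 : St1430 G) : St1373 G := by
  intro M hM K U hKU hK1 hU
  obtain ⟨Mstar, ⟨hMs, hKst, hKstH⟩, -⟩ := h1366 M hM K U hKU hK1
  have hcyc : IsCyclic ↥(Cfsg.sigmaCore M ⊓ centralizer (K : Set G)) := (h1351 Mstar hMs).2 _ hKstH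
  obtain ⟨⟨Ustar, hdec⟩, -⟩ := h1352 Mstar hMs _ hcyc hKstH
  have hKst1 : Cfsg.sigmaCore M ⊓ centralizer (K : Set G) ≠ ⊥ :=
    (h1354 M hM K hKU.cyclic hKU.hall).1
  have hUst1 : Ustar ≠ ⊥ := by
    rcases (h1369 M hM K U hKU hK1 Mstar hMs hKst hKstH).1 with h | h
    · exact absurd hU h
    · exact h Ustar hdec
  exact Cfsg.Agent.Helper4.BG147L.card_prime_of_compl_ne hG h1430 hMs hKstH hKst1
    (card_ne_of_U_ne_bot hdec hKst1 hMs hUst1)

end Cfsg.Agent.Helper13.BG147V
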