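import Mathlib
import Cfsg.Prelude.Def_OddOrderLocal
import Cfsg.Agent.Helper27.BG15St
import Cfsg.Agent.Helper29.BG14D
import Cfsg.Agent.Helper29.BG14SP
import Cfsg.Agent.Helper29.BG14F
import Cfsg.Agent.Helper29.NilpHall
import Cfsg.Agent.Helper23.BG13SOd
import Cfsg.Agent.Helper4.BG147L
import Cfsg.Agent.Helper13.BG147V
import Cfsg.Agent.Helper1.BG16C3
import Cfsg.Agent.Helper1.RankOneQ
import Cfsg.Agent.Helper1.BG147A
import Cfsg.Agent.Lead.CoprimeAbelian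
import Cfsg.Agent.Helper10.BG16A
import Cfsg.Agent.Helper16.BG142b

/-!
# B&G Theorem 15.8 (S1435): basic facts and the key lemma `kl_false`

`M` maximal with standard factorisation `M = K U M_σ`, `K ≠ 1`, `U ≠ 1`, partner `M*`;
`H` maximal, not conjugate to `M` nor to `M*`, with `K ≤ H`.
-/

set_option autoImplicit false
set_option linter.unusedSectionVars false
set_option linter.unusedVariables false
set_option linter.style.haveILetI false

namespace Cfsg.Agent.Helper13.BG158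

open Subgroup Cfsg
open Cfsg.Agent.Helper14 (IsSylowIn cj map_cj_eq_self_of_mem exists_isSylowIn_ge mem_map_cj
  mem_normalizer_iff_map_cj map_cj_normalizer map_cj_centralizer map_cj_one map_cj_mul
  map_cj_le_iff)
open Cfsg.Agent.Helper27.BG15

universe u

variable {G : Type u} [Group G] [Finite G]

/-- the frozen statements used in the proof of S1435 -/
structure Inp (G : Type u) [Group G] [Finite G] : Prop where
  h : Cfsg.Agent.Helper29.BG14.Hyp G
  h1353 : St1353 G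
  h1354 : St1354 G
  h1364 : St1364 G
  h1367 : St1367 G
  h1368 : St1368 G
  h1369 : St1369 G
  h1375 : St1375 G

/-- the global configuration of S1435 -/
structure Cfg (M K U Mstar : Subgroup G) : Prop where
  hM : IsCoatom M
  hKU : Cfsg.IsSigmaDecomposition M K U
  hK1 : K ≠ ⊥
  hU1 : U ≠ ⊥
  hMstar : IsCoatom Mstar
  hKst : K = Cfsg.sigmaCore Mstar ⊓
    centralizer ((Cfsg.sigmaCore M ⊓ centralizer (K : Set G) : Subgroup G) : Set G)
  hKstH : Cfsg.IsPiHallOf (Cfsg.kappa Mstar) (Cfsg.sigmaCore M ⊓ centralizer (K : Set G)) Mstar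

/-- a maximal subgroup `H ≥ K` not conjugate to `M` or `M*` -/
structure HC (M K Mstar H : Subgroup G) : Prop where
  hH : IsCoatom H
  hncM : ∀ g : G, H ≠ M.map (cj g)
  hncMs : ∀ g : G, H ≠ Mstar.map (cj g)
  hKH : K ≤ H

section basics

variable {M K U Mstar H : Subgroup G}

theorem Inp.hG (I : Inp G) : Cfsg.IsMinSimpleOddOrder G := I.h.hG

theorem Cfg.PT (c : Cfg M K U Mstar) : Cfsg.Agent.Helper1.BG147.PT M K :=
  ⟨c.hM, c.hKU.hall, c.hK1⟩

theorem Cfg.K_le (c : Cfg M K U Mstar) : K ≤ M := c.hKU.hall.1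

theorem Cfg.U_le (c : Cfg M K U Mstar) : U ≤ M := c.hKU.compl.1

theorem Cfg.K_le_sigmaCore_Mstar (c : Cfg M K U Mstar) : K ≤ Cfsg.sigmaCore Mstar := by
  have h := c.hKst
  intro k hk
  rw [h] at hk
  exact hk.1

theorem Cfg.K_le_Mstar (c : Cfg M K U Mstar) : K ≤ Mstar :=
  c.K_le_sigmaCore_Mstar.trans (Cfsg.Agent.H9.BG12.sigmaCore_le Mstar)

/-- `|K|` is prime -/
theorem card_K_prime (I : Inp G) (c : Cfg M K U Mstar) : (Nat.card K).Prime :=
  Cfsg.Agent.Helper4.BG147L.card_prime_of_compl_ne I.hG I.h.h1430 c.hM c.hKU.hall c.hK1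
    (Cfsg.Agent.Helper13.BG147V.card_ne_of_U_ne_bot c.hKU c.hK1 c.hM c.hU1)

/-- a non-identity element of `K` generates `K` -/
theorem zpowers_eq_K (I : Inp G) (c : Cfg M K U Mstar) {k : G} (hk : k ∈ K) (hk1 : k ≠ 1) :
    zpowers k = K := by
  have hp := card_K_prime I c
  have hle : zpowers k ≤ K := zpowers_le.mpr hk
  have hd : Nat.card (zpowers k) ∣ Nat.card K := Subgroup.card_dvd_of_le hle
  rcases (Nat.dvd_prime hp).mp hd with h1 | h1
  · exfalso
    rw [Nat.card_zpowers, orderOf_eq_one_iff] at h1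
    exact hk1 h1
  · exact Subgroup.eq_of_le_of_card_ge hle h1.ge

theorem orderOf_eq_card_K (I : Inp G) (c : Cfg M K U Mstar) {k : G} (hk : k ∈ K) (hk1 : k ≠ 1) :
    orderOf k = Nat.card K := by
  rw [← Nat.card_zpowers, zpowers_eq_K I c hk hk1]

theorem centralizer_singleton_eq (I : Inp G) (c : Cfg M K U Mstar) {k : G} (hk : k ∈ K)
    (hk1 : k ≠ 1) : centralizer ({k} : Set G) = centralizer (K : Set G) := by
  rw [← Cfsg.Agent.Helper29.BG14.centralizer_zpowers, zpowers_eq_K I c hk hk1]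

theorem exists_K_ne_one (c : Cfg M K U Mstar) : ∃ k ∈ K, k ≠ 1 := by
  obtain ⟨k, hk1⟩ := (Subgroup.ne_bot_iff_exists_ne_one).mp c.hK1
  exact ⟨(k : G), k.2, fun h0 => hk1 (Subtype.ext h0)⟩

/-- `C_G(K) ≤ M*`, and `M*` is the only maximal subgroup containing it -/
theorem centralizer_K_le (I : Inp G) (c : Cfg M K U Mstar) :
    centralizer (K : Set G) ≤ Mstar ∧
      ∀ L : Subgroup G, IsCoatom L → centralizer (K : Set G) ≤ L → L = Mstar :=
  (I.h1367 M c.hM K U c.hKU c.hK1 Mstar c.hMstar c.hKst c.hKstH).2 K le_rfl (card_K_prime I c)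

/-- `N_G(K) ≤ M*` -/
theorem normalizer_K_le (I : Inp G) (c : Cfg M K U Mstar) :
    normalizer (K : Set G) ≤ Mstar := by
  intro n hn
  obtain ⟨hle, huniq⟩ := centralizer_K_le I c
  have hKn : K.map (cj n) = K := mem_normalizer_iff_map_cj.mp hn
  have h1 : centralizer (K : Set G) ≤ Mstar.map (cj n) := by
    have h2 : (centralizer (K : Set G)).map (cj n) ≤ Mstar.map (cj n) := Subgroup.map_mono hle
    rwa [map_cj_centralizer, hKn] at h2
  have h3 := huniq _ (Cfsg.Agent.Lead.BG9.isCoatom_map_cj c.hMstar n) h1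
  exact Cfsg.Agent.Helper29.BG14.mem_of_map_cj_eq I.hG c.hMstar h3

end basics


section hc

variable {M K U Mstar H : Subgroup G}

theorem st1350' (I : Inp G) : Cfsg.Agent.H9.BG12.St1350 G :=
  Cfsg.Agent.Helper21.BG12.st1350 I.hG

theorem sigmaCore_ne_bot' (I : Inp G) {L : Subgroup G} (hL : IsCoatom L) :
    Cfsg.sigmaCore L ≠ ⊥ :=
  Cfsg.Agent.Helper10.BG16.sigmaCore_ne_bot I.hG (Cfsg.Agent.Helper21.BG12.st1350 I.hG)
    (Cfsg.Agent.Helper21.BG12.uniq96 I.hG) hL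

theorem HC.ne_M (hc : HC M K Mstar H) : H ≠ M := by
  have := hc.hncM 1
  rwa [map_cj_one] at this

theorem HC.ne_Mstar (hc : HC M K Mstar H) : H ≠ Mstar := by
  have := hc.hncMs 1
  rwa [map_cj_one] at this

theorem HC.kappa_eq_empty (I : Inp G) (c : Cfg M K U Mstar) (hc : HC M K Mstar H) :
    Cfsg.kappa H = ∅ := by
  by_contra hne
  have hne' : (Cfsg.kappa H).Nonempty := Set.nonempty_iff_ne_empty.mpr hne
  obtain ⟨g, hg | hg⟩ :=
    (I.h1369 M c.hM K U c.hKU c.hK1 Mstar c.hMstar c.hKst c.hKstH).2 H hc.hH hne'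
  · exact hc.hncM g hg
  · exact hc.hncMs g hg

theorem HC.not_mem_sigma (I : Inp G) (c : Cfg M K U Mstar) (hc : HC M K Mstar H) {s : ℕ}
    (hs : s ∈ Cfsg.sigma M) : s ∉ Cfsg.sigma H :=
  Cfsg.Agent.Helper23.BG13SO.sigma_partition I.hG c.hM hc.hH hc.hncM hs

theorem HC.not_mem_sigma' (I : Inp G) (c : Cfg M K U Mstar) (hc : HC M K Mstar H) {s : ℕ}
    (hs : s ∈ Cfsg.sigma Mstar) : s ∉ Cfsg.sigma H :=
  Cfsg.Agent.Helper23.BG13SO.sigma_partition I.hG c.hMstar hc.hH hc.hncMs hs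

theorem Cfg.card_K_mem_sigma (I : Inp G) (c : Cfg M K U Mstar) :
    Nat.card K ∈ Cfsg.sigma Mstar :=
  Cfsg.Agent.H9.BG12.mem_sigma_of_dvd_card_sigmaCore (card_K_prime I c)
    (Subgroup.card_dvd_of_le c.K_le_sigmaCore_Mstar)

theorem HC.card_K_not_mem_sigma (I : Inp G) (c : Cfg M K U Mstar) (hc : HC M K Mstar H) :
    Nat.card K ∉ Cfsg.sigma H := hc.not_mem_sigma' I c (c.card_K_mem_sigma I)

/-- `K` acts fixed-point-freely on `H_σ` -/
theorem HC.fpf (I : Inp G) (c : Cfg M K U Mstar) (hc : HC M K Mstar H) :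
    ∀ y ∈ Cfsg.sigmaCore H, ∀ k ∈ K, k ≠ 1 → k * y = y * k → y = 1 := by
  intro y hy k hk hk1 hky
  by_contra hy1
  have hp := card_K_prime I c
  have hko : orderOf k = Nat.card K := orderOf_eq_card_K I c hk hk1
  have hpσ : Nat.card K ∉ Cfsg.sigma H := hc.card_K_not_mem_sigma I c
  have hσ : ∀ p : ℕ, p.Prime → p ∣ orderOf k → p ∉ Cfsg.sigma H := by
    intro p hpp hpd
    rw [hko] at hpd
    rw [(Nat.prime_dvd_prime_iff_eq hpp hp).mp hpd]
    exact hpσ
  have hkmem : k ∈ H ⊓ centralizer ({y} : Set G) :=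
    ⟨hc.hKH hk, mem_centralizer_singleton_iff.mpr hky⟩
  rcases I.h.h1432 H hc.hH y hy hy1 k hkmem hk1 hσ with ⟨hκ, -⟩ | ⟨-, -, hle, huniq⟩
  · have h0 : Nat.card K ∈ Cfsg.kappa H := hκ _ hp (hko ▸ dvd_rfl)
    rw [hc.kappa_eq_empty I c] at h0
    exact h0
  · have h1 : centralizer (K : Set G) ≤ H := by
      rw [← centralizer_singleton_eq I c hk hk1]; exact hle
    exact hc.ne_Mstar ((centralizer_K_le I c).2 H hc.hH h1)

theorem coprime_sigmaCore {A B : Subgroup G} (hdisj : ∀ s, s ∈ Cfsg.sigma A → s ∉ Cfsg.sigma B) :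
    (Nat.card (Cfsg.sigmaCore A)).Coprime (Nat.card (Cfsg.sigmaCore B)) := by
  apply Nat.coprime_of_dvd
  intro p hp h1 h2
  exact hdisj p (Cfsg.Agent.H9.BG12.mem_sigma_of_dvd_card_sigmaCore hp h1)
    (Cfsg.Agent.H9.BG12.mem_sigma_of_dvd_card_sigmaCore hp h2)

theorem HC.sigmaCore_inf_sigmaCore_Mstar (I : Inp G) (c : Cfg M K U Mstar)
    (hc : HC M K Mstar H) : Cfsg.sigmaCore H ⊓ Cfsg.sigmaCore Mstar = ⊥ :=
  (Subgroup.disjoint_of_coprime_natCard
    (coprime_sigmaCore (fun s hs => hc.not_mem_sigma' I c hs)).symm).eq_bot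

theorem HC.sigmaCore_inf_sigmaCore_M (I : Inp G) (c : Cfg M K U Mstar)
    (hc : HC M K Mstar H) : Cfsg.sigmaCore H ⊓ Cfsg.sigmaCore M = ⊥ :=
  (Subgroup.disjoint_of_coprime_natCard
    (coprime_sigmaCore (fun s hs => hc.not_mem_sigma I c hs)).symm).eq_bot

/-- `H_σ ∩ M* = 1` -/
theorem HC.sigmaCore_inf_Mstar (I : Inp G) (c : Cfg M K U Mstar) (hc : HC M K Mstar H) :
    Cfsg.sigmaCore H ⊓ Mstar = ⊥ := by
  rw [eq_bot_iff]
  intro y hy
  rw [mem_bot]
  obtain ⟨k, hk, hk1⟩ := exists_K_ne_one c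
  apply hc.fpf I c y hy.1 k hk hk1
  have hkH : k ∈ normalizer (Cfsg.sigmaCore H : Set G) :=
    Cfsg.Agent.H9.BG12.le_normalizer_sigmaCore H (hc.hKH hk)
  have hyN : y ∈ normalizer (Cfsg.sigmaCore Mstar : Set G) :=
    Cfsg.Agent.H9.BG12.le_normalizer_sigmaCore Mstar hy.2
  have h1 : k * y * k⁻¹ * y⁻¹ ∈ Cfsg.sigmaCore H :=
    (Cfsg.sigmaCore H).mul_mem ((mem_normalizer_iff.mp hkH y).mp hy.1)
      ((Cfsg.sigmaCore H).inv_mem hy.1)
  have h2 : k * y * k⁻¹ * y⁻¹ ∈ Cfsg.sigmaCore Mstar := by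
    have e : k * y * k⁻¹ * y⁻¹ = k * (y * k⁻¹ * y⁻¹) := by group
    rw [e]
    exact (Cfsg.sigmaCore Mstar).mul_mem (c.K_le_sigmaCore_Mstar hk)
      ((mem_normalizer_iff.mp hyN k⁻¹).mp
        ((Cfsg.sigmaCore Mstar).inv_mem (c.K_le_sigmaCore_Mstar hk)))
  have h3 : k * y * k⁻¹ * y⁻¹ ∈ Cfsg.sigmaCore H ⊓ Cfsg.sigmaCore Mstar := ⟨h1, h2⟩
  rw [hc.sigmaCore_inf_sigmaCore_Mstar I c, mem_bot] at h3
  calc k * y = (k * y * k⁻¹ * y⁻¹) * (y * k) := by group
    _ = y * k := by rw [h3, one_mul]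

/-- a conjugate of `H` by an element normalizing `K` is again such a subgroup -/
theorem HC.map_cj (hc : HC M K Mstar H) {b : G} (hb : K.map (cj b) = K) :
    HC M K Mstar (H.map (cj b)) := by
  refine ⟨Cfsg.Agent.Lead.BG9.isCoatom_map_cj hc.hH b, ?_, ?_, ?_⟩
  · intro g hg
    apply hc.hncM (b⁻¹ * g)
    rw [← map_cj_mul, ← hg, Cfsg.Agent.Helper14.map_cj_map_cj_inv]
  · intro g hg
    apply hc.hncMs (b⁻¹ * g)
    rw [← map_cj_mul, ← hg, Cfsg.Agent.Helper14.map_cj_map_cj_inv]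
  · rw [← hb]
    exact Subgroup.map_mono hc.hKH

end hc

section fpf

/-- **L2**: fixed-point-free action on a semidirect product -/
theorem fpf_sup {K N W : Subgroup G} (hWN : W ≤ normalizer (N : Set G))
    (hKN : K ≤ normalizer (N : Set G)) (hKW : K ≤ normalizer (W : Set G)) (hNW : N ⊓ W = ⊥)
    (hN : ∀ y ∈ N, ∀ k ∈ K, k ≠ 1 → k * y = y * k → y = 1)
    (hW : ∀ y ∈ W, ∀ k ∈ K, k ≠ 1 → k * y = y * k → y = 1) :
    ∀ y ∈ N ⊔ W, ∀ k ∈ K, k ≠ 1 → k * y = y * k → y = 1 := by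
  intro y hy k hk hk1 hky
  have h1 := Subgroup.coe_mul_of_right_le_normalizer_left N W hWN
  have hy' : y ∈ ((N ⊔ W : Subgroup G) : Set G) := hy
  rw [h1] at hy'
  obtain ⟨n, hn, w, hw, hnw⟩ := hy'
  have hnw' : n * w = y := hnw
  subst hnw'
  have hn' : k * n * k⁻¹ ∈ N := (mem_normalizer_iff.mp (hKN hk) n).mp hn
  have hw' : k * w * k⁻¹ ∈ W := (mem_normalizer_iff.mp (hKW hk) w).mp hw
  have hprod : (k * n * k⁻¹) * (k * w * k⁻¹) = n * w := by
    calc (k * n * k⁻¹) * (k * w * k⁻¹) = k * (n * w) * k⁻¹ := by group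
      _ = (n * w) * k * k⁻¹ := by rw [hky]
      _ = n * w := by group
  have e : n⁻¹ * (k * n * k⁻¹) = w * (k * w * k⁻¹)⁻¹ := by
    calc n⁻¹ * (k * n * k⁻¹)
        = n⁻¹ * ((k * n * k⁻¹) * (k * w * k⁻¹)) * (k * w * k⁻¹)⁻¹ := by group
      _ = n⁻¹ * (n * w) * (k * w * k⁻¹)⁻¹ := by rw [hprod]
      _ = w * (k * w * k⁻¹)⁻¹ := by group
  have hmem : n⁻¹ * (k * n * k⁻¹) ∈ N ⊓ W :=
    ⟨N.mul_mem (N.inv_mem hn) hn', by rw [e]; exact W.mul_mem hw (W.inv_mem hw')⟩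
  rw [hNW, mem_bot] at hmem
  have hkn : k * n = n * k := by
    calc k * n = n * (n⁻¹ * (k * n * k⁻¹)) * k := by group
      _ = n * k := by rw [hmem, mul_one]
  have hn1 : n = 1 := hN n hn k hk hk1 hkn
  subst hn1
  have hkw : k * w = w * k := by simpa using hky
  have hw1 := hW w hw k hk hk1 hkw
  rw [hw1, mul_one]

end fpf


section more

variable {M K U Mstar H : Subgroup G}

/-- if `K` acts fixed-point-freely on a subgroup `W ≤ H` of order prime to `|H_σ|`, then `W`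
centralizes `H_σ` (Thompson's theorem on `H_σ W`) -/
theorem HC.centralizes_of_fpf (I : Inp G) (c : Cfg M K U Mstar) (hc : HC M K Mstar H)
    {W : Subgroup G} (hWH : W ≤ H)
    (hcop : (Nat.card W).Coprime (Nat.card (Cfsg.sigmaCore H)))
    (hKW : K ≤ normalizer (W : Set G))
    (hfW : ∀ y ∈ W, ∀ k ∈ K, k ≠ 1 → k * y = y * k → y = 1) :
    W ≤ centralizer (Cfsg.sigmaCore H : Set G) := by
  obtain ⟨k, hk, hk1⟩ := exists_K_ne_one c
  have hp := card_K_prime I c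
  have hWN : W ≤ normalizer (Cfsg.sigmaCore H : Set G) :=
    hWH.trans (Cfsg.Agent.H9.BG12.le_normalizer_sigmaCore H)
  have hKN : K ≤ normalizer (Cfsg.sigmaCore H : Set G) :=
    hc.hKH.trans (Cfsg.Agent.H9.BG12.le_normalizer_sigmaCore H)
  have hNW : Cfsg.sigmaCore H ⊓ W = ⊥ :=
    (Subgroup.disjoint_of_coprime_natCard hcop.symm).eq_bot
  have hfQ := fpf_sup hWN hKN hKW hNW (hc.fpf I c) hfW
  set Q : Subgroup G := Cfsg.sigmaCore H ⊔ W with hQ
  have hkQ : k ∈ normalizer (Q : Set G) := by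
    rw [mem_normalizer_iff_map_cj, hQ, Subgroup.map_sup,
      mem_normalizer_iff_map_cj.mp (hKN hk), mem_normalizer_iff_map_cj.mp (hKW hk)]
  have hkr : k ^ (Nat.card K) = 1 := by
    rw [← orderOf_eq_card_K I c hk hk1]; exact pow_orderOf_eq_one k
  have hfpf : Q ⊓ centralizer ({k} : Set G) = ⊥ := by
    rw [eq_bot_iff]
    intro y hy
    rw [mem_bot]
    exact hfQ y hy.1 k hk hk1 (mem_centralizer_singleton_iff.mp hy.2).symm
  have hnil : Group.IsNilpotent Q :=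
    Cfsg.Agent.Helper1.RankOneQ.nilpotent_of_fpf_conj Q hp hkQ hkr hfpf
  intro w hw
  rw [mem_centralizer_iff]
  intro y hy
  have hcop' : (orderOf (⟨y, (le_sup_left : _ ≤ Q) hy⟩ : Q)).Coprime
      (orderOf (⟨w, (le_sup_right : _ ≤ Q) hw⟩ : Q)) := by
    rw [Subgroup.orderOf_mk, Subgroup.orderOf_mk]
    exact Nat.Coprime.coprime_dvd_left (Subgroup.orderOf_dvd_natCard _ hy)
      (Nat.Coprime.coprime_dvd_right (Subgroup.orderOf_dvd_natCard _ hw) hcop.symm)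
  have := Cfsg.Agent.Helper29.commute_of_nilpotent_of_coprime_orderOf Q _ _ hcop'
  exact congrArg Subtype.val this.eq

/-- `M_σ` is nilpotent (as `U ≠ 1`) -/
theorem sigmaCore_nilpotent (I : Inp G) (c : Cfg M K U Mstar) :
    Group.IsNilpotent (Cfsg.sigmaCore M) := by
  by_contra hnn
  have hall := Cfsg.Agent.Helper29.BG14.all_kappa_of_not_nilpotent I.h.h1429 c.hM hnn
  have hUc1 : Nat.card U ≠ 1 := fun h1 => c.hU1 (Subgroup.card_eq_one.mp h1)
  obtain ⟨r, hr, hrd⟩ := Nat.exists_prime_and_dvd hUc1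
  have h1 := Cfsg.Agent.Helper18.BG16B.not_mem_kappa_of_dvd_card_U c.hKU hr hrd
  have h2 := Cfsg.Agent.Helper18.BG16B.not_mem_sigma_of_dvd_card_U c.hKU (st1350' I) c.hM hr hrd
  exact h1 (hall r hr (hrd.trans (Subgroup.card_dvd_of_le c.U_le)) h2)

/-- `|M : U| = |K M_σ|` -/
theorem relIndex_U (c : Cfg M K U Mstar) :
    U.relIndex M = Nat.card (K ⊔ Cfsg.sigmaCore M : Subgroup G) := by
  have h1 := Cfsg.Agent.H9.BG12.card_mul_of_isComplIn c.hKU.compl
  have h2 := (U.subgroupOf M).index_mul_card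
  have h3 : Nat.card (U.subgroupOf M) = Nat.card U :=
    Nat.card_congr (Subgroup.subgroupOfEquivOfLe c.hKU.compl.1).toEquiv
  have h4 : 0 < Nat.card U := Nat.card_pos
  unfold Subgroup.relIndex
  rw [h3] at h2
  have h5 : (U.subgroupOf M).index * Nat.card U =
      Nat.card (K ⊔ Cfsg.sigmaCore M : Subgroup G) * Nat.card U := by
    rw [h2, ← h1, mul_comm]
  exact Nat.eq_of_mul_eq_mul_right h4 h5

/-- `C_{M_σ}(U) = 1` -/
theorem sigmaCore_inf_centralizer_U (I : Inp G) (c : Cfg M K U Mstar) :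
    Cfsg.sigmaCore M ⊓ centralizer (U : Set G) = ⊥ := by
  have hUc1 : Nat.card U ≠ 1 := fun h1 => c.hU1 (Subgroup.card_eq_one.mp h1)
  obtain ⟨r, hr, hrd⟩ := Nat.exists_prime_and_dvd hUc1
  haveI : Fact r.Prime := ⟨hr⟩
  have hrκ := Cfsg.Agent.Helper18.BG16B.not_mem_kappa_of_dvd_card_U c.hKU hr hrd
  have hrσ := Cfsg.Agent.Helper18.BG16B.not_mem_sigma_of_dvd_card_U c.hKU (st1350' I) c.hM hr hrd
  have hrM : r ∣ Nat.card M := hrd.trans (Subgroup.card_dvd_of_le c.U_le)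
  obtain ⟨R, hR⟩ := Cfsg.Agent.Helper14.exists_isSylowIn (p := r) U
  have hnd : ¬ r ∣ U.relIndex M := by
    rw [relIndex_U c]
    intro hd
    have hKn : K ≤ normalizer (Cfsg.sigmaCore M : Set G) :=
      c.K_le.trans (Cfsg.Agent.H9.BG12.le_normalizer_sigmaCore M)
    have h2 := Cfsg.Agent.Helper17.card_sup_mul_card_inf (Cfsg.sigmaCore M) K hKn
    have hd2 : r ∣ Nat.card (Cfsg.sigmaCore M) * Nat.card K := by
      rw [← h2, sup_comm]
      exact Dvd.dvd.mul_right hd _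
    rcases (Nat.Prime.dvd_mul hr).mp hd2 with h3 | h3
    · exact hrσ (Cfsg.Agent.H9.BG12.mem_sigma_of_dvd_card_sigmaCore hr h3)
    · exact hrκ (c.hKU.hall.2.1 r hr h3)
  have hRM : IsSylowIn r R M :=
    Cfsg.Agent.Helper14.isSylowIn_of_not_dvd_relIndex hR c.U_le hnd
  have hP1 : ¬ (∀ q : ℕ, q.Prime → q ∣ Nat.card M → q ∉ Cfsg.sigma M → q ∈ Cfsg.kappa M) :=
    fun hall => hrκ (hall r hr hrM hrσ)
  have h29 := (I.h.h1429 M c.hM hP1 r hrM (fun hmem => hmem.elim hrσ hrκ) hRM.toSylow).2.1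
  rw [hRM.toSylow_map] at h29
  rw [eq_bot_iff, ← h29]
  refine inf_le_inf_left _ (Subgroup.centralizer_le ?_)
  intro x hx
  have h0 : Subgroup.closure {x : G | x ∈ R ∧ x ^ r = 1} ≤ U := by
    rw [Subgroup.closure_le]
    intro z hz
    exact hR.1 hz.1
  exact h0 hx

/-- `U = [U, K]` -/
theorem commutator_U_K (I : Inp G) (c : Cfg M K U Mstar) : ⁅U, K⁆ = U := by
  have hsolv : Group.IsSolvable K :=
    Group.isSolvable_of_comm (fun a b => Subtype.ext
      (Cfsg.Agent.Helper1.BG16C.K_comm c.hKU a a.2 b b.2))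
  have h1 := Cfsg.Agent.Lead.coprime_commutator_sup_centralizer K U c.hKU.normal
    (Cfsg.Agent.Helper1.BG16C.coprime_K_U c.hKU) (Or.inl hsolv)
  rw [Cfsg.Agent.Helper1.BG16C.U_inf_centralizer_K c.hKU c.hK1 (I.h1353 M c.hM K U c.hKU),
    sup_bot_eq] at h1
  exact h1

end more


section kl

variable {M K U Mstar H : Subgroup G}

/-- **Lemma KL** (unconjugated form): no `x ∈ M_σ` of prime order `s` dividing `|K*|` has
`C_G(x) ≤ H`. -/
theorem HC.kl_false0 (I : Inp G) (c : Cfg M K U Mstar) (hc : HC M K Mstar H) {x x₂ : G}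
    (hxσ : x ∈ Cfsg.sigmaCore M) (hxo : (orderOf x).Prime)
    (hxH : centralizer ({x} : Set G) ≤ H)
    (hx₂ : x₂ ∈ Cfsg.sigmaCore M ⊓ centralizer (K : Set G)) (hx₂o : orderOf x₂ = orderOf x) :
    False := by
  obtain ⟨s, hs⟩ : ∃ s, orderOf x = s := ⟨_, rfl⟩
  rw [hs] at hxo hx₂o
  haveI : Fact s.Prime := ⟨hxo⟩
  have hnil := sigmaCore_nilpotent I c
  have hx1 : x ≠ 1 := by
    intro h0
    rw [h0, orderOf_one] at hs
    exact hxo.one_lt.ne hs
  have hYσ : zpowers x ≤ Cfsg.sigmaCore M := zpowers_le.mpr hxσ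
  have hYc : Nat.card (zpowers x) = s := by rw [Nat.card_zpowers, hs]
  have hYp : IsPGroup s (zpowers x) := IsPGroup.of_card (n := 1) (by rw [hYc, pow_one])
  have hsM : s ∈ Cfsg.sigma M :=
    Cfsg.Agent.H9.BG12.mem_sigma_of_dvd_card_sigmaCore hxo (hYc ▸ Subgroup.card_dvd_of_le hYσ)
  have hsH : s ∉ Cfsg.sigma H := hc.not_mem_sigma I c hsM
  obtain ⟨Q, hQ, hYQ⟩ := exists_isSylowIn_ge hYσ hYp
  have hxQ : x ∈ Q := hYQ (mem_zpowers x)
  have hMQ : M ≤ normalizer (Q : Set G) :=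
    Cfsg.Agent.H9.BG12.le_normalizer_sylow_of_nilpotent hnil
      (Cfsg.Agent.H9.BG12.le_normalizer_sigmaCore M) hQ
  have hsd : s ∣ Nat.card ↥(Cfsg.sigmaCore M ⊓ centralizer (K : Set G)) := by
    rw [← hx₂o]; exact Subgroup.orderOf_dvd_natCard _ hx₂
  have hQU : Cfsg.InUniqueMaximal Q := by
    have h0 := ((I.h.h1431 M c.hM K c.hKU.hall c.hK1).2.2.1 s hxo hsd hQ.toSylow).1
    rwa [hQ.toSylow_map] at h0
  have hQM : Q ≤ M := hQ.1.trans (Cfsg.Agent.H9.BG12.sigmaCore_le M)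
  -- the centre `Z` of `Q`
  set Z : Subgroup G := Q ⊓ centralizer (Q : Set G) with hZ
  have hZQ : Z ≤ Q := inf_le_left
  have hZ1 : Z ≠ ⊥ := by
    haveI : Nontrivial Q := ⟨⟨⟨x, hxQ⟩, 1, fun h0 => hx1 (congrArg Subtype.val h0)⟩⟩
    have hnt : Nontrivial (Subgroup.center Q) := hQ.2.1.center_nontrivial
    obtain ⟨z, hz1⟩ := exists_ne (1 : Subgroup.center Q)
    intro hbot
    apply hz1
    have hzZ : ((z : Q) : G) ∈ Z := by
      refine Subgroup.mem_inf.mpr ⟨(z : Q).2, ?_⟩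
      rw [mem_centralizer_iff]
      intro q hq
      have := Subgroup.mem_center_iff.mp z.2 ⟨q, hq⟩
      exact congrArg Subtype.val this
    rw [hbot, mem_bot] at hzZ
    exact Subtype.ext (Subtype.ext hzZ)
  have hMZ : M ≤ normalizer (Z : Set G) := by
    intro m hm
    rw [mem_normalizer_iff_map_cj]
    have h1 : Q.map (cj m) = Q := mem_normalizer_iff_map_cj.mp (hMQ hm)
    rw [hZ, Cfsg.Agent.Helper14.map_cj_inf, map_cj_centralizer, h1]
  haveI hZab : IsMulCommutative Z :=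
    ⟨⟨fun a b => Subtype.ext ((mem_centralizer_iff.mp b.2.2 a a.2.1))⟩⟩
  have hZσ : Z ≤ Cfsg.sigmaCore M := hZQ.trans hQ.1
  have hKZ : K ≤ normalizer (Z : Set G) := c.K_le.trans hMZ
  have hcopKZ : (Nat.card K).Coprime (Nat.card Z) :=
    Nat.Coprime.coprime_dvd_right (Subgroup.card_dvd_of_le hZσ)
      (Cfsg.Agent.Helper1.BG16C.coprime_K_sigmaCore c.hKU)
  obtain ⟨hd1, hd2⟩ := Cfsg.Agent.Lead.coprime_abelian_decomp K Z hKZ hcopKZ
  have hZcx : Z ≤ centralizer ({x} : Set G) :=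
    inf_le_right.trans (Subgroup.centralizer_le (Set.singleton_subset_iff.mpr hxQ))
  have hZH : Z ≤ H := hZcx.trans hxH
  by_cases hZ1' : ⁅Z, K⁆ = ⊥
  · -- `K` centralizes `Z`, hence so does `U = [U, K]`, but `C_{M_σ}(U) = 1`
    rw [hZ1', sup_bot_eq] at hd2
    have hZK : Z ≤ centralizer (K : Set G) := by
      rw [← hd2]; exact inf_le_right
    have hKcZ : K ≤ centralizer (Z : Set G) := by
      intro k hk
      rw [mem_centralizer_iff]
      intro z hz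
      exact (mem_centralizer_iff.mp (hZK hz) k hk).symm
    have hnormC : ∀ m ∈ M, ∀ a ∈ centralizer (Z : Set G), m * a * m⁻¹ ∈ centralizer (Z : Set G) := by
      intro m hm a ha
      have h1 : Z.map (cj m) = Z := mem_normalizer_iff_map_cj.mp (hMZ hm)
      have h2 : (centralizer (Z : Set G)).map (cj m) = centralizer (Z : Set G) := by
        rw [map_cj_centralizer, h1]
      rw [← h2]
      exact ⟨a, ha, rfl⟩
    have hUcZ : U ≤ centralizer (Z : Set G) := by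
      rw [← commutator_U_K I c, Subgroup.commutator_le]
      intro u hu k hk
      rw [commutatorElement_def]
      exact (centralizer (Z : Set G)).mul_mem (hnormC u (c.U_le hu) k (hKcZ hk))
        ((centralizer (Z : Set G)).inv_mem (hKcZ hk))
    apply hZ1
    rw [eq_bot_iff, ← sigmaCore_inf_centralizer_U I c]
    intro z hz
    refine Subgroup.mem_inf.mpr ⟨hZσ hz, ?_⟩
    rw [mem_centralizer_iff]
    intro u hu
    exact (mem_centralizer_iff.mp (hUcZ hu) z hz).symm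
  · -- `Z₁ = [Z, K] ≠ 1` centralizes `H_σ`
    have hZ1Z : ⁅Z, K⁆ ≤ Z := Cfsg.Agent.Lead.commutator_le_of_le_normalizer hKZ
    have hKZ1 : K ≤ normalizer ((⁅Z, K⁆ : Subgroup G) : Set G) :=
      Cfsg.Agent.Lead.le_normalizer_commutator_right Z K
    have hfW : ∀ y ∈ ⁅Z, K⁆, ∀ k ∈ K, k ≠ 1 → k * y = y * k → y = 1 := by
      intro y hy k hk hk1 hky
      have hyC : y ∈ centralizer (K : Set G) := by
        rw [← centralizer_singleton_eq I c hk hk1]
        exact mem_centralizer_singleton_iff.mpr hky.symm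
      have hmem : y ∈ (Z ⊓ centralizer (K : Set G)) ⊓ ⁅Z, K⁆ := ⟨⟨hZ1Z hy, hyC⟩, hy⟩
      rw [hd1, mem_bot] at hmem
      exact hmem
    have hZ1p : IsPGroup s ↥(⁅Z, K⁆ : Subgroup G) := hQ.2.1.to_le (hZ1Z.trans hZQ)
    obtain ⟨n, hn⟩ := IsPGroup.iff_card.mp hZ1p
    have hsσH : ¬ s ∣ Nat.card (Cfsg.sigmaCore H) := fun hd =>
      hsH (Cfsg.Agent.H9.BG12.mem_sigma_of_dvd_card_sigmaCore hxo hd)
    have hcop : (Nat.card ↥(⁅Z, K⁆ : Subgroup G)).Coprime (Nat.card (Cfsg.sigmaCore H)) := by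
      rw [hn]
      exact Nat.Coprime.pow_left n ((Nat.Prime.coprime_iff_not_dvd hxo).mpr hsσH)
    have hcent := hc.centralizes_of_fpf I c (hZ1Z.trans hZH) hcop hKZ1 hfW
    have hn0 : n ≠ 0 := by
      intro h0
      rw [h0, pow_zero] at hn
      exact hZ1' (Subgroup.card_eq_one.mp hn)
    have hsd1 : s ∣ Nat.card ↥(⁅Z, K⁆ : Subgroup G) := by
      rw [hn]; exact dvd_pow_self s hn0
    obtain ⟨⟨z, hzW⟩, hzo⟩ := exists_prime_orderOf_dvd_card' s hsd1
    have hzo' : orderOf z = s := by rw [← hzo, Subgroup.orderOf_mk]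
    have hz1 : z ≠ 1 := by
      intro h0
      rw [h0, orderOf_one] at hzo'
      exact hxo.one_lt.ne hzo'
    obtain ⟨y, hy, hy1⟩ : ∃ y ∈ Cfsg.sigmaCore H, y ≠ 1 := by
      obtain ⟨y, hy1⟩ := (Subgroup.ne_bot_iff_exists_ne_one).mp (sigmaCore_ne_bot' I hc.hH)
      exact ⟨(y : G), y.2, fun h0 => hy1 (Subtype.ext h0)⟩
    have hzy : y * z = z * y := mem_centralizer_iff.mp (hcent hzW) y hy
    have hzmem : z ∈ H ⊓ centralizer ({y} : Set G) :=
      ⟨hZH (hZ1Z hzW), mem_centralizer_singleton_iff.mpr hzy.symm⟩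
    have hσ : ∀ p : ℕ, p.Prime → p ∣ orderOf z → p ∉ Cfsg.sigma H := by
      intro p hpp hpd
      rw [hzo'] at hpd
      rw [(Nat.prime_dvd_prime_iff_eq hpp hxo).mp hpd]
      exact hsH
    rcases I.h.h1432 H hc.hH y hy hy1 z hzmem hz1 hσ with ⟨hκ, -⟩ | ⟨-, -, hle, -⟩
    · have h0 : s ∈ Cfsg.kappa H := hκ s hxo (hzo' ▸ dvd_rfl)
      rw [hc.kappa_eq_empty I c] at h0
      exact h0
    · have hQH : Q ≤ H := by
        refine le_trans ?_ hle
        intro q hq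
        rw [mem_centralizer_singleton_iff]
        exact (mem_centralizer_iff.mp (hZ1Z hzW).2 q hq)
      exact hc.ne_M (hQU.unique ⟨hc.hH, hQH⟩ ⟨c.hM, hQM⟩)

end kl


section klconj

variable {M K U Mstar H : Subgroup G}

theorem card_map_cj' (A : Subgroup G) (g : G) : Nat.card (A.map (cj g)) = Nat.card A :=
  Subgroup.card_map_of_injective (Cfsg.Agent.Helper14.cj_injective g)

/-- if `K` lies in a conjugate of `M`, that conjugate is `M^b` for some `b` normalizing `K` -/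
theorem exists_conj_fix (I : Inp G) (c : Cfg M K U Mstar) {g : G} (hKg : K ≤ M.map (cj g)) :
    ∃ b : G, M.map (cj b) = M.map (cj g) ∧ K.map (cj b) = K := by
  have hp := card_K_prime I c
  haveI : Fact (Nat.card K).Prime := ⟨hp⟩
  have hKp : IsPGroup (Nat.card K) K := IsPGroup.of_card (n := 1) (by rw [pow_one])
  have hKK : IsSylowIn (Nat.card K) K K :=
    ⟨le_rfl, hKp, fun Q hQK _ hKQ => le_antisymm hQK hKQ⟩
  have hnd : ¬ Nat.card K ∣ K.relIndex M :=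
    c.hKU.hall.2.2 _ hp (c.hKU.hall.2.1 _ hp dvd_rfl)
  have hKM : IsSylowIn (Nat.card K) K M :=
    Cfsg.Agent.Helper14.isSylowIn_of_not_dvd_relIndex hKK c.K_le hnd
  obtain ⟨V, hV, hKV⟩ := exists_isSylowIn_ge hKg hKp
  obtain ⟨m, hm, hVm⟩ := (hKM.map_cj g).exists_conj hV
  have hcard : Nat.card V = Nat.card K := by
    rw [hVm, card_map_cj', card_map_cj']
  have hVK : K = V := Subgroup.eq_of_le_of_card_ge hKV hcard.le
  refine ⟨m * g, ?_, ?_⟩
  · rw [← map_cj_mul, map_cj_eq_self_of_mem hm]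
  · rw [← map_cj_mul, ← hVm, ← hVK]

/-- **Lemma KL**: `M₂ = M^g ≥ K`, `x ∈ (M₂)_σ` of prime order `s` with `C_G(x) ≤ H`, and some
element of order `s` of `(M₂)_σ` centralizing `K`: impossible. -/
theorem HC.kl_false (I : Inp G) (c : Cfg M K U Mstar) (hc : HC M K Mstar H) {g : G}
    (hKg : K ≤ M.map (cj g)) {x x₂ : G} (hxσ : x ∈ Cfsg.sigmaCore (M.map (cj g)))
    (hxo : (orderOf x).Prime) (hxH : centralizer ({x} : Set G) ≤ H)
    (hx₂σ : x₂ ∈ Cfsg.sigmaCore (M.map (cj g))) (hx₂K : x₂ ∈ centralizer (K : Set G))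
    (hx₂o : orderOf x₂ = orderOf x) : False := by
  obtain ⟨b, hbM, hbK⟩ := exists_conj_fix I c hKg
  have hbK' : K.map (cj b⁻¹) = K := by
    conv_lhs => rw [← hbK]
    exact Cfsg.Agent.Helper14.map_cj_map_cj_inv K b
  have hc' : HC M K Mstar (H.map (cj b⁻¹)) := hc.map_cj hbK'
  have hσeq : Cfsg.sigmaCore (M.map (cj g)) = (Cfsg.sigmaCore M).map (cj b) := by
    rw [← hbM]; exact Cfsg.Agent.Helper29.BG14.sigmaCore_map_cj I.hG c.hM b
  have hback : ∀ z ∈ Cfsg.sigmaCore (M.map (cj g)), cj b⁻¹ z ∈ Cfsg.sigmaCore M := by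
    intro z hz
    have h0 : cj b⁻¹ z ∈ ((Cfsg.sigmaCore M).map (cj b)).map (cj b⁻¹) :=
      Subgroup.mem_map_of_mem _ (hσeq ▸ hz)
    rwa [Cfsg.Agent.Helper14.map_cj_map_cj_inv] at h0
  have ho : ∀ z : G, orderOf (cj b⁻¹ z) = orderOf z := fun z =>
    orderOf_injective (cj b⁻¹) (Cfsg.Agent.Helper14.cj_injective b⁻¹) z
  have hcent : centralizer ({cj b⁻¹ x} : Set G) ≤ H.map (cj b⁻¹) := by
    have h0 := Cfsg.Agent.Helper29.BG14.centralizer_singleton_map_cj x b⁻¹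
    rw [Cfsg.Agent.Helper14.cj_apply, h0]
    exact Subgroup.map_mono hxH
  have hx₂K' : cj b⁻¹ x₂ ∈ centralizer (K : Set G) := by
    have h0 : cj b⁻¹ x₂ ∈ (centralizer (K : Set G)).map (cj b⁻¹) :=
      Subgroup.mem_map_of_mem _ hx₂K
    rwa [map_cj_centralizer, hbK'] at h0
  exact hc'.kl_false0 I c (hback x hxσ) (by rw [ho]; exact hxo) hcent
    ⟨hback x₂ hx₂σ, hx₂K'⟩ (by rw [ho, ho]; exact hx₂o)

end klconj

end Cfsg.Agent.Helper13.BG158
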