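import Mathlib
import Cfsg.Agent.Helper29.PqAsm
import Cfsg.Agent.Helper29.PqWt
import Cfsg.Agent.Helper29.NilpHall
import Cfsg.Agent.Lead.CoprimeSylow2
import Cfsg.Agent.Lead.Coprime3
import Cfsg.Agent.Lead.Bender3
import Cfsg.Agent.Lead.BG8a
import Cfsg.Agent.Helper14.Large2
import Cfsg.Agent.Helper7.Fitting

set_option autoImplicit false
set_option linter.style.haveILetI false

/-! # S4306 piece (S): structure of a minimal non-nilpotent `A`-group of Fitting height 2 -/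

namespace Cfsg.Agent.Helper13.PqS

open Cfsg Cfsg.Agent.Helper29.S3f Cfsg.Agent.Helper29.Pq
open scoped commutatorElement

universe u v

section General

variable {Γ : Type*} [Group Γ]

/-- normalizer condition relative to a subgroup containing a term of the lower central series -/
theorem exists_mem_normalizer_not_mem (X Y : Subgroup Γ) (hYX : Y ≤ X) (hne : Y ≠ X)
    (k : ℕ) (hk : X.lowerCentralSeries k ≤ Y) :
    ∃ x ∈ X, x ∈ Subgroup.normalizer (Y : Set Γ) ∧ x ∉ Y := by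
  classical
  have hex : ∃ i, X.lowerCentralSeries i ≤ Y := ⟨k, hk⟩
  have hi_spec : X.lowerCentralSeries (Nat.find hex) ≤ Y := Nat.find_spec hex
  have hi0 : Nat.find hex ≠ 0 := by
    intro h0
    rw [h0, Subgroup.lowerCentralSeries_zero] at hi_spec
    exact hne (le_antisymm hYX hi_spec)
  obtain ⟨i', hi'⟩ := Nat.exists_eq_succ_of_ne_zero hi0
  have hnot : ¬ X.lowerCentralSeries i' ≤ Y := Nat.find_min hex (by omega)
  obtain ⟨x, hx, hxY⟩ := SetLike.not_le_iff_exists.1 hnot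
  have hsucc : ⁅X.lowerCentralSeries i', X⁆ ≤ Y := by
    rw [← Subgroup.lowerCentralSeries_succ, ← Nat.succ_eq_add_one, ← hi']; exact hi_spec
  have hxX : x ∈ X := by
    have := X.lowerCentralSeries_antitone (Nat.zero_le i') hx
    simpa using this
  refine ⟨x, hxX, ?_, hxY⟩
  have key : ∀ z ∈ X.lowerCentralSeries i', ∀ y ∈ Y, z * y * z⁻¹ ∈ Y := by
    intro z hz y hy
    have h1 : ⁅z, y⁆ ∈ Y := hsucc (Subgroup.commutator_mem_commutator hz (hYX hy))
    have e : z * y * z⁻¹ = ⁅z, y⁆ * y := by rw [commutatorElement_def]; group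
    rw [e]; exact Y.mul_mem h1 hy
  rw [Subgroup.mem_normalizer_iff]
  intro y
  constructor
  · exact key x hx y
  · intro h
    have := key x⁻¹ (inv_mem hx) _ h
    have e : x⁻¹ * (x * y * x⁻¹) * x⁻¹⁻¹ = y := by group
    rwa [e] at this

variable {A : Type*} [Group A]

theorem ginv_iff (j : A →* Γ) (H : Subgroup Γ) :
    GInv j H ↔ j.range ≤ Subgroup.normalizer (H : Set Γ) := by
  constructor
  · exact range_le_normalizer_of_GInv j
  · intro h a x hx
    exact (Subgroup.mem_normalizer_iff.1 (h ⟨a, rfl⟩) x).1 hx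

theorem GInv.sup' {j : A →* Γ} {H K : Subgroup Γ} (hH : GInv j H) (hK : GInv j K) :
    GInv j (H ⊔ K) := by
  rw [ginv_iff] at *
  exact (le_inf hH hK).trans (Subgroup.normalizer_inf_normalizer_le_normalizer_sup H K)

theorem GInv.normalizer' {j : A →* Γ} {H : Subgroup Γ} (hH : GInv j H) :
    GInv j (Subgroup.normalizer (H : Set Γ)) := by
  rw [ginv_iff] at *
  exact hH.trans Subgroup.le_normalizer

theorem GInv.commutator' {j : A →* Γ} {H K : Subgroup Γ} (hH : GInv j H) (hK : GInv j K) :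
    GInv j ⁅H, K⁆ := by
  intro a
  have : ⁅H, K⁆ ≤ (⁅H, K⁆).comap (MulAut.conj (j a)).toMonoidHom := by
    rw [Subgroup.commutator_le]
    intro h hh k hk
    rw [Subgroup.mem_comap]
    change j a * ⁅h, k⁆ * (j a)⁻¹ ∈ ⁅H, K⁆
    have e : j a * ⁅h, k⁆ * (j a)⁻¹ = ⁅j a * h * (j a)⁻¹, j a * k * (j a)⁻¹⁆ := by
      simp only [commutatorElement_def]; group
    rw [e]
    exact Subgroup.commutator_mem_commutator (hH a h hh) (hK a k hk)
  intro x hx
  exact this hx


/-- Step 3: an invariant Sylow subgroup of `X` not contained in the proper subgroup `M`. -/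
theorem exists_invariant_sylow_not_le [Finite Γ] (R X M : Subgroup Γ)
    (hRX : R ≤ Subgroup.normalizer (X : Set Γ)) (hcop : (Nat.card R).Coprime (Nat.card X))
    (hsolv : Group.IsSolvable X) (hMX : M ≤ X) (hne : M ≠ X) :
    ∃ (q : ℕ) (_ : Fact q.Prime) (P : Sylow q X),
      R ≤ Subgroup.normalizer (((P : Subgroup X).map X.subtype : Subgroup Γ) : Set Γ) ∧
      ¬ (P : Subgroup X).map X.subtype ≤ M := by
  by_contra hcon
  apply hne
  apply Subgroup.eq_of_le_of_card_ge hMX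
  apply Nat.le_of_dvd Nat.card_pos
  rw [← Nat.factorization_prime_le_iff_dvd Nat.card_pos.ne' Nat.card_pos.ne']
  intro q hq
  haveI : Fact q.Prime := ⟨hq⟩
  obtain ⟨P, hP⟩ := Cfsg.Agent.Lead.coprime_exists_invariant_sylow R X hRX hcop (Or.inr hsolv) q
  have hle : (P : Subgroup X).map X.subtype ≤ M := by
    by_contra hnot
    exact hcon ⟨q, ⟨hq⟩, P, hP, hnot⟩
  have h1 : Nat.card ((P : Subgroup X).map X.subtype : Subgroup Γ) ∣ Nat.card M :=
    Subgroup.card_dvd_of_le hle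
  rw [Subgroup.card_subtype, P.card_eq_multiplicity] at h1
  exact (Nat.Prime.pow_dvd_iff_le_factorization hq Nat.card_pos.ne').1 h1

/-- a nilpotent subgroup is its own Fitting subgroup -/
theorem fittingOf_eq_self [Finite Γ] (M : Subgroup Γ) (hM : Group.IsNilpotent M) :
    fittingOf M = M := by
  haveI := hM
  unfold fittingOf
  rw [Cfsg.Agent.Helper7.fittingSubgroup_eq_pCoreSup,
    Cfsg.Agent.Helper7.pCoreSup_eq_top_of_isNilpotent, ← MonoidHom.range_eq_map,
    Subgroup.range_subtype]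

/-- `O_p(M)` is normal in `Γ` when `M` is. -/
theorem pCoreOf_normal [Finite Γ] (p : ℕ) [Fact p.Prime] (M : Subgroup Γ) [M.Normal] :
    (pCoreOf p M).Normal := by
  rw [← Subgroup.normalizer_eq_top_iff]
  have h1 := Cfsg.Agent.Helper14.normalizer_le_normalizer_pCoreOf (p := p) M
  rw [Subgroup.normalizer_eq_top M] at h1
  exact top_le_iff.1 h1

/-- Step 4: if the Sylow `q`-subgroup `Q` with `X = M Q` centralizes all `O_p(M)`, `p ≠ q`, then
`X` is nilpotent. -/
theorem isNilpotent_of_centralizes [Finite Γ] (X M : Subgroup Γ) [X.Normal] [M.Normal]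
    (hMX : M ≤ X) (hMnil : Group.IsNilpotent M) {q : ℕ} [Fact q.Prime] (P : Sylow q X)
    (hMQ : M ⊔ (P : Subgroup X).map X.subtype = X)
    (hcen : ∀ p : ℕ, p.Prime → p ≠ q → ∀ u ∈ pCoreOf p M,
      ∀ x ∈ (P : Subgroup X).map X.subtype, x * u * x⁻¹ = u) :
    Group.IsNilpotent X := by
  set Q : Subgroup Γ := (P : Subgroup X).map X.subtype with hQ
  have hQX : Q ≤ X := Subgroup.map_subtype_le _
  have hQp : IsPGroup q Q := P.isPGroup'.map _
  -- `M ≤ N(Q)`
  have hMN : M ≤ Subgroup.normalizer (Q : Set Γ) := by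
    rw [← fittingOf_eq_self M hMnil, Cfsg.Agent.Lead.Bender.fittingOf_eq_iSup]
    apply iSup_le
    intro p
    haveI : Fact (p : ℕ).Prime := ⟨p.2⟩
    by_cases hpq : (p : ℕ) = q
    · -- `O_q(M) ≤ Q`
      refine le_trans ?_ Subgroup.le_normalizer
      haveI := pCoreOf_normal (p : ℕ) M
      have hpX : pCoreOf (p : ℕ) M ≤ X := (Cfsg.Agent.Helper14.pCoreOf_le (p : ℕ) M).trans hMX
      haveI : ((pCoreOf (p : ℕ) M).subgroupOf X).Normal := Subgroup.Normal.subgroupOf inferInstance X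
      have hpg : IsPGroup q ((pCoreOf (p : ℕ) M).subgroupOf X) := by
        have h0 := (Cfsg.Agent.Helper14.pCoreOf_isPGroup (p : ℕ) M).comap_subtype (K := X)
        intro g
        obtain ⟨k, hk⟩ := h0 g
        exact ⟨k, by rw [← hpq]; exact hk⟩
      have h1 := Cfsg.Agent.Lead.le_sylow_of_normal_isPGroup P _ hpg
      intro x hx
      exact ⟨⟨x, hpX hx⟩, h1 (by simpa [Subgroup.mem_subgroupOf] using hx), rfl⟩
    · refine le_trans ?_ (Subgroup.centralizer_le_normalizer (Q : Set Γ))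
      intro u hu
      rw [Subgroup.mem_centralizer_iff]
      intro x hx
      have h1 := hcen p p.2 hpq u hu x hx
      calc x * u = (x * u * x⁻¹) * x := by group
        _ = u * x := by rw [h1]
  -- `X ≤ N(Q)`
  have hXN : X ≤ Subgroup.normalizer (Q : Set Γ) := by
    rw [← hMQ]
    exact sup_le hMN Subgroup.le_normalizer
  have hQF : Q ≤ fittingOf X :=
    (Cfsg.Agent.Helper14.le_pCoreOf (p := q) hQX hXN hQp).trans
      (Cfsg.Agent.Lead.Bender.pCoreOf_le_fittingOf X q)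
  have hMF : M ≤ fittingOf X := by
    conv_lhs => rw [← fittingOf_eq_self M hMnil, Cfsg.Agent.Lead.Bender.fittingOf_eq_iSup]
    apply iSup_le
    intro p
    haveI : Fact (p : ℕ).Prime := ⟨p.2⟩
    haveI := pCoreOf_normal (p : ℕ) M
    have hpX : pCoreOf (p : ℕ) M ≤ X := (Cfsg.Agent.Helper14.pCoreOf_le (p : ℕ) M).trans hMX
    have hnorm : X ≤ Subgroup.normalizer ((pCoreOf (p : ℕ) M : Subgroup Γ) : Set Γ) := by
      rw [Subgroup.normalizer_eq_top]; exact le_top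
    exact (Cfsg.Agent.Helper14.le_pCoreOf (p := (p : ℕ)) hpX hnorm
      (Cfsg.Agent.Helper14.pCoreOf_isPGroup (p : ℕ) M)).trans
      (Cfsg.Agent.Lead.Bender.pCoreOf_le_fittingOf X (p : ℕ))
  have hXF : fittingOf X = X := by
    apply le_antisymm (Cfsg.Agent.Lead.BG8.fittingOf_le X)
    conv_lhs => rw [← hMQ]
    exact sup_le hMF hQF
  have := Cfsg.Agent.Lead.BG8.fittingOf_isNilpotent X
  rw [hXF] at this
  exact this

end General


/-- an element of two subgroups of coprime prime-power orders is trivial -/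
theorem eq_one_of_mem_of_mem {Γ : Type*} [Group Γ] {s q : ℕ} [Fact s.Prime] [Fact q.Prime]
    (hsq : s ≠ q) {S Q : Subgroup Γ} (hS : IsPGroup s S) (hQ : IsPGroup q Q) {x : Γ}
    (hxS : x ∈ S) (hxQ : x ∈ Q) : x = 1 := by
  have h := IsPGroup.disjoint_of_ne s q hsq S Q hS hQ
  have h1 : x ∈ S ⊓ Q := ⟨hxS, hxQ⟩
  rw [h.eq_bot, Subgroup.mem_bot] at h1
  exact h1

/-- (S) structure of a minimal non-nilpotent `A`-group of Fitting height 2. -/
theorem structure_thm {Γ : Type u} [Group Γ] [Finite Γ] {A : Type v} [Group A] [Finite A]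
    (j : A →* Γ) (X : Subgroup Γ) [X.Normal]
    (hcov : ∀ γ : Γ, ∃ g ∈ X, ∃ a : A, γ = g * j a) (hX : HypPQ j X)
    (hdag : ∀ H : Subgroup Γ, H ≤ X → H ≠ X → GInv j H → Group.IsNilpotent ↥H)
    (NX : Subgroup Γ) [NX.Normal] (hNX : NX ≤ X) (hNXnil : Group.IsNilpotent ↥NX)
    (k : ℕ) (hk : X.lowerCentralSeries k ≤ NX) (hnn : ¬ Group.IsNilpotent ↥X) :
    ∃ (s q : ℕ) (S Q : Subgroup Γ), s.Prime ∧ q.Prime ∧ s ≠ q ∧ S.Normal ∧ S ≤ NX ∧ S ≠ ⊥ ∧
      IsPGroup s S ∧ IsPGroup q Q ∧ GInv j Q ∧ Q ≤ X ∧ S ⊔ Q = X ∧ ⁅S, Q⁆ = S ∧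
      (∀ S1 : Subgroup Γ, S1 ≤ S → S1 ≠ S → (∀ x ∈ Q, ∀ u ∈ S1, x * u * x⁻¹ ∈ S1) → GInv j S1 →
        ∀ x ∈ Q, ∀ u ∈ S1, x * u * x⁻¹ = u) ∧
      (∀ Q1 : Subgroup Γ, Q1 ≤ Q → Q1 ≠ Q → GInv j Q1 → ∀ x ∈ Q1, ∀ u ∈ S, x * u * x⁻¹ = u) := by
  classical
  have hRX : j.range ≤ Subgroup.normalizer (X : Set Γ) := by
    rw [Subgroup.normalizer_eq_top]; exact le_top
  have hcopR : (Nat.card j.range).Coprime (Nat.card X) :=
    Cfsg.Agent.Helper29.Pq.coprime_range j hX.cop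
  -- Step 2: a maximal proper `A`-invariant subgroup `M ≥ NX`
  let 𝒮 : Set (Subgroup Γ) := {W | NX ≤ W ∧ W ≤ X ∧ W ≠ X ∧ GInv j W}
  have hNXne : NX ≠ X := fun h => hnn (h ▸ hNXnil)
  obtain ⟨M, ⟨hNM, hMX, hMne, hMA⟩, hmax⟩ :=
    Set.exists_max_image 𝒮 (fun W => Nat.card W) (Set.toFinite _)
      ⟨NX, le_rfl, hNX, hNXne, GInv.of_normal j NX⟩
  have hmax' : ∀ W : Subgroup Γ, M ≤ W → W ≤ X → GInv j W → W ≠ M → W = X := by
    intro W hMW hWX hWA hWM
    by_contra hWX'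
    have h1 := hmax W ⟨hNM.trans hMW, hWX, hWX', hWA⟩
    exact hWM (Subgroup.eq_of_le_of_card_ge hMW h1).symm
  have hXM : X ≤ Subgroup.normalizer (M : Set Γ) := by
    obtain ⟨x, hxX, hxN, hxM⟩ := exists_mem_normalizer_not_mem X M hMX hMne k (hk.trans hNM)
    have h1 := hmax' (X ⊓ Subgroup.normalizer (M : Set Γ)) (le_inf hMX Subgroup.le_normalizer)
      inf_le_left (GInv.inf hX.inv (GInv.normalizer' hMA))
      (by intro h; apply hxM; rw [← h]; exact ⟨hxX, hxN⟩)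
    exact inf_eq_left.1 h1
  haveI hMn : M.Normal := Cfsg.Agent.Helper29.Pq.normal_of_cover j X hcov M
    (fun x hx b hb => (Subgroup.mem_normalizer_iff.1 (hXM hx) b).1 hb) hMA
  have hMnil : Group.IsNilpotent M := hdag M hMX hMne hMA
  -- Step 3: an invariant Sylow subgroup outside `M`
  obtain ⟨q, hqF, P, hPR, hPM⟩ :=
    exists_invariant_sylow_not_le j.range X M hRX hcopR hX.solv hMX hMne
  haveI := hqF
  have hq : q.Prime := hqF.out
  set Q : Subgroup Γ := (P : Subgroup X).map X.subtype with hQ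
  have hQX : Q ≤ X := Subgroup.map_subtype_le _
  have hQp : IsPGroup q Q := P.isPGroup'.map _
  have hQA : GInv j Q := (ginv_iff j Q).2 hPR
  have hMQ : M ⊔ Q = X := hmax' (M ⊔ Q) le_sup_left (sup_le hMX hQX) (GInv.sup' hMA hQA)
    (by intro h; apply hPM; rw [← h]; exact le_sup_right)
  -- Step 4: `Q` does not centralize some `O_s(M)`
  have hex : ∃ s : ℕ, s.Prime ∧ s ≠ q ∧ ∃ u ∈ pCoreOf s M, ∃ x ∈ Q, x * u * x⁻¹ ≠ u := by
    by_contra hcon
    apply hnn
    apply isNilpotent_of_centralizes X M hMX hMnil P hMQ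
    intro p hp hpq u hu x hx
    by_contra hne
    exact hcon ⟨p, hp, hpq, u, hu, x, hx, hne⟩
  obtain ⟨s, hs, hsq, u₀, hu₀, x₀, hx₀, hne₀⟩ := hex
  haveI : Fact s.Prime := ⟨hs⟩
  set S₀ : Subgroup Γ := pCoreOf s M with hS₀
  haveI hS₀n : S₀.Normal := pCoreOf_normal s M
  have hS₀p : IsPGroup s S₀ := Cfsg.Agent.Helper14.pCoreOf_isPGroup s M
  have hS₀X : S₀ ≤ X := (Cfsg.Agent.Helper14.pCoreOf_le s M).trans hMX
  set S : Subgroup Γ := ⁅S₀, Q⁆ with hS
  have hQS₀ : Q ≤ Subgroup.normalizer (S₀ : Set Γ) := by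
    rw [Subgroup.normalizer_eq_top]; exact le_top
  have hcopQS : (Nat.card Q).Coprime (Nat.card S₀) :=
    IsPGroup.coprime_card_of_ne q s hsq.symm Q S₀ hQp hS₀p
  have hS₀solv : Group.IsSolvable S₀ := by
    have := hX.solv
    exact Group.isSolvable_of_isSolvable_injective (f := Subgroup.inclusion hS₀X)
      (Subgroup.inclusion_injective hS₀X)
  have hSS : ⁅S, Q⁆ = S :=
    Cfsg.Agent.Lead.coprime_commutator_commutator Q S₀ hQS₀ hcopQS (Or.inr hS₀solv)
  have hSle : S ≤ S₀ := Cfsg.Agent.Lead.commutator_le_of_le_normalizer hQS₀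
  have hSp : IsPGroup s S := hS₀p.to_le hSle
  have hSX : S ≤ X := hSle.trans hS₀X
  have hSne : S ≠ ⊥ := by
    intro h
    rw [hS, Subgroup.commutator_eq_bot_iff_le_centralizer] at h
    have h1 := Subgroup.mem_centralizer_iff.1 (h hu₀) x₀ hx₀
    apply hne₀
    calc x₀ * u₀ * x₀⁻¹ = (x₀ * u₀) * x₀⁻¹ := rfl
      _ = (u₀ * x₀) * x₀⁻¹ := by rw [h1]
      _ = u₀ := by group
  have hSA : GInv j S := GInv.commutator' (GInv.of_normal j S₀) hQA
  have hcopQs : ∀ Q1 : Subgroup Γ, Q1 ≤ Q → (Nat.card Q1).Coprime s := by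
    intro Q1 hQ1
    obtain ⟨n, hn⟩ := (hQp.to_le hQ1).exists_card_eq
    rw [hn]
    exact Nat.Coprime.pow_left n ((Nat.coprime_primes hq hs).2 hsq.symm)
  -- commuting from nilpotency
  have hcomm_of : ∀ S1 Q1 : Subgroup Γ, S1 ≤ S → Q1 ≤ Q → S1 ⊔ Q1 ≠ X → GInv j S1 → GInv j Q1 →
      ∀ x ∈ Q1, ∀ u ∈ S1, x * u * x⁻¹ = u := by
    intro S1 Q1 hS1 hQ1 hne hS1A hQ1A x hx u hu
    have hnil := hdag (S1 ⊔ Q1) (sup_le (hS1.trans hSX) (hQ1.trans hQX)) hne (GInv.sup' hS1A hQ1A)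
    have hc := Cfsg.Agent.Helper29.commute_of_le_nilpotent_of_coprime hnil
      (le_sup_left : S1 ≤ S1 ⊔ Q1) (le_sup_right : Q1 ≤ S1 ⊔ Q1) (hSp.to_le hS1)
      (hcopQs Q1 hQ1) u hu x hx
    calc x * u * x⁻¹ = (u * x) * x⁻¹ := by rw [hc]
      _ = u := by group
  have hSQ : S ⊔ Q = X := by
    by_contra hne
    have hc := hcomm_of S Q le_rfl le_rfl hne hSA hQA
    have h1 : ⁅S, Q⁆ = ⊥ := by
      rw [Subgroup.commutator_eq_bot_iff_le_centralizer]
      intro u hu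
      rw [Subgroup.mem_centralizer_iff]
      intro x hx
      have := hc x hx u hu
      calc x * u = (x * u * x⁻¹) * x := by group
        _ = u * x := by rw [this]
    rw [hSS] at h1
    exact hSne h1
  have hXS : X ≤ Subgroup.normalizer (S : Set Γ) := by
    rw [← hSQ]
    exact sup_le Subgroup.le_normalizer (Cfsg.Agent.Lead.le_normalizer_commutator_right S₀ Q)
  have hSn : S.Normal := Cfsg.Agent.Helper29.Pq.normal_of_cover j X hcov S
    (fun x hx b hb => (Subgroup.mem_normalizer_iff.1 (hXS hx) b).1 hb) hSA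
  have hSlcs : ∀ i : ℕ, S ≤ X.lowerCentralSeries i := by
    intro i
    induction i with
    | zero => rw [Subgroup.lowerCentralSeries_zero]; exact hSX
    | succ i ih =>
      rw [Subgroup.lowerCentralSeries_succ, ← hSS]
      exact Subgroup.commutator_mono ih hQX
  have hSNX : S ≤ NX := (hSlcs k).trans hk
  refine ⟨s, q, S, Q, hs, hq, hsq, hSn, hSNX, hSne, hSp, hQp, hQA, hQX, hSQ, hSS, ?_, ?_⟩
  · intro S1 hS1 hS1ne hQS1 hS1A
    apply hcomm_of S1 Q hS1 le_rfl ?_ hS1A hQA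
    intro hH
    apply hS1ne
    apply le_antisymm hS1
    intro w hw
    have hwX : w ∈ S1 ⊔ Q := by rw [hH]; exact hSX hw
    have hnorm : Q ≤ Subgroup.normalizer (S1 : Set Γ) :=
      Cfsg.Agent.Helper29.le_normalizer_of_conj_mem hQS1
    rw [← SetLike.mem_coe, Subgroup.coe_mul_of_right_le_normalizer_left S1 Q hnorm,
      Set.mem_mul] at hwX
    obtain ⟨u1, hu1, y, hy, rfl⟩ := hwX
    have hyS : y ∈ S := by
      have := S.mul_mem (S.inv_mem (hS1 hu1)) hw
      simpa using this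
    have hy1 : y = 1 := eq_one_of_mem_of_mem hsq hSp hQp hyS hy
    rw [hy1, mul_one]
    exact hu1
  · intro Q1 hQ1 hQ1ne hQ1A
    apply hcomm_of S Q1 le_rfl hQ1 ?_ hSA hQ1A
    intro hH
    apply hQ1ne
    apply le_antisymm hQ1
    intro y hy
    have hyX : y ∈ S ⊔ Q1 := by rw [hH]; exact hQX hy
    rw [← SetLike.mem_coe, Subgroup.normal_mul S Q1, Set.mem_mul] at hyX
    obtain ⟨w, hw, y1, hy1, rfl⟩ := hyX
    have hwQ : w ∈ Q := by
      have := Q.mul_mem hy (Q.inv_mem (hQ1 hy1))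
      simpa using this
    have hw1 : w = 1 := eq_one_of_mem_of_mem hsq hSp hQp hw hwQ
    rw [hw1, one_mul]
    exact hy1

end Cfsg.Agent.Helper13.PqS
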