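import Mathlib
import Cfsg.Agent.Lead.Fpf4d

set_option autoImplicit false

/-! # Gross–Shult, Fitting step: reduction of "`t = s^(p^(n-1))` centralizes the solvable normal
`p'`-subgroup `K`" to the `q`-group case (`shult_group`), given as a hypothesis. -/

namespace Cfsg.Agent.Helper13.ShultFit

open Cfsg

section

variable {Γ : Type*} [Group Γ]

/-- if `k = h⁻¹ (t h t⁻¹)` is centralized by `t`, then `t^i h t^{-i} = h k^i` -/
theorem conj_pow_formula (t h k : Γ) (hk : k = h⁻¹ * (t * h * t⁻¹)) (htk : t * k * t⁻¹ = k)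
    (i : ℕ) : t ^ i * h * (t ^ i)⁻¹ = h * k ^ i := by
  induction i with
  | zero => simp
  | succ i ih =>
    have e : t ^ (i + 1) * h * (t ^ (i + 1))⁻¹ = t * (t ^ i * h * (t ^ i)⁻¹) * t⁻¹ := by
      rw [pow_succ']; group
    rw [e, ih]
    have e2 : t * (h * k ^ i) * t⁻¹ = (t * h * t⁻¹) * (t * k * t⁻¹) ^ i := by
      rw [conj_pow]; group
    have e3 : t * h * t⁻¹ = h * k := by rw [hk]; group
    rw [e2, htk, e3, mul_assoc, ← pow_succ']

variable [Finite Γ]

/-- Step A: if `t` (of order dividing `p`) centralizes `F(K)`, `K` solvable normal of order prime to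
`p`, then `t` centralizes `K`. -/
theorem centralizes_of_centralizes_fitting {p : ℕ} (K : Subgroup Γ) [K.Normal]
    (hK : Group.IsSolvable K) (hcop : (Nat.card K).Coprime p) (t : Γ) (htp : t ^ p = 1)
    (hF : ∀ f ∈ fittingOf K, t * f * t⁻¹ = f) : ∀ h ∈ K, t * h * t⁻¹ = h := by
  set F := fittingOf K with hFdef
  have hHF : ∀ h ∈ K, ∀ f ∈ F, h * f * h⁻¹ ∈ F := by
    intro h hh f hf
    have h1 := Cfsg.Agent.Lead.Bender.le_normalizer_fittingOf K hh
    exact (Subgroup.mem_normalizer_iff.1 h1 f).1 hf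
  have hCF := Cfsg.Agent.Lead.BG8.inf_centralizer_fittingOf_le hK
  have hF' : ∀ f ∈ F, t⁻¹ * f * t = f := by
    intro f hf
    have h1 := hF f hf
    calc t⁻¹ * f * t = t⁻¹ * (t * f * t⁻¹) * t := by rw [h1]
      _ = f := by group
  intro h hh
  set h' := t * h * t⁻¹ with hh'
  have hh'K : h' ∈ K := Subgroup.Normal.conj_mem inferInstance h hh t
  set k := h⁻¹ * h' with hk
  have hkK : k ∈ K := K.mul_mem (K.inv_mem hh) hh'K
  have hkC : k ∈ Subgroup.centralizer (F : Set Γ) := by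
    rw [Subgroup.mem_centralizer_iff]
    intro f hf
    have h2 : t * (h * f * h⁻¹) * t⁻¹ = h * f * h⁻¹ := hF _ (hHF h hh f hf)
    have h3 : h' * f * h'⁻¹ = h * f * h⁻¹ := by
      calc h' * f * h'⁻¹ = t * (h * (t⁻¹ * f * t) * h⁻¹) * t⁻¹ := by
            rw [hh']; group
        _ = t * (h * f * h⁻¹) * t⁻¹ := by rw [hF' f hf]
        _ = h * f * h⁻¹ := h2
    calc f * k = h⁻¹ * (h * f * h⁻¹) * h' := by rw [hk]; group
      _ = h⁻¹ * (h' * f * h'⁻¹) * h' := by rw [h3]
      _ = k * f := by rw [hk]; group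
  have hkF : k ∈ F := hCF ⟨hkK, hkC⟩
  have h5 : t * k * t⁻¹ = k := hF k hkF
  have h6 := conj_pow_formula t h k hk h5 p
  rw [htp] at h6
  have h7 : k ^ p = 1 := by
    have : h = h * k ^ p := by simpa using h6
    exact (mul_eq_left.1 this.symm)
  have h8 : k = 1 := by
    have ho1 : orderOf k ∣ p := orderOf_dvd_of_pow_eq_one h7
    have ho2 : orderOf k ∣ Nat.card K := by
      have : orderOf (⟨k, hkK⟩ : K) ∣ Nat.card K := orderOf_dvd_natCard _
      rwa [Subgroup.orderOf_mk] at this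
    have ho3 : orderOf k ∣ 1 := by
      have := Nat.dvd_gcd ho2 ho1
      rwa [hcop] at this
    exact orderOf_eq_one_iff.1 (Nat.dvd_one.1 ho3)
  calc h' = h * (h⁻¹ * h') := by group
    _ = h := by rw [← hk, h8, mul_one]

/-- Step B: if `t` does not centralize `K`, it fails to centralize some `O_q(K)`. -/
theorem exists_pCoreOf_not_centralized (K : Subgroup Γ) [K.Normal]
    (hK : Group.IsSolvable K) {p : ℕ} (hcop : (Nat.card K).Coprime p) (t : Γ) (htp : t ^ p = 1)
    (hnot : ¬ ∀ h ∈ K, t * h * t⁻¹ = h) :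
    ∃ q : ℕ, q.Prime ∧ ∃ g ∈ pCoreOf q K, t * g * t⁻¹ ≠ g := by
  by_contra hcon
  apply hnot
  apply centralizes_of_centralizes_fitting K hK hcop t htp
  have hle : fittingOf K ≤ Subgroup.centralizer ({t} : Set Γ) := by
    rw [Cfsg.Agent.Lead.Bender.fittingOf_eq_iSup]
    apply iSup_le
    intro q g hg
    rw [Subgroup.mem_centralizer_iff]
    intro x hx
    rw [Set.mem_singleton_iff] at hx
    subst hx
    by_contra hne
    apply hcon
    refine ⟨q, q.2, g, hg, ?_⟩
    intro heq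
    apply hne
    calc x * g = (x * g * x⁻¹) * x := by group
      _ = g * x := by rw [heq]
  intro f hf
  have h1 := Subgroup.mem_centralizer_iff.1 (hle hf) t (Set.mem_singleton t)
  calc t * f * t⁻¹ = (t * f) * t⁻¹ := rfl
    _ = (f * t) * t⁻¹ := by rw [h1]
    _ = f := by group


/-- A normal `r`-subgroup of `Γ` acts trivially on an irreducible `Γ`-module of exponent `r`. -/
theorem normal_rgroup_acts_trivially {V : Type*} [CommGroup V] [Finite V] {r : ℕ} (hr : r.Prime)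
    (hV : ∀ v : V, v ^ r = 1) (φ : Γ →* MulAut V)
    (hirr : ∀ U : Subgroup V, (∀ x : Γ, ∀ v ∈ U, φ x v ∈ U) → U = ⊥ ∨ U = ⊤)
    (R : Subgroup Γ) [hRn : R.Normal] (hR : IsPGroup r R) : ∀ g ∈ R, φ g = 1 := by
  haveI : Fact r.Prime := ⟨hr⟩
  by_cases hsub : Subsingleton V
  · intro g _
    ext w
    exact Subsingleton.elim _ _
  · have hnt : Nontrivial V := not_subsingleton_iff_nontrivial.1 hsub
    have hVp : IsPGroup r V := fun v => ⟨1, by rw [pow_one]; exact hV v⟩
    let W₀ : Subgroup V :=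
      { carrier := {w | ∀ g ∈ R, φ g w = w}
        mul_mem' := by
          intro a b ha hb g hg
          rw [map_mul, ha g hg, hb g hg]
        one_mem' := by intro g _; exact map_one _
        inv_mem' := by
          intro a ha g hg
          rw [map_inv, ha g hg] }
    have hW₀inv : ∀ x : Γ, ∀ w ∈ W₀, φ x w ∈ W₀ := by
      intro x w hw g hg
      have hmem : x⁻¹ * g * x ∈ R := by
        have := hRn.conj_mem g hg x⁻¹
        simpa using this
      have h1 := hw (x⁻¹ * g * x) hmem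
      have h2 : φ g (φ x w) = φ x (φ (x⁻¹ * g * x) w) := by
        have e : g * x = x * (x⁻¹ * g * x) := by group
        calc φ g (φ x w) = (φ g * φ x) w := rfl
          _ = φ (g * x) w := by rw [map_mul]
          _ = φ (x * (x⁻¹ * g * x)) w := by rw [← e]
          _ = (φ x * φ (x⁻¹ * g * x)) w := by rw [map_mul]
          _ = φ x (φ (x⁻¹ * g * x) w) := rfl
      rw [h2, h1]
    rcases hirr W₀ hW₀inv with h0 | h0
    · exfalso
      set R' : Subgroup (MulAut V) := R.map φ with hR'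
      have hR'p : IsPGroup r ↥R' := hR.map φ
      have h1 : (1 : V) ∈ MulAction.fixedPoints ↥R' V := by
        intro g
        show (g : MulAut V) 1 = 1
        exact map_one _
      have dvd : r ∣ Nat.card V := by
        obtain ⟨n, hn0, hn⟩ := hVp.nontrivial_iff_card.mp hnt
        exact hn.symm ▸ dvd_pow_self _ (ne_of_gt hn0)
      obtain ⟨b, hb, hb1⟩ := hR'p.exists_fixed_point_of_prime_dvd_card_of_fixed_point V dvd h1
      have hbW : b ∈ W₀ := by
        intro g hg
        exact hb ⟨φ g, ⟨g, hg, rfl⟩⟩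
      rw [h0, Subgroup.mem_bot] at hbW
      exact hb1 hbW.symm
    · intro g hg
      ext w
      have hw : w ∈ W₀ := by rw [h0]; exact Subgroup.mem_top w
      exact hw g hg

/-- **Fitting step** (hypothesis form): given the `q`-group case of Shult's theorem for `Γ`, `V`, `s`,
the element `t = s^(p^(n-1))` centralizes the solvable normal `p'`-subgroup `K`. -/
theorem t_centralizes_of {V : Type*} [CommGroup V] [Finite V]
    {p r n : ℕ} (hp : p.Prime) (hr : r.Prime) (hn : 0 < n)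
    (hV : ∀ v : V, v ^ r = 1) (φ : Γ →* MulAut V) (hφ : Function.Injective φ)
    (hirr : ∀ U : Subgroup V, (∀ x : Γ, ∀ v ∈ U, φ x v ∈ U) → U = ⊥ ∨ U = ⊤)
    (K : Subgroup Γ) [hKn : K.Normal] (hK : Group.IsSolvable K) (hcop : (Nat.card K).Coprime p)
    (s : Γ) (hs : s ^ (p ^ n) = 1) (hfpfK : ∀ g ∈ K, s * g * s⁻¹ = g → g = 1)
    (hfpfV : ∀ v : V, φ s v = v → v = 1)
    (hshult : ∀ (q : ℕ), q.Prime → q ≠ p → r ≠ q → ∀ (Q : Subgroup Γ), IsPGroup q Q →
      s ∈ Subgroup.normalizer (Q : Set Γ) → (∀ g ∈ Q, s * g * s⁻¹ = g → g = 1) →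
      (∃ g ∈ Q, s ^ (p ^ (n - 1)) * g * (s ^ (p ^ (n - 1)))⁻¹ ≠ g) →
      (∀ g ∈ Q, φ g = 1 → g = 1) → ∃ v : V, v ≠ 1 ∧ φ s v = v) :
    ∀ g ∈ K, s ^ (p ^ (n - 1)) * g * (s ^ (p ^ (n - 1)))⁻¹ = g := by
  set t := s ^ (p ^ (n - 1)) with ht
  have htp : t ^ p = 1 := by
    rw [ht, ← pow_mul, ← pow_succ, Nat.sub_add_cancel hn, hs]
  by_contra hnot
  obtain ⟨q, hq, g, hg, hne⟩ := exists_pCoreOf_not_centralized K hK hcop t htp hnot
  haveI : Fact q.Prime := ⟨hq⟩
  set Q := pCoreOf q K with hQdef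
  have hQK : Q ≤ K := Cfsg.Agent.Helper14.pCoreOf_le q K
  have hQp : IsPGroup q Q := Cfsg.Agent.Helper14.pCoreOf_isPGroup q K
  have hQtop : Subgroup.normalizer (Q : Set Γ) = ⊤ := by
    have h1 := Cfsg.Agent.Helper14.normalizer_le_normalizer_pCoreOf (p := q) K
    rw [Subgroup.normalizer_eq_top K] at h1
    exact top_le_iff.1 h1
  haveI hQn : Q.Normal := Subgroup.normalizer_eq_top_iff.1 hQtop
  have hg1 : g ≠ 1 := by
    intro h
    apply hne
    rw [h]; group
  have hφinj : ∀ x : Γ, φ x = 1 → x = 1 := by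
    intro x hx
    apply hφ
    rw [hx, map_one]
  -- `q ≠ p`
  have hqp : q ≠ p := by
    intro hqp
    have hntQ : Nontrivial Q := ⟨⟨⟨g, hg⟩, 1, fun h => hg1 (congrArg Subtype.val h)⟩⟩
    obtain ⟨m, hm0, hm⟩ := hQp.nontrivial_iff_card.mp hntQ
    have h1 : q ∣ Nat.card Q := hm.symm ▸ dvd_pow_self _ (ne_of_gt hm0)
    have h2 : q ∣ Nat.card K := h1.trans (Subgroup.card_dvd_of_le hQK)
    have h3 : p ∣ 1 := by
      have := Nat.dvd_gcd (hqp ▸ h2) (dvd_refl p)
      rwa [hcop] at this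
    exact hp.one_lt.ne' (Nat.dvd_one.1 h3)
  -- `r ≠ q`
  have hrq : r ≠ q := by
    intro hrq
    have hQr : IsPGroup r Q := hrq ▸ hQp
    have h1 := normal_rgroup_acts_trivially hr hV φ hirr Q hQr g hg
    exact hg1 (hφinj g h1)
  obtain ⟨v, hv1, hv⟩ := hshult q hq hqp hrq Q hQp (by rw [hQtop]; exact Subgroup.mem_top s)
    (fun g hg => hfpfK g (hQK hg)) ⟨g, hg, hne⟩ (fun g _ => hφinj g)
  exact hv1 (hfpfV v hv)

end

end Cfsg.Agent.Helper13.ShultFit
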