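import Mathlib

set_option autoImplicit false

namespace Cfsg.Agent.Helper13

open Module

variable {F V : Type*} [Field F] [AddCommGroup V] [Module F V]

/-- Two quadratic forms agreeing on a basis, with polar forms agreeing on pairs of basis vectors,
are equal. -/
theorem quadraticForm_ext_basis {ι : Type*} (b : Basis ι F V) (Q₁ Q₂ : QuadraticForm F V)
    (h1 : ∀ i, Q₁ (b i) = Q₂ (b i))
    (h2 : ∀ i j, QuadraticMap.polar Q₁ (b i) (b j) = QuadraticMap.polar Q₂ (b i) (b j)) :
    Q₁ = Q₂ := by
  have hB : QuadraticMap.polarBilin Q₁ = QuadraticMap.polarBilin Q₂ := by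
    apply LinearMap.BilinForm.ext_basis b
    intro i j
    rw [QuadraticMap.polarBilin_apply_apply, QuadraticMap.polarBilin_apply_apply, h2]
  have hpol : ∀ u v, QuadraticMap.polar Q₁ u v = QuadraticMap.polar Q₂ u v := by
    intro u v
    rw [← QuadraticMap.polarBilin_apply_apply, ← QuadraticMap.polarBilin_apply_apply, hB]
  have hadd : ∀ (Q' : QuadraticForm F V) u v, Q' (u + v) = Q' u + Q' v + QuadraticMap.polar Q' u v := by
    intro Q' u v
    rw [QuadraticMap.polar]; ring
  apply QuadraticMap.ext
  intro x
  have hx : x ∈ Submodule.span F (Set.range b) := b.mem_span x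
  induction hx using Submodule.span_induction with
  | mem v hv =>
    obtain ⟨i, rfl⟩ := hv
    exact h1 i
  | zero => simp
  | add u v _ _ hu hv => rw [hadd Q₁, hadd Q₂, hu, hv, hpol]
  | smul a v _ hv => rw [QuadraticMap.map_smul, QuadraticMap.map_smul, hv]

/-- A linear map scaling `Q` by `c` on a basis (values and polar values) is a similarity, and is
invertible when the polar form is nondegenerate and `c ≠ 0`. -/
theorem exists_similarity_of_basis [FiniteDimensional F V] {ι : Type*} (Q : QuadraticForm F V)
    (hQ : ∀ v : V, (∀ w : V, QuadraticMap.polar Q v w = 0) → v = 0) (c : F) (hc : c ≠ 0)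
    (b : Basis ι F V) (u : ι → V) (h1 : ∀ i, Q (u i) = c * Q (b i))
    (h2 : ∀ i j, QuadraticMap.polar Q (u i) (u j) = c * QuadraticMap.polar Q (b i) (b j)) :
    ∃ g : V ≃ₗ[F] V, ∀ v, Q (g v) = c * Q v := by
  set g₀ : V →ₗ[F] V := b.constr F u with hg₀
  have hg₀b : ∀ i, g₀ (b i) = u i := fun i => by rw [hg₀, Basis.constr_basis]
  have heq : Q.comp g₀ = c • Q := by
    apply quadraticForm_ext_basis b
    · intro i
      rw [QuadraticMap.comp_apply, hg₀b, h1, QuadraticMap.smul_apply, smul_eq_mul]
    · intro i j
      have e1 : QuadraticMap.polar (Q.comp g₀) (b i) (b j) =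
          QuadraticMap.polar Q (g₀ (b i)) (g₀ (b j)) := by
        simp [QuadraticMap.polar]
      have e2 : QuadraticMap.polar (c • Q) (b i) (b j) = c * QuadraticMap.polar Q (b i) (b j) := by
        simp [QuadraticMap.polar]; ring
      rw [e1, e2, hg₀b, hg₀b, h2]
  have hval : ∀ v, Q (g₀ v) = c * Q v := by
    intro v
    have := congrArg (fun q : QuadraticForm F V => q v) heq
    simpa [QuadraticMap.comp_apply, QuadraticMap.smul_apply] using this
  have hpolar : ∀ v w, QuadraticMap.polar Q (g₀ v) (g₀ w) = c * QuadraticMap.polar Q v w := by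
    intro v w
    simp only [QuadraticMap.polar, ← map_add, hval]
    ring
  have hinj : Function.Injective g₀ := by
    rw [← LinearMap.ker_eq_bot, LinearMap.ker_eq_bot']
    intro v hv
    apply hQ
    intro w
    have := hpolar v w
    rw [hv] at this
    have h0 : QuadraticMap.polar Q 0 (g₀ w) = 0 := by simp
    rw [h0] at this
    exact (mul_eq_zero.mp this.symm).resolve_left hc
  refine ⟨LinearEquiv.ofInjectiveEndo g₀ hinj, ?_⟩
  intro v
  rw [LinearEquiv.coe_ofInjectiveEndo]
  exact hval v

end Cfsg.Agent.Helper13
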