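import Mathlib

set_option autoImplicit false

namespace Cfsg.Agent.Helper13

open Matrix

/-- Gram determinant in an arbitrary basis equals `d*d*det G₀` with `d ≠ 0`, where `G₀` is the Gram
matrix in the standard basis. -/
theorem gram_det_eq {F : Type*} [Field F] {κ ι : Type*} [Fintype κ] [DecidableEq κ] [Fintype ι]
    [DecidableEq ι] (Q : (κ → F) → F) (G₀ : Matrix κ κ F)
    (hpolar : ∀ u v : κ → F, QuadraticMap.polar Q u v = u ⬝ᵥ G₀ *ᵥ v)
    (b : Module.Basis ι F (κ → F)) :
    ∃ d : F, d ≠ 0 ∧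
      (Matrix.of (fun i j : ι => QuadraticMap.polar Q (b i) (b j))).det = d * d * G₀.det := by
  classical
  let e : ι ≃ κ := b.indexEquiv (Pi.basisFun F κ)
  let b' : Module.Basis κ F (κ → F) := b.reindex e
  let P : Matrix κ κ F := (Pi.basisFun F κ).toMatrix b'
  have hP : ∀ k l, P k l = b' l k := by
    intro k l
    simp [P, Module.Basis.toMatrix_apply]
  have hdet : P.det ≠ 0 := by
    have h1 : P * b'.toMatrix (Pi.basisFun F κ) = 1 := Module.Basis.toMatrix_mul_toMatrix_flip _ _
    have h2 := congrArg Matrix.det h1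
    rw [Matrix.det_mul, Matrix.det_one] at h2
    intro h0
    rw [h0, zero_mul] at h2
    exact zero_ne_one h2
  refine ⟨P.det, hdet, ?_⟩
  have hM : (Matrix.of (fun i j : ι => QuadraticMap.polar Q (b i) (b j))).submatrix e.symm e.symm
      = Pᵀ * G₀ * P := by
    ext k l
    rw [Matrix.submatrix_apply, Matrix.of_apply, hpolar, Matrix.mul_apply]
    simp only [Matrix.mul_apply, Matrix.transpose_apply, hP, dotProduct, Matrix.mulVec, b',
      Module.Basis.reindex_apply]
    simp only [Finset.mul_sum, Finset.sum_mul]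
    rw [Finset.sum_comm]
    apply Finset.sum_congr rfl
    intro x _
    apply Finset.sum_congr rfl
    intro y _
    ring
  rw [← Matrix.det_submatrix_equiv_self e.symm, hM, Matrix.det_mul, Matrix.det_mul,
    Matrix.det_transpose]
  ring

theorem det_fromBlocks_zero_one_one_zero {F : Type*} [Field F] {n : Type*} [Fintype n]
    [DecidableEq n] :
    (Matrix.fromBlocks (0 : Matrix n n F) (1 : Matrix n n F) (1 : Matrix n n F)
      (0 : Matrix n n F)).det = (-1) ^ Fintype.card n := by
  have h1 : Matrix.fromBlocks (0 : Matrix n n F) (1 : Matrix n n F) (1 : Matrix n n F)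
        (0 : Matrix n n F) *
      Matrix.fromBlocks (1 : Matrix n n F) (0 : Matrix n n F) (1 : Matrix n n F) (1 : Matrix n n F)
      = Matrix.fromBlocks (1 : Matrix n n F) (1 : Matrix n n F) (1 : Matrix n n F)
        (0 : Matrix n n F) := by
    rw [Matrix.fromBlocks_multiply]
    simp
  have h2 := congrArg Matrix.det h1
  rw [Matrix.det_mul, Matrix.det_fromBlocks_zero₁₂, Matrix.det_one, mul_one, mul_one,
    Matrix.det_fromBlocks_one₁₁] at h2
  rw [h2]
  simp [Matrix.det_neg]

theorem isSquare_mul_self_mul_iff {F : Type*} [Field F] {d x : F} (hd : d ≠ 0) :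
    IsSquare (d * d * x) ↔ IsSquare x := by
  constructor
  · rintro ⟨r, hr⟩
    refine ⟨r / d, ?_⟩
    field_simp
    linear_combination hr
  · rintro ⟨r, hr⟩
    exact ⟨d * r, by rw [hr]; ring⟩

theorem isSquare_neg_one_pow_iff {F : Type*} [Field F] [Fintype F] {q : ℕ}
    (hF : Fintype.card F = q) (hq : Odd q) (m : ℕ) :
    IsSquare ((-1 : F) ^ m) ↔ Even (m * (q - 1) / 2) := by
  obtain ⟨k, hk⟩ := hq
  have h1 : m * (q - 1) / 2 = m * k := by
    rw [hk, Nat.add_sub_cancel, mul_comm 2 k, ← mul_assoc, Nat.mul_div_cancel _ (by norm_num)]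
  rw [h1, Nat.even_mul]
  have hsq : IsSquare (-1 : F) ↔ Even k := by
    rw [FiniteField.isSquare_neg_one_iff, hF, hk]
    rw [Nat.even_iff]
    omega
  rcases Nat.even_or_odd m with hm | hm
  · obtain ⟨r, hr⟩ := hm
    constructor
    · intro _; exact Or.inl ⟨r, hr⟩
    · intro _; rw [hr, ← two_mul, pow_mul]; simp
  · have : (-1 : F) ^ m = -1 := hm.neg_one_pow
    rw [this, hsq]
    constructor
    · intro h; exact Or.inr h
    · rintro (h | h)
      · exact absurd h (Nat.not_even_iff_odd.mpr hm)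
      · exact h

theorem isSquare_mul_nonsquare_iff {F : Type*} [Field F] [Fintype F] {x δ : F}
    (hx : x ≠ 0) (hδ : ¬ IsSquare δ) :
    IsSquare (x * δ) ↔ ¬ IsSquare x := by
  classical
  have hδ0 : δ ≠ 0 := by
    rintro rfl
    exact hδ ⟨0, by simp⟩
  have hxδ : x * δ ≠ 0 := mul_ne_zero hx hδ0
  rw [← quadraticChar_one_iff_isSquare hxδ, ← quadraticChar_neg_one_iff_not_isSquare, map_mul,
    quadraticChar_neg_one_iff_not_isSquare.mpr hδ]
  constructor
  · intro h; linarith
  · intro h; rw [h]; norm_num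

end Cfsg.Agent.Helper13
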