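import Mathlib
import Cfsg.Agent.Helper13.QuadExt
import Cfsg.Agent.S2617
import Cfsg.Agent.S2562

set_option autoImplicit false

namespace Cfsg.Agent.Helper13

open Module Matrix Cfsg.Agent.S2617 Cfsg.Agent.S2562

variable {F V : Type*} [Field F] [AddCommGroup V] [Module F V]

/-- A quadratic form whose values and polar values on a basis `b` agree with those of `Q₀` on the
standard basis is `Q₀` in the coordinates of `b`. -/
theorem eq_comp_equivFun {ι : Type*} [Fintype ι] [DecidableEq ι] (b : Basis ι F V)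
    (Q' : QuadraticForm F V) (Q₀ : QuadraticForm F (ι → F))
    (h1 : ∀ k, Q' (b k) = Q₀ (Pi.single k 1))
    (h2 : ∀ k l, QuadraticMap.polar Q' (b k) (b l) =
      QuadraticMap.polar Q₀ (Pi.single k 1) (Pi.single l 1)) :
    ∀ v, Q' v = Q₀ (b.equivFun v) := by
  have hb : ∀ k, b.equivFun (b k) = Pi.single k 1 := by
    intro k
    funext j
    simp [Pi.single_apply, eq_comm]
  have heq : Q' = Q₀.comp (b.equivFun : V →ₗ[F] (ι → F)) := by
    apply quadraticForm_ext_basis b
    · intro k
      rw [QuadraticMap.comp_apply, LinearEquiv.coe_coe, hb, h1]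
    · intro k l
      have e1 : QuadraticMap.polar (Q₀.comp (b.equivFun : V →ₗ[F] (ι → F))) (b k) (b l) =
          QuadraticMap.polar Q₀ (b.equivFun (b k)) (b.equivFun (b l)) := by
        simp [QuadraticMap.polar]
      rw [e1, hb, hb, h2]
  intro v
  rw [heq]
  rfl

/-- values of the plus form on the standard basis -/
theorem Qp_single (m : ℕ) (k : Fin m ⊕ Fin m) : Qp m F (Pi.single k 1) = 0 := by
  classical
  rw [Qp_apply, Cfsg.quadFormPlus]
  apply Finset.sum_eq_zero
  intro i _
  rcases k with k | k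
  · simp [Pi.single_apply]
  · simp [Pi.single_apply]

/-- polar values of the plus form on the standard basis -/
theorem Qp_polar_single (m : ℕ) (k l : Fin m ⊕ Fin m) :
    QuadraticMap.polar (Qp m F) (Pi.single k 1) (Pi.single l 1) =
      (Matrix.fromBlocks (0 : Matrix (Fin m) (Fin m) F) (1 : Matrix (Fin m) (Fin m) F)
        (1 : Matrix (Fin m) (Fin m) F) (0 : Matrix (Fin m) (Fin m) F)) k l := by
  classical
  rw [Qp_coe, Cfsg.Agent.S2620.polar_plus, Matrix.mulVec_single_one, single_one_dotProduct]
  rfl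

/-- polar values of the minus form on the standard basis -/
theorem Qm_polar_single (m : ℕ) (a c : F) (k l : (Fin m ⊕ Fin m) ⊕ Fin 2) :
    QuadraticMap.polar (Qm m F a c) (Pi.single k 1) (Pi.single l 1) =
      (Matrix.fromBlocks
        (Matrix.fromBlocks (0 : Matrix (Fin m) (Fin m) F) (1 : Matrix (Fin m) (Fin m) F)
          (1 : Matrix (Fin m) (Fin m) F) (0 : Matrix (Fin m) (Fin m) F))
        (0 : Matrix (Fin m ⊕ Fin m) (Fin 2) F) (0 : Matrix (Fin 2) (Fin m ⊕ Fin m) F)
        (!![2, a; a, 2 * c] : Matrix (Fin 2) (Fin 2) F)) k l := by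
  classical
  rw [Qm_coe, Cfsg.Agent.S2621.polar_minus, Matrix.mulVec_single_one, single_one_dotProduct]
  rfl

/-- values of the minus form on the standard basis -/
theorem Qm_single (m : ℕ) (a c : F) (k : (Fin m ⊕ Fin m) ⊕ Fin 2) :
    Qm m F a c (Pi.single k 1) =
      Sum.elim (fun _ => 0) ![1, c] k := by
  classical
  rw [Qm_apply, Cfsg.quadFormMinus]
  rcases k with (k | k) | k
  · simp [Pi.single_apply]
  · simp [Pi.single_apply]
  · fin_cases k
    · simp [Pi.single_apply]
    · simp [Pi.single_apply]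

end Cfsg.Agent.Helper13
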