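import Mathlib
import Cfsg.Agent.S0762
import Cfsg.Agent.S0756

set_option autoImplicit false

namespace Cfsg.Agent.Helper13

open Module

section basic

variable {F V : Type*} [Field F] [AddCommGroup V] [Module F V]

theorem polar_self' (Q : QuadraticForm F V) (v : V) : QuadraticMap.polar Q v v = 2 * Q v := by
  rw [QuadraticMap.polar_self]; simp

/-- value of `Q` on a combination of two vectors -/
theorem map_smul_add_smul (Q : QuadraticForm F V) (a b : F) (x y : V) :
    Q (a • x + b • y) = a ^ 2 * Q x + a * b * QuadraticMap.polar Q x y + b ^ 2 * Q y := by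
  have h := QuadraticMap.map_add (⇑Q) (a • x) (b • y)
  rw [h, QuadraticMap.map_smul, QuadraticMap.map_smul, QuadraticMap.polar_smul_left,
    QuadraticMap.polar_smul_right]
  simp only [smul_eq_mul]
  ring

/-- hyperbolic partner of a singular vector -/
theorem exists_hyperbolic_partner (Q : QuadraticForm F V)
    (hQ : ∀ v : V, (∀ w : V, QuadraticMap.polar Q v w = 0) → v = 0) (e : V) (he : e ≠ 0)
    (hQe : Q e = 0) : ∃ f : V, Q f = 0 ∧ QuadraticMap.polar Q e f = 1 := by
  have : ¬ ∀ w : V, QuadraticMap.polar Q e w = 0 := fun h => he (hQ e h)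
  push Not at this
  obtain ⟨y₀, hy₀⟩ := this
  set y : V := (QuadraticMap.polar Q e y₀)⁻¹ • y₀ with hy
  have hey : QuadraticMap.polar Q e y = 1 := by
    rw [hy, QuadraticMap.polar_smul_right, smul_eq_mul, inv_mul_cancel₀ hy₀]
  refine ⟨(-Q y) • e + (1 : F) • y, ?_, ?_⟩
  · rw [map_smul_add_smul, hQe, hey]; ring
  · rw [QuadraticMap.polar_add_right, QuadraticMap.polar_smul_right, QuadraticMap.polar_smul_right,
      hey, polar_self', hQe]
    simp

end basic

section singular

variable {F V : Type*} [Field F] [AddCommGroup V] [Module F V]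

theorem exists_ne_zero_mem_ker_of_finrank_lt [FiniteDimensional F V] {W : Type*} [AddCommGroup W]
    [Module F W] [FiniteDimensional F W] (φ : V →ₗ[F] W) (h : finrank F W < finrank F V) :
    ∃ v : V, v ≠ 0 ∧ φ v = 0 := by
  have h1 := LinearMap.finrank_range_add_finrank_ker φ
  have h2 : finrank F (LinearMap.range φ) ≤ finrank F W := Submodule.finrank_le _
  have h3 : 0 < finrank F (LinearMap.ker φ) := by omega
  obtain ⟨⟨v, hv⟩, hne⟩ := Module.finrank_pos_iff_exists_ne_zero.mp h3
  refine ⟨v, ?_, LinearMap.mem_ker.mp hv⟩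
  intro h0
  apply hne
  exact Subtype.ext h0

open Polynomial in
theorem exists_singular_odd [Fintype F] [FiniteDimensional F V] (h2 : (2 : F) ≠ 0)
    (Q : QuadraticForm F V) (h3 : 3 ≤ finrank F V) : ∃ v : V, v ≠ 0 ∧ Q v = 0 := by
  classical
  have hV : 0 < finrank F V := by omega
  obtain ⟨u, hu⟩ := Module.finrank_pos_iff_exists_ne_zero.mp hV
  by_cases hQu : Q u = 0
  · exact ⟨u, hu, hQu⟩
  obtain ⟨w₁, hw₁, hφ₁⟩ := exists_ne_zero_mem_ker_of_finrank_lt (QuadraticMap.polarBilin Q u)
    (by rw [Module.finrank_self]; omega)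
  by_cases hQ1 : Q w₁ = 0
  · exact ⟨w₁, hw₁, hQ1⟩
  obtain ⟨w₂, hw₂, hφ₂⟩ := exists_ne_zero_mem_ker_of_finrank_lt
    ((QuadraticMap.polarBilin Q u).prod (QuadraticMap.polarBilin Q w₁))
    (by rw [Module.finrank_prod, Module.finrank_self]; omega)
  by_cases hQ2 : Q w₂ = 0
  · exact ⟨w₂, hw₂, hQ2⟩
  have h01 : QuadraticMap.polar Q u w₁ = 0 := by simpa using hφ₁
  have h02 : QuadraticMap.polar Q u w₂ = 0 := by
    have := congrArg Prod.fst hφ₂
    simpa using this
  have h12 : QuadraticMap.polar Q w₁ w₂ = 0 := by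
    have := congrArg Prod.snd hφ₂
    simpa using this
  have hf : (C (Q u) * X ^ 2 + C 0 * X + C (Q w₂) : F[X]).degree = 2 := degree_quadratic hQu
  have hg : (C (Q w₁) * X ^ 2 + C 0 * X + C 0 : F[X]).degree = 2 := degree_quadratic hQ1
  obtain ⟨a, b, hab⟩ := FiniteField.exists_root_sum_quadratic hf hg
    (FiniteField.odd_card_of_char_ne_two (Cfsg.Agent.S0756.ringChar_ne_two' h2))
  simp only [eval_add, eval_mul, eval_C, eval_pow, eval_X] at hab
  have hval : Q ((1 : F) • (a • u + b • w₁) + (1 : F) • w₂) = 0 := by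
    rw [map_smul_add_smul, map_smul_add_smul, QuadraticMap.polar_add_left,
      QuadraticMap.polar_smul_left, QuadraticMap.polar_smul_left, h01, h02, h12]
    simp only [smul_eq_mul]
    linear_combination hab
  refine ⟨(1 : F) • (a • u + b • w₁) + (1 : F) • w₂, ?_, hval⟩
  intro h0
  have : QuadraticMap.polar Q ((1 : F) • (a • u + b • w₁) + (1 : F) • w₂) w₂ = 0 := by
    rw [h0]; simp
  rw [QuadraticMap.polar_add_left, QuadraticMap.polar_smul_left, QuadraticMap.polar_smul_left,
    QuadraticMap.polar_add_left, QuadraticMap.polar_smul_left, QuadraticMap.polar_smul_left,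
    h02, h12, polar_self'] at this
  simp only [smul_eq_mul, mul_zero, add_zero, one_mul, zero_add] at this
  exact hQ2 ((mul_eq_zero.mp this).resolve_left h2)

/-- Over a finite field, a quadratic form in dimension at least 3 has a nonzero singular vector. -/
theorem exists_singular [Finite F] [FiniteDimensional F V] (Q : QuadraticForm F V)
    (h3 : 3 ≤ finrank F V) : ∃ v : V, v ≠ 0 ∧ Q v = 0 := by
  haveI := Fintype.ofFinite F
  by_cases h2 : (2 : F) = 0
  · haveI : CharP F 2 := CharTwo.of_one_ne_zero_of_two_eq_zero one_ne_zero h2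
    exact Cfsg.Agent.S0762.result Q h3
  · exact exists_singular_odd h2 Q h3

/-- An anisotropic quadratic form in dimension ≥ 2 over a finite field represents every scalar. -/
theorem represents_of_aniso [Finite F] [FiniteDimensional F V] (Q : QuadraticForm F V)
    (h2 : 2 ≤ finrank F V) (haniso : ∀ v : V, Q v = 0 → v = 0) (c : F) : ∃ v : V, Q v = c := by
  by_cases hc : c = 0
  · exact ⟨0, by rw [hc]; simp⟩
  set Q' : QuadraticForm F (V × F) := QuadraticMap.prod Q ((-c) • QuadraticMap.sq) with hQ'
  have h3 : 3 ≤ finrank F (V × F) := by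
    rw [Module.finrank_prod, Module.finrank_self]; omega
  obtain ⟨⟨v, z⟩, hne, hvz⟩ := exists_singular Q' h3
  have hvz' : Q v + (-c) * (z * z) = 0 := by
    simpa [hQ', QuadraticMap.prod_apply] using hvz
  have hz : z ≠ 0 := by
    intro hz
    rw [hz] at hvz'
    have hv : v = 0 := haniso v (by simpa using hvz')
    apply hne
    rw [hv, hz]; rfl
  refine ⟨z⁻¹ • v, ?_⟩
  rw [QuadraticMap.map_smul, smul_eq_mul]
  field_simp
  linear_combination hvz'

end singular

section witt

universe u

/-- Witt decomposition data: hyperbolic pairs `e i, f i` and an anisotropic complement `A`. -/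
structure IsWittDecomp {F V : Type*} [Field F] [AddCommGroup V] [Module F V]
    (Q : QuadraticForm F V) (m : ℕ) (e f : Fin m → V) (A : Submodule F V) : Prop where
  Qe : ∀ i, Q (e i) = 0
  Qf : ∀ i, Q (f i) = 0
  ef : ∀ i j, QuadraticMap.polar Q (e i) (f j) = if i = j then 1 else 0
  ee : ∀ i j, QuadraticMap.polar Q (e i) (e j) = 0
  ff : ∀ i j, QuadraticMap.polar Q (f i) (f j) = 0
  eA : ∀ a ∈ A, ∀ i, QuadraticMap.polar Q (e i) a = 0
  fA : ∀ a ∈ A, ∀ i, QuadraticMap.polar Q (f i) a = 0
  aniso : ∀ a ∈ A, Q a = 0 → a = 0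
  nondegA : ∀ a ∈ A, (∀ a' ∈ A, QuadraticMap.polar Q a a' = 0) → a = 0
  rank : finrank F A + 2 * m = finrank F V
  rankA : finrank F A ≤ 2

theorem polar_comp_subtype {F V : Type*} [Field F] [AddCommGroup V] [Module F V]
    (Q : QuadraticForm F V) (W : Submodule F V) (w w' : W) :
    QuadraticMap.polar (Q.comp W.subtype) w w' = QuadraticMap.polar Q (w : V) (w' : V) := by
  simp [QuadraticMap.polar]

theorem exists_wittDecomp {F : Type*} [Field F] [Finite F] (n : ℕ) :
    ∀ {V : Type u} [AddCommGroup V] [Module F V] [FiniteDimensional F V] (Q : QuadraticForm F V),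
      finrank F V = n → (∀ v : V, (∀ w : V, QuadraticMap.polar Q v w = 0) → v = 0) →
      ∃ (m : ℕ) (e f : Fin m → V) (A : Submodule F V), IsWittDecomp Q m e f A := by
  induction n using Nat.strong_induction_on with
  | _ n ih =>
  intro V _ _ _ Q hn hQ
  by_cases hs : ∃ v : V, v ≠ 0 ∧ Q v = 0
  · obtain ⟨e₀, he₀, hQe₀⟩ := hs
    obtain ⟨f₀, hQf₀, hef₀⟩ := exists_hyperbolic_partner Q hQ e₀ he₀ hQe₀
    have hfe₀ : QuadraticMap.polar Q f₀ e₀ = 1 := by rw [QuadraticMap.polar_comm]; exact hef₀
    have hee₀ : QuadraticMap.polar Q e₀ e₀ = 0 := by rw [polar_self', hQe₀, mul_zero]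
    have hff₀ : QuadraticMap.polar Q f₀ f₀ = 0 := by rw [polar_self', hQf₀, mul_zero]
    set ψ : V →ₗ[F] F × F := (QuadraticMap.polarBilin Q e₀).prod (QuadraticMap.polarBilin Q f₀)
      with hψ
    have hψapp : ∀ v, ψ v = (QuadraticMap.polar Q e₀ v, QuadraticMap.polar Q f₀ v) := by
      intro v; rfl
    set W : Submodule F V := LinearMap.ker ψ with hW
    have hWmem : ∀ w : W, QuadraticMap.polar Q e₀ (w : V) = 0 ∧
        QuadraticMap.polar Q f₀ (w : V) = 0 := by
      intro w
      have := LinearMap.mem_ker.mp w.2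
      rw [hψapp] at this
      exact ⟨congrArg Prod.fst this, congrArg Prod.snd this⟩
    have hsurj : LinearMap.range ψ = ⊤ := by
      rw [LinearMap.range_eq_top]
      rintro ⟨a, b⟩
      refine ⟨a • f₀ + b • e₀, ?_⟩
      rw [hψapp, QuadraticMap.polar_add_right, QuadraticMap.polar_add_right,
        QuadraticMap.polar_smul_right, QuadraticMap.polar_smul_right,
        QuadraticMap.polar_smul_right, QuadraticMap.polar_smul_right, hef₀, hee₀, hfe₀, hff₀]
      simp
    have hfrW : finrank F W + 2 = n := by
      have h1 := LinearMap.finrank_range_add_finrank_ker ψ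
      rw [hsurj, finrank_top, Module.finrank_prod, Module.finrank_self, hn] at h1
      rw [hW]
      omega
    set Q' : QuadraticForm F W := Q.comp W.subtype with hQ'
    have hQ'app : ∀ w : W, Q' w = Q (w : V) := fun w => rfl
    have hQ'nd : ∀ v : W, (∀ w : W, QuadraticMap.polar Q' v w = 0) → v = 0 := by
      intro w hw
      apply Subtype.ext
      apply hQ
      intro v
      set v' : V := v - (QuadraticMap.polar Q f₀ v) • e₀ - (QuadraticMap.polar Q e₀ v) • f₀ with hv'
      have hv'W : v' ∈ W := by
        rw [hW, LinearMap.mem_ker, hψapp, hv']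
        simp only [QuadraticMap.polar_sub_right, QuadraticMap.polar_smul_right, hee₀, hef₀, hfe₀,
          hff₀, smul_eq_mul]
        ext <;> simp
      have h1 := hw ⟨v', hv'W⟩
      rw [hQ', polar_comp_subtype] at h1
      have h2 : v = v' + (QuadraticMap.polar Q f₀ v) • e₀ + (QuadraticMap.polar Q e₀ v) • f₀ := by
        rw [hv']; abel
      rw [h2, QuadraticMap.polar_add_right, QuadraticMap.polar_add_right,
        QuadraticMap.polar_smul_right, QuadraticMap.polar_smul_right, h1,
        QuadraticMap.polar_comm (⇑Q) (w : V) e₀, QuadraticMap.polar_comm (⇑Q) (w : V) f₀,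
        (hWmem w).1, (hWmem w).2]
      simp
    obtain ⟨m', e', f', A', h'⟩ := ih (finrank F W) (by omega) Q' rfl hQ'nd
    refine ⟨m' + 1, Fin.cons e₀ (fun i => (e' i : V)), Fin.cons f₀ (fun i => (f' i : V)),
      A'.map W.subtype, ?_⟩
    have hpol : ∀ w w' : W, QuadraticMap.polar Q (w : V) (w' : V) = QuadraticMap.polar Q' w w' :=
      fun w w' => (polar_comp_subtype Q W w w').symm
    constructor
    · intro i
      refine Fin.cases ?_ (fun i => ?_) i
      · simpa using hQe₀
      · simp only [Fin.cons_succ]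
        exact h'.Qe i
    · intro i
      refine Fin.cases ?_ (fun i => ?_) i
      · simpa using hQf₀
      · simp only [Fin.cons_succ]
        exact h'.Qf i
    · intro i j
      refine Fin.cases ?_ (fun i => ?_) i <;> refine Fin.cases ?_ (fun j => ?_) j
      · simpa using hef₀
      · simp only [Fin.cons_zero, Fin.cons_succ]
        rw [(hWmem (f' j)).1, if_neg (Fin.succ_ne_zero j).symm]
      · simp only [Fin.cons_zero, Fin.cons_succ]
        rw [QuadraticMap.polar_comm, (hWmem (e' i)).2, if_neg (Fin.succ_ne_zero i)]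
      · simp only [Fin.cons_succ, Fin.succ_inj]
        rw [hpol]; exact h'.ef i j
    · intro i j
      refine Fin.cases ?_ (fun i => ?_) i <;> refine Fin.cases ?_ (fun j => ?_) j
      · simpa using hee₀
      · simp only [Fin.cons_zero, Fin.cons_succ]
        exact (hWmem (e' j)).1
      · simp only [Fin.cons_zero, Fin.cons_succ]
        rw [QuadraticMap.polar_comm]; exact (hWmem (e' i)).1
      · simp only [Fin.cons_succ]
        rw [hpol]; exact h'.ee i j
    · intro i j
      refine Fin.cases ?_ (fun i => ?_) i <;> refine Fin.cases ?_ (fun j => ?_) j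
      · simpa using hff₀
      · simp only [Fin.cons_zero, Fin.cons_succ]
        exact (hWmem (f' j)).2
      · simp only [Fin.cons_zero, Fin.cons_succ]
        rw [QuadraticMap.polar_comm]; exact (hWmem (f' i)).2
      · simp only [Fin.cons_succ]
        rw [hpol]; exact h'.ff i j
    · rintro a ⟨a', ha', rfl⟩ i
      refine Fin.cases ?_ (fun i => ?_) i
      · simp only [Fin.cons_zero]
        exact (hWmem a').1
      · simp only [Fin.cons_succ, Submodule.coe_subtype]
        rw [hpol]; exact h'.eA a' ha' i
    · rintro a ⟨a', ha', rfl⟩ i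
      refine Fin.cases ?_ (fun i => ?_) i
      · simp only [Fin.cons_zero]
        exact (hWmem a').2
      · simp only [Fin.cons_succ, Submodule.coe_subtype]
        rw [hpol]; exact h'.fA a' ha' i
    · rintro a ⟨a', ha', rfl⟩ h0
      have := h'.aniso a' ha' h0
      rw [this]; simp
    · rintro a ⟨a', ha', rfl⟩ h0
      have := h'.nondegA a' ha' (by
        intro a'' ha''
        rw [← hpol]
        exact h0 _ ⟨a'', ha'', rfl⟩)
      rw [this]; simp
    · rw [Submodule.finrank_map_subtype_eq]
      have := h'.rank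
      omega
    · rw [Submodule.finrank_map_subtype_eq]
      exact h'.rankA
  · push Not at hs
    refine ⟨0, Fin.elim0, Fin.elim0, ⊤, ?_⟩
    constructor
    · exact fun i => i.elim0
    · exact fun i => i.elim0
    · exact fun i => i.elim0
    · exact fun i => i.elim0
    · exact fun i => i.elim0
    · exact fun _ _ i => i.elim0
    · exact fun _ _ i => i.elim0
    · intro a _ ha
      by_contra hne
      exact hs a hne ha
    · intro a _ ha
      exact hQ a (fun w => ha w Submodule.mem_top)
    · rw [finrank_top]; omega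
    · rw [finrank_top]
      by_contra hlt
      push Not at hlt
      obtain ⟨v, hv, hQv⟩ := exists_singular Q (by omega)
      exact hs v hv hQv

end witt

section li

variable {F V : Type*} [Field F] [AddCommGroup V] [Module F V]

/-- A family with a "dual family" with respect to a bilinear map is linearly independent. -/
theorem linearIndependent_of_dual {ι : Type*} (B : V → V → F)
    (hBadd : ∀ x y z, B (x + y) z = B x z + B y z) (hBsmul : ∀ (c : F) x z, B (c • x) z = c * B x z)
    (v w : ι → V) (h0 : ∀ i j, i ≠ j → B (v i) (w j) = 0) (h1 : ∀ i, B (v i) (w i) ≠ 0) :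
    LinearIndependent F v := by
  classical
  rw [linearIndependent_iff']
  intro s c hsum i hi
  have hBzero : ∀ z, B 0 z = 0 := by
    intro z
    have := hBsmul 0 0 z
    simpa using this
  have hBsum : ∀ (t : Finset ι) (z : V), B (∑ j ∈ t, c j • v j) z = ∑ j ∈ t, c j * B (v j) z := by
    intro t z
    induction t using Finset.induction_on with
    | empty => simp [hBzero]
    | insert a t ha ih => rw [Finset.sum_insert ha, Finset.sum_insert ha, hBadd, hBsmul, ih]
  have h2 := hBsum s (w i)
  rw [hsum, hBzero] at h2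
  rw [Finset.sum_eq_single i] at h2
  · exact (mul_eq_zero.mp h2.symm).resolve_right (h1 i)
  · intro j _ hji
    rw [h0 j i hji, mul_zero]
  · intro hni
    exact absurd hi hni

theorem linearIndependent_of_dual_polar {ι : Type*} (Q : QuadraticForm F V)
    (v w : ι → V) (h0 : ∀ i j, i ≠ j → QuadraticMap.polar Q (v i) (w j) = 0)
    (h1 : ∀ i, QuadraticMap.polar Q (v i) (w i) ≠ 0) :
    LinearIndependent F v :=
  linearIndependent_of_dual (fun x y => QuadraticMap.polar Q x y)
    (fun x y z => QuadraticMap.polar_add_left Q x y z)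
    (fun c x z => by simp [QuadraticMap.polar_smul_left]) v w h0 h1

end li

end Cfsg.Agent.Helper13
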