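import Mathlib
import Cfsg.Agent.Helper13.QuadWitt

set_option autoImplicit false

namespace Cfsg.Agent.Helper13

open Module

variable {F V : Type*} [Field F] [AddCommGroup V] [Module F V]

/-- In an anisotropic nondegenerate plane `A` over a finite field there are `x, y` with
`Q x = 1`, `B(x,y) = 1` and `t² + t + Q y` without roots. -/
theorem exists_elliptic_pair [Finite F] [FiniteDimensional F V] (Q : QuadraticForm F V)
    (A : Submodule F V) (hA2 : finrank F A = 2) (haniso : ∀ a ∈ A, Q a = 0 → a = 0)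
    (hnd : ∀ a ∈ A, (∀ a' ∈ A, QuadraticMap.polar Q a a' = 0) → a = 0) :
    ∃ x ∈ A, ∃ y ∈ A, Q x = 1 ∧ QuadraticMap.polar Q x y = 1 ∧ ∀ t : F, t ^ 2 + t + Q y ≠ 0 := by
  classical
  -- step 1: x with Q x = 1
  obtain ⟨⟨x, hxA⟩, hQx'⟩ := represents_of_aniso (Q.comp A.subtype) (by omega)
    (fun a ha => Subtype.ext (haniso a.1 a.2 ha)) 1
  have hQx : Q x = 1 := hQx'
  have hxne : x ≠ 0 := by
    rintro rfl
    rw [QuadraticMap.map_zero] at hQx
    exact zero_ne_one hQx
  -- step 2: y₁ with polar x y₁ = 1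
  have h1 : ¬ ∀ a' ∈ A, QuadraticMap.polar Q x a' = 0 := fun h => hxne (hnd x hxA h)
  push Not at h1
  obtain ⟨y₁', hy₁'A, hy₁'⟩ := h1
  set y₁ : V := (QuadraticMap.polar Q x y₁')⁻¹ • y₁' with hy₁
  have hy₁A : y₁ ∈ A := A.smul_mem _ hy₁'A
  have hxy₁ : QuadraticMap.polar Q x y₁ = 1 := by
    rw [hy₁, QuadraticMap.polar_smul_right, smul_eq_mul, inv_mul_cancel₀ hy₁']
  -- step 3: y₀ ∈ A outside span{x}
  have h3 : ∃ y₀ ∈ A, y₀ ∉ Submodule.span F {x} := by
    by_contra hcon
    push Not at hcon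
    have hle : A ≤ Submodule.span F {x} := hcon
    have := Submodule.finrank_mono hle
    rw [finrank_span_singleton hxne] at this
    omega
  obtain ⟨y₀, hy₀A, hy₀⟩ := h3
  -- step 4
  obtain ⟨y, hyA, hxy, hyspan⟩ : ∃ y ∈ A, QuadraticMap.polar Q x y = 1 ∧
      y ∉ Submodule.span F {x} := by
    by_cases hy₁s : y₁ ∈ Submodule.span F {x}
    · set k : V := y₀ - (QuadraticMap.polar Q x y₀) • y₁ with hk
      have hkA : k ∈ A := A.sub_mem hy₀A (A.smul_mem _ hy₁A)
      have hxk : QuadraticMap.polar Q x k = 0 := by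
        rw [hk, QuadraticMap.polar_sub_right, QuadraticMap.polar_smul_right, hxy₁]
        simp
      refine ⟨y₁ + k, A.add_mem hy₁A hkA, ?_, ?_⟩
      · rw [QuadraticMap.polar_add_right, hxy₁, hxk, add_zero]
      · intro hmem
        apply hy₀
        have hkmem : k ∈ Submodule.span F {x} := by
          have := Submodule.sub_mem _ hmem hy₁s
          simpa using this
        have : y₀ = k + (QuadraticMap.polar Q x y₀) • y₁ := by rw [hk]; abel
        rw [this]
        exact Submodule.add_mem _ hkmem (Submodule.smul_mem _ _ hy₁s)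
    · exact ⟨y₁, hy₁A, hxy₁, hy₁s⟩
  refine ⟨x, hxA, y, hyA, hQx, hxy, ?_⟩
  intro t ht
  have hval : Q (t • x + (1 : F) • y) = t ^ 2 + t + Q y := by
    rw [map_smul_add_smul, hQx, hxy]; ring
  have hmem : t • x + (1 : F) • y ∈ A := A.add_mem (A.smul_mem _ hxA) (A.smul_mem _ hyA)
  have hzero := haniso _ hmem (by rw [hval, ht])
  apply hyspan
  have : y = (-t) • x := by
    rw [one_smul] at hzero
    rw [neg_smul]
    exact eq_neg_of_add_eq_zero_right hzero
  rw [this]
  exact Submodule.smul_mem _ _ (Submodule.mem_span_singleton_self x)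

/-- `t² + t + ζ` without roots forces `4ζ - 1 ≠ 0`. -/
theorem four_mul_sub_one_ne_zero {ζ : F} (hζ : ∀ t : F, t ^ 2 + t + ζ ≠ 0) : 4 * ζ - 1 ≠ 0 := by
  intro h
  by_cases h2 : (2 : F) = 0
  · have : (4 : F) = 0 := by
      have : (4 : F) = 2 * 2 := by norm_num
      rw [this, h2, mul_zero]
    rw [this, zero_mul, zero_sub] at h
    exact one_ne_zero (neg_eq_zero.mp h)
  · apply hζ (-1 / 2)
    field_simp
    linear_combination h

end Cfsg.Agent.Helper13
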