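import Mathlib
import Cfsg.Agent.Helper13.StdForms
import Cfsg.Agent.S2616
import Cfsg.Agent.S0760

set_option autoImplicit false

namespace Cfsg.Agent.Helper13

open Module Matrix Cfsg.Agent.S2617 Cfsg.Agent.S2562

/-- Transfer of a faithful linear action preserving `QV` along a linear isometry to coordinates:
an embedding into the isometry group of the coordinate form. -/
theorem exists_embedding_of_isometry {G : Type*} [Group G] {F V : Type*} [Field F]
    [AddCommGroup V] [Module F V] {I : Type} [Fintype I] [DecidableEq I]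
    (ρ : G →* Module.End F V) (hρ : Function.Injective ρ)
    (QV : V → F) (hQ : ∀ g v, QV (ρ g v) = QV v) (Q₀ : (I → F) → F)
    (g₀ : V ≃ₗ[F] (I → F)) (hg₀ : ∀ v, Q₀ (g₀ v) = QV v) :
    ∃ φ : G →* ↥(Cfsg.isometryGroup F Q₀), Function.Injective φ := by
  classical
  let c : Module.End F V →* Matrix I I F :=
    ((LinearMap.toMatrixAlgEquiv' (R := F) (n := I)) : Module.End F (I → F) →* Matrix I I F).comp
      (g₀.conjRingEquiv : Module.End F V →* Module.End F (I → F))
  have hc : ∀ f : Module.End F V, ∀ u : I → F, c f *ᵥ u = g₀ (f (g₀.symm u)) := by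
    intro f u
    show LinearMap.toMatrix' (g₀.conj f) *ᵥ u = _
    rw [LinearMap.toMatrix'_mulVec, LinearEquiv.conj_apply]
    rfl
  have hcinj : Function.Injective c := by
    intro f f' h
    apply LinearMap.ext
    intro v
    have h1 := hc f (g₀ v)
    rw [h, hc f' (g₀ v)] at h1
    simpa using (g₀.injective h1).symm
  let φ₀ : G →* GL I F := (c.comp ρ).toHomUnits
  have hφ₀ : ∀ g, ((φ₀ g : GL I F) : Matrix I I F) = c (ρ g) := fun g =>
    MonoidHom.coe_toHomUnits _ g
  have hmem : ∀ g, φ₀ g ∈ Cfsg.isometryGroup F Q₀ := by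
    intro g u _
    show Q₀ (((φ₀ g : GL I F) : Matrix I I F) *ᵥ u) = Q₀ u
    rw [hφ₀, hc, hg₀, hQ, ← hg₀, LinearEquiv.apply_symm_apply]
  refine ⟨φ₀.codRestrict _ hmem, ?_⟩
  intro g h hgh
  have h1 : φ₀ g = φ₀ h := congrArg Subtype.val hgh
  have h2 : c (ρ g) = c (ρ h) := by rw [← hφ₀, ← hφ₀, h1]
  exact hρ (hcinj h2)

/-- Recognition of the plus type: a nondegenerate quadratic form in dimension `2m` over a finite
field with a totally singular subspace of dimension `m` is the hyperbolic form in suitable
coordinates. -/
theorem exists_isometry_plus {F V : Type*} [Field F] [Finite F] [AddCommGroup V] [Module F V]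
    [FiniteDimensional F V] {m : ℕ} (hV : finrank F V = 2 * m) (Q : QuadraticForm F V)
    (hQ : (QuadraticMap.polarBilin Q).Nondegenerate)
    (W : Submodule F V) (hW : ∀ w ∈ W, Q w = 0) (hWm : finrank F W = m) :
    ∃ g : V ≃ₗ[F] (Fin m ⊕ Fin m → F), ∀ v, Cfsg.quadFormPlus m F (g v) = Q v := by
  classical
  rcases Nat.eq_zero_or_pos m with rfl | hm
  · have h0 : finrank F V = finrank F (Fin 0 ⊕ Fin 0 → F) := by
      rw [hV]; simp
    refine ⟨LinearEquiv.ofFinrankEq _ _ h0, ?_⟩
    intro v
    have : Subsingleton V := by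
      apply (Module.finrank_zero_iff (R := F)).mp
      rw [hV]
    rw [Subsingleton.elim v 0]
    simp [Cfsg.quadFormPlus]
  rcases Cfsg.Agent.S2616.result hm hV Q hQ with ⟨b, h1, h2, h3⟩ |
    ⟨b, ζ, hζ, h1, h2, h3, h4, hx, hxy, hy⟩
  · refine ⟨b.equivFun, ?_⟩
    intro v
    rw [← Qp_apply]
    symm
    apply eq_comp_equivFun b Q (Qp m F)
    · intro k
      rw [Qp_single]
      rcases k with i | i
      · exact (h1 i).1
      · exact (h1 i).2
    · intro k l
      rw [Qp_polar_single]
      rcases k with i | i <;> rcases l with j | j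
      · rw [(h3 i j).1]; simp
      · rw [h2 i j]; simp [Matrix.one_apply]
      · rw [QuadraticMap.polar_comm, h2 j i]; simp [Matrix.one_apply, eq_comm]
      · rw [(h3 i j).2]; simp
  · exfalso
    -- the form is of minus type in the coordinates of `b`
    set g := b.equivFun with hgdef
    have hg : ∀ v, Cfsg.quadFormMinus (m - 1) F 1 ζ (g v) = Q v := by
      intro v
      rw [← Qm_apply]
      symm
      apply eq_comp_equivFun b Q (Qm (m - 1) F 1 ζ)
      · intro k
        rw [Qm_single]
        rcases k with (i | i) | k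
        · exact (h1 i).1
        · exact (h1 i).2
        · fin_cases k
          · exact hx
          · exact hy
      · intro k l
        rw [Qm_polar_single]
        rcases k with (i | i) | k <;> rcases l with (j | j) | l
        · rw [(h3 i j).1]; simp
        · rw [h2 i j]; simp [Matrix.one_apply]
        · rw [(h4 i l).1]; simp
        · rw [QuadraticMap.polar_comm, h2 j i]; simp [Matrix.one_apply, eq_comm]
        · rw [(h3 i j).2]; simp
        · rw [(h4 i l).2]; simp
        · rw [QuadraticMap.polar_comm, (h4 j k).1]; simp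
        · rw [QuadraticMap.polar_comm, (h4 j k).2]; simp
        · fin_cases k <;> fin_cases l
          · show QuadraticMap.polar Q (b (Sum.inr 0)) (b (Sum.inr 0)) = _
            rw [polar_self', hx]; simp
          · show QuadraticMap.polar Q (b (Sum.inr 0)) (b (Sum.inr 1)) = _
            rw [hxy]; simp
          · show QuadraticMap.polar Q (b (Sum.inr 1)) (b (Sum.inr 0)) = _
            rw [QuadraticMap.polar_comm, hxy]; simp
          · show QuadraticMap.polar Q (b (Sum.inr 1)) (b (Sum.inr 1)) = _
            rw [polar_self', hy]; simp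
    set W₁ : Submodule F V :=
      LinearMap.range (g.symm.toLinearMap ∘ₗ iE (m - 1) F) with hW₁
    have hfr₁ : Module.finrank F W₁ = m - 1 := by
      rw [hW₁, LinearMap.finrank_range_of_inj]
      · simp
      · intro x y h
        apply iE_inj
        apply g.symm.injective
        simpa using h
    have h₁ : ∀ w ∈ W₁, Q w = 0 := by
      rintro w ⟨x, rfl⟩
      rw [← hg]
      simp [minus_iE]
    have hmax₁ : ∀ W' : Submodule F V, W₁ ≤ W' → (∀ w ∈ W', Q w = 0) → W' = W₁ := by
      intro W' hle hW'
      apply le_antisymm _ hle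
      intro w hw
      have hQw : Cfsg.quadFormMinus (m - 1) F 1 ζ (g w) = 0 := by
        rw [hg]; exact hW' w hw
      have hy' : ∀ i, (g w) (Sum.inl (Sum.inr i)) = 0 := by
        intro i
        have hmem : g.symm (iE (m - 1) F (Pi.single i 1)) ∈ W' := hle ⟨Pi.single i 1, rfl⟩
        have h1 := hW' _ (W'.add_mem hw hmem)
        rw [← hg, map_add, LinearEquiv.apply_symm_apply, minus_add_iE_single, hQw,
          zero_add] at h1
        exact h1
      have hN : (g w) (Sum.inr 0) ^ 2 + (g w) (Sum.inr 0) * (g w) (Sum.inr 1)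
          + ζ * (g w) (Sum.inr 1) ^ 2 = 0 := by
        have := hQw
        simp only [Cfsg.quadFormMinus, hy', mul_zero, Finset.sum_const_zero, zero_add,
          one_mul] at this
        exact this
      have hz1 : (g w) (Sum.inr 1) = 0 := by
        by_contra hne
        apply hζ ((g w) (Sum.inr 0) / (g w) (Sum.inr 1))
        field_simp
        linear_combination hN
      have hz0 : (g w) (Sum.inr 0) = 0 := by
        rw [hz1] at hN
        simpa using hN
      refine ⟨fun i => (g w) (Sum.inl (Sum.inl i)), ?_⟩
      rw [LinearMap.comp_apply]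
      apply g.injective
      rw [LinearEquiv.coe_coe, LinearEquiv.apply_symm_apply]
      funext j
      rcases j with (j | j) | j
      · simp [iE]
      · simp [iE, hy']
      · fin_cases j
        · simpa [iE] using hz0.symm
        · simpa [iE] using hz1.symm
    have := Cfsg.Agent.S0760.le_of_max Q hQ W₁ W h₁ hW hmax₁
    omega

end Cfsg.Agent.Helper13
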