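import Mathlib
import Cfsg.Agent.Helper1.QP63Defs
import Cfsg.Agent.Helper25.QPAlpha
import Cfsg.Agent.Helper23.QP2IF
import Cfsg.Agent.Helper23.QPTRANS

set_option autoImplicit false

/-! Board `s5063pieces`, piece NRM: the components `Lc part i` are normal in `G`. -/

noncomputable section

namespace Cfsg.Agent.QP63

open Cfsg Cfsg.Agent.Helper25.QP Cfsg.Agent.Helper25.QuadPair Cfsg.Agent.QPP

variable {k : Type*} [Field k] {M : Type*} [AddCommGroup M] [Module k M]

local notation "GLkM" => LinearMap.GeneralLinearGroup k M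

/-- an element of the normalizer fixes the subgroup under conjugation -/
theorem NRM_aux_conjBy {Γ : Type*} [Group Γ] (L : Subgroup Γ) {g : Γ}
    (hg : g ∈ Subgroup.normalizer (L : Set Γ)) : conjBy L g = L := by
  ext x
  constructor
  · rintro ⟨y, hy, rfl⟩
    exact (Subgroup.mem_normalizer_iff.mp hg y).mp hy
  · intro hx
    have hg' : g⁻¹ ∈ Subgroup.normalizer (L : Set Γ) := Subgroup.inv_mem _ hg
    refine ⟨g⁻¹ * x * g, ?_, ?_⟩
    · have := (Subgroup.mem_normalizer_iff.mp hg' x).mp hx
      simpa using this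
    · show g * (g⁻¹ * x * g) * g⁻¹ = x
      group

/-- the components are normal in `G` -/
theorem NRM {G : Subgroup GLkM} {r : ℕ} {part : Fin r → Set (Subgroup GLkM)}
    (hP : Parts G part) (h74 : H74 G) (i : Fin r) :
    ∀ g ∈ G, conjBy (Lc part i) g = Lc part i := by
  have hsig : ∀ j, ∀ A ∈ part j, A ∈ quadraticRootSubgroups G := by
    intro j A hA
    rw [← hP.cover]
    exact Set.mem_iUnion.mpr ⟨j, hA⟩
  have hLG0 : Lc part i ≤ G0 G := by
    refine iSup₂_le fun A hA => ?_
    exact le_iSup₂_of_le A (hsig i A hA) le_rfl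
  have hj : ∀ j, Lc part j ≤ Subgroup.normalizer (Lc part i : Set GLkM) := by
    intro j
    by_cases hji : j = i
    · rw [hji]; exact Subgroup.le_normalizer
    · have hc := hP.comm i j (fun h => hji h.symm)
      rw [Subgroup.commutator_eq_bot_iff_le_centralizer] at hc
      have hc' : Lc part j ≤ Subgroup.centralizer (Lc part i : Set GLkM) := by
        intro y hy
        rw [Subgroup.mem_centralizer_iff]
        intro x hx
        exact (Subgroup.mem_centralizer_iff.mp (hc hx) y hy).symm
      exact hc'.trans (Subgroup.centralizer_le_normalizer _)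
  have hG0 : G0 G ≤ Subgroup.normalizer (Lc part i : Set GLkM) := by
    refine iSup₂_le fun A hA => ?_
    rw [← hP.cover] at hA
    obtain ⟨j, hAj⟩ := Set.mem_iUnion.mp hA
    exact (le_iSup₂_of_le A hAj le_rfl : A ≤ Lc part j).trans (hj j)
  have hC : G ⊓ Subgroup.centralizer (G0 G : Set GLkM)
      ≤ Subgroup.normalizer (Lc part i : Set GLkM) :=
    inf_le_right.trans ((Subgroup.centralizer_le hLG0).trans (Subgroup.centralizer_le_normalizer _))
  have hGn : G ≤ Subgroup.normalizer (Lc part i : Set GLkM) := by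
    rw [← h74]
    exact sup_le hG0 hC
  intro g hg
  exact NRM_aux_conjBy _ (hGn hg)

end Cfsg.Agent.QP63

end
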