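import Mathlib
import Cfsg.Agent.Helper25.QPDefs2
import Cfsg.Agent.Helper25.QPAct
import Cfsg.Agent.Helper25.UnipAlg
import Cfsg.Agent.Helper4.QPROOT
import Cfsg.Agent.Helper15.QPFIXC
import Cfsg.Agent.Helper18.QP2RS

set_option autoImplicit false
set_option linter.unusedSimpArgs false
set_option linter.unusedVariables false

/-! Board `s5068pieces`, piece CO: the common opposite (polynomial trick at `c = 0, 1, -1`). -/

noncomputable section

universe u v

namespace Cfsg.Agent.QP68

open Cfsg Cfsg.Agent.Helper25.QP Cfsg.Agent.Helper25.QuadPair Cfsg.Agent.QPP Cfsg.Agent.Helper25.Unip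

variable {k : Type u} [Field k] {M : Type v} [AddCommGroup M] [Module k M]

local notation "GLkM" => LinearMap.GeneralLinearGroup k M

theorem CO_aux_inv1 {N : Module.End k M} (hN : N * N = 0) : (1 - N) * (1 + N) = 1 := by
  have : (1 - N) * (1 + N) = 1 - N * N := by noncomm_ring
  rw [this, hN, sub_zero]

theorem CO_aux_inv2 {N : Module.End k M} (hN : N * N = 0) : (1 + N) * (1 - N) = 1 := by
  have : (1 + N) * (1 - N) = 1 - N * N := by noncomm_ring
  rw [this, hN, sub_zero]

theorem CO_aux_form {a b : Module.End k M} (h2 : b * a * b = 0) (c : k) :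
    (1 + c • b) * a * (1 - c • b) = a - c • (a * b - b * a) := by
  have e : (1 + c • b) * a * (1 - c • b)
      = a - c • (a * b - b * a) - (c * c) • (b * a * b) := by
    simp only [mul_add, add_mul, mul_sub, sub_mul, mul_one, one_mul, smul_mul_assoc, mul_smul_comm,
      smul_sub, smul_add, smul_smul, mul_assoc]
    module
  rw [e, h2, smul_zero, sub_zero]

theorem CO [FiniteDimensional k M] (hk2 : ringChar k ≠ 2) {G : Subgroup GLkM} {d : ℕ}
    (hmin : MinRank G d) {a b n' : Module.End k M} (ha : Qd G d a) (hb : Qd G d b) (hn : Qd G d n')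
    (h1 : a * b * a = 0) (h2 : b * a * b = 0) (hnu : ¬ UnipPair (a * b - b * a) n') :
    ∃ c : k, ¬ UnipPair ((1 + c • b) * a * (1 - c • b)) n' := by
  by_contra hcon
  push Not at hcon
  have h2' : (2 : k) ≠ 0 := Ring.two_ne_zero hk2
  -- the conjugates of `a` are again in `Qd`
  have hQd : ∀ c : k, QFam G ((1 + c • b) * a * (1 - c • b)) ∧
      Module.finrank k (LinearMap.range ((1 + c • b) * a * (1 - c • b))) = d := by
    intro c
    have hbb : (c • b) * (c • b) = 0 := (hb.1.smul c).1
    constructor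
    · have := ha.1.conj_fam hb.1 (-c)
      simpa only [neg_smul, sub_neg_eq_add, ← sub_eq_add_neg] using this
    · rw [← ha.2]
      apply finrank_range_conj
      · exact CO_aux_inv1 hbb
      · exact CO_aux_inv2 hbb
  have hstar : ∀ c : k, (a - c • (a * b - b * a)) * n' * (a - c • (a * b - b * a)) = 0 := by
    intro c
    obtain ⟨m, hm⟩ := hcon c
    have := (star h2' hmin m (hQd c).1 hn.1 (hQd c).2 hn.2 hm).1
    rwa [CO_aux_form h2] at this
  have e0 := hstar 0
  have e1 := hstar 1
  have em := hstar (-1)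
  simp only [zero_smul, sub_zero, one_smul, neg_smul, sub_neg_eq_add] at e0 e1 em
  set c₀ : Module.End k M := a * b - b * a with hc₀
  have key : c₀ * n' * c₀ + c₀ * n' * c₀ = 0 := by
    calc c₀ * n' * c₀ + c₀ * n' * c₀
        = (a - c₀) * n' * (a - c₀) + (a + c₀) * n' * (a + c₀) - (a * n' * a + a * n' * a) := by
          noncomm_ring
      _ = 0 := by rw [e1, em, e0]; simp
  have key2 : (2 : k) • (c₀ * n' * c₀) = 0 := by rw [two_smul]; exact key
  have key3 : c₀ * n' * c₀ = 0 := (smul_eq_zero.1 key2).resolve_left h2'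
  apply hnu
  refine ⟨2, ?_⟩
  rw [pow_two]
  calc c₀ * n' * (c₀ * n') = (c₀ * n' * c₀) * n' := by simp only [mul_assoc]
    _ = 0 := by rw [key3, zero_mul]

end Cfsg.Agent.QP68

end
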