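import Mathlib
import Cfsg.Agent.Helper25.QPDefs
import Cfsg.Agent.Helper20.QPFLAG

set_option autoImplicit false

/-! Board `qppieces`, piece DEPTH: `Dep_comm` (depth of a commutator) and `NILP`
(long iterated commutators of `H` are trivial on `M₀`). -/

noncomputable section

namespace Cfsg.Agent.QPP

open Cfsg Cfsg.Agent.Helper25.QP Cfsg.Agent.Helper25.QuadPair Polynomial

variable {k : Type*} [Field k] {M : Type*} [AddCommGroup M] [Module k M]

local notation "GLkM" => LinearMap.GeneralLinearGroup k M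

theorem DEPTH_aux_mul {V : ℕ → Submodule k M} {s t : ℕ} {w w' : Module.End k M}
    (hw : Dep V s w) (hw' : Dep V t w') : Dep V (s + t) (w * w') := by
  intro i
  rintro _ ⟨m, hm, rfl⟩
  have h1 : w' m ∈ V (i + s) := by
    apply hw' (i + s)
    refine ⟨m, ?_, rfl⟩
    have : i + s + t = i + (s + t) := by ring
    rw [this]; exact hm
  exact hw i ⟨w' m, h1, rfl⟩

theorem DEPTH_aux_add {V : ℕ → Submodule k M} {s : ℕ} {w w' : Module.End k M}
    (hw : Dep V s w) (hw' : Dep V s w') : Dep V s (w + w') := by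
  intro i
  rintro _ ⟨m, hm, rfl⟩
  exact (V i).add_mem (hw i ⟨m, hm, rfl⟩) (hw' i ⟨m, hm, rfl⟩)

theorem DEPTH_aux_sub {V : ℕ → Submodule k M} {s : ℕ} {w w' : Module.End k M}
    (hw : Dep V s w) (hw' : Dep V s w') : Dep V s (w - w') := by
  intro i
  rintro _ ⟨m, hm, rfl⟩
  exact (V i).sub_mem (hw i ⟨m, hm, rfl⟩) (hw' i ⟨m, hm, rfl⟩)

theorem DEPTH_aux_neg {V : ℕ → Submodule k M} {s : ℕ} {w : Module.End k M}
    (hw : Dep V s w) : Dep V s (-w) := by
  intro i
  rintro _ ⟨m, hm, rfl⟩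
  exact (V i).neg_mem (hw i ⟨m, hm, rfl⟩)

theorem DEPTH_aux_smul {V : ℕ → Submodule k M} {s : ℕ} {w : Module.End k M}
    (hw : Dep V s w) (c : k) : Dep V s (c • w) := by
  intro i
  rintro _ ⟨m, hm, rfl⟩
  exact (V i).smul_mem c (hw i ⟨m, hm, rfl⟩)

theorem DEPTH_aux_zero (V : ℕ → Submodule k M) (s : ℕ) : Dep V s (0 : Module.End k M) := by
  intro i
  rintro _ ⟨m, _, rfl⟩
  exact (V i).zero_mem

theorem DEPTH_aux_one (V : ℕ → Submodule k M) : Dep V 0 (1 : Module.End k M) := by
  intro i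
  rintro _ ⟨m, hm, rfl⟩
  exact hm

theorem DEPTH_aux_weaken {V : ℕ → Submodule k M} (hV : Monotone V) {s t : ℕ} (hst : t ≤ s)
    {w : Module.End k M} (hw : Dep V s w) : Dep V t w := by
  intro i
  rintro _ ⟨m, hm, rfl⟩
  exact hw i ⟨m, hV (by omega : i + t ≤ i + s) hm, rfl⟩

theorem DEPTH_aux_comm_eq (g h : GLkM) :
    ((g * h * g⁻¹ * h⁻¹ : GLkM) : Module.End k M) - 1
      = ((((g : Module.End k M) - 1) * ((h : Module.End k M) - 1)
          - ((h : Module.End k M) - 1) * ((g : Module.End k M) - 1))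
          * ((g⁻¹ : GLkM) : Module.End k M)) * ((h⁻¹ : GLkM) : Module.End k M) := by
  have e : (((g : Module.End k M) - 1) * ((h : Module.End k M) - 1)
      - ((h : Module.End k M) - 1) * ((g : Module.End k M) - 1))
      = (g : Module.End k M) * (h : Module.End k M) - (h : Module.End k M) * (g : Module.End k M) := by
    noncomm_ring
  rw [e, sub_mul, sub_mul, mul_assoc (h : Module.End k M) (g : Module.End k M), Units.mul_inv,
    mul_one, Units.mul_inv]
  simp only [Units.val_mul]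

theorem Dep_comm (V : ℕ → Submodule k M) (hV : Monotone V) (s t : ℕ) (g h : GLkM)
    (hg : Dep V s ((g : Module.End k M) - 1)) (hh : Dep V t ((h : Module.End k M) - 1))
    (hg' : Dep V 0 ((g⁻¹ : GLkM) : Module.End k M)) (hh' : Dep V 0 ((h⁻¹ : GLkM) : Module.End k M)) :
    Dep V (s + t) (((g * h * g⁻¹ * h⁻¹ : GLkM) : Module.End k M) - 1) := by
  rw [DEPTH_aux_comm_eq]
  have h1 : Dep V (s + t) (((g : Module.End k M) - 1) * ((h : Module.End k M) - 1)) :=
    DEPTH_aux_mul hg hh
  have h2 : Dep V (s + t) (((h : Module.End k M) - 1) * ((g : Module.End k M) - 1)) := by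
    have := DEPTH_aux_mul hh hg
    rwa [add_comm] at this
  have h3 := DEPTH_aux_mul (DEPTH_aux_mul (DEPTH_aux_sub h1 h2) hg') hh'
  simpa using h3

theorem DEPTH_aux_mul_sub_one (g h : Module.End k M) :
    g * h - 1 = (g - 1) * (h - 1) + (g - 1) + (h - 1) := by noncomm_ring

/-- every element of `H` has depth one (together with its inverse) for a flag lowered by `a`, `b` -/
theorem DEPTH_aux_Hgrp (a b : Module.End k M) (ha : a * a = 0) (hb : b * b = 0)
    (V : ℕ → Submodule k M) (hV : Monotone V)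
    (hVa : ∀ i, (V (i + 1)).map a ≤ V i) (hVb : ∀ i, (V (i + 1)).map b ≤ V i) :
    ∀ g ∈ Hgrp a b ha hb, Dep V 1 ((g : Module.End k M) - 1) ∧
      Dep V 1 (((g⁻¹ : GLkM) : Module.End k M) - 1) := by
  have hDa : Dep V 1 a := hVa
  have hDb : Dep V 1 b := hVb
  intro g hg
  unfold Hgrp at hg
  induction hg using Subgroup.closure_induction with
  | mem x hx =>
    rcases hx with ⟨c, rfl⟩ | ⟨c, rfl⟩
    · constructor
      · have : ((uu a ha c : GLkM) : Module.End k M) - 1 = c • a := by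
          rw [val_uu, add_sub_cancel_left]
        rw [this]; exact DEPTH_aux_smul hDa c
      · have : (((uu a ha c)⁻¹ : GLkM) : Module.End k M) - 1 = -(c • a) := by
          show (1 - c • a) - 1 = -(c • a)
          abel
        rw [this]; exact DEPTH_aux_neg (DEPTH_aux_smul hDa c)
    · constructor
      · have : ((uu b hb c : GLkM) : Module.End k M) - 1 = c • b := by
          rw [val_uu, add_sub_cancel_left]
        rw [this]; exact DEPTH_aux_smul hDb c
      · have : (((uu b hb c)⁻¹ : GLkM) : Module.End k M) - 1 = -(c • b) := by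
          show (1 - c • b) - 1 = -(c • b)
          abel
        rw [this]; exact DEPTH_aux_neg (DEPTH_aux_smul hDb c)
  | one =>
    constructor
    · simpa using DEPTH_aux_zero V 1
    · simpa using DEPTH_aux_zero V 1
  | mul x y _ _ hx hy =>
    constructor
    · rw [Units.val_mul, DEPTH_aux_mul_sub_one]
      exact DEPTH_aux_add (DEPTH_aux_add
        (DEPTH_aux_weaken hV (by omega) (DEPTH_aux_mul hx.1 hy.1)) hx.1) hy.1
    · rw [mul_inv_rev, Units.val_mul, DEPTH_aux_mul_sub_one]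
      exact DEPTH_aux_add (DEPTH_aux_add
        (DEPTH_aux_weaken hV (by omega) (DEPTH_aux_mul hy.2 hx.2)) hy.2) hx.2
  | inv x _ hx =>
    constructor
    · exact hx.2
    · rw [inv_inv]; exact hx.1

theorem DEPTH_aux_dep0 {V : ℕ → Submodule k M} (hV : Monotone V) {w : Module.End k M}
    (hw : Dep V 1 (w - 1)) : Dep V 0 w := by
  have : w = 1 + (w - 1) := by abel
  rw [this]
  exact DEPTH_aux_add (DEPTH_aux_one V) (DEPTH_aux_weaken hV (by omega) hw)

theorem DEPTH_aux_icomm_mem {Γ : Type*} [Group Γ] (H : Subgroup Γ) {g h : Γ} (hg : g ∈ H)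
    (hh : h ∈ H) : ∀ j : ℕ, icomm h j g ∈ H := by
  intro j
  induction j with
  | zero => exact hg
  | succ j ih =>
    show icomm h j g * h * (icomm h j g)⁻¹ * h⁻¹ ∈ H
    exact H.mul_mem (H.mul_mem (H.mul_mem ih hh) (H.inv_mem ih)) (H.inv_mem hh)

/-- the group `H` is unipotent on `M₀`: long iterated commutators are trivial on `M₀` -/
theorem NILP [FiniteDimensional k M] (a b : Module.End k M) (ha : a * a = 0) (hb : b * b = 0) :
    ∃ n : ℕ, ∀ g ∈ Hgrp a b ha hb, ∀ h ∈ Hgrp a b ha hb, ∀ m ∈ M0 a b,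
      ((icomm h n g : GLkM) : Module.End k M) m = m := by
  obtain ⟨V, n, hV0, hVn, hV, hVa, hVb⟩ := FLAG a b ha hb
  refine ⟨n, ?_⟩
  intro g hg h hh m hm
  have hH := DEPTH_aux_Hgrp a b ha hb V hV hVa hVb
  have key : ∀ j : ℕ, Dep V (j + 1) (((icomm h j g : GLkM) : Module.End k M) - 1) := by
    intro j
    induction j with
    | zero => simpa [icomm] using (hH g hg).1
    | succ j ih =>
      have hmem := DEPTH_aux_icomm_mem (Hgrp a b ha hb) hg hh j
      show Dep V (j + 1 + 1) (((icomm h j g * h * (icomm h j g)⁻¹ * h⁻¹ : GLkM) :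
        Module.End k M) - 1)
      exact Dep_comm V hV (j + 1) 1 (icomm h j g) h ih (hH h hh).1
        (DEPTH_aux_dep0 hV (hH _ hmem).2) (DEPTH_aux_dep0 hV (hH h hh).2)
  have h1 := key n 0
  rw [hV0] at h1
  have hm' : m ∈ V (0 + (n + 1)) := by
    have : V n ≤ V (0 + (n + 1)) := hV (by omega)
    exact this (hVn ▸ hm)
  have h2 : (((icomm h n g : GLkM) : Module.End k M) - 1) m ∈ (⊥ : Submodule k M) :=
    h1 ⟨m, hm', rfl⟩
  rw [Submodule.mem_bot, LinearMap.sub_apply, sub_eq_zero] at h2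
  exact h2

end Cfsg.Agent.QPP

end
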