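import Mathlib

set_option autoImplicit false

/-! # S4504 piece M-CONJ: conjugating two idempotents that agree modulo a nilpotent ideal. -/

namespace Cfsg.Agent.S4504P

theorem conj_idempotents {R : Type*} [Ring R] (ε π : R) (hε : ε * ε = ε) (hπ : π * π = π) (m : ℕ)
    (hnil : ((ε - π) * (2 * π - 1)) ^ m = 0) :
    IsUnit (1 + (ε - π) * (2 * π - 1)) ∧
      ε * (1 + (ε - π) * (2 * π - 1)) = (1 + (ε - π) * (2 * π - 1)) * π := by
  refine ⟨IsNilpotent.isUnit_one_add ⟨m, hnil⟩, ?_⟩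
  have h1 : (2 * π - 1) * π = π := by
    rw [sub_mul, one_mul, mul_assoc, hπ, two_mul, add_sub_cancel_right]
  have h2 : (ε - ε * π) * π = 0 := by
    rw [sub_mul, mul_assoc, hπ, sub_self]
  have h3 : ε * (ε - π) = ε - ε * π := by
    rw [mul_sub, hε]
  have hL : ε * (1 + (ε - π) * (2 * π - 1)) = ε * π := by
    rw [mul_add, mul_one, ← mul_assoc, h3, mul_sub, mul_one, two_mul, mul_add, h2, add_zero,
      zero_sub]
    abel
  have hR : (1 + (ε - π) * (2 * π - 1)) * π = ε * π := by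
    rw [add_mul, one_mul, mul_assoc, h1, sub_mul, hπ]
    abel
  rw [hL, hR]

end Cfsg.Agent.S4504P
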