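import Mathlib
import Cfsg.Agent.Helper1.S4504MDefs

set_option autoImplicit false

/-! # S4504 piece M-IDEAL: the nilpotent ideal of `P`-endomorphisms with image in `(x-1)A`. -/

namespace Cfsg.Agent.S4504P

open Cfsg.Agent.Helper5.GC Module

/-- membership in the nilpotent ideal of `P`-endomorphisms with image in `(x-1)A` -/
def InI {k : Type*} [Field k] {G : Type*} [Group G] {A : Type*} [AddCommGroup A] [Module k A]
    (ρ : Representation k G A) (x : G) (φ : Module.End k A) : Prop :=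
  Commute φ (ρ x) ∧ LinearMap.range φ ≤ LinearMap.range (uop ρ x)

section Ideal
variable {k : Type*} [Field k] {G : Type*} [Group G] {A : Type*} [AddCommGroup A] [Module k A]
  (ρ : Representation k G A) (x : G)

private theorem inI_iff (φ : Module.End k A) :
    InI ρ x φ ↔ Commute φ (ρ x) ∧ ∀ v, ∃ w, uop ρ x w = φ v := by
  unfold InI
  constructor
  · rintro ⟨h1, h2⟩
    exact ⟨h1, fun v => h2 (LinearMap.mem_range_self φ v)⟩
  · rintro ⟨h1, h2⟩
    refine ⟨h1, ?_⟩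
    rintro _ ⟨v, rfl⟩
    exact h2 v

private theorem commute_uop {φ : Module.End k A} (h : Commute φ (ρ x)) : Commute φ (uop ρ x) := by
  unfold uop
  exact h.sub_right (Commute.one_right _)

theorem InI.add {φ ψ : Module.End k A} (h1 : InI ρ x φ) (h2 : InI ρ x ψ) : InI ρ x (φ + ψ) := by
  rw [inI_iff] at h1 h2 ⊢
  refine ⟨h1.1.add_left h2.1, fun v => ?_⟩
  obtain ⟨w1, hw1⟩ := h1.2 v
  obtain ⟨w2, hw2⟩ := h2.2 v
  exact ⟨w1 + w2, by rw [map_add, hw1, hw2, LinearMap.add_apply]⟩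

theorem InI.neg {φ : Module.End k A} (h1 : InI ρ x φ) : InI ρ x (-φ) := by
  rw [inI_iff] at h1 ⊢
  refine ⟨h1.1.neg_left, fun v => ?_⟩
  obtain ⟨w1, hw1⟩ := h1.2 v
  exact ⟨-w1, by rw [map_neg, hw1, LinearMap.neg_apply]⟩

theorem InI.sub {φ ψ : Module.End k A} (h1 : InI ρ x φ) (h2 : InI ρ x ψ) : InI ρ x (φ - ψ) := by
  rw [sub_eq_add_neg]
  exact InI.add ρ x h1 (InI.neg ρ x h2)

theorem InI.mul_left {φ ψ : Module.End k A} (h1 : InI ρ x φ) (h2 : Commute ψ (ρ x)) :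
    InI ρ x (ψ * φ) := by
  rw [inI_iff] at h1 ⊢
  refine ⟨h2.mul_left h1.1, fun v => ?_⟩
  obtain ⟨w1, hw1⟩ := h1.2 v
  refine ⟨ψ w1, ?_⟩
  have hc := commute_uop ρ x h2
  have h3 : (uop ρ x * ψ) w1 = (ψ * uop ρ x) w1 := by rw [hc.eq]
  rw [Module.End.mul_apply, Module.End.mul_apply] at h3
  rw [h3, hw1, Module.End.mul_apply]

theorem InI.mul_right {φ ψ : Module.End k A} (h1 : InI ρ x φ) (h2 : Commute ψ (ρ x)) :
    InI ρ x (φ * ψ) := by
  rw [inI_iff] at h1 ⊢
  refine ⟨h1.1.mul_left h2, fun v => ?_⟩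
  obtain ⟨w1, hw1⟩ := h1.2 (ψ v)
  exact ⟨w1, by rw [hw1, Module.End.mul_apply]⟩

theorem InI.pow_eq_zero {φ : Module.End k A} (h1 : InI ρ x φ) (m : ℕ) (hm : uop ρ x ^ m = 0) :
    φ ^ m = 0 := by
  rw [inI_iff] at h1
  have hc := commute_uop ρ x h1.1
  have key : ∀ j : ℕ, ∀ v, ∃ w, (uop ρ x ^ j) w = (φ ^ j) v := by
    intro j
    induction j with
    | zero => intro v; exact ⟨v, by simp⟩
    | succ j ih =>
      intro v
      obtain ⟨w, hw⟩ := ih v
      obtain ⟨w', hw'⟩ := h1.2 w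
      refine ⟨w', ?_⟩
      rw [pow_succ, Module.End.mul_apply, hw', pow_succ', Module.End.mul_apply, ← hw]
      have h3 : (uop ρ x ^ j * φ) w = (φ * uop ρ x ^ j) w := by rw [(hc.pow_right j).eq]
      rw [Module.End.mul_apply, Module.End.mul_apply] at h3
      exact h3
  ext v
  obtain ⟨w, hw⟩ := key m v
  rw [← hw, hm]
  rfl

private theorem cj_trX (p : ℕ) (hxp : x ^ p = 1) (μ : Module.End k A) :
    cj ρ ρ x (trX ρ ρ x p μ) = trX ρ ρ x p μ := by
  unfold trX
  rw [cj_sum]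
  have h1 : ∀ i ∈ Finset.range p, cj ρ ρ x (cj ρ ρ (x ^ i) μ) = cj ρ ρ (x ^ (i + 1)) μ := by
    intro i _
    rw [← cj_mul, pow_succ']
  rw [Finset.sum_congr rfl h1]
  have h2 := Finset.sum_range_succ (fun i => cj ρ ρ (x ^ i) μ) p
  have h3 := Finset.sum_range_succ' (fun i => cj ρ ρ (x ^ i) μ) p
  rw [h3] at h2
  simp only [pow_zero, hxp] at h2
  exact add_right_cancel h2

theorem trX_inI (p : ℕ) [Fact p.Prime] [CharP k p] (hxp : x ^ p = 1)
    (hu : uop ρ x ^ (p - 1) = 0) (μ : Module.End k A) : InI ρ x (trX ρ ρ x p μ) := by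
  have hp : p.Prime := Fact.out
  rw [inI_iff]
  constructor
  · -- commutes with `ρ x`
    have h := cj_trX ρ x p hxp μ
    set S := trX ρ ρ x p μ with hS
    apply LinearMap.ext
    intro v
    have h1 := congrArg (fun F => F (ρ x v)) h
    simp only [cj_apply, rep_inv_apply] at h1
    rw [Module.End.mul_apply, Module.End.mul_apply]
    exact h1.symm
  · intro v
    have hpp : pplus ρ x p = 0 := by rw [pplus_eq, hu]
    -- the geometric sums
    refine ⟨∑ i ∈ Finset.range p,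
      (∑ j ∈ Finset.range i, ρ x ^ j) (μ (ρ (x ^ i)⁻¹ v)), ?_⟩
    rw [trX_apply, map_sum]
    have h2 : ∑ i ∈ Finset.range p, μ (ρ (x ^ i)⁻¹ v) = 0 := by
      rw [← map_sum]
      have h3 := sum_range_pow_inv (M := A) x p hp.pos hxp (fun g => ρ g v)
      rw [h3, ← pplus_apply, hpp]
      simp
    rw [← add_zero (∑ i ∈ Finset.range p, (uop ρ x) _), ← h2, ← Finset.sum_add_distrib]
    refine Finset.sum_congr rfl fun i _ => ?_
    have h4 : uop ρ x * ∑ j ∈ Finset.range i, ρ x ^ j = ρ (x ^ i) - 1 := by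
      unfold uop
      rw [mul_geom_sum, rep_pow]
    set w := μ (ρ (x ^ i)⁻¹ v) with hw
    have h5 : (uop ρ x * ∑ j ∈ Finset.range i, ρ x ^ j) w = (ρ (x ^ i) - 1) w := by rw [h4]
    rw [Module.End.mul_apply] at h5
    rw [h5, LinearMap.sub_apply, Module.End.one_apply, sub_add_cancel]

end Ideal

end Cfsg.Agent.S4504P
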