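import Mathlib

set_option autoImplicit false

/-! # S4504 piece M-IDEM: lifting an idempotent inside `k[e]`. -/

namespace Cfsg.Agent.S4504P

open Polynomial

theorem exists_idempotent_lift {k : Type*} [Field k] {R : Type*} [Ring R] [Algebra k R] (e : R)
    (m : ℕ) (h : (e * e - e) ^ m = 0) :
    ∃ ε ∈ Algebra.adjoin k {e}, ε * ε = ε ∧ ∃ r ∈ Algebra.adjoin k {e}, ε - e = (e * e - e) * r := by
  classical
  rcases Nat.eq_zero_or_pos m with rfl | hm
  · rw [pow_zero] at h
    have hsub : ∀ a b : R, a = b := fun a b => by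
      rw [← mul_one a, ← mul_one b, h, mul_zero, mul_zero]
    exact ⟨0, Subalgebra.zero_mem _, hsub _ _, 0, Subalgebra.zero_mem _, hsub _ _⟩
  have hm0 : m ≠ 0 := hm.ne'
  let P : k[X] := 1 - (1 - X ^ m) ^ m
  have hdvd : (X * X - X : k[X]) ∣ P - X := by
    have h0 : (X - C (0 : k)) ∣ P - X := by
      rw [dvd_iff_isRoot]
      simp [P, IsRoot, hm0]
    have h1 : (X - C (1 : k)) ∣ P - X := by
      rw [dvd_iff_isRoot]
      simp [P, IsRoot, hm0]
    have hcop : IsCoprime (X - C (0 : k)) (X - C (1 : k)) :=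
      isCoprime_X_sub_C_of_isUnit_sub (by simp)
    have h2 := hcop.mul_dvd h0 h1
    have h3 : (X * X - X : k[X]) = (X - C (0 : k)) * (X - C (1 : k)) := by
      rw [C_0, C_1, sub_zero, mul_sub, mul_one]
    rw [h3]
    exact h2
  obtain ⟨Q, hQ⟩ := hdvd
  have hmem : ∀ p : k[X], aeval e p ∈ Algebra.adjoin k {e} := by
    intro p
    rw [Algebra.adjoin_singleton_eq_range_aeval]
    exact ⟨p, rfl⟩
  have hP : aeval e P = 1 - (1 - e ^ m) ^ m := by
    simp [P]
  refine ⟨aeval e P, hmem P, ?_, aeval e Q, hmem Q, ?_⟩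
  · rw [hP]
    have hx : (e - e ^ 2) ^ m = 0 := by
      have : e - e ^ 2 = -(e * e - e) := by rw [pow_two, neg_sub]
      rw [this, neg_pow, h, mul_zero]
    exact isIdempotentElem_one_sub_one_sub_pow_pow e m hx
  · have h4 := congrArg (aeval e) hQ
    have h5 : aeval e (X * X - X : k[X]) = e * e - e := by
      rw [map_sub, map_mul, aeval_X]
    rw [map_mul, h5, map_sub (aeval e) P X, aeval_X] at h4
    exact h4

end Cfsg.Agent.S4504P
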