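import Mathlib
import Cfsg.Agent.Helper1.S4504MDefs

set_option autoImplicit false

/-! # S4504 piece M-ADJ: self-adjointness is inherited by `k[e]` and by relative traces. -/

namespace Cfsg.Agent.S4504P

open Cfsg.Agent.Helper5.GC Module

theorem selfAdjoint_of_mem_adjoin {k : Type*} [Field k] {A : Type*} [AddCommGroup A] [Module k A]
    (B : LinearMap.BilinForm k A) (e : Module.End k A) (he : ∀ a b, B (e a) b = B a (e b)) :
    ∀ φ ∈ Algebra.adjoin k {e}, ∀ a b, B (φ a) b = B a (φ b) := by
  have hpow : ∀ n : ℕ, ∀ a b, B ((e ^ n) a) b = B a ((e ^ n) b) := by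
    intro n
    induction n with
    | zero => intro a b; simp
    | succ n ih =>
      intro a b
      have h1 : (e ^ (n + 1)) a = e ((e ^ n) a) := by rw [pow_succ', Module.End.mul_apply]
      have h2 : (e ^ (n + 1)) b = (e ^ n) (e b) := by rw [pow_succ, Module.End.mul_apply]
      rw [h1, h2, he, ih]
  intro φ hφ a b
  rw [Algebra.adjoin_singleton_eq_range_aeval] at hφ
  obtain ⟨P, rfl⟩ := hφ
  have h1 : (Polynomial.aeval e) P = ∑ i ∈ Finset.range (P.natDegree + 1), P.coeff i • e ^ i :=
    Polynomial.aeval_eq_sum_range e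
  have h2 : ((Polynomial.aeval e).toRingHom : Polynomial k → Module.End k A) P
      = (Polynomial.aeval e) P := rfl
  show B ((Polynomial.aeval e) P a) b = B a ((Polynomial.aeval e) P b)
  rw [h1]
  simp only [LinearMap.sum_apply, LinearMap.smul_apply, map_sum, map_smul, hpow]

theorem selfAdjoint_relTr {k : Type*} [Field k] {G : Type*} [Group G] [Finite G]
    {A : Type*} [AddCommGroup A] [Module k A] (ρ : Representation k G A)
    (B : LinearMap.BilinForm k A) (hinv : ∀ g a b, B (ρ g a) (ρ g b) = B a b) (N : Subgroup G)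
    (π : Module.End k A) (hπ : ∀ a b, B (π a) b = B a (π b)) :
    ∀ a b, B (relTr ρ ρ N π a) b = B a (relTr ρ ρ N π b) := by
  have hmove : ∀ (g : G) (a b : A), B (ρ g a) b = B a (ρ g⁻¹ b) := by
    intro g a b
    have := hinv g⁻¹ (ρ g a) b
    rw [rep_inv_apply] at this
    exact this.symm
  have hcj : ∀ (g : G) (a b : A), B (cj ρ ρ g π a) b = B a (cj ρ ρ g π b) := by
    intro g a b
    rw [cj_apply, cj_apply, hmove, hπ]
    have := hmove g⁻¹ a (π (ρ g⁻¹ b))
    rw [inv_inv] at this
    exact this
  intro a b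
  unfold relTr cosetTerm
  simp only [LinearMap.sum_apply, map_sum, hcj]

end Cfsg.Agent.S4504P
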