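import Mathlib
import Cfsg.Agent.Helper1.S4504MDefs

set_option autoImplicit false

/-! # S4504 piece M-ADNIL: nilpotency degree of `Ad x - 1`. -/

namespace Cfsg.Agent.S4504P

open Cfsg.Agent.Helper5.GC Module

theorem uop_Ad_pow_eq_zero {k : Type*} [Field k] {G : Type*} [Group G]
    {M : Type*} [AddCommGroup M] [Module k M] (σ : Representation k G M) (x : G) (d : ℕ)
    (hd : 1 ≤ d) (h : uop σ x ^ d = 0) : uop (Ad σ) x ^ (2 * d - 1) = 0 := by
  set u : Module.End k M := uop σ x with hu
  have hu' : u = σ x - 1 := rfl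
  set L : Module.End k (Module.End k M) := LinearMap.mulLeft k (σ x) with hL
  set R : Module.End k (Module.End k M) := LinearMap.mulRight k (σ x⁻¹) with hR
  have hLR : Commute L R := LinearMap.commute_mulLeft_right (σ x) (σ x⁻¹)
  have hAd : Ad σ x = L * R := by
    apply LinearMap.ext
    intro φ
    rw [Ad_apply, Module.End.mul_apply, hL, hR, LinearMap.mulLeft_apply, LinearMap.mulRight_apply,
      mul_assoc]
  have hL1 : L - 1 = LinearMap.mulLeft k u := by
    apply LinearMap.ext
    intro φ
    rw [LinearMap.sub_apply, hL, LinearMap.mulLeft_apply, LinearMap.mulLeft_apply, hu', sub_mul,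
      one_mul, Module.End.one_apply]
  set c : Module.End k M := σ x⁻¹ - 1 with hc
  have hR1 : R - 1 = LinearMap.mulRight k c := by
    apply LinearMap.ext
    intro φ
    rw [LinearMap.sub_apply, hR, LinearMap.mulRight_apply, LinearMap.mulRight_apply, hc, mul_sub,
      mul_one, Module.End.one_apply]
  have hxx : σ x⁻¹ * σ x = 1 := by rw [← map_mul, inv_mul_cancel, map_one]
  have hxx' : σ x * σ x⁻¹ = 1 := by rw [← map_mul, mul_inv_cancel, map_one]
  have hcu : c = -(σ x⁻¹ * u) := by
    rw [hc, hu', mul_sub, hxx, mul_one, neg_sub]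
  have hcomm : Commute (σ x⁻¹) u := by
    rw [hu']
    refine Commute.sub_right ?_ (Commute.one_right _)
    show σ x⁻¹ * σ x = σ x * σ x⁻¹
    rw [hxx, hxx']
  have hcd : c ^ d = 0 := by
    rw [hcu, neg_pow, hcomm.mul_pow, h, mul_zero, mul_zero]
  have hLd : (L - 1) ^ d = 0 := by
    rw [hL1, LinearMap.pow_mulLeft, h, LinearMap.mulLeft_zero_eq_zero]
  have hRd : (R - 1) ^ d = 0 := by
    rw [hR1, LinearMap.pow_mulRight, hcd, LinearMap.mulRight_zero_eq_zero]
  have hL1R : Commute (L - 1) R := hLR.sub_left (Commute.one_left _)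
  have had : ((L - 1) * R) ^ d = 0 := by
    rw [hL1R.mul_pow, hLd, zero_mul]
  have hsum : uop (Ad σ) x = (L - 1) * R + (R - 1) := by
    show Ad σ x - 1 = (L - 1) * R + (R - 1)
    rw [hAd, sub_mul, one_mul]
    abel
  have hab : Commute ((L - 1) * R) (R - 1) := by
    have h1 : Commute (L - 1) (R - 1) := hL1R.sub_right (Commute.one_right _)
    have h2 : Commute R (R - 1) := (Commute.refl R).sub_right (Commute.one_right _)
    exact h1.mul_left h2
  rw [hsum]
  exact hab.add_pow_eq_zero_of_add_le_succ_of_pow_eq_zero had hRd (by omega)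

end Cfsg.Agent.S4504P
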