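import Mathlib
import Cfsg.Agent.Helper1.S4504MDefs

set_option autoImplicit false

/-! # S4504 piece M-TRND: the trace form on `End(M)` is nondegenerate. -/

namespace Cfsg.Agent.S4504P

open Cfsg.Agent.Helper5.GC Module TensorProduct

theorem trF_nondegenerate {k : Type*} [Field k] {M : Type*} [AddCommGroup M] [Module k M]
    [FiniteDimensional k M] (φ : Module.End k M) (h : ∀ ψ, trF k M φ ψ = 0) : φ = 0 := by
  apply LinearMap.ext
  intro v
  rw [LinearMap.zero_apply]
  rw [← Module.forall_dual_apply_eq_zero_iff k]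
  intro f
  have h1 := h (dualTensorHom k M M (f ⊗ₜ[k] v))
  rw [trF_apply] at h1
  have h2 : φ * dualTensorHom k M M (f ⊗ₜ[k] v) = dualTensorHom k M M (f ⊗ₜ[k] φ v) := by
    apply LinearMap.ext
    intro w
    rw [Module.End.mul_apply, dualTensorHom_apply, dualTensorHom_apply, map_smul]
  rw [h2, LinearMap.trace_eq_contract_apply, contractLeft_apply] at h1
  exact h1

end Cfsg.Agent.S4504P
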