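import Mathlib
import Cfsg.Agent.Helper1.S4504MDefs

set_option autoImplicit false

/-! # S4504 piece M-NILDIM -/

namespace Cfsg.Agent.S4504P

open Cfsg.Agent.Helper5.GC Module

theorem uop_pow_finrank {k : Type*} [Field k] {G : Type*} [Group G] {p : ℕ} [Fact p.Prime]
    [CharP k p] {W : Type*} [AddCommGroup W] [Module k W] [FiniteDimensional k W]
    (ρ : Representation k G W) (x : G) (hxp : x ^ p = 1) : uop ρ x ^ (finrank k W) = 0 := by
  have hnil : IsNilpotent (uop ρ x) := ⟨p, uop_pow_p ρ x p hxp⟩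
  have h1 := hnil.charpoly_eq_X_pow_finrank
  have h2 := LinearMap.aeval_self_charpoly (uop ρ x)
  rw [h1, map_pow, Polynomial.aeval_X] at h2
  exact h2

end Cfsg.Agent.S4504P
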