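import Mathlib
import Cfsg.Agent.Helper1.S4504MDefs

set_option autoImplicit false

/-! # S4504 piece M-HAB: the complement `H` is abelian. -/

namespace Cfsg.Agent.S4504P

open Cfsg.Agent.Helper5.GC Module

/-- units of `ZMod n` are cyclic when `n = 1` or `n` is prime. -/
theorem isCyclic_mulAut_of_card {Q : Type*} [Group Q] [IsCyclic Q] (p : ℕ) [Fact p.Prime]
    (hQ : Nat.card Q = 1 ∨ Nat.card Q = p) : IsCyclic (MulAut Q) := by
  have e := IsCyclic.mulAutMulEquiv Q
  have h : IsCyclic (ZMod (Nat.card Q))ˣ := by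
    rcases hQ with h | h
    · rw [h]
      have : Subsingleton (ZMod 1)ˣ := inferInstance
      exact isCyclic_of_subsingleton
    · rw [h]
      infer_instance
  exact isCyclic_of_surjective e.symm.toMonoidHom e.symm.surjective

theorem comm_of_centralizer {G : Type*} [Group G] [Finite G] (p : ℕ) [Fact p.Prime] (P : Sylow p G)
    (hC : Subgroup.centralizer ((P : Subgroup G) : Set G) = (P : Subgroup G) ⊔ Subgroup.center G)
    {H : Subgroup G} {x : G} (hPx : (P : Subgroup G) = Subgroup.zpowers x)
    (hd : TIData G (Subgroup.normalizer ((P : Subgroup G) : Set G)) H x p)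
    (hHp : ¬ p ∣ Nat.card H) : ∀ a ∈ H, ∀ b ∈ H, a * b = b * a := by
  have hp : p.Prime := Fact.out
  -- `P` is cyclic of order `1` or `p`
  have hcyc : IsCyclic (P : Subgroup G) := by
    rw [hPx]
    infer_instance
  have hcard : Nat.card (P : Subgroup G) = 1 ∨ Nat.card (P : Subgroup G) = p := by
    have h1 : Nat.card (P : Subgroup G) = orderOf x := by
      rw [hPx]
      exact Nat.card_zpowers x
    have h2 : orderOf x ∣ p := orderOf_dvd_of_pow_eq_one hd.hxp
    rw [h1]
    exact (Nat.dvd_prime hp).mp h2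
  have hA : IsCyclic (MulAut (P : Subgroup G)) := isCyclic_mulAut_of_card p hcard
  -- the homomorphism
  let f : H →* MulAut (P : Subgroup G) :=
    (Subgroup.normalizerMonoidHom (P : Subgroup G)).comp (Subgroup.inclusion hd.hHN)
  have hker : f.ker ≤ Subgroup.center H := by
    intro h hh
    have h1 : Subgroup.inclusion hd.hHN h ∈ (Subgroup.normalizerMonoidHom (P : Subgroup G)).ker := by
      rw [MonoidHom.mem_ker] at hh ⊢
      exact hh
    rw [Subgroup.normalizerMonoidHom_ker, Subgroup.mem_subgroupOf] at h1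
    have h2 : (h : G) ∈ Subgroup.centralizer ((P : Subgroup G) : Set G) := h1
    rw [hC] at h2
    have h3 : (h : G) ∈ (((P : Subgroup G) ⊔ Subgroup.center G : Subgroup G) : Set G) := h2
    rw [Subgroup.mul_normal] at h3
    obtain ⟨y, hy, z, hz, hyz⟩ := Set.mem_mul.mp h3
    have hy' : y ∈ (P : Subgroup G) := hy
    have hz' : z ∈ Subgroup.center G := hz
    -- `y ^ p = 1`
    have hyp : y ^ p = 1 := by
      rw [hPx] at hy'
      obtain ⟨i, rfl⟩ := Subgroup.mem_zpowers_iff.mp hy'
      rw [← zpow_natCast, ← zpow_mul, mul_comm, zpow_mul, zpow_natCast, hd.hxp, one_zpow]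
    -- `h ^ |H| = 1`
    have hhH : (h : G) ^ Nat.card H = 1 := by
      have h8 : h ^ Nat.card H = 1 := pow_card_eq_one'
      have h9 := congrArg Subtype.val h8
      rw [Subgroup.coe_pow, Subgroup.coe_one] at h9
      exact h9
    have hcomm : Commute y z := Subgroup.mem_center_iff.mp hz' y
    -- `y ^ |H|` is central
    have hyH : y ^ Nat.card H ∈ Subgroup.center G := by
      have h4 : y ^ Nat.card H * z ^ Nat.card H = 1 := by
        rw [← hcomm.mul_pow, hyz, hhH]
      have h5 : y ^ Nat.card H = (z ^ Nat.card H)⁻¹ := eq_inv_of_mul_eq_one_left h4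
      rw [h5]
      exact Subgroup.inv_mem _ (Subgroup.pow_mem _ hz' _)
    -- Bezout
    have hcop : Nat.Coprime (Nat.card H) p := by
      rw [Nat.coprime_comm]
      exact (Nat.Prime.coprime_iff_not_dvd hp).mpr hHp
    have hyc : y ∈ Subgroup.center G := by
      have hbez := Nat.gcd_eq_gcd_ab (Nat.card H) p
      rw [hcop] at hbez
      have h6 : y = (y ^ Nat.card H) ^ (Nat.gcdA (Nat.card H) p) := by
        have h7 : y ^ ((1 : ℕ) : ℤ) = y ^ ((Nat.card H : ℤ) * Nat.gcdA (Nat.card H) p +
            (p : ℤ) * Nat.gcdB (Nat.card H) p) := by rw [hbez]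
        rw [Nat.cast_one, zpow_one, zpow_add, zpow_mul, zpow_mul, zpow_natCast, zpow_natCast, hyp,
          one_zpow, mul_one] at h7
        exact h7
      rw [h6]
      exact Subgroup.zpow_mem _ hyH _
    have hhc : (h : G) ∈ Subgroup.center G := by
      rw [← hyz]
      exact Subgroup.mul_mem _ hyc hz'
    rw [Subgroup.mem_center_iff]
    intro g
    apply Subtype.ext
    exact Subgroup.mem_center_iff.mp hhc g
  intro a ha b hb
  have hcm : IsMulCommutative H := f.isMulCommutative_of_isCyclic_of_ker_le_center hker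
  have := hcm.is_comm.comm ⟨a, ha⟩ ⟨b, hb⟩
  exact congrArg Subtype.val this

end Cfsg.Agent.S4504P
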