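import Mathlib

set_option autoImplicit false

/-! # S4504 piece M-CNTB: the arithmetic end of the Dickson count. -/

namespace Cfsg.Agent.S4504P

theorem count_arith (p e nb g0 : ℕ) (hp : p.Prime) (hp5 : 5 ≤ p) (he : e ∣ p - 1) (hnb : nb % p = 1)
    (hg0 : g0 = p * e * nb)
    (h : g0 = 2 + nb * (p - 2) ∨ ∃ s : ℕ, 2 ≤ s ∧ s * (2 + nb * (p - 2)) = g0) :
    nb = 1 ∨ nb = p + 1 := by
  -- `nb = n p + 1`
  obtain ⟨n, hn⟩ : ∃ n : ℕ, nb = n * p + 1 := by
    refine ⟨nb / p, ?_⟩
    have := Nat.div_add_mod nb p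
    rw [hnb] at this
    rw [mul_comm]
    exact this.symm
  obtain ⟨t, ht⟩ : ∃ t : ℕ, p = t + 5 := ⟨p - 5, by omega⟩
  have hp2 : p - 2 = t + 3 := by omega
  have he1 : 1 ≤ e := by
    rcases Nat.eq_zero_or_pos e with h0 | h0
    · rw [h0, zero_dvd_iff] at he
      omega
    · exact h0
  have hele : e ≤ p - 1 := Nat.le_of_dvd (by omega) he
  rcases h with h | ⟨s, hs2, hs⟩
  · -- `p e nb = 2 + nb (p - 2)`
    left
    rw [hg0, hp2, ht] at h
    -- p * e * nb ≥ p * nb = (t+5) nb > 2 + nb (t+3) unless nb small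
    have h1 : (t + 5) * nb ≤ (t + 5) * e * nb := by
      calc (t + 5) * nb = (t + 5) * 1 * nb := by ring
        _ ≤ (t + 5) * e * nb := by gcongr
    have h2 : (t + 5) * nb = nb * (t + 3) + 2 * nb := by ring
    have h3 : 2 * nb ≤ 2 := by
      rw [h, h2] at h1
      omega
    have h4 : nb ≤ 1 := by omega
    rw [hn] at h4 ⊢
    have hnp : n * p = 0 := by omega
    rw [hnp]
  · -- `s (2 + nb (p-2)) = p e nb`
    rw [hg0] at hs
    -- 2 + nb (p - 2) = p (1 + n (p-2))
    have hD : 2 + nb * (p - 2) = p * (1 + n * (p - 2)) := by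
      rw [hn, hp2, ht]
      ring
    rw [hD] at hs
    have hpp : 0 < p := hp.pos
    have hs' : s * (1 + n * (p - 2)) = e * nb := by
      have : p * (s * (1 + n * (p - 2))) = p * (e * nb) := by
        calc p * (s * (1 + n * (p - 2))) = s * (p * (1 + n * (p - 2))) := by ring
          _ = p * e * nb := hs
          _ = p * (e * nb) := by ring
      exact Nat.eq_of_mul_eq_mul_left hpp this
    set A := 1 + n * (p - 2) with hA
    -- nb = A + 2 n
    have hnbA : nb = A + 2 * n := by
      rw [hn, hA, hp2, ht]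
      ring
    -- A ∣ 2 n e, A coprime to n, so A ∣ 2 e
    have hdvd : A ∣ e * (2 * n) := by
      have h1 : A ∣ e * nb := ⟨s, by rw [← hs']; ring⟩
      rw [hnbA, mul_add] at h1
      exact (Nat.dvd_add_right (Dvd.intro_left e rfl)).mp h1
    have hcop : Nat.Coprime A n := by
      rw [hA]
      have : Nat.Coprime (1 + n * (p - 2)) n := by
        rw [Nat.coprime_comm]
        have h1 : Nat.Coprime n 1 := Nat.coprime_one_right n
        rw [add_comm]
        exact (Nat.coprime_mul_left_add_right n 1 (p - 2)).mpr h1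
      exact this
    have hdvd2 : A ∣ 2 * e := by
      have h1 : A ∣ (2 * e) * n := by
        have : e * (2 * n) = (2 * e) * n := by ring
        rw [← this]
        exact hdvd
      exact hcop.dvd_of_dvd_mul_right h1
    have hAle : A ≤ 2 * e := Nat.le_of_dvd (by omega) hdvd2
    -- cases on n
    rcases Nat.lt_or_ge n 2 with hn2 | hn2
    · interval_cases n
      · left
        omega
      · right
        omega
    · exfalso
      rcases Nat.eq_or_lt_of_le hn2 with hn2' | hn3
      · -- n = 2 : A = 2 p - 3 is odd, so A ∣ e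
        have hA2 : A = 2 * t + 7 := by
          rw [hA, ← hn2', hp2]
          ring
        have hodd : Nat.Coprime A 2 := by
          rw [hA2]
          have : (2 * t + 7) % 2 = 1 := by omega
          exact Nat.coprime_two_right.mpr (Nat.odd_iff.mpr this)
        have h1 : A ∣ e := hodd.dvd_of_dvd_mul_left hdvd2
        have h2 : A ≤ e := Nat.le_of_dvd he1 h1
        omega
      · -- n ≥ 3 : A ≥ 3 p - 5 > 2 (p - 1)
        have h1 : 3 * (p - 2) ≤ n * (p - 2) := Nat.mul_le_mul_right _ hn3
        omega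

end Cfsg.Agent.S4504P
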