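import Mathlib
import Cfsg.Agent.Helper12.SL2Torus
import Cfsg.Agent.Helper12.PSL2Basic

/-! Spectrum (set of element orders) of `PSL₂(F)` for a finite field `F`. -/

set_option autoImplicit false

namespace Cfsg.Agent.Helper13.PSL2Spec

open Cfsg.Agent.Helper12

variable {F : Type*} [Field F]

/-- `B * B = 2 B - 1` gives `B^(k+1) = (k+1) B - k`. -/
theorem pow_of_sq_two (B : Matrix (Fin 2) (Fin 2) F)
    (hsq : B * B = (2 : F) • B - 1) (k : ℕ) :
    B ^ (k + 1) = ((k : F) + 1) • B - (k : F) • (1 : Matrix (Fin 2) (Fin 2) F) := by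
  induction k with
  | zero => simp
  | succ k ih =>
    rw [pow_succ, ih, sub_mul, smul_mul_assoc, hsq, smul_mul_assoc, one_mul]
    push_cast
    module

theorem pow_char_of_sq_two (p : ℕ) [hp : Fact p.Prime] [CharP F p]
    (B : Matrix (Fin 2) (Fin 2) F) (hsq : B * B = (2 : F) • B - 1) : B ^ p = 1 := by
  obtain ⟨k, hk⟩ : ∃ k, p = k + 1 := ⟨p - 1, by have := hp.out.pos; omega⟩
  have h := pow_of_sq_two B hsq k
  have h1 : ((k : F) + 1) = 0 := by
    have : ((k + 1 : ℕ) : F) = 0 := by rw [← hk]; exact CharP.cast_eq_zero F p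
    simpa using this
  have h2 : (k : F) = -1 := by linear_combination h1
  rw [hk, h, h1, h2]
  simp

/-- double eigenvalue: the `p`-th power is scalar. -/
theorem pow_char_of_double_root (p : ℕ) [hp : Fact p.Prime] [CharP F p]
    (A : Matrix (Fin 2) (Fin 2) F) (l : F) (hl : l * l = 1)
    (hA : A * A = (l + l) • A - 1) : A ^ p = l ^ p • (1 : Matrix (Fin 2) (Fin 2) F) := by
  have hB : (l • A) * (l • A) = (2 : F) • (l • A) - 1 := by
    rw [smul_mul_smul_comm, hl, one_smul, hA, smul_smul]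
    congr 2
    ring
  have h := pow_char_of_sq_two p (l • A) hB
  rw [smul_pow] at h
  have : A ^ p = (l ^ p * l ^ p) • A ^ p := by
    rw [← mul_pow, hl, one_pow, one_smul]
  rw [this, mul_smul, h]


section fin

variable [Fintype F]

/-- numerical parameters of `PSL₂(F)`: `p` the characteristic, `d = gcd(2, q-1)`,
`m₁ = (q-1)/d`, `m₂ = (q+1)/d`. -/
structure Params (F : Type*) [Field F] [Fintype F] (p d m₁ m₂ : ℕ) : Prop where
  hp : p.Prime
  char : CharP F p
  hd : d = 1 ∨ d = 2
  h1 : d * m₁ = Fintype.card F - 1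
  h2 : d * m₂ = Fintype.card F + 1
  hc : ∀ c : F, c * c = 1 → c ^ d = 1

theorem exists_params : ∃ p d m₁ m₂ : ℕ, Params F p d m₁ m₂ := by
  obtain ⟨p, hchar⟩ := CharP.exists F
  have := hchar
  have hp : p.Prime :=
    (CharP.char_is_prime_or_zero F p).resolve_right (CharP.char_ne_zero_of_finite F p)
  by_cases h2 : p = 2
  · refine ⟨p, 1, Fintype.card F - 1, Fintype.card F + 1, hp, hchar, Or.inl rfl, by simp, by simp,
      ?_⟩
    intro c hc
    subst h2
    have h2' : (2 : F) = 0 := by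
      have := CharP.cast_eq_zero F 2
      exact_mod_cast this
    have : (c - 1) * (c - 1) = 0 := by
      linear_combination hc + (1 - c) * h2'
    have h3 : c - 1 = 0 := by
      rcases mul_self_eq_zero.mp this with h
      exact h
    rw [pow_one]
    linear_combination h3
  · have hodd : Fintype.card F % 2 = 1 := by
      apply FiniteField.odd_card_of_char_ne_two
      rw [ringChar.eq F p]
      exact h2
    refine ⟨p, 2, (Fintype.card F - 1) / 2, (Fintype.card F + 1) / 2, hp, hchar, Or.inr rfl, ?_, ?_,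
      ?_⟩
    · omega
    · omega
    · intro c hc
      rw [pow_two]
      exact hc

variable {p d m₁ m₂ : ℕ}

theorem Params.d_pos (hP : Params F p d m₁ m₂) : 0 < d := by
  rcases hP.hd with h | h <;> omega

theorem Params.card_ge (_hP : Params F p d m₁ m₂) : 2 ≤ Fintype.card F := Fintype.one_lt_card

local notation "SL2" => Matrix.SpecialLinearGroup (Fin 2) F
local notation "PSL2" => Matrix.ProjectiveSpecialLinearGroup (Fin 2) F

/-- `(mk X)^k = 1` implies `X^(k*d) = 1`. -/
theorem pow_mul_eq_one (hP : Params F p d m₁ m₂) (X : SL2) (k : ℕ)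
    (h : (QuotientGroup.mk X : PSL2) ^ k = 1) : X ^ (k * d) = 1 := by
  rw [← QuotientGroup.mk_pow, psl2_mk_eq_one_iff, isScalar2_iff] at h
  obtain ⟨c, hc⟩ := h
  have hdet : c * c = 1 := by
    have := (X ^ k).2
    rw [hc, Matrix.det_smul, Matrix.det_one, Fintype.card_fin] at this
    simpa [pow_two] using this
  apply Subtype.ext
  rw [pow_mul, Matrix.SpecialLinearGroup.coe_pow, hc, smul_pow, one_pow, hP.hc c hdet, one_smul]
  rfl

theorem orderOf_mk (hP : Params F p d m₁ m₂) (X : SL2) (m : ℕ)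
    (hX : orderOf X = d * m)
    (hs : IsScalar2 ((X ^ m : SL2) : Matrix (Fin 2) (Fin 2) F)) :
    orderOf (QuotientGroup.mk X : PSL2) = m := by
  apply Nat.dvd_antisymm
  · apply orderOf_dvd_of_pow_eq_one
    rw [← QuotientGroup.mk_pow, psl2_mk_eq_one_iff]
    exact hs
  · have h := pow_mul_eq_one hP X _ (pow_orderOf_eq_one (QuotientGroup.mk X : PSL2))
    have h2 := orderOf_dvd_of_pow_eq_one h
    rw [hX, mul_comm d m] at h2
    exact Nat.dvd_of_mul_dvd_mul_right hP.d_pos h2

theorem pow_inv_eq (hP : Params F p d m₁ m₂) (l : F) (hl : l ≠ 0) : l ^ m₁ = l⁻¹ ^ m₁ := by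
  have h1 : l ^ (Fintype.card F - 1) = 1 := FiniteField.pow_card_sub_one_eq_one l hl
  rw [← hP.h1] at h1
  rcases hP.hd with hd | hd
  · rw [hd, one_mul] at h1
    rw [inv_pow, h1, inv_one]
  · rw [hd, two_mul, pow_add] at h1
    rw [inv_pow]
    exact eq_inv_of_mul_eq_one_left h1

theorem pow_cases (hP : Params F p d m₁ m₂) (X : SL2) :
    (QuotientGroup.mk X : PSL2) ^ p = 1 ∨ (QuotientGroup.mk X : PSL2) ^ m₁ = 1 ∨
      (QuotientGroup.mk X : PSL2) ^ m₂ = 1 := by
  have := hP.char
  have : Fact p.Prime := ⟨hP.hp⟩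
  set A : Matrix (Fin 2) (Fin 2) F := X.1 with hA'
  by_cases h : ∀ (c : F) (v : Fin 2 → F), v ≠ 0 → A.mulVec v ≠ c • v
  · right; right
    rcases hP.hd with hd | hd
    · have h2 : m₂ = Fintype.card F + 1 := by
        have := hP.h2
        rw [hd, one_mul] at this
        exact this
      rw [h2, ← QuotientGroup.mk_pow, sl2_pow_card_add_one_eq_one X h]
      rfl
    · have h2 : 2 * m₂ = Fintype.card F + 1 := by
        have := hP.h2
        rwa [hd] at this
      rw [← QuotientGroup.mk_pow, psl2_mk_eq_one_iff]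
      exact sl2_pow_half_isScalar2 X h m₂ h2
  · push Not at h
    obtain ⟨l, v, hv, hlv⟩ := h
    have hroot := root_of_eigenvector A l v hv hlv
    have hdet : A.det = 1 := X.2
    rw [hdet] at hroot
    have hl0 : l ≠ 0 := by
      rintro rfl
      simp at hroot
    have htr : A.trace = l + l⁻¹ := by
      field_simp
      linear_combination -hroot
    have hA : A * A = (l + l⁻¹) • A - 1 := by
      rw [cayley2, hdet, one_smul, htr]
    by_cases hne : l = l⁻¹
    · left
      have hll : l * l = 1 := by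
        nth_rewrite 2 [hne]
        exact mul_inv_cancel₀ hl0
      rw [← hne] at hA
      exact psl2_mk_pow_eq_one_of_scalar X p (l ^ p) (pow_char_of_double_root p A l hll hA)
    · right; left
      exact psl2_mk_pow_eq_one_of_scalar X m₁ (l ^ m₁)
        (pow_isScalar2_of_roots A l l⁻¹ (mul_inv_cancel₀ hl0) hne hA m₁ (pow_inv_eq hP l hl0))


/-- the upper unitriangular matrix. -/
def Umat : SL2 := ⟨!![1, 1; 0, 1], by simp [Matrix.det_fin_two_of]⟩

theorem Umat_pow (k : ℕ) :
    ((Umat ^ k : SL2) : Matrix (Fin 2) (Fin 2) F) = !![1, (k : F); 0, 1] := by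
  induction k with
  | zero =>
    rw [pow_zero, Matrix.SpecialLinearGroup.coe_one]
    ext i j
    fin_cases i <;> fin_cases j <;> simp
  | succ k ih =>
    rw [pow_succ, Matrix.SpecialLinearGroup.coe_mul, ih]
    ext i j
    fin_cases i <;> fin_cases j <;> simp [Umat, Matrix.mul_apply, Fin.sum_univ_two, add_comm]

theorem orderOf_mk_Umat (hP : Params F p d m₁ m₂) :
    orderOf (QuotientGroup.mk Umat : PSL2) = p := by
  have := hP.char
  have : Fact p.Prime := ⟨hP.hp⟩
  apply orderOf_eq_prime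
  · rw [← QuotientGroup.mk_pow]
    have : (Umat ^ p : SL2) = 1 := by
      apply Subtype.ext
      rw [Umat_pow, CharP.cast_eq_zero F p]
      ext i j
      fin_cases i <;> fin_cases j <;> simp
    rw [this]
    rfl
  · rw [Ne, psl2_mk_eq_one_iff]
    rintro ⟨h, -, -⟩
    simp [Umat] at h

/-- the diagonal matrix. -/
def Dmat (l : Fˣ) : SL2 := ⟨!![(l : F), 0; 0, ((l⁻¹ : Fˣ) : F)], by simp [Matrix.det_fin_two_of]⟩

theorem Dmat_pow (l : Fˣ) (k : ℕ) :
    ((Dmat l ^ k : SL2) : Matrix (Fin 2) (Fin 2) F) =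
      !![((l ^ k : Fˣ) : F), 0; 0, (((l ^ k)⁻¹ : Fˣ) : F)] := by
  induction k with
  | zero =>
    rw [pow_zero, Matrix.SpecialLinearGroup.coe_one]
    ext i j
    fin_cases i <;> fin_cases j <;> simp
  | succ k ih =>
    rw [pow_succ, Matrix.SpecialLinearGroup.coe_mul, ih]
    ext i j
    fin_cases i <;> fin_cases j <;> simp [Dmat, Matrix.mul_apply, Fin.sum_univ_two, pow_succ, mul_comm]

theorem orderOf_Dmat (l : Fˣ) : orderOf (Dmat l) = orderOf l := by
  rw [orderOf_eq_orderOf_iff]
  intro k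
  constructor
  · intro h
    have h1 := congrArg (fun M : SL2 => (M : Matrix (Fin 2) (Fin 2) F) 0 0) h
    simp only [Dmat_pow] at h1
    apply Units.ext
    simpa using h1
  · intro h
    apply Subtype.ext
    rw [Dmat_pow, h]
    ext i j
    fin_cases i <;> fin_cases j <;> simp

theorem exists_orderOf_m1 (hP : Params F p d m₁ m₂) :
    ∃ x : PSL2, orderOf x = m₁ := by
  classical
  obtain ⟨l, hl⟩ := IsCyclic.exists_generator (α := Fˣ)
  have hord : orderOf l = Fintype.card F - 1 := by
    rw [orderOf_eq_card_of_forall_mem_zpowers hl, Nat.card_eq_fintype_card, Fintype.card_units]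
  refine ⟨QuotientGroup.mk (Dmat l), orderOf_mk hP (Dmat l) m₁ ?_ ?_⟩
  · rw [orderOf_Dmat, hord, hP.h1]
  · rw [Dmat_pow]
    refine ⟨by simp, by simp, ?_⟩
    have := pow_inv_eq hP (l : F) l.ne_zero
    simpa using this

theorem exists_orderOf_m2 (hP : Params F p d m₁ m₂) :
    ∃ x : PSL2, orderOf x = m₂ := by
  have := hP.char
  have : Fact p.Prime := ⟨hP.hp⟩
  obtain ⟨Y, hY, hYs⟩ := exists_sl2_orderOf_card_add_one (F := F) p
  refine ⟨QuotientGroup.mk Y, orderOf_mk hP Y m₂ ?_ ?_⟩
  · rw [hY, hP.h2]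
  · rcases hP.hd with hd | hd
    · have h2 : m₂ = Fintype.card F + 1 := by
        have := hP.h2
        rw [hd, one_mul] at this
        exact this
      have : Y ^ m₂ = 1 := by rw [h2, ← hY, pow_orderOf_eq_one]
      rw [this, Matrix.SpecialLinearGroup.coe_one]
      refine ⟨by simp, by simp, by simp⟩
    · have h2 : 2 * m₂ = Fintype.card F + 1 := by
        have := hP.h2
        rwa [hd] at this
      exact hYs m₂ h2

theorem mem_range_of_dvd {G : Type*} [Group G] [Finite G] (x : G) (n : ℕ) (h : n ∣ orderOf x) :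
    n ∈ Set.range (orderOf : G → ℕ) := by
  have hpos : 0 < orderOf x := orderOf_pos x
  obtain ⟨k, hk⟩ := h
  have hk0 : k ≠ 0 := by
    rintro rfl
    rw [mul_zero] at hk
    omega
  have hn0 : 0 < n := by
    rcases Nat.eq_zero_or_pos n with h0 | h0
    · rw [h0, zero_mul] at hk
      omega
    · exact h0
  refine ⟨x ^ k, ?_⟩
  rw [orderOf_pow_of_dvd hk0 ⟨n, by rw [hk, mul_comm]⟩, hk, Nat.mul_div_cancel _ (Nat.pos_of_ne_zero hk0)]

instance : Finite PSL2 := by
  classical
  unfold Matrix.ProjectiveSpecialLinearGroup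
  infer_instance

/-- The spectrum of `PSL₂(F)`. -/
theorem range_orderOf_PSL2 (hP : Params F p d m₁ m₂) :
    Set.range (orderOf : PSL2 → ℕ) = {n | n ∣ p ∨ n ∣ m₁ ∨ n ∣ m₂} := by
  ext n
  constructor
  · rintro ⟨x, rfl⟩
    obtain ⟨X, rfl⟩ := QuotientGroup.mk_surjective x
    rcases pow_cases hP X with h | h | h
    · exact Or.inl (orderOf_dvd_of_pow_eq_one h)
    · exact Or.inr (Or.inl (orderOf_dvd_of_pow_eq_one h))
    · exact Or.inr (Or.inr (orderOf_dvd_of_pow_eq_one h))
  · rintro (h | h | h)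
    · rw [← orderOf_mk_Umat hP] at h
      exact mem_range_of_dvd _ _ h
    · obtain ⟨x, hx⟩ := exists_orderOf_m1 hP
      rw [← hx] at h
      exact mem_range_of_dvd _ _ h
    · obtain ⟨x, hx⟩ := exists_orderOf_m2 hP
      rw [← hx] at h
      exact mem_range_of_dvd _ _ h

end fin

end Cfsg.Agent.Helper13.PSL2Spec
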