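import Mathlib

set_option autoImplicit false

/-! # S2276 (free pairs of `p`-elements in alternating groups): definitions (designer helper13)

`Good p x y` : the product `x * y` is not a `p`-element and `⟨x, y⟩` is not solvable.
`glue x y`   : the permutation of `Fin (a + b)` acting as `x` on the first `a` points
               (`Fin.castAdd b i`) and as `y` on the last `b` points (`Fin.natAdd a i`). -/

namespace Cfsg.Agent.S2276P

open Equiv Equiv.Perm

/-- the product is not a `p`-element and the group generated is not solvable -/
def Good (p : ℕ) {α : Type*} (x y : Perm α) : Prop :=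
  (¬ ∃ k : ℕ, orderOf (x * y) = p ^ k) ∧
    ¬ Group.IsSolvable (Subgroup.closure ({x, y} : Set (Perm α)))

/-- glue permutations of `Fin a` and `Fin b` to a permutation of `Fin (a + b)` -/
def glue {a b : ℕ} (x : Perm (Fin a)) (y : Perm (Fin b)) : Perm (Fin (a + b)) :=
  finSumFinEquiv.permCongr (Equiv.Perm.sumCongr x y)

end Cfsg.Agent.S2276P
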