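import Mathlib
import Cfsg.Prelude.Def_Classical

/-! # S2496 (driver helper13): `PSU_n(q)`, `n = 2h ≥ 4` even, `q` odd, has an element of order
`q^h + (-1)^h` iff `v₂(q + 1) < v₂(n)`.  Shared definitions (namespace `Cfsg.Agent.S2496P`).

Setting: `F` finite field, `|F| = q²`, `q = p^f`; `K ⊇ F` finite field with `[K : F] = h` (so `|K| = q^n`).
* `frob R p f` : `x ↦ x ^ (p ^ f) = x ^ q` as a ring endomorphism (`σ` on `F`, `φ` on `K`);
* `mform F K p f` : the Hermitian form `H((a,b),(c,d)) = Tr(a φ(d)) + σ(Tr(c φ(b)))` on `K × K`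
  (linear in the first, `σ`-semilinear in the second argument, like `Cfsg.hermForm`);
* `tor F K p f s` : the torus element `(a, b) ↦ (φ(s)⁻¹ a, s b)` of `K × K`.
-/

set_option autoImplicit false

namespace Cfsg.Agent.S2496P

/-- `x ↦ x ^ (p ^ f)` as a ring endomorphism of a commutative ring of characteristic `p` -/
noncomputable def frob (R : Type*) [CommRing R] (p : ℕ) [Fact p.Prime] [CharP R p] (f : ℕ) :
    R →+* R := iterateFrobenius R p f

theorem frob_apply (R : Type*) [CommRing R] (p : ℕ) [Fact p.Prime] [CharP R p] (f : ℕ) (x : R) :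
    frob R p f x = x ^ p ^ f := iterateFrobenius_def p f x

section model

variable (F K : Type*) [Field F] [Field K] [Algebra F K] (p : ℕ) [Fact p.Prime] [CharP F p]
  [CharP K p] (f : ℕ)

/-- the Hermitian form `H((a,b),(c,d)) = Tr(a φ(d)) + σ(Tr(c φ(b)))` on `K × K` -/
noncomputable def mform (u v : K × K) : F :=
  Algebra.trace F K (u.1 * frob K p f v.2) + frob F p f (Algebra.trace F K (v.1 * frob K p f u.2))

/-- the torus element `(a, b) ↦ (φ(s)⁻¹ a, s b)` -/
noncomputable def tor (s : K) : K × K →ₗ[F] K × K :=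
  (LinearMap.mulLeft F ((frob K p f s)⁻¹)).prodMap (LinearMap.mulLeft F s)

theorem tor_apply (s : K) (u : K × K) :
    tor F K p f s u = ((frob K p f s)⁻¹ * u.1, s * u.2) := rfl

end model

end Cfsg.Agent.S2496P
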