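import Mathlib
import Cfsg.Prelude.Def_LieClassical
import Cfsg.Agent.Helper13.S2496Defs

/-! # S2263 (max element order of `PGU_d(q)`), EXISTENCE half (driver helper13): shared definitions.

Namespace `Cfsg.Agent.S2263P`.  `F` finite field, `|F| = q²`, `q = p^f`, `σ = frob F p f` (`x ↦ x^q`,
from `Cfsg.Agent.S2496P`).  Abstract Hermitian spaces `(V, H)`: `H : V → V → F` linear in the FIRST
argument, `σ`-semilinear in the second (like `Cfsg.hermForm`), conjugate-symmetric, nondegenerate.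
* `Hsum H₁ H₂` orthogonal sum on `V × W`; `Hline σ` the line `x σ(y)`;
* `Hk F K p f m (x, y) = Tr_{K/F}(x · y^(q^m))` for `[K : F] = m` odd;
* `H2 σ` hyperbolic plane `a σ(d) + b σ(c)` with the unipotent `u2 t : (a, b) ↦ (a + t b, b)`;
* `H3 σ` on `F × F × F`: `a₁ σ(b₃) + a₂ σ(b₂) + a₃ σ(b₁)` with `u3 ω : (a, b, c) ↦ (a + b + ω c, b + c, c)`.
-/

set_option autoImplicit false

namespace Cfsg.Agent.S2263P

open Cfsg.Agent.S2496P

/-- `(V, H)` is a nondegenerate Hermitian space w.r.t. `σ` -/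
structure IsHerm {F : Type*} [Field F] (σ : F →+* F) {V : Type*} [AddCommGroup V] [Module F V]
    (H : V → V → F) : Prop where
  add_left : ∀ u u' v, H (u + u') v = H u v + H u' v
  smul_left : ∀ (c : F) u v, H (c • u) v = c * H u v
  symm : ∀ u v, H v u = σ (H u v)
  nondeg : ∀ u, (∀ v, H u v = 0) → u = 0

/-- orthogonal sum of two forms -/
def Hsum {F V W : Type*} [Add F] (H₁ : V → V → F) (H₂ : W → W → F) : V × W → V × W → F :=
  fun u v => H₁ u.1 v.1 + H₂ u.2 v.2

theorem Hsum_apply {F V W : Type*} [Add F] (H₁ : V → V → F) (H₂ : W → W → F) (u v : V × W) :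
    Hsum H₁ H₂ u v = H₁ u.1 v.1 + H₂ u.2 v.2 := rfl

/-- the Hermitian line -/
def Hline {F : Type*} [Field F] (σ : F →+* F) : F → F → F := fun x y => x * σ y

theorem Hline_apply {F : Type*} [Field F] (σ : F →+* F) (x y : F) : Hline σ x y = x * σ y := rfl

/-- the model of odd dimension `m = [K : F]`: `H(x, y) = Tr(x · y^(q^m))` -/
noncomputable def Hk (F K : Type*) [Field F] [Field K] [Algebra F K] (p : ℕ) [Fact p.Prime]
    [CharP K p] (f m : ℕ) : K → K → F :=
  fun x y => Algebra.trace F K (x * frob K p (f * m) y)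

theorem Hk_apply (F K : Type*) [Field F] [Field K] [Algebra F K] (p : ℕ) [Fact p.Prime]
    [CharP K p] (f m : ℕ) (x y : K) :
    Hk F K p f m x y = Algebra.trace F K (x * frob K p (f * m) y) := rfl

/-- the hyperbolic plane -/
def H2 {F : Type*} [Field F] (σ : F →+* F) : F × F → F × F → F :=
  fun u v => u.1 * σ v.2 + u.2 * σ v.1

theorem H2_apply {F : Type*} [Field F] (σ : F →+* F) (u v : F × F) :
    H2 σ u v = u.1 * σ v.2 + u.2 * σ v.1 := rfl

/-- the unipotent `(a, b) ↦ (a + t b, b)` -/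
def u2 {F : Type*} [Field F] (t : F) : F × F →ₗ[F] F × F :=
  LinearMap.prod (LinearMap.fst F F F + t • LinearMap.snd F F F) (LinearMap.snd F F F)

theorem u2_apply {F : Type*} [Field F] (t : F) (u : F × F) : u2 t u = (u.1 + t * u.2, u.2) := rfl

/-- the 3-dimensional space with antidiagonal Gram matrix -/
def H3 {F : Type*} [Field F] (σ : F →+* F) : F × F × F → F × F × F → F :=
  fun u v => u.1 * σ v.2.2 + u.2.1 * σ v.2.1 + u.2.2 * σ v.1

theorem H3_apply {F : Type*} [Field F] (σ : F →+* F) (u v : F × F × F) :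
    H3 σ u v = u.1 * σ v.2.2 + u.2.1 * σ v.2.1 + u.2.2 * σ v.1 := rfl

/-- the regular unipotent `(a, b, c) ↦ (a + b + ω c, b + c, c)` -/
def u3 {F : Type*} [Field F] (ω : F) : F × F × F →ₗ[F] F × F × F :=
  LinearMap.prod
    (LinearMap.fst F F (F × F) + (LinearMap.fst F F F).comp (LinearMap.snd F F (F × F))
      + ω • (LinearMap.snd F F F).comp (LinearMap.snd F F (F × F)))
    (LinearMap.prod
      ((LinearMap.fst F F F).comp (LinearMap.snd F F (F × F))
        + (LinearMap.snd F F F).comp (LinearMap.snd F F (F × F)))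
      ((LinearMap.snd F F F).comp (LinearMap.snd F F (F × F))))

theorem u3_apply {F : Type*} [Field F] (ω : F) (u : F × F × F) :
    u3 ω u = (u.1 + u.2.1 + ω * u.2.2, u.2.1 + u.2.2, u.2.2) := rfl

end Cfsg.Agent.S2263P
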