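import Mathlib
import Cfsg.Prelude.Def_Classical
import Cfsg.Agent.Helper29.S2263Defs
import Cfsg.Agent.Helper13.S2263Defs
import Cfsg.Agent.Helper28.GU

/-! # S2511 (driver helper13): `PSU_n(q)³ × (ℤ/r)^m` is isospectral to `PSU_n(q)³` (`r ∣ q + 1`, `r ∤ n`).
Shared definitions, namespace `Cfsg.Agent.S2511P`.

`F` finite field, `|F| = q²`, `q = p^a`; `σ : F ≃+* F`, `σ x = x^q`.  We re-use
* `Cfsg.Agent.S2263P` (helper29): `wq q s = (q^s - (-1)^s)/(q+1)`, `dag σ f = recip (σ f)`, `UGood`, `Single`;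
* `Cfsg.Agent.S2263P` (helper13): abstract Hermitian spaces `IsHerm`, `Hsum`, `Hk`;
* `Cfsg.Agent.S2496P`: `frob`, `mform`, `tor`.

New here: `suNum q n` (the order of the image in `PSU_n(q)` of the cyclic torus of order `wq q n` of
`SU_n(q)`), `mat` (the matrix of an element of `Cfsg.SU`), `mkSU`, the skew-Hermitian/Hermitian
antidiagonal form `Hanti` on `F^b` and the shift `Nsh` (a skew-adjoint regular nilpotent). -/

set_option autoImplicit false

namespace Cfsg.Agent.S2511P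

open Cfsg.Agent.S2263P Matrix

/-- `wq q n / gcd (wq q n, q + 1)` -/
def suNum (q n : ℕ) : ℕ := wq q n / Nat.gcd (wq q n) (q + 1)

section mat

variable {F : Type*} [Field F] {n q : ℕ}

/-- the matrix of an element of `SU_n(q)` -/
def mat (A : ↥(Cfsg.SU n F q)) : Matrix (Fin n) (Fin n) F :=
  ((A : Matrix.SpecialLinearGroup (Fin n) F) : Matrix (Fin n) (Fin n) F)

theorem mat_mul (A B : ↥(Cfsg.SU n F q)) : mat (A * B) = mat A * mat B := rfl

theorem mat_one : mat (1 : ↥(Cfsg.SU n F q)) = 1 := rfl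

theorem mat_pow (A : ↥(Cfsg.SU n F q)) (k : ℕ) : mat (A ^ k) = mat A ^ k := by
  induction k with
  | zero => rfl
  | succ k ih => rw [pow_succ, pow_succ, mat_mul, ih]

theorem mat_injective : Function.Injective (mat : ↥(Cfsg.SU n F q) → Matrix (Fin n) (Fin n) F) := by
  intro A B h
  apply Subtype.ext
  apply Subtype.ext
  exact h

theorem mat_det (A : ↥(Cfsg.SU n F q)) : (mat A).det = 1 :=
  (A : Matrix.SpecialLinearGroup (Fin n) F).2

theorem mat_unitary (σ : F →+* F) (hσ : ∀ x, σ x = x ^ q) (A : ↥(Cfsg.SU n F q)) :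
    (mat A)ᵀ * (mat A).map σ = 1 :=
  (Cfsg.Agent.Helper28.GUlib.preserves_iff σ hσ (mat A)).1 A.2

/-- build an element of `SU_n(q)` from a unitary matrix of determinant one -/
def mkSU (σ : F →+* F) (hσ : ∀ x, σ x = x ^ q) (M : Matrix (Fin n) (Fin n) F)
    (hM : Mᵀ * M.map σ = 1) (hdet : M.det = 1) : ↥(Cfsg.SU n F q) :=
  ⟨⟨M, hdet⟩, (Cfsg.Agent.Helper28.GUlib.preserves_iff σ hσ M).2 hM⟩

theorem mat_mkSU (σ : F →+* F) (hσ : ∀ x, σ x = x ^ q) (M : Matrix (Fin n) (Fin n) F)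
    (hM : Mᵀ * M.map σ = 1) (hdet : M.det = 1) : mat (mkSU σ hσ M hM hdet) = M := rfl

end mat

section anti

variable {F : Type*} [Field F]

/-- the antidiagonal form `ε Σ_i (-1)^i x_i σ(y_{b-1-i})` on `F^b` -/
def Hanti (σ : F →+* F) (b : ℕ) (ε : F) : (Fin b → F) → (Fin b → F) → F :=
  fun x y => ε * ∑ i : Fin b, (-1) ^ (i : ℕ) * x i * σ (y (Fin.rev i))

theorem Hanti_apply (σ : F →+* F) (b : ℕ) (ε : F) (x y : Fin b → F) :
    Hanti σ b ε x y = ε * ∑ i : Fin b, (-1) ^ (i : ℕ) * x i * σ (y (Fin.rev i)) := rfl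

/-- the shift `(N x)_i = x_{i+1}` -/
def Nsh (F : Type*) [Field F] (b : ℕ) : (Fin b → F) →ₗ[F] (Fin b → F) where
  toFun x i := if h : (i : ℕ) + 1 < b then x ⟨(i : ℕ) + 1, h⟩ else 0
  map_add' x y := by
    ext i
    simp only [Pi.add_apply]
    split_ifs <;> simp
  map_smul' c x := by
    ext i
    simp only [Pi.smul_apply, smul_eq_mul, RingHom.id_apply]
    split_ifs <;> simp

theorem Nsh_apply (b : ℕ) (x : Fin b → F) (i : Fin b) :
    Nsh F b x i = if h : (i : ℕ) + 1 < b then x ⟨(i : ℕ) + 1, h⟩ else 0 := rfl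

/-- the standard Hermitian form as a function -/
def Hstd (F : Type*) [Field F] (q m : ℕ) : (Fin m → F) → (Fin m → F) → F := Cfsg.hermForm m F q

end anti

end Cfsg.Agent.S2511P
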