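import Mathlib
import Cfsg.Agent.S2638

/-! Structure of the centralizer of an irreducible element of prime order of `GL_n(q)`:
it is the image of a field `E` of degree `n` under an algebra embedding `φ` with
`det (φ a) = norm a`. -/

set_option autoImplicit false
set_option linter.style.haveILetI false

namespace Cfsg.Agent.Helper13.SingerCent

open Polynomial

universe u

theorem exists_field_of_prime_order {F : Type u} [Field F] [Fintype F] {p q : ℕ} [Fact p.Prime]
    [CharP F p] (hF : Fintype.card F = q) {n r : ℕ} (hn : 1 ≤ n) (hr : r.Prime) (hrp : r ≠ p)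
    (hi : orderOf (q : ZMod r) = n) (A : Matrix (Fin n) (Fin n) F) (hAr : A ^ r = 1) (hA1 : A ≠ 1) :
    ∃ (E : Type u) (_ : Field E) (_ : Algebra F E) (_ : Finite E)
      (φ : E →ₐ[F] Matrix (Fin n) (Fin n) F), Function.Injective φ ∧ Module.finrank F E = n ∧
        (∀ B : Matrix (Fin n) (Fin n) F, Commute B A → ∃ a, B = φ a) ∧
        ∀ a, (φ a).det = Algebra.norm F a := by
  classical
  obtain ⟨k, rfl⟩ : ∃ k, n = k + 1 := ⟨n - 1, by omega⟩
  obtain ⟨hirr, hdeg⟩ := Cfsg.Agent.S2638.minpoly_irreducible hF hr hrp hi A hAr hA1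
  set f := minpoly F A with hf
  haveI : Fact (Irreducible f) := ⟨hirr⟩
  let φ : AdjoinRoot f →ₐ[F] Matrix (Fin (k + 1)) (Fin (k + 1)) F :=
    Ideal.Quotient.liftₐ (Ideal.span {f}) (aeval A) (by
      intro a ha
      rw [Ideal.mem_span_singleton] at ha
      obtain ⟨c, rfl⟩ := ha
      rw [map_mul, hf, minpoly.aeval, zero_mul])
  have hφmk : ∀ g : F[X], φ (AdjoinRoot.mk f g) = aeval A g := fun g => rfl
  have hφroot : φ (AdjoinRoot.root f) = A := by rw [← AdjoinRoot.mk_X, hφmk, aeval_X]
  have hφinj : Function.Injective φ :=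
    (φ.toRingHom : AdjoinRoot f →+* Matrix (Fin (k + 1)) (Fin (k + 1)) F).injective
  haveI : Module.Finite F (AdjoinRoot f) := (AdjoinRoot.powerBasis hirr.ne_zero).finite
  haveI hfin : Finite (AdjoinRoot f) := Module.finite_of_finite F
  have hfr : Module.finrank F (AdjoinRoot f) = k + 1 := by
    rw [(AdjoinRoot.powerBasis hirr.ne_zero).finrank, AdjoinRoot.powerBasis_dim, hdeg]
  set v : Fin (k + 1) → F := Pi.single 0 1 with hv
  have hv0 : v ≠ 0 := by
    intro h
    have := congrFun h 0
    simp [hv] at this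
  let T : AdjoinRoot f →ₗ[F] (Fin (k + 1) → F) :=
    { toFun := fun a => Matrix.mulVec (φ a) v
      map_add' := by intro a b; rw [map_add, Matrix.add_mulVec]
      map_smul' := by intro c a; rw [map_smul, Matrix.smul_mulVec]; rfl }
  have hTapp : ∀ a, T a = Matrix.mulVec (φ a) v := fun a => rfl
  have hTinj : Function.Injective T := by
    rw [← LinearMap.ker_eq_bot, LinearMap.ker_eq_bot']
    intro a ha
    by_contra ha0
    have h1 : φ a⁻¹ * φ a = 1 := by rw [← map_mul, inv_mul_cancel₀ ha0, map_one]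
    have h2 : v = Matrix.mulVec (φ a⁻¹ * φ a) v := by rw [h1, Matrix.one_mulVec]
    rw [← Matrix.mulVec_mulVec] at h2
    rw [hTapp] at ha
    rw [ha, Matrix.mulVec_zero] at h2
    exact hv0 h2
  have hTsurj : Function.Surjective T :=
    (LinearMap.injective_iff_surjective_of_finrank_eq_finrank (by rw [hfr]; simp)).mp hTinj
  have hcomm : ∀ B : Matrix (Fin (k + 1)) (Fin (k + 1)) F, Commute B A → ∃ a, B = φ a := by
    intro B hB
    obtain ⟨a, ha⟩ := hTsurj (Matrix.mulVec B v)
    rw [hTapp] at ha
    refine ⟨a, ?_⟩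
    apply Matrix.mulVec_injective
    funext w
    obtain ⟨b, hb⟩ := hTsurj w
    rw [hTapp] at hb
    have hBb : B * φ b = φ b * B := by
      induction b using AdjoinRoot.induction_on with
      | ih g =>
        rw [hφmk]
        have hmem : aeval A g ∈ Algebra.adjoin F {A} := aeval_mem_adjoin_singleton F A
        have hle : Algebra.adjoin F {A} ≤ Subalgebra.centralizer F {B} := by
          apply Algebra.adjoin_le
          intro y hy
          rw [Set.mem_singleton_iff] at hy
          subst hy
          rw [SetLike.mem_coe, Subalgebra.mem_centralizer_iff]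
          intro c hc
          rw [Set.mem_singleton_iff] at hc
          subst hc
          exact hB.eq
        have h3 := hle hmem
        rw [Subalgebra.mem_centralizer_iff] at h3
        exact h3 B rfl
    have hab : φ a * φ b = φ b * φ a := by rw [← map_mul, ← map_mul, mul_comm]
    rw [← hb, Matrix.mulVec_mulVec, Matrix.mulVec_mulVec, hBb, hab, ← Matrix.mulVec_mulVec,
      ← Matrix.mulVec_mulVec, ha]
  refine ⟨AdjoinRoot f, inferInstance, inferInstance, hfin, φ, hφinj, hfr, hcomm, ?_⟩
  intro a
  let Te : AdjoinRoot f ≃ₗ[F] (Fin (k + 1) → F) := LinearEquiv.ofBijective T ⟨hTinj, hTsurj⟩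
  have hconj : Matrix.toLin' (φ a) =
      (Te : AdjoinRoot f →ₗ[F] (Fin (k + 1) → F)) ∘ₗ (Algebra.lmul F (AdjoinRoot f) a) ∘ₗ
        (Te.symm : (Fin (k + 1) → F) →ₗ[F] AdjoinRoot f) := by
    apply LinearMap.ext
    intro w
    obtain ⟨b, rfl⟩ := Te.surjective w
    simp only [LinearMap.comp_apply, LinearEquiv.coe_coe, LinearEquiv.symm_apply_apply,
      Matrix.toLin'_apply]
    change Matrix.mulVec (φ a) (T b) = T (a * b)
    rw [hTapp, hTapp, Matrix.mulVec_mulVec, ← map_mul]
  rw [← LinearMap.det_toLin', hconj, LinearMap.det_conj, Algebra.norm_apply]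

end Cfsg.Agent.Helper13.SingerCent
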