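import Mathlib
import Cfsg.Prelude.Def_Classical
import Cfsg.Agent.Helper13.S2511Defs
import Cfsg.Agent.Helper14.S2496CENTER
import Cfsg.Agent.Helper6.S2263REAL

/-! S2511 piece REALSU (helper13): an isometry of determinant one of an abstract Hermitian space gives an
element of `PSU_n(q)` whose order is the least `j` such that its `j`-th power is a scalar. -/

set_option autoImplicit false
set_option linter.unusedSectionVars false

namespace Cfsg.Agent.S2511P

open Cfsg.Agent.S2263P Cfsg.Agent.S2496P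
open scoped Matrix

section layerT

variable {F : Type*} [Field F] [Fintype F] {p : ℕ} [Fact p.Prime] [CharP F p] {f q : ℕ}

/-- REALSU -/
theorem exists_psu_orderOf (hq : q = p ^ f) (hF : Fintype.card F = q ^ 2) {V : Type*}
    [AddCommGroup V] [Module F V] [FiniteDimensional F V] {n : ℕ} (hn : 2 ≤ n)
    (hd : Module.finrank F V = n) {H : V → V → F} (hH : IsHerm (frob F p f) H) (X : V →ₗ[F] V)
    (hX : ∀ u v, H (X u) (X v) = H u v) (hdet : LinearMap.det X = 1) (N : ℕ) (hN : 0 < N)
    (hord : ∀ j : ℕ, (∃ c : F, X ^ j = c • (1 : V →ₗ[F] V)) ↔ N ∣ j) :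
    ∃ g : Cfsg.PSU n F q, orderOf g = N := by
  classical
  obtain ⟨b, hb⟩ := exists_herm_basis hq hF hd hH
  have hσ : ∀ x : F, frob F p f x = x ^ q := fun x => by rw [frob_apply, hq]
  set M : Matrix (Fin n) (Fin n) F := LinearMap.toMatrix b b X with hM
  have hMu : Mᵀ * M.map (frob F p f) = 1 :=
    (Cfsg.Agent.Helper28.GUlib.preserves_iff (frob F p f) hσ M).mp (REAL.herm_toMatrix b hb X hX)
  have hMdet : M.det = 1 := by
    rw [hM, LinearMap.det_toMatrix, hdet]
  set A : ↥(Cfsg.SU n F q) := mkSU (frob F p f) hσ M hMu hMdet with hA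
  have hval : ∀ k : ℕ, mat (A ^ k) = LinearMap.toMatrix b b (X ^ k) := by
    intro k
    rw [mat_pow, hA, mat_mkSU, hM, LinearMap.toMatrix_pow]
  have key : ∀ k : ℕ, (QuotientGroup.mk A : Cfsg.PSU n F q) ^ k = 1 ↔ N ∣ k := by
    intro k
    rw [← QuotientGroup.mk_pow, QuotientGroup.eq_one_iff, mem_center_SU_iff hF hn, ← hord k]
    constructor
    · rintro ⟨c, hc⟩
      refine ⟨c, ?_⟩
      have h1 : mat (A ^ k) = c • 1 := hc
      rw [hval k] at h1
      apply (LinearMap.toMatrix b b).injective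
      rw [h1, map_smul]
      congr 1
      exact (LinearMap.toMatrix_one b).symm
    · rintro ⟨c, hc⟩
      refine ⟨c, ?_⟩
      show mat (A ^ k) = c • 1
      rw [hval k, hc, map_smul]
      congr 1
      exact LinearMap.toMatrix_one b
  refine ⟨QuotientGroup.mk A, ?_⟩
  apply Nat.dvd_antisymm
  · exact orderOf_dvd_of_pow_eq_one ((key N).mpr dvd_rfl)
  · exact (key _).mp (pow_orderOf_eq_one _)

end layerT

end Cfsg.Agent.S2511P
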