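import Mathlib
import Cfsg.Agent.Helper28.S3000Defs
import Cfsg.Agent.Helper8.S3000TKD1
import Cfsg.Agent.Helper9.S3000PT1
import Cfsg.Agent.Helper27.S3000J2CENT

/-! Board `s3000pieces`, row COVER: the covering trick.  A conjugate `v = g z₀ g⁻¹` of the base vector `z₀` that is centralised by
`J₂` lies in `C_V(ᵉA)` exactly when `e M` is the point `g M` of `v`. -/

set_option autoImplicit false
set_option linter.unusedSectionVars false

namespace Cfsg.Agent.S3000P

open Cfsg.Agent.S2789P Cfsg.Agent.S2999P Cfsg.Agent.S3000P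
open scoped commutatorElement

variable {G : Type*} [Group G] [Finite G] {p : ℕ} [Fact p.Prime] {V P : Subgroup G} {T : Sylow p ↥P} {M : Subgroup ↥P} {q : ℕ}

variable {A E H : Subgroup G} {w : G}

/-- elements of `E ∩ M` normalise `A` -/
theorem COVER_aux_norm (K : Tool p V P q A E H w) (hB : Based (MM M) A E) {f : G} (hfE : f ∈ E) (hfM : f ∈ MM M) :
    cjs f A = A := by
  by_contra hne
  apply hB.hEM
  rw [← K.hgen f hfE hne]
  exact sup_le hB.hAM (cj_le_of_mem hfM hB.hAM)

/-- `J = A × J₂` as a join (row JSPLIT, proved here directly) -/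
theorem COVER_aux_split {A : Subgroup G} (hA : InA p V P q A) (hAT : A ≤ TT T) :
    JOff p V (TT T) q = A ⊔ JJ2 p V (TT T) q A := by
  have hAin : A ∈ AqIn p V (TT T) q := ⟨hAT, hA.so, hA.card⟩
  apply le_antisymm
  · apply sSup_le
    intro D hD
    by_cases hDA : D = A
    · rw [hDA]; exact le_sup_left
    · exact le_trans (le_sSup (show D ∈ {D | D ∈ AqIn p V (TT T) q ∧ D ≠ A} from ⟨hD, hDA⟩)) le_sup_right
  · apply sup_le
    · exact le_sSup hAin
    · exact sSup_le (fun D hD => le_sSup hD.1)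

/-- COVER (M/L): the covering trick. -/
theorem COVER (Hy : Hyp p V P T M) (hq : MinQ p V P q) (K : Tool p V P q A E H w) (hB : Based (MM M) A E)
    (hAT : A ≤ TT T) {z₀ : G} (hz₀ : z₀ ∈ fixV V (TT T)) (hzM : ∀ x ∈ P, x * z₀ = z₀ * x → x ∈ MM M)
    {g : G} (hg : g ∈ P) (hv : g * z₀ * g⁻¹ ∈ fixV V (JJ2 p V (TT T) q A)) :
    (∃ e ∈ E, g⁻¹ * e ∈ MM M) ∧ ∀ e ∈ E, (g * z₀ * g⁻¹ ∈ fixV V (cjs e A) ↔ g⁻¹ * e ∈ MM M) := by
  set v := g * z₀ * g⁻¹ with hvdef
  have hvV : v ∈ V := (Subgroup.mem_inf.mp hv).1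
  have hvJ2 : v ∈ Subgroup.centralizer ((JJ2 p V (TT T) q A : Subgroup G) : Set G) := (Subgroup.mem_inf.mp hv).2
  have hsplit : JOff p V (TT T) q = A ⊔ JJ2 p V (TT T) q A := COVER_aux_split K.hA hAT
  have hJ2c : ∀ x ∈ JJ2 p V (TT T) q A, ∀ e ∈ E, x * e = e * x := J2CENT Hy hq K hAT
  -- `e` centralises `J₂`, so `cjs e J₂ = J₂`
  have hcjJ2 : ∀ e ∈ E, cjs e (JJ2 p V (TT T) q A) = JJ2 p V (TT T) q A := by
    intro e he
    ext x
    rw [cj_mem]
    constructor
    · intro hx
      have h1 := hJ2c _ hx e he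
      have : x = e * (e⁻¹ * x * e) * e⁻¹ := by group
      rw [this, ← h1]
      simpa using hx
    · intro hx
      have h1 := hJ2c _ hx e he
      have : e⁻¹ * x * e = e⁻¹ * (x * e) := by group
      rw [this, h1]
      simpa using hx
  -- the forward direction
  have hfwd : ∀ e ∈ E, v ∈ fixV V (cjs e A) → g⁻¹ * e ∈ MM M := by
    intro e he hve
    have hveC : v ∈ Subgroup.centralizer ((cjs e A : Subgroup G) : Set G) := (Subgroup.mem_inf.mp hve).2
    apply PT1b Hy hq hzM (K.hEP he) hg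
    intro y hy
    rw [hsplit, cj_sup, hcjJ2 e he] at hy
    have hyC : y ∈ Subgroup.centralizer ({v} : Set G) := by
      have hle : cjs e A ⊔ JJ2 p V (TT T) q A ≤ Subgroup.centralizer ({v} : Set G) := by
        apply sup_le
        · intro a ha
          rw [Subgroup.mem_centralizer_iff]
          intro x hx
          rw [Set.mem_singleton_iff] at hx
          subst hx
          exact (Subgroup.mem_centralizer_iff.mp hveC a ha).symm
        · intro a ha
          rw [Subgroup.mem_centralizer_iff]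
          intro x hx
          rw [Set.mem_singleton_iff] at hx
          subst hx
          exact (Subgroup.mem_centralizer_iff.mp hvJ2 a ha).symm
      exact hle hy
    exact (Subgroup.mem_centralizer_iff.mp hyC v (Set.mem_singleton v)).symm
  -- the covering
  obtain ⟨e₁, he₁, hve₁⟩ := Tool.cover Hy K v hvV
  have hpt₁ : g⁻¹ * e₁ ∈ MM M := hfwd e₁ he₁ hve₁
  refine ⟨⟨e₁, he₁, hpt₁⟩, fun e he => ⟨hfwd e he, fun hpt => ?_⟩⟩
  have hfM : e₁⁻¹ * e ∈ MM M := by
    have : e₁⁻¹ * e = (g⁻¹ * e₁)⁻¹ * (g⁻¹ * e) := by group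
    rw [this]
    exact (MM M).mul_mem ((MM M).inv_mem hpt₁) hpt
  have hfE : e₁⁻¹ * e ∈ E := E.mul_mem (E.inv_mem he₁) he
  have hn := COVER_aux_norm K hB hfE hfM
  have : cjs e A = cjs e₁ A := by
    have h2 : cjs e A = cjs e₁ (cjs (e₁⁻¹ * e) A) := by
      rw [cj_mul]; congr 1; group
    rw [h2, hn]
  rw [this]
  exact hve₁

end Cfsg.Agent.S3000P
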