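import Cfsg.Agent.Helper1.S5639Lib

set_option autoImplicit false

/-! # S5639 piece ALLPRAT (helper13): an invertible matrix mapping every rational point to a
rational point lies in `F^* GL_n(F₀)`. -/

namespace Cfsg.Agent.S5639P

open Matrix
open Cfsg.Agent.Helper28.SLMax Cfsg.Agent.Helper28.SimMax

variable {F : Type*} [Field F] {n : ℕ}

local notation "GLn" => Matrix.GeneralLinearGroup (Fin n) F
local notation "Mat" => Matrix (Fin n) (Fin n) F

namespace ALLPRAT

/-- Cramer's rule over the subfield: if `a W + b W₀ = r` with `W, W₀, r` rational and a non-zero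
minor, then `a, b ∈ F₀`. -/
theorem cramer (F₀ : Subfield F) {a b w1 w2 v1 v2 r1 r2 : F} (hw1 : w1 ∈ F₀) (hw2 : w2 ∈ F₀)
    (hv1 : v1 ∈ F₀) (hv2 : v2 ∈ F₀) (hr1 : r1 ∈ F₀) (hr2 : r2 ∈ F₀)
    (h1 : a * w1 + b * v1 = r1) (h2 : a * w2 + b * v2 = r2) (hd : w1 * v2 - w2 * v1 ≠ 0) :
    a ∈ F₀ ∧ b ∈ F₀ := by
  have hdm : w1 * v2 - w2 * v1 ∈ F₀ :=
    F₀.sub_mem (F₀.mul_mem hw1 hv2) (F₀.mul_mem hw2 hv1)
  have ha : a = (r1 * v2 - r2 * v1) / (w1 * v2 - w2 * v1) := by
    rw [eq_div_iff hd, ← h1, ← h2]; ring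
  have hb : b = (w1 * r2 - w2 * r1) / (w1 * v2 - w2 * v1) := by
    rw [eq_div_iff hd, ← h1, ← h2]; ring
  refine ⟨?_, ?_⟩
  · rw [ha]
    exact F₀.div_mem (F₀.sub_mem (F₀.mul_mem hr1 hv2) (F₀.mul_mem hr2 hv1)) hdm
  · rw [hb]
    exact F₀.div_mem (F₀.sub_mem (F₀.mul_mem hw1 hr2) (F₀.mul_mem hw2 hr1)) hdm

/-- two distinct columns of an invertible matrix have a non-zero `2 × 2` minor -/
theorem exists_minor (h : GLn) (i i₀ : Fin n) (hi : i ≠ i₀) :
    ∃ k l : Fin n, (h : Mat) k i * (h : Mat) l i₀ - (h : Mat) l i * (h : Mat) k i₀ ≠ 0 := by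
  classical
  by_contra hcon
  push Not at hcon
  have hinv : ((h⁻¹ : GLn) : Mat) * (h : Mat) = 1 := by
    rw [← Matrix.GeneralLinearGroup.coe_mul, inv_mul_cancel]; rfl
  have hinj : ∀ v : Fin n → F, (h : Mat) *ᵥ v = 0 → v = 0 := by
    intro v hv
    have := congrArg (fun x => ((h⁻¹ : GLn) : Mat) *ᵥ x) hv
    simp only [Matrix.mulVec_mulVec, hinv, Matrix.one_mulVec, Matrix.mulVec_zero] at this
    exact this
  -- column i₀ is non-zero
  have hcol : ∃ l, (h : Mat) l i₀ ≠ 0 := by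
    by_contra hc
    push Not at hc
    have h0 : (h : Mat) *ᵥ (Pi.single i₀ 1) = 0 := by
      funext k
      rw [Matrix.mulVec_single_one]
      exact hc k
    have := congrFun (hinj _ h0) i₀
    simp at this
  obtain ⟨l, hl⟩ := hcol
  set c : F := (h : Mat) l i / (h : Mat) l i₀ with hc
  have h0 : (h : Mat) *ᵥ (Pi.single i 1 - c • Pi.single i₀ 1) = 0 := by
    funext k
    rw [Matrix.mulVec_sub, Matrix.mulVec_smul, Matrix.mulVec_single_one, Matrix.mulVec_single_one]
    simp only [Pi.sub_apply, Pi.smul_apply, smul_eq_mul, Pi.zero_apply, Matrix.col_apply]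
    have := hcon k l
    rw [hc]
    field_simp
    linear_combination this
  have := congrFun (hinj _ h0) i
  simp [hi] at this

end ALLPRAT

/-- ALLPRAT: an invertible matrix mapping every non-zero rational vector to a multiple of a rational
vector lies in `F^* GL_n(F₀)`. -/
theorem ALLPRAT.inN_of_all (F₀ : Subfield F) (hn : 1 ≤ n) (h : GLn)
    (hall : ∀ u : Fin n → F, Rat F₀ u → u ≠ 0 → PRat F₀ ((h : Mat) *ᵥ u)) : InN F₀ (h : Mat) := by
  classical
  -- the columns
  have hcol : ∀ i : Fin n, ∃ z : F, z ≠ 0 ∧ ∀ k, z * (h : Mat) k i ∈ F₀ := by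
    intro i
    obtain ⟨z, hz, hr⟩ := hall (Pi.single i 1) (Rat.single i F₀.one_mem) (by
      intro h0
      have := congrFun h0 i
      simp at this)
    refine ⟨z, hz, fun k => ?_⟩
    have := hr k
    rw [Matrix.mulVec_single_one] at this
    simpa using this
  choose z hz0 hz using hcol
  set i₀ : Fin n := ⟨0, hn⟩ with hi₀
  have hratio : ∀ i : Fin n, z i₀ / z i ∈ F₀ := by
    intro i
    by_cases hi : i = i₀
    · rw [hi, div_self (hz0 i₀)]; exact F₀.one_mem
    · obtain ⟨y, hy, hr⟩ := hall (Pi.single i 1 + Pi.single i₀ 1)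
        (Rat.add (Rat.single i F₀.one_mem) (Rat.single i₀ F₀.one_mem)) (by
          intro h0
          have := congrFun h0 i
          simp [hi] at this)
      have hr' : ∀ k, y * ((h : Mat) k i + (h : Mat) k i₀) ∈ F₀ := by
        intro k
        have := hr k
        rw [Matrix.mulVec_add, Matrix.mulVec_single_one, Matrix.mulVec_single_one] at this
        simpa using this
      obtain ⟨k, l, hkl⟩ := ALLPRAT.exists_minor h i i₀ hi
      have hd : (z i * (h : Mat) k i) * (z i₀ * (h : Mat) l i₀) -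
          (z i * (h : Mat) l i) * (z i₀ * (h : Mat) k i₀) ≠ 0 := by
        have : (z i * (h : Mat) k i) * (z i₀ * (h : Mat) l i₀) -
          (z i * (h : Mat) l i) * (z i₀ * (h : Mat) k i₀) =
          z i * z i₀ * ((h : Mat) k i * (h : Mat) l i₀ - (h : Mat) l i * (h : Mat) k i₀) := by ring
        rw [this]
        exact mul_ne_zero (mul_ne_zero (hz0 i) (hz0 i₀)) hkl
      obtain ⟨ha, hb⟩ := ALLPRAT.cramer F₀ (a := y / z i) (b := y / z i₀) (hz i k) (hz i l)
        (hz i₀ k) (hz i₀ l) (hr' k) (hr' l)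
        (by have := hz0 i; have := hz0 i₀; field_simp)
        (by have := hz0 i; have := hz0 i₀; field_simp) hd
      have : z i₀ / z i = (y / z i) / (y / z i₀) := by
        have := hz0 i; have := hz0 i₀; field_simp
      rw [this]
      exact F₀.div_mem ha hb
  refine ⟨z i₀, hz0 i₀, fun k i => ?_⟩
  have : (z i₀ • (h : Mat)) k i = (z i₀ / z i) * (z i * (h : Mat) k i) := by
    rw [Matrix.smul_apply, smul_eq_mul]
    have := hz0 i
    field_simp
  rw [this]
  exact F₀.mul_mem (hratio i) (hz i k)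

end Cfsg.Agent.S5639P
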