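import Mathlib
import Cfsg.Agent.S0058

set_option autoImplicit false

/-! # S5639 piece BURN (helper13): Burnside's transfer theorem + generation by centralisers. -/

namespace Cfsg.Agent.S5639P

/-- BURN: Burnside's transfer theorem + generation by centralisers (S0058): an abelian non-cyclic
maximal `p`-subgroup that contains its normaliser and the centraliser of each of its non-identity
elements is the whole group. -/
theorem BURN.eq_top {G : Type*} [Group G] [Finite G] (p : ℕ) [Fact p.Prime] (R : Subgroup G)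
    (hRp : IsPGroup p R) (hRc : ∀ a ∈ R, ∀ b ∈ R, a * b = b * a) (hncyc : ¬ IsCyclic R)
    (hmax : ∀ Q : Subgroup G, IsPGroup p Q → R ≤ Q → Q = R)
    (hN : Subgroup.normalizer (R : Set G) ≤ R)
    (hC : ∀ a ∈ R, a ≠ 1 → Subgroup.centralizer ({a} : Set G) ≤ R) : R = ⊤ := by
  classical
  let P : Sylow p G := ⟨R, hRp, fun {Q} hQ hRQ => hmax Q hQ hRQ⟩
  have hPR : (P : Subgroup G) = R := rfl
  have hP : Subgroup.normalizer ((P : Subgroup G) : Set G) ≤
      Subgroup.centralizer ((P : Subgroup G) : Set G) := by
    intro x hx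
    have hxR : x ∈ R := hN hx
    rw [Subgroup.mem_centralizer_iff]
    intro y hy
    exact hRc y hy x hxR
  set K : Subgroup G := (MonoidHom.transferSylow P hP).ker with hK
  have hcompl : Subgroup.IsComplement' K (P : Subgroup G) :=
    MonoidHom.ker_transferSylow_isComplement' P hP
  have hdisj : Disjoint K R := MonoidHom.ker_transferSylow_disjoint P hP R hRp
  have hnd : ¬ p ∣ Nat.card K := MonoidHom.not_dvd_card_ker_transferSylow P hP
  have hcop : (Nat.card R).Coprime (Nat.card K) := by
    obtain ⟨k, hk⟩ := IsPGroup.iff_card.1 hRp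
    rw [hk]
    exact Nat.Coprime.pow_left _ ((Nat.Prime.coprime_iff_not_dvd Fact.out).2 hnd)
  have : IsMulCommutative R := ⟨⟨fun a b => Subtype.ext (hRc a a.2 b b.2)⟩⟩
  have hnorm : R ≤ Subgroup.normalizer (K : Set G) := by
    have : K.Normal := by rw [hK]; infer_instance
    rw [Subgroup.normalizer_eq_top]
    exact le_top
  have hgen := Cfsg.Agent.S0058.result R K hncyc hnorm hcop
  have hKbot : K = ⊥ := by
    rw [eq_bot_iff, ← hgen]
    apply iSup₂_le
    rintro a ⟨haR, ha1⟩
    intro x hx
    have hxK : x ∈ K := hx.1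
    have hxR : x ∈ R := hC a haR ha1 hx.2
    exact (Subgroup.disjoint_def.1 hdisj) hxK hxR ▸ Subgroup.one_mem _
  rw [hKbot, hPR] at hcompl
  exact Subgroup.isComplement'_bot_left.1 hcompl

end Cfsg.Agent.S5639P
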