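import Mathlib

set_option autoImplicit false
set_option linter.style.haveILetI false

namespace Cfsg.Agent.Helper13

/-- a field with `q` elements embeds in a field with `q ^ 2` elements. -/
theorem exists_ringHom_of_card_sq {K F : Type*} [Field K] [Fintype K] [Field F] [Fintype F] {q : ℕ}
    (hK : Fintype.card K = q ^ 2) (hF : Fintype.card F = q) : Nonempty (F →+* K) := by
  obtain ⟨p, hp⟩ := CharP.exists F
  haveI : CharP F p := hp
  have hpp : p.Prime := CharP.char_is_prime F p
  haveI : Fact p.Prime := ⟨hpp⟩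
  obtain ⟨p', hp'⟩ := CharP.exists K
  haveI : CharP K p' := hp'
  have hpp' : p'.Prime := CharP.char_is_prime K p'
  obtain ⟨a, -, ha⟩ := FiniteField.card F p
  obtain ⟨b, -, hb⟩ := FiniteField.card K p'
  have hpeq : p' = p := by
    have h1 : p' ∣ p ^ (2 * (a : ℕ)) := by
      have : p' ∣ p' ^ (b : ℕ) := dvd_pow_self _ b.ne_zero
      rw [← hb, hK, ← hF, ha, ← pow_mul, mul_comm] at this
      exact this
    exact (Nat.prime_dvd_prime_iff_eq hpp' hpp).mp (hpp'.dvd_of_dvd_pow h1)
  subst hpeq
  letI : Algebra (ZMod p') F := ZMod.algebra F p'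
  letI : Algebra (ZMod p') K := ZMod.algebra K p'
  have hfF : Module.finrank (ZMod p') F = a := by
    have h1 := FiniteField.pow_finrank_eq_card p' F
    rw [ha] at h1
    exact Nat.pow_right_injective hpp.two_le h1
  have hfK : Module.finrank (ZMod p') K = 2 * a := by
    have h1 := FiniteField.pow_finrank_eq_card p' K
    rw [hK, ← hF, ha, ← pow_mul, mul_comm] at h1
    exact Nat.pow_right_injective hpp.two_le h1
  obtain ⟨f⟩ := FiniteField.nonempty_algHom_of_finrank_dvd (F := ZMod p') (K := F) (L := K)
    (by rw [hfF, hfK]; exact dvd_mul_left _ _)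
  exact ⟨f.toRingHom⟩

section
variable {K F : Type*} [Field K] [Fintype K] [Field F] [Fintype F] {q : ℕ} (ι : F →+* K)

theorem ringHom_pow_card (hF : Fintype.card F = q) (x : F) : ι x ^ q = ι x := by
  rw [← map_pow, ← hF, FiniteField.pow_card]

theorem pow_card_sq (hK : Fintype.card K = q ^ 2) (y : K) : (y ^ q) ^ q = y := by
  rw [← pow_mul, ← pow_two, ← hK, FiniteField.pow_card]

/-- fixed points of `y ↦ y ^ q` come from `F`. -/
theorem exists_of_pow_card_eq (hF : Fintype.card F = q) (y : K) (hy : y ^ q = y) :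
    ∃ x : F, ι x = y := by
  classical
  by_contra hcon
  push Not at hcon
  have hq : 1 < q := by rw [← hF]; exact Fintype.one_lt_card
  set P : Polynomial K := Polynomial.X ^ q - Polynomial.X with hP
  have hP0 : P ≠ 0 := FiniteField.X_pow_card_sub_X_ne_zero K hq
  have hdeg : P.natDegree = q := FiniteField.X_pow_card_sub_X_natDegree_eq K hq
  have hroot : ∀ z : K, z ^ q = z → z ∈ P.roots.toFinset := by
    intro z hz
    rw [Multiset.mem_toFinset, Polynomial.mem_roots hP0, Polynomial.IsRoot, hP]
    simp [hz]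
  have hsub : insert y (Finset.univ.image ι) ⊆ P.roots.toFinset := by
    intro z hz
    rw [Finset.mem_insert] at hz
    rcases hz with rfl | hz
    · exact hroot _ hy
    · rw [Finset.mem_image] at hz
      obtain ⟨x, -, rfl⟩ := hz
      exact hroot _ (ringHom_pow_card ι hF x)
  have h1 := Finset.card_le_card hsub
  rw [Finset.card_insert_of_notMem, Finset.card_image_of_injective _ ι.injective,
    Finset.card_univ, hF] at h1
  · have h2 : P.roots.toFinset.card ≤ q := by
      calc P.roots.toFinset.card ≤ P.roots.card := Multiset.toFinset_card_le _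
        _ ≤ P.natDegree := Polynomial.card_roots' P
        _ = q := hdeg
    omega
  · intro hmem
    rw [Finset.mem_image] at hmem
    obtain ⟨x, -, hx⟩ := hmem
    exact hcon x hx

theorem finrank_eq_two_of_card [Algebra F K] (hK : Fintype.card K = q ^ 2)
    (hF : Fintype.card F = q) : Module.finrank F K = 2 := by
  have hq : 1 < q := by rw [← hF]; exact Fintype.one_lt_card
  have h1 := Module.card_eq_pow_finrank (K := F) (V := K)
  rw [hK, hF] at h1
  exact (Nat.pow_right_injective hq h1).symm

open Polynomial in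
/-- an irreducible quadratic over `F` has a root in `K`. -/
theorem exists_root_quadratic (hK : Fintype.card K = q ^ 2) (hF : Fintype.card F = q) (a c : F)
    (hac : ∀ z : F, z ^ 2 + a * z + c ≠ 0) : ∃ r : K, r ^ 2 + ι a * r + ι c = 0 := by
  classical
  letI : Algebra F K := ι.toAlgebra
  have halg : ∀ x : F, algebraMap F K x = ι x := fun x => rfl
  set f : F[X] := C 1 * X ^ 2 + C a * X + C c with hf
  have hdeg : f.natDegree = 2 := natDegree_quadratic one_ne_zero
  have hmonic : f.Monic := by
    rw [Monic, leadingCoeff, hdeg, hf]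
    simp [coeff_one]
  have hirr : Irreducible f := by
    rw [hmonic.irreducible_iff_roots_eq_zero_of_degree_le_three (by rw [hdeg]) (by rw [hdeg]; omega),
      Multiset.eq_zero_iff_forall_notMem]
    intro z hz
    rw [mem_roots hmonic.ne_zero, IsRoot, hf] at hz
    simp only [eval_add, eval_mul, eval_C, eval_pow, eval_X, one_mul] at hz
    exact hac z hz
  haveI : Fact (Irreducible f) := ⟨hirr⟩
  have h2 : Module.finrank F (AdjoinRoot f) = 2 := by
    rw [(AdjoinRoot.powerBasis hirr.ne_zero).finrank, AdjoinRoot.powerBasis_dim, hdeg]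
  have h3 : Module.finrank F K = 2 := finrank_eq_two_of_card hK hF
  obtain ⟨g⟩ := FiniteField.nonempty_algHom_of_finrank_dvd (F := F) (K := AdjoinRoot f) (L := K)
    (by rw [h2, h3])
  refine ⟨g (AdjoinRoot.root f), ?_⟩
  have h4 : aeval (g (AdjoinRoot.root f)) f = 0 := by
    rw [aeval_algHom_apply, AdjoinRoot.aeval_eq, AdjoinRoot.mk_self, map_zero]
  have h5 : aeval (g (AdjoinRoot.root f)) (C 1 * X ^ 2 + C a * X + C c : F[X]) = 0 := h4
  simpa [halg] using h5

include ι in
/-- additivity of `y ↦ y ^ q` on `K`. -/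
theorem add_pow_card_of_ringHom (hF : Fintype.card F = q) (x y : K) :
    (x + y) ^ q = x ^ q + y ^ q := by
  obtain ⟨p, hp⟩ := CharP.exists F
  haveI : CharP F p := hp
  haveI : Fact p.Prime := ⟨CharP.char_is_prime F p⟩
  haveI : CharP K p := charP_of_injective_ringHom ι.injective p
  obtain ⟨n, -, hn⟩ := FiniteField.card F p
  have hq : q = p ^ (n : ℕ) := by rw [← hF, hn]
  rw [hq, add_pow_char_pow]

include ι in
theorem sub_pow_card_of_ringHom (hF : Fintype.card F = q) (x y : K) :
    (x - y) ^ q = x ^ q - y ^ q := by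
  have h := add_pow_card_of_ringHom ι hF (x - y) y
  rw [sub_add_cancel] at h
  rw [h, add_sub_cancel_right]

include ι in
theorem neg_pow_card_of_ringHom (hF : Fintype.card F = q) (x : K) :
    (-x) ^ q = -(x ^ q) := by
  have h := sub_pow_card_of_ringHom ι hF 0 x
  rw [zero_sub, zero_pow (by rw [← hF]; exact Fintype.card_ne_zero), zero_sub] at h
  exact h

theorem exists_trF (hK : Fintype.card K = q ^ 2) (hF : Fintype.card F = q) (y : K) :
    ∃ x : F, ι x = y + y ^ q := by
  apply exists_of_pow_card_eq ι hF
  rw [add_pow_card_of_ringHom ι hF, pow_card_sq hK, add_comm]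

/-- the trace `K → F`, `y ↦ y + y ^ q`. -/
noncomputable def trF (hK : Fintype.card K = q ^ 2) (hF : Fintype.card F = q) (y : K) : F :=
  Classical.choose (exists_trF ι hK hF y)

theorem ι_trF (hK : Fintype.card K = q ^ 2) (hF : Fintype.card F = q) (y : K) :
    ι (trF ι hK hF y) = y + y ^ q :=
  Classical.choose_spec (exists_trF ι hK hF y)

theorem trF_add (hK : Fintype.card K = q ^ 2) (hF : Fintype.card F = q) (x y : K) :
    trF ι hK hF (x + y) = trF ι hK hF x + trF ι hK hF y := by
  apply ι.injective
  rw [map_add, ι_trF, ι_trF, ι_trF, add_pow_card_of_ringHom ι hF]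
  ring

theorem trF_smul (hK : Fintype.card K = q ^ 2) (hF : Fintype.card F = q) (a : F) (y : K) :
    trF ι hK hF (ι a * y) = a * trF ι hK hF y := by
  apply ι.injective
  rw [map_mul, ι_trF, ι_trF, mul_pow, ringHom_pow_card ι hF]
  ring

theorem trF_eq_zero_of_pow_eq_neg (hK : Fintype.card K = q ^ 2) (hF : Fintype.card F = q) (y : K)
    (hy : y ^ q = -y) : trF ι hK hF y = 0 := by
  apply ι.injective
  rw [ι_trF, hy, map_zero, add_neg_cancel]

/-- an element of `K` outside the image of `F`. -/
theorem exists_not_mem_range (hK : Fintype.card K = q ^ 2) (hF : Fintype.card F = q) :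
    ∃ θ : K, ∀ x : F, ι x ≠ θ := by
  classical
  by_contra hcon
  push Not at hcon
  have hsurj : Function.Surjective ι := hcon
  have h1 := Fintype.card_le_of_surjective ι hsurj
  have hq : 1 < q := by rw [← hF]; exact Fintype.one_lt_card
  rw [hK, hF] at h1
  nlinarith

end

end Cfsg.Agent.Helper13
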