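import Mathlib

/-!
Class-two calculus and some non-inner automorphisms (towards S4067).
Throughout, `hc : commutator G ≤ center G`.
-/

set_option autoImplicit false

namespace Cfsg.Agent.Helper13.AutOrb

open scoped commutatorElement

variable {G : Type*} [Group G]

theorem comm_mem_commutator (x y : G) : ⁅x, y⁆ ∈ commutator G :=
  Subgroup.commutator_mem_commutator (Subgroup.mem_top _) (Subgroup.mem_top _)

theorem mul_eq_comm_mul (x y : G) : x * y = ⁅x, y⁆ * y * x := by
  rw [commutatorElement_def]; group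

section Class2

variable (hc : commutator G ≤ Subgroup.center G)
include hc

theorem comm_central (x y g : G) : g * ⁅x, y⁆ = ⁅x, y⁆ * g :=
  (Subgroup.mem_center_iff.mp (hc (comm_mem_commutator x y)) g)

theorem comm_mul_left (x y g : G) : ⁅x * y, g⁆ = ⁅x, g⁆ * ⁅y, g⁆ := by
  have h1 : ⁅x * y, g⁆ = x * ⁅y, g⁆ * g * x⁻¹ * g⁻¹ := by
    simp only [commutatorElement_def]; group
  have h2 : ⁅y, g⁆ * x * g * x⁻¹ * g⁻¹ = ⁅y, g⁆ * ⁅x, g⁆ := by
    simp only [commutatorElement_def]; group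
  rw [h1, comm_central hc y g x, h2, comm_central hc x g ⁅y, g⁆]

/-- `x ↦ ⁅x, g⁆` as a homomorphism. -/
def commHom (g : G) : G →* G where
  toFun x := ⁅x, g⁆
  map_one' := commutatorElement_one_left g
  map_mul' x y := comm_mul_left hc x y g

theorem commHom_apply (g x : G) : commHom hc g x = ⁅x, g⁆ := rfl

theorem comm_pow_left (x g : G) (k : ℕ) : ⁅x ^ k, g⁆ = ⁅x, g⁆ ^ k :=
  map_pow (commHom hc g) x k

theorem comm_pow_right (x g : G) (k : ℕ) : ⁅g, x ^ k⁆ = ⁅g, x⁆ ^ k := by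
  rw [← commutatorElement_inv, comm_pow_left hc, ← inv_pow, commutatorElement_inv]

theorem comm_inv_left (x g : G) : ⁅x⁻¹, g⁆ = ⁅x, g⁆⁻¹ :=
  map_inv (commHom hc g) x

/-- The commutator map into the commutator subgroup. -/
def commHomSub (g : G) : G →* commutator G :=
  (commHom hc g).codRestrict (commutator G) (fun x => comm_mem_commutator x g)

theorem commHomSub_coe (g x : G) : ((commHomSub hc g x : commutator G) : G) = ⁅x, g⁆ := rfl

/-- A homomorphism with central values gives the endomorphism `y ↦ y * φ y`. -/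
def centralHom (φ : G →* G) (hφ : ∀ y, φ y ∈ Subgroup.center G) : G →* G where
  toFun y := y * φ y
  map_one' := by simp
  map_mul' x y := by
    have := Subgroup.mem_center_iff.mp (hφ x) y
    rw [map_mul]
    calc x * y * (φ x * φ y) = x * (y * φ x) * φ y := by group
      _ = x * (φ x * y) * φ y := by rw [this]
      _ = _ := by group

omit hc in
theorem centralHom_apply (φ : G →* G) (hφ : ∀ y, φ y ∈ Subgroup.center G) (y : G) :
    centralHom φ hφ y = y * φ y := rfl

/-- A homomorphism `χ` with commuting values and symmetric `⁅x, χ y⁆` gives the endomorphism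
`x ↦ χ x * x * χ x`. -/
def transvHom (χ : G →* G) (h1 : ∀ x y, χ x * χ y = χ y * χ x)
    (h2 : ∀ x y, ⁅x, χ y⁆ = ⁅y, χ x⁆) : G →* G where
  toFun x := χ x * x * χ x
  map_one' := by simp
  map_mul' x y := by
    rw [map_mul]
    have e1 : x * χ y = ⁅x, χ y⁆ * χ y * x := mul_eq_comm_mul _ _
    have e2 : y * χ x = ⁅x, χ y⁆ * χ x * y := by
      rw [h2 x y]; exact mul_eq_comm_mul _ _
    have c1 := comm_central hc x (χ y)
    have e3 : χ y * x = ⁅x, χ y⁆⁻¹ * (x * χ y) := by rw [e1]; group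
    calc χ x * χ y * (x * y) * (χ x * χ y)
        = χ x * (χ y * x) * (y * χ x) * χ y := by group
      _ = χ x * (⁅x, χ y⁆⁻¹ * (x * χ y)) * (⁅x, χ y⁆ * χ x * y) * χ y := by rw [e3, e2]
      _ = χ x * ⁅x, χ y⁆⁻¹ * ((x * χ y) * ⁅x, χ y⁆) * χ x * y * χ y := by group
      _ = χ x * ⁅x, χ y⁆⁻¹ * (⁅x, χ y⁆ * (x * χ y)) * χ x * y * χ y := by rw [c1 (x * χ y)]
      _ = χ x * x * (χ y * χ x) * y * χ y := by group
      _ = χ x * x * (χ x * χ y) * y * χ y := by rw [h1 y x]
      _ = χ x * x * χ x * (χ y * y * χ y) := by group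

theorem transvHom_apply (χ : G →* G) (h1 : ∀ x y, χ x * χ y = χ y * χ x)
    (h2 : ∀ x y, ⁅x, χ y⁆ = ⁅y, χ x⁆) (x : G) :
    transvHom hc χ h1 h2 x = χ x * x * χ x := rfl

/-- In a class-two group, `(x y)^m = x^m y^m ⁅y, x⁆^(m choose 2)`. -/
theorem mul_pow_class2 (x y : G) (m : ℕ) :
    (x * y) ^ m = x ^ m * y ^ m * ⁅y, x⁆ ^ (m.choose 2) := by
  induction m with
  | zero => simp
  | succ m ih =>
    have hcen : ∀ (k : ℕ) (g : G), g * ⁅y, x⁆ ^ k = ⁅y, x⁆ ^ k * g := fun k g =>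
      Subgroup.mem_center_iff.mp (Subgroup.pow_mem _ (hc (comm_mem_commutator y x)) k) g
    have e1 : y ^ m * x = ⁅y, x⁆ ^ m * x * y ^ m := by
      rw [← comm_pow_left hc]; exact mul_eq_comm_mul _ _
    have hch : (m + 1).choose 2 = m.choose 2 + m := by
      rw [Nat.choose_succ_succ' m 1, Nat.choose_one_right, add_comm]
    calc (x * y) ^ (m + 1) = x ^ m * y ^ m * ⁅y, x⁆ ^ m.choose 2 * (x * y) := by
          rw [pow_succ, ih]
      _ = x ^ m * y ^ m * (⁅y, x⁆ ^ m.choose 2 * (x * y)) := by group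
      _ = x ^ m * y ^ m * ((x * y) * ⁅y, x⁆ ^ m.choose 2) := by rw [hcen (m.choose 2) (x * y)]
      _ = x ^ m * (y ^ m * x) * y * ⁅y, x⁆ ^ m.choose 2 := by group
      _ = x ^ m * (⁅y, x⁆ ^ m * x * y ^ m) * y * ⁅y, x⁆ ^ m.choose 2 := by rw [e1]
      _ = (x ^ m * ⁅y, x⁆ ^ m) * x * y ^ m * y * ⁅y, x⁆ ^ m.choose 2 := by group
      _ = (⁅y, x⁆ ^ m * x ^ m) * x * y ^ m * y * ⁅y, x⁆ ^ m.choose 2 := by rw [hcen m (x ^ m)]
      _ = ⁅y, x⁆ ^ m * (x ^ m * x * (y ^ m * y) * ⁅y, x⁆ ^ m.choose 2) := by group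
      _ = (x ^ m * x * (y ^ m * y) * ⁅y, x⁆ ^ m.choose 2) * ⁅y, x⁆ ^ m := (hcen m _).symm
      _ = x ^ (m + 1) * y ^ (m + 1) * ⁅y, x⁆ ^ (m + 1).choose 2 := by
          rw [hch, pow_add (⁅y, x⁆), pow_succ x, pow_succ y]; group

/-- For an odd prime `p` killing all commutators, `x ↦ x ^ p` is an endomorphism. -/
def powHom (p : ℕ) (hp : p.Prime) (hodd : p ≠ 2) (hexp : ∀ x y : G, ⁅x, y⁆ ^ p = 1) : G →* G where
  toFun x := x ^ p
  map_one' := one_pow p
  map_mul' x y := by
    rw [mul_pow_class2 hc]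
    have hdvd : p ∣ p.choose 2 := hp.dvd_choose_self (by norm_num) (by
      have := hp.two_le; omega)
    obtain ⟨j, hj⟩ := hdvd
    rw [hj, pow_mul, hexp, one_pow, mul_one]

theorem powHom_apply (p : ℕ) (hp : p.Prime) (hodd : p ≠ 2) (hexp : ∀ x y : G, ⁅x, y⁆ ^ p = 1)
    (x : G) : powHom hc p hp hodd hexp x = x ^ p := rfl

/-- The homomorphism `G → G'→ ⟨t⟩` sending `x` with `⁅x, g⁆ = c0 ^ k` to `t ^ k`. -/
theorem exists_hom_pow {p : ℕ} [Fact p.Prime] (hcard : Nat.card (commutator G) = p)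
    (g c0 : G) (hc0 : c0 ∈ commutator G) (hc01 : c0 ≠ 1) (t : G) (ht : t ^ p = 1) :
    ∃ φ : G →* G, ∀ x, ∃ k : ℕ, ⁅x, g⁆ = c0 ^ k ∧ φ x = t ^ k := by
  set z' : commutator G := ⟨c0, hc0⟩ with hz'
  have hz'1 : z' ≠ 1 := by
    intro h
    have : (z' : G) = 1 := by rw [h]; rfl
    exact hc01 this
  have hgen : ∀ c : commutator G, c ∈ Subgroup.zpowers z' := fun c =>
    mem_zpowers_of_prime_card hcard hz'1
  have hord : orderOf t ∣ orderOf z' := by
    rw [orderOf_eq_card_of_forall_mem_zpowers hgen, hcard]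
    exact orderOf_dvd_of_pow_eq_one ht
  refine ⟨(monoidHomOfForallMemZpowers hgen hord).comp (commHomSub hc g), ?_⟩
  intro x
  obtain ⟨k, hk⟩ : commHomSub hc g x ∈ Submonoid.powers z' :=
    mem_powers_of_prime_card hcard hz'1
  refine ⟨k, ?_, ?_⟩
  · have := congrArg Subtype.val hk
    rw [commHomSub_coe] at this
    rw [← this]
    simp [hz']
  · rw [MonoidHom.comp_apply, ← hk, map_pow, monoidHomOfForallMemZpowers_apply_gen]

/-- The "index two" automorphism: `x ↦ x` on `C(a)`, `x ↦ x * a` off `C(a)`, when `a * a` is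
the nontrivial commutator. -/
theorem exists_twoHom (a : G) (ha : a * a ≠ 1) (ha2 : (a * a) * (a * a) = 1)
    (h : ∀ x : G, ⁅x, a⁆ = 1 ∨ ⁅x, a⁆ = a * a) :
    ∃ τ : G →* G, ∀ x : G, (⁅x, a⁆ = 1 → τ x = x) ∧ (⁅x, a⁆ ≠ 1 → τ x = x * a) := by
  classical
  refine ⟨
  { toFun := fun x : G => if ⁅x, a⁆ = 1 then x else x * a
    map_one' := by simp
    map_mul' := by
      intro x y
      have hxy := comm_mul_left hc x y a
      rcases h x with hx | hx <;> rcases h y with hy | hy
      · have : ⁅x * y, a⁆ = 1 := by rw [hxy, hx, hy, one_mul]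
        rw [if_pos this, if_pos hx, if_pos hy]
      · have hy' : ⁅y, a⁆ ≠ 1 := by rw [hy]; exact ha
        have : ⁅x * y, a⁆ ≠ 1 := by rw [hxy, hx, one_mul]; exact hy'
        rw [if_neg this, if_pos hx, if_neg hy', mul_assoc]
      · have hx' : ⁅x, a⁆ ≠ 1 := by rw [hx]; exact ha
        have : ⁅x * y, a⁆ ≠ 1 := by rw [hxy, hy, mul_one]; exact hx'
        rw [if_neg this, if_neg hx', if_pos hy]
        have e : y * a = a * y := by
          have := mul_eq_comm_mul y a
          rw [hy, one_mul] at this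
          exact this
        rw [mul_assoc, mul_assoc, e]
      · have hx' : ⁅x, a⁆ ≠ 1 := by rw [hx]; exact ha
        have hy' : ⁅y, a⁆ ≠ 1 := by rw [hy]; exact ha
        have : ⁅x * y, a⁆ = 1 := by rw [hxy, hx, hy, ha2]
        rw [if_pos this, if_neg hx', if_neg hy']
        have e : y * a = (a * a) * a * y := by
          have := mul_eq_comm_mul y a
          rw [hy] at this
          exact this
        have e' : a * y = (a * a)⁻¹ * (y * a) := by rw [e]; group
        have hcz : ∀ g : G, g * (a * a) = (a * a) * g := by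
          intro g
          have := comm_central hc y a g
          rwa [hy] at this
        symm
        calc x * a * (y * a) = x * (a * y) * a := by group
          _ = x * ((a * a)⁻¹ * (y * a)) * a := by rw [e']
          _ = x * (a * a)⁻¹ * (y * (a * a)) := by group
          _ = x * (a * a)⁻¹ * ((a * a) * y) := by rw [hcz y]
          _ = x * y := by group }, ?_⟩
  intro x
  constructor
  · intro hx
    exact if_pos hx
  · intro hx
    exact if_neg hx

end Class2

end Cfsg.Agent.Helper13.AutOrb
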