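import Mathlib
import Cfsg.Prelude.Def_Transfer
import Cfsg.Agent.Helper13.AutOrbB
import Cfsg.Agent.Helper18.Heis
import Cfsg.Agent.Helper1.PGroup

set_option autoImplicit false
set_option linter.unusedSectionVars false

/-! # Generalized extraspecial groups: splitting off `p^{1+2}` (pieces for S5233) -/

namespace Cfsg.Agent.Helper13.GExtra

open scoped commutatorElement
open Cfsg.Agent.Helper13.AutOrb

section ZP

variable {X : Type*} [Group X] {p : ℕ} [Fact p.Prime]

/-- powers with exponents in `ZMod p` -/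
def zp (a : X) (i : ZMod p) : X := a ^ i.val

theorem zp_zero (a : X) : zp a (0 : ZMod p) = 1 := by
  unfold zp; rw [ZMod.val_zero, pow_zero]

theorem zp_add {a : X} (ha : a ^ p = 1) (i j : ZMod p) : zp a (i + j) = zp a i * zp a j := by
  unfold zp
  rw [ZMod.val_add, ← pow_eq_pow_mod _ ha, pow_add]

theorem zp_natCast {a : X} (ha : a ^ p = 1) (k : ℕ) : zp a (k : ZMod p) = a ^ k := by
  unfold zp
  rw [ZMod.val_natCast, ← pow_eq_pow_mod _ ha]

theorem zp_one {a : X} (ha : a ^ p = 1) : zp a (1 : ZMod p) = a := by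
  have := zp_natCast (p := p) ha 1
  rwa [Nat.cast_one, pow_one] at this

theorem zp_mul {a : X} (ha : a ^ p = 1) (i j : ZMod p) : zp a (i * j) = zp (zp a i) j := by
  unfold zp
  rw [ZMod.val_mul, ← pow_eq_pow_mod _ ha, pow_mul]

omit [Fact p.Prime] in
theorem zp_pow_p {a : X} (ha : a ^ p = 1) (i : ZMod p) : zp a i ^ p = 1 := by
  unfold zp
  rw [← pow_mul, mul_comm, pow_mul, ha, one_pow]

theorem zp_neg {a : X} (ha : a ^ p = 1) (i : ZMod p) : zp a (-i) = (zp a i)⁻¹ := by
  have h := zp_add ha (-i) i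
  rw [neg_add_cancel, zp_zero] at h
  exact eq_inv_of_mul_eq_one_left h.symm

theorem zp_inj {a : X} (ha : a ^ p = 1) (ha1 : a ≠ 1) {i j : ZMod p} (h : zp a i = zp a j) :
    i = j := by
  unfold zp at h
  rw [pow_eq_pow_iff_modEq, orderOf_eq_prime ha ha1] at h
  apply ZMod.val_injective p
  have h1 := Nat.mod_eq_of_lt (ZMod.val_lt i)
  have h2 := Nat.mod_eq_of_lt (ZMod.val_lt j)
  unfold Nat.ModEq at h
  omega

theorem zp_eq_one {a : X} (ha : a ^ p = 1) (ha1 : a ≠ 1) {i : ZMod p} (h : zp a i = 1) :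
    i = 0 := by
  apply zp_inj ha ha1
  rw [h, zp_zero]

omit [Fact p.Prime] in
theorem map_zp {Y : Type*} [Group Y] (f : X →* Y) (a : X) (i : ZMod p) :
    f (zp a i) = zp (f a) i := by
  unfold zp; exact map_pow f a _

omit [Fact p.Prime] in
theorem zp_mem (H : Subgroup X) {a : X} (ha : a ∈ H) (i : ZMod p) : zp a i ∈ H :=
  H.pow_mem ha _

/-- in a group of prime order generated by `a`, everything is a `ZMod p`-power of `a` -/
theorem exists_zp_of_mem [Finite X] (N : Subgroup X) (hN : Nat.card N = p) {a : X} (ha : a ∈ N)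
    (ha1 : a ≠ 1) {w : X} (hw : w ∈ N) : ∃ i : ZMod p, w = zp a i := by
  have hap : a ^ p = 1 := by
    have : (⟨a, ha⟩ : N) ^ p = 1 := by rw [← hN]; exact pow_card_eq_one'
    exact congrArg Subtype.val this
  have h1 : (⟨a, ha⟩ : N) ≠ 1 := fun h => ha1 (congrArg Subtype.val h)
  have h2 : (⟨w, hw⟩ : N) ∈ Submonoid.powers (⟨a, ha⟩ : N) := mem_powers_of_prime_card hN h1
  obtain ⟨k, hk⟩ := h2
  refine ⟨(k : ZMod p), ?_⟩
  rw [zp_natCast hap]
  have := congrArg Subtype.val hk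
  simpa using this.symm

end ZP

section Basic

variable {X : Type*} [Group X] [Finite X] {p : ℕ} [Fact p.Prime]

/-- a normal subgroup of prime order of a `p`-group is central -/
theorem normal_prime_le_center (hX : IsPGroup p X) (N : Subgroup X) [N.Normal]
    (hN : Nat.card N = p) : N ≤ Subgroup.center X := by
  have hX' : IsPGroup p (ConjAct X) := hX
  have h1 : (1 : N) ∈ MulAction.fixedPoints (ConjAct X) N := by
    intro g
    exact smul_one g
  have dvd : p ∣ Nat.card N := by rw [hN]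
  obtain ⟨b, hb, hb1⟩ := hX'.exists_fixed_point_of_prime_dvd_card_of_fixed_point N dvd h1
  have hbc : ∀ y : X, y * (b : X) * y⁻¹ = b := by
    intro y
    have := hb (ConjAct.toConjAct y)
    have h2 := congrArg Subtype.val this
    rw [ConjAct.Subgroup.val_conj_smul, ConjAct.smul_def] at h2
    simpa using h2
  intro n hn
  have h3 : (⟨n, hn⟩ : N) ∈ Subgroup.zpowers b := mem_zpowers_of_prime_card hN (Ne.symm hb1)
  obtain ⟨k, hk⟩ := h3
  have hnk : n = (b : X) ^ k := by
    have := congrArg Subtype.val hk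
    simpa using this.symm
  rw [Subgroup.mem_center_iff]
  intro y
  have hyb : y * (b : X) = b * y := by
    have := hbc y
    calc y * (b : X) = (y * b * y⁻¹) * y := by group
      _ = b * y := by rw [this]
  rw [hnk]
  exact ((Commute.zpow_right hyb k)).eq

/-- complements in elementary abelian subgroups -/
theorem exists_compl_elem (C Z : Subgroup X) (hab : ∀ a ∈ C, ∀ b ∈ C, a * b = b * a)
    (hexp : ∀ a ∈ C, a ^ p = 1) (hZC : Z ≤ C) :
    ∃ W : Subgroup X, W ≤ C ∧ W ⊓ Z = ⊥ ∧ Z ⊔ W = C := by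
  let 𝒮 : Set (Subgroup X) := {W | W ≤ C ∧ W ⊓ Z = ⊥}
  obtain ⟨W, ⟨hWC, hWZ⟩, hmax⟩ :=
    Set.exists_max_image 𝒮 (fun W => Nat.card W) (Set.toFinite _) ⟨⊥, bot_le, bot_inf_eq _⟩
  refine ⟨W, hWC, hWZ, le_antisymm (sup_le hZC hWC) ?_⟩
  intro w hw
  by_contra hwn
  have hw1 : w ≠ 1 := fun h => hwn (h ▸ Subgroup.one_mem _)
  have hwp : w ^ p = 1 := hexp w hw
  have hcardw : Nat.card (Subgroup.zpowers w) = p := by
    rw [Nat.card_zpowers, orderOf_eq_prime hwp hw1]
  have hnorm : Subgroup.zpowers w ≤ Subgroup.normalizer (W : Set X) := by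
    refine le_trans ?_ (Subgroup.centralizer_le_normalizer (W : Set X))
    rw [Subgroup.zpowers_le, Subgroup.mem_centralizer_iff]
    intro a ha
    exact hab a (hWC ha) w hw
  have hW1 : W ⊔ Subgroup.zpowers w ∈ 𝒮 := by
    refine ⟨sup_le hWC (by rw [Subgroup.zpowers_le]; exact hw), ?_⟩
    rw [eq_bot_iff]
    intro u hu
    obtain ⟨hu1, hu2⟩ := Subgroup.mem_inf.1 hu
    rw [← SetLike.mem_coe, Subgroup.coe_mul_of_right_le_normalizer_left W _ hnorm,
      Set.mem_mul] at hu1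
    obtain ⟨a, ha, v, hv, rfl⟩ := hu1
    by_cases hv1 : v = 1
    · rw [hv1, mul_one] at hu2 ⊢
      have : a ∈ W ⊓ Z := ⟨ha, hu2⟩
      rw [hWZ] at this
      exact this
    · exfalso
      apply hwn
      have h1 : (⟨v, hv⟩ : Subgroup.zpowers w) ≠ 1 := fun h => hv1 (congrArg Subtype.val h)
      have h2 : (⟨w, Subgroup.mem_zpowers w⟩ : Subgroup.zpowers w) ∈
          Subgroup.zpowers (⟨v, hv⟩ : Subgroup.zpowers w) := mem_zpowers_of_prime_card hcardw h1
      obtain ⟨m, hm⟩ := h2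
      have hwm : w = v ^ m := by
        have := congrArg Subtype.val hm
        simpa using this.symm
      have hvZW : v ∈ Z ⊔ W := by
        have e : v = a⁻¹ * (a * v) := by group
        rw [e]
        exact Subgroup.mul_mem _ (Subgroup.mem_sup_right (W.inv_mem ha))
          (Subgroup.mem_sup_left hu2)
      rw [hwm]
      exact Subgroup.zpow_mem _ hvZW m
  have hle : W ≤ W ⊔ Subgroup.zpowers w := le_sup_left
  have heq : W = W ⊔ Subgroup.zpowers w := Subgroup.eq_of_le_of_card_ge hle (hmax _ hW1)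
  apply hwn
  apply Subgroup.mem_sup_right
  rw [heq]
  exact Subgroup.mem_sup_right (Subgroup.mem_zpowers w)

end Basic


/-- the configuration: `T` abelian of exponent `p`, equal to `C_X(x)`, `g ∉ T` of order `p` not
commuting with `x ∈ T`, in a `p`-group `X` with `Φ(X) = X'` of order `p`. -/
structure Cfg (p : ℕ) (X : Type*) [Group X] where
  T : Subgroup X
  x : X
  g : X
  hX : IsPGroup p X
  hc : Nat.card (commutator X) = p
  hf : frattini X = commutator X
  hTab : ∀ a ∈ T, ∀ b ∈ T, a * b = b * a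
  hTexp : ∀ a ∈ T, a ^ p = 1
  hx : x ∈ T
  hg : g ∉ T
  hgp : g ^ p = 1
  hgx : g * x ≠ x * g
  hcent : ∀ y : X, y * x = x * y → y ∈ T

namespace Cfg

variable {X : Type*} [Group X] [Finite X] {p : ℕ} [Fact p.Prime] (c : Cfg p X)

include c in
theorem hcc : commutator X ≤ Subgroup.center X :=
  normal_prime_le_center c.hX (commutator X) c.hc

/-- the central commutator `z = [g, x]` -/
def z : X := ⁅c.g, c.x⁆

theorem z_mem : c.z ∈ commutator X := comm_mem_commutator _ _

theorem z_ne : c.z ≠ 1 := fun h => c.hgx (commutatorElement_eq_one_iff_mul_comm.1 h)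

include c in
theorem pow_p_of_mem {w : X} (hw : w ∈ commutator X) : w ^ p = 1 := by
  have : (⟨w, hw⟩ : commutator X) ^ p = 1 := by
    have h := c.hc
    rw [← h]; exact pow_card_eq_one'
  exact congrArg Subtype.val this

theorem z_pow : c.z ^ p = 1 := c.pow_p_of_mem c.z_mem

theorem xp : c.x ^ p = 1 := c.hTexp _ c.hx

include c in
theorem central_of_mem {w : X} (hw : w ∈ commutator X) (y : X) : y * w = w * y :=
  Subgroup.mem_center_iff.mp (c.hcc hw) y

theorem zpz_mem (i : ZMod p) : zp c.z i ∈ commutator X := zp_mem _ c.z_mem i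

theorem zpz_central (i : ZMod p) (y : X) : y * zp c.z i = zp c.z i * y :=
  c.central_of_mem (c.zpz_mem i) y

theorem exists_zpz {w : X} (hw : w ∈ commutator X) : ∃ i : ZMod p, w = zp c.z i :=
  exists_zp_of_mem (commutator X) c.hc c.z_mem c.z_ne hw

/-- `w ↦ [w, x]` -/
def κx : X →* X := commHom c.hcc c.x

/-- `w ↦ [w, g]` -/
def κg : X →* X := commHom c.hcc c.g

theorem κx_apply (w : X) : c.κx w = ⁅w, c.x⁆ := rfl

theorem κg_apply (w : X) : c.κg w = ⁅w, c.g⁆ := rfl

theorem κx_mem (w : X) : c.κx w ∈ commutator X := comm_mem_commutator _ _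

theorem κg_mem (w : X) : c.κg w ∈ commutator X := comm_mem_commutator _ _

theorem κx_g : c.κx c.g = c.z := rfl

theorem κx_x : c.κx c.x = 1 := commutatorElement_self _

theorem κg_g : c.κg c.g = 1 := commutatorElement_self _

theorem κg_x : c.κg c.x = c.z⁻¹ := by
  rw [κg_apply, z, commutatorElement_inv]

theorem κx_of_central {w : X} (hw : w ∈ commutator X) : c.κx w = 1 := by
  rw [κx_apply, commutatorElement_eq_one_iff_mul_comm]
  exact (c.central_of_mem hw c.x).symm

theorem κg_of_central {w : X} (hw : w ∈ commutator X) : c.κg w = 1 := by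
  rw [κg_apply, commutatorElement_eq_one_iff_mul_comm]
  exact (c.central_of_mem hw c.g).symm

theorem κx_eq_one_iff (w : X) : c.κx w = 1 ↔ w ∈ c.T := by
  rw [κx_apply, commutatorElement_eq_one_iff_mul_comm]
  exact ⟨c.hcent w, fun h => c.hTab w h c.x c.hx⟩

theorem κg_eq_one_iff (w : X) : c.κg w = 1 ↔ w * c.g = c.g * w := by
  rw [κg_apply, commutatorElement_eq_one_iff_mul_comm]

theorem comm_mem_T : commutator X ≤ c.T := fun w hw => (c.κx_eq_one_iff w).1 (c.κx_of_central hw)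

/-- normal form map -/
def h₀ (b u y : ZMod p) : X := zp c.x y * zp c.z u * zp c.g b

theorem κx_h₀ (b u y : ZMod p) : c.κx (c.h₀ b u y) = zp c.z b := by
  unfold h₀
  rw [map_mul, map_mul, map_zp, map_zp, map_zp, κx_x, κx_g, c.κx_of_central c.z_mem]
  unfold zp
  simp

theorem κg_h₀ (b u y : ZMod p) : c.κg (c.h₀ b u y) = (zp c.z y)⁻¹ := by
  unfold h₀
  rw [map_mul, map_mul, map_zp, map_zp, map_zp, κg_x, κg_g, c.κg_of_central c.z_mem]
  unfold zp
  simp

theorem comm_zp (b y : ZMod p) : ⁅zp c.g b, zp c.x y⁆ = zp c.z (b * y) := by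
  rw [mul_comm b y, zp_mul c.z_pow]
  unfold zp
  rw [comm_pow_left c.hcc, comm_pow_right c.hcc]
  rfl

theorem h₀_mul (b u y b' u' y' : ZMod p) :
    c.h₀ b u y * c.h₀ b' u' y' = c.h₀ (b + b') (u + u' + b * y') (y + y') := by
  unfold h₀
  have e1 : zp c.g b * zp c.x y' = zp c.z (b * y') * zp c.x y' * zp c.g b := by
    rw [← c.comm_zp]; exact mul_eq_comm_mul _ _
  rw [zp_add c.xp, zp_add c.z_pow, zp_add c.z_pow, zp_add c.hgp]
  have c1 := c.zpz_central u
  have c2 := c.zpz_central u'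
  have c3 := c.zpz_central (b * y')
  calc zp c.x y * zp c.z u * zp c.g b * (zp c.x y' * zp c.z u' * zp c.g b')
      = zp c.x y * zp c.z u * (zp c.g b * zp c.x y') * zp c.z u' * zp c.g b' := by group
    _ = zp c.x y * zp c.z u * (zp c.z (b * y') * zp c.x y' * zp c.g b) * zp c.z u' * zp c.g b' := by
        rw [e1]
    _ = zp c.x y * zp c.z u * zp c.z (b * y') * zp c.x y' * (zp c.g b * zp c.z u') * zp c.g b' := by
        group
    _ = zp c.x y * zp c.z u * zp c.z (b * y') * zp c.x y' * (zp c.z u' * zp c.g b) * zp c.g b' := by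
        rw [c2 (zp c.g b)]
    _ = zp c.x y * zp c.z u * zp c.z (b * y') * (zp c.x y' * zp c.z u') * zp c.g b * zp c.g b' := by
        group
    _ = zp c.x y * zp c.z u * zp c.z (b * y') * (zp c.z u' * zp c.x y') * zp c.g b * zp c.g b' := by
        rw [c2 (zp c.x y')]
    _ = zp c.x y * zp c.z u * (zp c.z (b * y') * zp c.z u') * zp c.x y' * zp c.g b * zp c.g b' := by
        group
    _ = zp c.x y * zp c.z u * (zp c.z u' * zp c.z (b * y')) * zp c.x y' * zp c.g b * zp c.g b' := by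
        rw [c2 (zp c.z (b * y'))]
    _ = zp c.x y * ((zp c.z u * zp c.z u' * zp c.z (b * y')) * zp c.x y') * zp c.g b * zp c.g b' := by
        group
    _ = zp c.x y * (zp c.x y' * (zp c.z u * zp c.z u' * zp c.z (b * y'))) * zp c.g b * zp c.g b' := by
        rw [← c.central_of_mem ((commutator X).mul_mem ((commutator X).mul_mem (c.zpz_mem u)
          (c.zpz_mem u')) (c.zpz_mem (b * y'))) (zp c.x y')]
    _ = zp c.x y * zp c.x y' * (zp c.z u * zp c.z u' * zp c.z (b * y')) *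
          (zp c.g b * zp c.g b') := by group

theorem h₀_zero : c.h₀ 0 0 0 = 1 := by
  unfold h₀; rw [zp_zero, zp_zero, zp_zero]; simp

theorem h₀_inj {b u y b' u' y' : ZMod p} (h : c.h₀ b u y = c.h₀ b' u' y') :
    b = b' ∧ u = u' ∧ y = y' := by
  have hb : b = b' := by
    have := congrArg c.κx h
    rw [κx_h₀, κx_h₀] at this
    exact zp_inj c.z_pow c.z_ne this
  have hy : y = y' := by
    have := congrArg c.κg h
    rw [κg_h₀, κg_h₀, inv_inj] at this
    exact zp_inj c.z_pow c.z_ne this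
  refine ⟨hb, ?_, hy⟩
  subst hb hy
  unfold h₀ at h
  have h1 : zp c.z u = zp c.z u' := by
    have := mul_right_cancel h
    exact mul_left_cancel this
  exact zp_inj c.z_pow c.z_ne h1

theorem h₀_inv (b u y : ZMod p) : (c.h₀ b u y)⁻¹ = c.h₀ (-b) (-u + b * y) (-y) := by
  symm
  apply eq_inv_of_mul_eq_one_right
  rw [h₀_mul]
  have e1 : b + -b = 0 := by ring
  have e2 : u + (-u + b * y) + b * -y = 0 := by ring
  have e3 : y + -y = 0 := by ring
  rw [e1, e2, e3, h₀_zero]

/-- the extraspecial factor -/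
def E0 : Subgroup X where
  carrier := Set.range (fun t : ZMod p × ZMod p × ZMod p => c.h₀ t.1 t.2.1 t.2.2)
  mul_mem' := by
    rintro _ _ ⟨⟨b, u, y⟩, rfl⟩ ⟨⟨b', u', y'⟩, rfl⟩
    exact ⟨(b + b', u + u' + b * y', y + y'), (c.h₀_mul b u y b' u' y').symm⟩
  one_mem' := ⟨(0, 0, 0), c.h₀_zero⟩
  inv_mem' := by
    rintro _ ⟨⟨b, u, y⟩, rfl⟩
    exact ⟨(-b, -u + b * y, -y), (c.h₀_inv b u y).symm⟩

theorem h₀_mem (b u y : ZMod p) : c.h₀ b u y ∈ c.E0 := ⟨(b, u, y), rfl⟩

theorem mem_E0 {w : X} (hw : w ∈ c.E0) : ∃ b u y, w = c.h₀ b u y := by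
  obtain ⟨⟨b, u, y⟩, rfl⟩ := hw
  exact ⟨b, u, y, rfl⟩

/-- Heisenberg coordinates on `E0` -/
def heis : Cfsg.Agent.Helper18.HeisCoord (ZMod p) c.E0 where
  h b u y := ⟨c.h₀ b u y, c.h₀_mem b u y⟩
  mul b u y b' u' y' := Subtype.ext (c.h₀_mul b u y b' u' y')
  surj w := by
    obtain ⟨b, u, y, h⟩ := c.mem_E0 w.2
    exact ⟨b, u, y, Subtype.ext h⟩
  inj b u y b' u' y' h := c.h₀_inj (congrArg Subtype.val h)

theorem x_mem : c.x ∈ c.E0 := by
  have := c.h₀_mem 0 0 1
  unfold h₀ at this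
  rw [zp_zero, zp_zero, zp_one c.xp] at this
  simpa using this

theorem g_mem : c.g ∈ c.E0 := by
  have := c.h₀_mem 1 0 0
  unfold h₀ at this
  rw [zp_zero, zp_zero, zp_one c.hgp] at this
  simpa using this

theorem comm_le_E0 : commutator X ≤ c.E0 := by
  intro w hw
  obtain ⟨i, rfl⟩ := c.exists_zpz hw
  have := c.h₀_mem 0 i 0
  unfold h₀ at this
  rw [zp_zero, zp_zero] at this
  simpa using this


/-- elements killed by both commutator maps are central -/
theorem central_of_κ {w : X} (h1 : c.κx w = 1) (h2 : c.κg w = 1) (y : X) : y * w = w * y := by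
  obtain ⟨b, hb⟩ := c.exists_zpz (c.κx_mem y)
  have hy' : y * (zp c.g b)⁻¹ ∈ c.T := by
    rw [← c.κx_eq_one_iff, map_mul, map_inv, map_zp, κx_g, hb]; exact mul_inv_cancel _
  have hwT : w ∈ c.T := (c.κx_eq_one_iff w).1 h1
  have h3 : y * (zp c.g b)⁻¹ * w = w * (y * (zp c.g b)⁻¹) := c.hTab _ hy' w hwT
  have h4 : w * c.g = c.g * w := (c.κg_eq_one_iff w).1 h2
  have h5 : zp c.g b * w = w * zp c.g b := by
    unfold zp
    exact (Commute.pow_left (show Commute c.g w from h4.symm) _).eq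
  calc y * w = y * (zp c.g b)⁻¹ * (zp c.g b * w) := by group
    _ = y * (zp c.g b)⁻¹ * (w * zp c.g b) := by rw [h5]
    _ = (y * (zp c.g b)⁻¹ * w) * zp c.g b := by group
    _ = (w * (y * (zp c.g b)⁻¹)) * zp c.g b := by rw [h3]
    _ = w * y := by group

/-- `C_T(g)` -/
def C0 : Subgroup X := c.κx.ker ⊓ c.κg.ker

theorem mem_C0 (w : X) : w ∈ c.C0 ↔ c.κx w = 1 ∧ c.κg w = 1 := by
  unfold C0
  rw [Subgroup.mem_inf, MonoidHom.mem_ker, MonoidHom.mem_ker]

theorem C0_le_T : c.C0 ≤ c.T := fun w hw => (c.κx_eq_one_iff w).1 ((c.mem_C0 w).1 hw).1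

theorem C0_le_center : c.C0 ≤ Subgroup.center X := by
  intro w hw
  rw [Subgroup.mem_center_iff]
  intro y
  exact c.central_of_κ ((c.mem_C0 w).1 hw).1 ((c.mem_C0 w).1 hw).2 y

theorem comm_le_C0 : commutator X ≤ c.C0 := fun w hw =>
  (c.mem_C0 w).2 ⟨c.κx_of_central hw, c.κg_of_central hw⟩

theorem h₀_0u0 (u : ZMod p) : c.h₀ 0 u 0 = zp c.z u := by
  unfold h₀
  rw [zp_zero, zp_zero]; simp

/-- the decomposition `X = E0 × A0` (internal form) -/
theorem exists_decomp : ∃ A0 : Subgroup X, A0 ≤ Subgroup.center X ∧ (∀ a ∈ A0, a ^ p = 1) ∧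
    c.E0 ⊓ A0 = ⊥ ∧ c.E0 ⊔ A0 = ⊤ := by
  obtain ⟨A0, hA0C, hA0Z, hZA0⟩ := exists_compl_elem (p := p) c.C0 (commutator X)
    (fun a ha b hb => c.hTab a (c.C0_le_T ha) b (c.C0_le_T hb))
    (fun a ha => c.hTexp a (c.C0_le_T ha)) c.comm_le_C0
  refine ⟨A0, hA0C.trans c.C0_le_center, fun a ha => c.hTexp a (c.C0_le_T (hA0C ha)), ?_, ?_⟩
  · rw [eq_bot_iff]
    intro w hw
    obtain ⟨hwE, hwA⟩ := Subgroup.mem_inf.1 hw
    obtain ⟨b, u, y, rfl⟩ := c.mem_E0 hwE
    have hC := (c.mem_C0 _).1 (hA0C hwA)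
    have hb : b = 0 := by
      have := hC.1
      rw [κx_h₀] at this
      exact zp_eq_one c.z_pow c.z_ne this
    have hy : y = 0 := by
      have := hC.2
      rw [κg_h₀, inv_eq_one] at this
      exact zp_eq_one c.z_pow c.z_ne this
    subst hb hy
    rw [h₀_0u0] at hwA ⊢
    have : zp c.z u ∈ A0 ⊓ commutator X := ⟨hwA, c.zpz_mem u⟩
    rw [hA0Z] at this
    exact this
  · rw [eq_top_iff]
    intro w _
    obtain ⟨b, hb⟩ := c.exists_zpz (c.κx_mem w)
    obtain ⟨m, hm⟩ := c.exists_zpz (c.κg_mem w)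
    have h1 : c.κx (w * (c.h₀ b 0 (-m))⁻¹) = 1 := by
      rw [map_mul, map_inv, κx_h₀, hb]; exact mul_inv_cancel _
    have h2 : c.κg (w * (c.h₀ b 0 (-m))⁻¹) = 1 := by
      rw [map_mul, map_inv, κg_h₀, hm, zp_neg c.z_pow, inv_inv]; exact mul_inv_cancel _
    have h3 : w * (c.h₀ b 0 (-m))⁻¹ ∈ c.C0 := (c.mem_C0 _).2 ⟨h1, h2⟩
    rw [← hZA0] at h3
    have h4 : commutator X ⊔ A0 ≤ c.E0 ⊔ A0 := sup_le (c.comm_le_E0.trans le_sup_left) le_sup_right
    have e : w = w * (c.h₀ b 0 (-m))⁻¹ * c.h₀ b 0 (-m) := by group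
    rw [e]
    exact Subgroup.mul_mem _ (h4 h3) (Subgroup.mem_sup_left (c.h₀_mem _ _ _))

end Cfg


section Glue

variable {X : Type*} [Group X]

/-- internal direct product with a central factor -/
theorem mulEquiv_of_central_compl (E A : Subgroup X) (hA : A ≤ Subgroup.center X)
    (h1 : E ⊓ A = ⊥) (h2 : E ⊔ A = ⊤) : Nonempty (X ≃* E × A) := by
  have hcomm : ∀ (e : E) (a : A), Commute (E.subtype e) (A.subtype a) := fun e a =>
    (Subgroup.mem_center_iff.1 (hA a.2) e)
  let f : E × A →* X := MonoidHom.noncommCoprod E.subtype A.subtype hcomm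
  have hf : ∀ t : E × A, f t = (t.1 : X) * (t.2 : X) := fun t => rfl
  have hinj : Function.Injective f := by
    rw [injective_iff_map_eq_one]
    rintro ⟨e, a⟩ h
    rw [hf] at h
    have he : (e : X) = (a : X)⁻¹ := eq_inv_of_mul_eq_one_left h
    have h3 : (e : X) ∈ E ⊓ A := ⟨e.2, by rw [he]; exact A.inv_mem a.2⟩
    rw [h1, Subgroup.mem_bot] at h3
    have h4 : (a : X) = 1 := by rw [h3, one_mul] at h; exact h
    exact Prod.ext (Subtype.ext h3) (Subtype.ext h4)
  have hsurj : Function.Surjective f := by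
    rw [← MonoidHom.range_eq_top, MonoidHom.noncommCoprod_range, Subgroup.range_subtype,
      Subgroup.range_subtype, h2]
  exact ⟨(MulEquiv.ofBijective f ⟨hinj, hsurj⟩).symm⟩

/-- transport of Heisenberg coordinates -/
def heisMap {F : Type*} [Field F] {G G' : Type*} [Group G] [Group G']
    (K : Cfsg.Agent.Helper18.HeisCoord F G) (e : G ≃* G') : Cfsg.Agent.Helper18.HeisCoord F G' where
  h b x y := e (K.h b x y)
  mul b x y b' x' y' := by rw [← map_mul, K.mul]
  surj g := by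
    obtain ⟨b, x, y, h⟩ := K.surj (e.symm g)
    exact ⟨b, x, y, by rw [← h]; simp⟩
  inj b x y b' x' y' h := K.inj _ _ _ _ _ _ (e.injective h)

end Glue

end Cfsg.Agent.Helper13.GExtra
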