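import Mathlib
import Cfsg.Agent.Helper13.GExtraCore

set_option autoImplicit false
set_option linter.style.haveILetI false

/-! # S5233 piece (GO): generalized extraspecial `p`-groups, `p` odd -/

namespace Cfsg.Agent.Helper13.GExtra

open scoped commutatorElement

/-- (GO) -/
theorem gextra_odd {X : Type*} [Group X] [Finite X] {p : ℕ} [Fact p.Prime] (hp : p ≠ 2)
    (hX : IsPGroup p X) (hc : Nat.card ↥(commutator X) = p) (hf : frattini X = commutator X)
    (T : Subgroup X) (hTab : ∀ a ∈ T, ∀ b ∈ T, a * b = b * a) (hTexp : ∀ a ∈ T, a ^ p = 1)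
    (x g : X) (hx : x ∈ T) (hg : g ∉ T) (hgp : g ^ p = 1) (hgx : g * x ≠ x * g)
    (hcent : ∀ y : X, y * x = x * y → y ∈ T) :
    ∃ (E : Type) (_ : Group E) (A : Type) (_ : CommGroup A), Cfsg.IsExtraspecial p E ∧
      Nat.card E = p ^ 3 ∧ Monoid.exponent E = p ∧ (∀ a : A, a ^ p = 1) ∧ Nonempty (X ≃* E × A) := by
  let c : Cfg p X := ⟨T, x, g, hX, hc, hf, hTab, hTexp, hx, hg, hgp, hgx, hcent⟩
  obtain ⟨A0, hA0c, hA0p, h1, h2⟩ := c.exists_decomp
  letI : CommGroup A0 :=
    { (inferInstance : Group A0) with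
      mul_comm := fun a b => Subtype.ext (by
        rw [Subgroup.coe_mul, Subgroup.coe_mul]
        exact Subgroup.mem_center_iff.1 (hA0c b.2) a) }
  let K : Cfsg.Agent.Helper18.HeisCoord (ZMod p) (Shrink.{0} c.E0) :=
    heisMap c.heis (Shrink.mulEquiv.{0} (α := c.E0)).symm
  obtain ⟨e⟩ := mulEquiv_of_central_compl c.E0 A0 hA0c h1 h2
  refine ⟨Shrink.{0} c.E0, inferInstance, Shrink.{0} A0, inferInstance, K.isExtraspecial hp,
    K.card, K.exponent hp, ?_, ?_⟩
  · intro a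
    apply (Shrink.mulEquiv.{0} (α := A0)).injective
    rw [map_pow, map_one]
    exact Subtype.ext (hA0p _ (Shrink.mulEquiv a).2)
  · exact ⟨e.trans (MulEquiv.prodCongr (Shrink.mulEquiv.{0} (α := c.E0)).symm
      (Shrink.mulEquiv.{0} (α := A0)).symm)⟩

end Cfsg.Agent.Helper13.GExtra
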