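import Mathlib
import Cfsg.Agent.Helper13.GExtraCore
import Cfsg.Agent.Helper28.D4Equiv

set_option autoImplicit false
set_option linter.style.haveILetI false

/-! # S5233 piece (G2): generalized extraspecial `2`-groups -/

namespace Cfsg.Agent.Helper13.GExtra

open scoped commutatorElement

/-- `E0 ≃ D₈` for `p = 2` -/
theorem Cfg.nonempty_dihedral {X : Type*} [Group X] [Finite X] (c : Cfg 2 X) :
    Nonempty (DihedralGroup 4 ≃* c.E0) := by
  have h8 : Nat.card c.E0 = 8 := by rw [c.heis.card]; norm_num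
  have hx2 : c.x * c.x = 1 := by have := c.xp; rwa [pow_two] at this
  have hg2 : c.g * c.g = 1 := by have := c.hgp; rwa [pow_two] at this
  have hz2 : c.z * c.z = 1 := by have := c.z_pow; rwa [pow_two] at this
  have hxi : c.x⁻¹ = c.x := inv_eq_of_mul_eq_one_left hx2
  have hgi : c.g⁻¹ = c.g := inv_eq_of_mul_eq_one_left hg2
  have hgx' : c.g * c.x = c.z * c.x * c.g := by
    unfold Cfg.z; rw [commutatorElement_def]; group
  have hzc := c.central_of_mem c.z_mem
  have hsq : (c.x * c.g) * (c.x * c.g) = c.z := by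
    calc (c.x * c.g) * (c.x * c.g) = c.x * (c.g * c.x) * c.g := by group
      _ = c.x * (c.z * c.x * c.g) * c.g := by rw [hgx']
      _ = (c.x * c.z) * c.x * (c.g * c.g) := by group
      _ = (c.z * c.x) * c.x * (c.g * c.g) := by rw [hzc c.x]
      _ = c.z * (c.x * c.x) * (c.g * c.g) := by group
      _ = c.z := by rw [hx2, hg2]; group
  have hmem : c.x * c.g ∈ c.E0 := c.E0.mul_mem c.x_mem c.g_mem
  apply Cfsg.Agent.Helper28.D4.equiv_of_gens h8 (⟨c.x * c.g, hmem⟩ : c.E0) (⟨c.x, c.x_mem⟩ : c.E0)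
  · apply Subtype.ext
    show (c.x * c.g) ^ 4 = 1
    calc (c.x * c.g) ^ 4 = ((c.x * c.g) * (c.x * c.g)) * ((c.x * c.g) * (c.x * c.g)) := by
          rw [show (4 : ℕ) = 2 + 2 from rfl, pow_add, pow_two]
      _ = 1 := by rw [hsq, hz2]
  · intro h
    have h' : (c.x * c.g) ^ 2 = 1 := congrArg Subtype.val h
    rw [pow_two, hsq] at h'
    exact c.z_ne h'
  · exact Subtype.ext hx2
  · apply Subtype.ext
    show c.x * (c.x * c.g) * c.x⁻¹ = (c.x * c.g)⁻¹
    rw [mul_inv_rev, hxi, hgi]
    calc c.x * (c.x * c.g) * c.x = (c.x * c.x) * c.g * c.x := by group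
      _ = c.g * c.x := by rw [hx2, one_mul]
  · intro k h
    have h' : c.x = (c.x * c.g) ^ k := congrArg Subtype.val h
    have hcomm : Commute c.x (c.x * c.g) := by
      have h0 : Commute ((c.x * c.g) ^ k) (c.x * c.g) := (Commute.refl _).pow_left k
      rw [← h'] at h0
      exact h0
    apply c.hgx
    have e := hcomm.eq
    have e2 : c.x * c.g = c.g * c.x := by
      have : c.x * (c.x * c.g) = c.x * (c.g * c.x) := by rw [e]; group
      exact mul_left_cancel this
    exact e2.symm

/-- (G2) -/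
theorem gextra_two {X : Type*} [Group X] [Finite X] (hX : IsPGroup 2 X)
    (hc : Nat.card ↥(commutator X) = 2) (hf : frattini X = commutator X)
    (T : Subgroup X) (hTab : ∀ a ∈ T, ∀ b ∈ T, a * b = b * a) (hTexp : ∀ a ∈ T, a ^ 2 = 1)
    (x g : X) (hx : x ∈ T) (hg : g ∉ T) (hgx : g * x ≠ x * g)
    (hcent : ∀ y : X, y * x = x * y → y ∈ T) :
    ∃ (A : Type) (_ : CommGroup A), (∀ a : A, a ^ 2 = 1) ∧ Nonempty (X ≃* DihedralGroup 4 × A) := by
  haveI : Fact (Nat.Prime 2) := ⟨Nat.prime_two⟩
  -- a configuration with `g ^ 2 = 1`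
  have hcfg : ∃ c : Cfg 2 X, True := by
    by_cases hg2 : g ^ 2 = 1
    · exact ⟨⟨T, x, g, hX, hc, hf, hTab, hTexp, hx, hg, hg2, hgx, hcent⟩, trivial⟩
    · have hcc : commutator X ≤ Subgroup.center X := normal_prime_le_center hX (commutator X) hc
      have hzmem : ⁅g, x⁆ ∈ commutator X := Cfsg.Agent.Helper13.AutOrb.comm_mem_commutator g x
      have hz1 : ⁅g, x⁆ ≠ 1 := fun h => hgx (commutatorElement_eq_one_iff_mul_comm.1 h)
      have hg2mem : g ^ 2 ∈ commutator X := by
        rw [← hf]; exact Cfsg.Agent.Helper1.IsPGroup.pow_mem_frattini hX g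
      obtain ⟨i, hi⟩ := exists_zp_of_mem (p := 2) (commutator X) hc hzmem hz1 hg2mem
      have hzz : ⁅g, x⁆ ^ 2 = 1 := by
        have : (⟨⁅g, x⁆, hzmem⟩ : commutator X) ^ 2 = 1 := by
          rw [← hc]; exact pow_card_eq_one'
        exact congrArg Subtype.val this
      have hg2z : g ^ 2 = ⁅g, x⁆ := by
        have hi' : i = 0 ∨ i = 1 := by
          fin_cases i
          · left; rfl
          · right; rfl
        rcases hi' with h | h
        · exfalso; apply hg2; rw [hi, h, zp_zero]
        · rw [hi, h, zp_one hzz]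
      have hx2 : x * x = 1 := by have := hTexp x hx; rwa [pow_two] at this
      have hzc : ∀ y : X, y * ⁅g, x⁆ = ⁅g, x⁆ * y := fun y =>
        Subgroup.mem_center_iff.mp (hcc hzmem) y
      have hgx' : g * x = ⁅g, x⁆ * x * g := by rw [commutatorElement_def]; group
      have hsq : (x * g) ^ 2 = 1 := by
        calc (x * g) ^ 2 = x * (g * x) * g := by rw [pow_two]; group
          _ = x * (⁅g, x⁆ * x * g) * g := by rw [hgx']
          _ = (x * ⁅g, x⁆) * x * (g ^ 2) := by group
          _ = (⁅g, x⁆ * x) * x * (g ^ 2) := by rw [hzc x]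
          _ = ⁅g, x⁆ * (x * x) * g ^ 2 := by group
          _ = 1 := by rw [hx2, hg2z, mul_one, ← pow_two, hzz]
      refine ⟨⟨T, x, x * g, hX, hc, hf, hTab, hTexp, hx, ?_, hsq, ?_, hcent⟩, trivial⟩
      · intro h
        apply hg
        have : g = x⁻¹ * (x * g) := by group
        rw [this]
        exact T.mul_mem (T.inv_mem hx) h
      · intro h
        apply hgx
        have : x * (g * x) = x * (x * g) := by
          calc x * (g * x) = x * g * x := by group
            _ = x * (x * g) := h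
        exact mul_left_cancel this
  obtain ⟨c, -⟩ := hcfg
  obtain ⟨A0, hA0c, hA0p, h1, h2⟩ := c.exists_decomp
  letI : CommGroup A0 :=
    { (inferInstance : Group A0) with
      mul_comm := fun a b => Subtype.ext (by
        rw [Subgroup.coe_mul, Subgroup.coe_mul]
        exact Subgroup.mem_center_iff.1 (hA0c b.2) a) }
  obtain ⟨e⟩ := mulEquiv_of_central_compl c.E0 A0 hA0c h1 h2
  obtain ⟨d⟩ := c.nonempty_dihedral
  refine ⟨Shrink.{0} A0, inferInstance, ?_, ?_⟩
  · intro a
    apply (Shrink.mulEquiv.{0} (α := A0)).injective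
    rw [map_pow, map_one]
    exact Subtype.ext (hA0p _ (Shrink.mulEquiv a).2)
  · exact ⟨e.trans (MulEquiv.prodCongr d.symm (Shrink.mulEquiv.{0} (α := A0)).symm)⟩

end Cfsg.Agent.Helper13.GExtra
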