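import Mathlib
import Cfsg.Agent.Helper10.S2092.DefsP

set_option autoImplicit false
set_option linter.unusedSectionVars false
set_option linter.unusedVariables false
set_option linter.unusedSimpArgs false

/-! S2092, part P, piece MCONJ: the model Weyl elements are monomial matrices, hence conjugate the model root
elements to model root elements. -/

namespace Cfsg.Agent.S2092P

open scoped commutatorElement
open Matrix Cfsg.Agent.S3352P Cfsg.Agent.S2096P Cfsg.Agent.S2094P Cfsg.Agent.RGD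

variable {n : ℕ} {F : Type*} [Field F]

namespace MCONJ

/-- `W` is monomial: its column `x` is `ν x` times the unit vector of `σ x` -/
def IsMono (W : Matrix (J n) (J n) F) (σ : J n → J n) (ν : J n → F) : Prop :=
  ∀ i j, W i j = if i = σ j then ν j else 0

theorem IsMono.mul_single {W : Matrix (J n) (J n) F} {σ : J n → J n} {ν : J n → F}
    (h : IsMono W σ ν) (c d : J n) :
    W * Matrix.single c d (1 : F) = ν c • Matrix.single (σ c) d (1 : F) := by
  ext i j
  by_cases hj : j = d
  · subst hj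
    rw [Matrix.mul_single_apply_same, h i c, Matrix.smul_apply, Matrix.single_apply, mul_one,
      smul_eq_mul]
    by_cases hi : i = σ c
    · subst hi; simp
    · have : ¬ (σ c = i ∧ j = j) := fun hh => hi hh.1.symm
      rw [if_neg hi, if_neg this, mul_zero]
  · rw [Matrix.mul_single_apply_of_ne _ _ _ _ _ hj, Matrix.smul_apply, Matrix.single_apply]
    have : ¬ (σ c = i ∧ d = j) := fun hh => hj hh.2.symm
    rw [if_neg this, smul_zero]

theorem IsMono.single_mul {W : Matrix (J n) (J n) F} {σ : J n → J n} {ν : J n → F}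
    (h : IsMono W σ ν) (hσ : Function.Injective σ) (c d : J n) :
    Matrix.single c (σ d) (1 : F) * W = ν d • Matrix.single c d (1 : F) := by
  ext i j
  by_cases hi : i = c
  · subst hi
    rw [Matrix.single_mul_apply_same, h (σ d) j, Matrix.smul_apply, Matrix.single_apply, one_mul,
      smul_eq_mul]
    by_cases hj : d = j
    · subst hj; simp
    · have h1 : ¬ (σ d = σ j) := fun hh => hj (hσ hh)
      have h2 : ¬ (i = i ∧ d = j) := fun hh => hj hh.2
      rw [if_neg h1, if_neg h2, mul_zero]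
  · rw [Matrix.single_mul_apply_of_ne _ _ _ _ _ hi, Matrix.smul_apply, Matrix.single_apply]
    have : ¬ (c = i ∧ d = j) := fun hh => hi hh.1.symm
    rw [if_neg this, smul_zero]

theorem sgF_sq (a : J n) : sgF F a * sgF F a = 1 := sgF_mul_self F a

theorem sgF_ne_zero (a : J n) : sgF F a ≠ 0 := by
  intro h
  have := sgF_mul_self F a
  rw [h, mul_zero] at this
  exact zero_ne_one this

theorem nu_ne_zero {σ : J n → J n} {ν : J n → F}
    (hκ : ∀ x, ν x * ν (ng x) = sgF F x * sgF F (σ x)) (x : J n) : ν x ≠ 0 := by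
  intro h
  have := hκ x
  rw [h, zero_mul] at this
  exact mul_ne_zero (sgF_ne_zero x) (sgF_ne_zero (σ x)) this.symm

theorem conj_xs {W : Matrix (J n) (J n) F} {σ : J n → J n} {ν : J n → F}
    (h : IsMono W σ ν) (hσ : Function.Injective σ) (hng : ∀ a, σ (ng a) = ng (σ a))
    (hκ : ∀ x, ν x * ν (ng x) = sgF F x * sgF F (σ x)) (c d : J n) (u : F) :
    W * xs c d u = xs (σ c) (σ d) (ν c * (ν d)⁻¹ * u) * W := by
  have hd : ν d ≠ 0 := nu_ne_zero hκ d
  have e1 : Matrix.single (ng (σ d)) (ng (σ c)) (1 : F) * W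
      = ν (ng c) • Matrix.single (σ (ng d)) (ng c) (1 : F) := by
    rw [← hng d, ← hng c, h.single_mul hσ]
  unfold xs
  rw [mul_add, mul_one, add_mul, one_mul, Matrix.mul_smul, Matrix.smul_mul, mul_sub, sub_mul,
    Matrix.mul_smul, Matrix.smul_mul, h.mul_single, h.mul_single, h.single_mul hσ, e1]
  congr 1
  rw [smul_sub, smul_sub, smul_smul, smul_smul, smul_smul, smul_smul, smul_smul, smul_smul]
  have k1 : u * ν c = ν c * (ν d)⁻¹ * u * ν d := by
    field_simp
  have hSd := sgF_mul_self F d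
  have hSc := sgF_mul_self F (σ c)
  have e2 := hκ c
  have e3 : ν (ng d) = sgF F d * sgF F (σ d) * (ν d)⁻¹ := by
    have := hκ d
    field_simp
    rw [mul_comm]; exact this
  have k2 : u * (sgF F c * sgF F d) * ν (ng d)
      = ν c * (ν d)⁻¹ * u * (sgF F (σ c) * sgF F (σ d)) * ν (ng c) := by
    rw [e3]
    linear_combination (u * sgF F (σ d) * (ν d)⁻¹ * sgF F c) * hSd
      - (u * sgF F (σ d) * (ν d)⁻¹ * sgF F (σ c)) * e2
      - (u * sgF F (σ d) * (ν d)⁻¹ * sgF F c) * hSc
  rw [k1, k2]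

theorem conj_xl {W : Matrix (J n) (J n) F} {σ : J n → J n} {ν : J n → F}
    (h : IsMono W σ ν) (hσ : Function.Injective σ) (hng : ∀ a, σ (ng a) = ng (σ a))
    (hκ : ∀ x, ν x * ν (ng x) = sgF F x * sgF F (σ x)) (c : J n) (u : F) :
    W * xl c u = xl (σ c) (ν c * (ν (ng c))⁻¹ * u) * W := by
  have hc : ν (ng c) ≠ 0 := nu_ne_zero hκ (ng c)
  unfold xl
  rw [mul_add, mul_one, add_mul, one_mul, Matrix.mul_smul, Matrix.smul_mul, h.mul_single, ← hng c,
    h.single_mul hσ, smul_smul, smul_smul]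
  congr 2
  field_simp

/-- the nonzero entries of `mws a b t`, by columns -/
def nus (a b : J n) (t : F) (x : J n) : F :=
  if x = a then -t⁻¹ else if x = b then t else if x = ng a then -(sgF F a * sgF F b * t)
  else if x = ng b then sgF F a * sgF F b * t⁻¹ else 1

/-- the nonzero entries of `mwl a t`, by columns -/
def nul (a : J n) (t : F) (x : J n) : F :=
  if x = a then -t⁻¹ else if x = ng a then t else 1

theorem mws_apply (a b : J n) (t : F) (i j : J n) :
    mws a b t i j = (if i = j then 1 else 0) - (if a = i ∧ a = j then 1 else 0)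
      - (if b = i ∧ b = j then 1 else 0) - (if ng a = i ∧ ng a = j then 1 else 0)
      - (if ng b = i ∧ ng b = j then 1 else 0) + t * (if a = i ∧ b = j then 1 else 0)
      - t⁻¹ * (if b = i ∧ a = j then 1 else 0)
      - (sgF F a * sgF F b * t) * (if ng b = i ∧ ng a = j then 1 else 0)
      + (sgF F a * sgF F b * t⁻¹) * (if ng a = i ∧ ng b = j then 1 else 0) := by
  simp only [mws, Matrix.add_apply, Matrix.sub_apply, Matrix.smul_apply, Matrix.single_apply,
    Matrix.one_apply, smul_eq_mul]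

theorem mwl_apply (a : J n) (t : F) (i j : J n) :
    mwl a t i j = (if i = j then 1 else 0) - (if a = i ∧ a = j then 1 else 0)
      - (if ng a = i ∧ ng a = j then 1 else 0) + t * (if a = i ∧ ng a = j then 1 else 0)
      - t⁻¹ * (if ng a = i ∧ a = j then 1 else 0) := by
  simp only [mwl, Matrix.add_apply, Matrix.sub_apply, Matrix.smul_apply, Matrix.single_apply,
    Matrix.one_apply, smul_eq_mul]

theorem sw_fix' {a b c : J n} (h1 : c ≠ a) (h2 : c ≠ b) (h3 : c ≠ ng a) (h4 : c ≠ ng b) :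
    sw a b c = c := by
  unfold sw
  rw [Equiv.Perm.mul_apply, Equiv.swap_apply_of_ne_of_ne h3 h4, Equiv.swap_apply_of_ne_of_ne h1 h2]

theorem isMono_mws {a b : J n} (hab : IsRoot a b) (t : F) :
    IsMono (mws a b t) (sw a b) (nus a b t) := by
  have h1 : a ≠ b := hab.1
  have h2 : a ≠ ng b := hab.2
  have h3 : ng a ≠ b := fun h => h2 (by rw [← h, ng_ng])
  have h4 : ng a ≠ ng b := fun h => h1 (ng_injective h)
  have h5 : ng a ≠ a := ng_ne a
  have h6 : ng b ≠ b := ng_ne b
  have hsa : sw a b a = b := WCONJ.sw_left a b hab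
  have hsb : sw a b b = a := WCONJ.sw_right a b hab
  have hsna : sw a b (ng a) = ng b := by rw [sw_ng, hsa]
  have hsnb : sw a b (ng b) = ng a := by rw [sw_ng, hsb]
  intro i j
  rw [mws_apply]
  by_cases c1 : j = a
  · rw [c1, hsa]
    by_cases d1 : i = b
    · rw [d1]
      simp [nus, h1, h1.symm, h2, h2.symm, h3, h3.symm, h4, h4.symm, h5, h5.symm, h6, h6.symm]
    · by_cases d2 : i = a
      · rw [d2]
        simp [nus, h1, h1.symm, h2, h2.symm, h3, h3.symm, h4, h4.symm, h5, h5.symm, h6, h6.symm]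
      · simp [nus, h1, h1.symm, h2, h2.symm, h3, h3.symm, h4, h4.symm, h5, h5.symm, h6, h6.symm, d1, d2, Ne.symm d1, Ne.symm d2]
  by_cases c2 : j = b
  · rw [c2, hsb]
    by_cases d1 : i = a
    · rw [d1]
      simp [nus, h1, h1.symm, h2, h2.symm, h3, h3.symm, h4, h4.symm, h5, h5.symm, h6, h6.symm]
    · by_cases d2 : i = b
      · rw [d2]
        simp [nus, h1, h1.symm, h2, h2.symm, h3, h3.symm, h4, h4.symm, h5, h5.symm, h6, h6.symm]
      · simp [nus, h1, h1.symm, h2, h2.symm, h3, h3.symm, h4, h4.symm, h5, h5.symm, h6, h6.symm, d1, d2, Ne.symm d1, Ne.symm d2]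
  by_cases c3 : j = ng a
  · rw [c3, hsna]
    by_cases d1 : i = ng b
    · rw [d1]
      simp [nus, h1, h1.symm, h2, h2.symm, h3, h3.symm, h4, h4.symm, h5, h5.symm, h6, h6.symm]
    · by_cases d2 : i = ng a
      · rw [d2]
        simp [nus, h1, h1.symm, h2, h2.symm, h3, h3.symm, h4, h4.symm, h5, h5.symm, h6, h6.symm]
      · simp [nus, h1, h1.symm, h2, h2.symm, h3, h3.symm, h4, h4.symm, h5, h5.symm, h6, h6.symm, d1, d2, Ne.symm d1, Ne.symm d2]
  by_cases c4 : j = ng b
  · rw [c4, hsnb]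
    by_cases d1 : i = ng a
    · rw [d1]
      simp [nus, h1, h1.symm, h2, h2.symm, h3, h3.symm, h4, h4.symm, h5, h5.symm, h6, h6.symm]
    · by_cases d2 : i = ng b
      · rw [d2]
        simp [nus, h1, h1.symm, h2, h2.symm, h3, h3.symm, h4, h4.symm, h5, h5.symm, h6, h6.symm]
      · simp [nus, h1, h1.symm, h2, h2.symm, h3, h3.symm, h4, h4.symm, h5, h5.symm, h6, h6.symm, d1, d2, Ne.symm d1, Ne.symm d2]
  rw [sw_fix' c1 c2 c3 c4]
  by_cases d2 : i = j
  · rw [d2]
    simp [nus, c1, c2, c3, c4, Ne.symm c1, Ne.symm c2, Ne.symm c3, Ne.symm c4]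
  · simp [nus, c1, c2, c3, c4, Ne.symm c1, Ne.symm c2, Ne.symm c3, Ne.symm c4, d2]

theorem nus_kappa {a b : J n} (hab : IsRoot a b) {t : F} (ht : t ≠ 0) (x : J n) :
    nus a b t x * nus a b t (ng x) = sgF F x * sgF F (sw a b x) := by
  have h1 : a ≠ b := hab.1
  have h2 : a ≠ ng b := hab.2
  have h3 : ng a ≠ b := fun h => h2 (by rw [← h, ng_ng])
  have h4 : ng a ≠ ng b := fun h => h1 (ng_injective h)
  have h5 : ng a ≠ a := ng_ne a
  have h6 : ng b ≠ b := ng_ne b
  have hsa : sw a b a = b := WCONJ.sw_left a b hab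
  have hsb : sw a b b = a := WCONJ.sw_right a b hab
  have hsna : sw a b (ng a) = ng b := by rw [sw_ng, hsa]
  have hsnb : sw a b (ng b) = ng a := by rw [sw_ng, hsb]
  have ha2 := sgF_mul_self F a
  have hb2 := sgF_mul_self F b
  by_cases c1 : x = a
  · rw [c1, hsa]
    simp only [nus, if_true, if_neg h5, if_neg h3, ng_ng]
    field_simp
  by_cases c2 : x = b
  · rw [c2, hsb]
    simp only [nus, if_true, if_neg h1.symm, if_neg h6, if_neg h2.symm, if_neg h4.symm, ng_ng]
    field_simp
  by_cases c3 : x = ng a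
  · rw [c3, hsna, ng_ng, sgF_ng, sgF_ng]
    simp only [nus, if_true, if_neg h5, if_neg h3, ng_ng]
    field_simp
  by_cases c4 : x = ng b
  · rw [c4, hsnb, ng_ng, sgF_ng, sgF_ng]
    simp only [nus, if_true, if_neg h1.symm, if_neg h6, if_neg h2.symm, if_neg h4.symm, ng_ng]
    field_simp
  have c1' : ng x ≠ a := fun h => c3 (by rw [← h, ng_ng])
  have c2' : ng x ≠ b := fun h => c4 (by rw [← h, ng_ng])
  have c3' : ng x ≠ ng a := fun h => c1 (ng_injective h)
  have c4' : ng x ≠ ng b := fun h => c2 (ng_injective h)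
  rw [sw_fix' c1 c2 c3 c4]
  simp only [nus, if_neg c1, if_neg c2, if_neg c3, if_neg c4, if_neg c1', if_neg c2', if_neg c3',
    if_neg c4', mul_one]
  exact (sgF_mul_self F x).symm

theorem sc_self' (a : J n) : sc a a = ng a := by
  unfold sc
  exact Equiv.swap_apply_left _ _

theorem sc_ng' (a : J n) : sc a (ng a) = a := by
  unfold sc
  exact Equiv.swap_apply_right _ _

theorem sc_fix' {a c : J n} (h1 : c ≠ a) (h2 : c ≠ ng a) : sc a c = c := by
  unfold sc
  exact Equiv.swap_apply_of_ne_of_ne h1 h2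

theorem isMono_mwl (a : J n) (t : F) : IsMono (mwl a t) (sc a) (nul a t) := by
  have h5 : ng a ≠ a := ng_ne a
  intro i j
  rw [mwl_apply]
  by_cases c1 : j = a
  · rw [c1, sc_self']
    by_cases d1 : i = ng a
    · rw [d1]
      simp [nul, h5, h5.symm]
    · by_cases d2 : i = a
      · rw [d2]
        simp [nul, h5, h5.symm]
      · simp [nul, h5, h5.symm, d1, d2, Ne.symm d1, Ne.symm d2]
  by_cases c2 : j = ng a
  · rw [c2, sc_ng']
    by_cases d1 : i = a
    · rw [d1]
      simp [nul, h5, h5.symm]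
    · by_cases d2 : i = ng a
      · rw [d2]
        simp [nul, h5, h5.symm]
      · simp [nul, h5, h5.symm, d1, d2, Ne.symm d1, Ne.symm d2]
  rw [sc_fix' c1 c2]
  by_cases d2 : i = j
  · rw [d2]
    simp [nul, c1, c2, Ne.symm c1, Ne.symm c2]
  · simp [nul, c1, c2, Ne.symm c1, Ne.symm c2, d2]

theorem nul_kappa (a : J n) {t : F} (ht : t ≠ 0) (x : J n) :
    nul a t x * nul a t (ng x) = sgF F x * sgF F (sc a x) := by
  have h5 : ng a ≠ a := ng_ne a
  have ha2 := sgF_mul_self F a
  by_cases c1 : x = a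
  · rw [c1, sc_self', sgF_ng]
    simp only [nul, if_true, if_neg h5]
    field_simp
    linear_combination ha2
  by_cases c2 : x = ng a
  · rw [c2, sc_ng', ng_ng, sgF_ng]
    simp only [nul, if_true, if_neg h5]
    field_simp
    linear_combination ha2
  have c1' : ng x ≠ a := fun h => c2 (by rw [← h, ng_ng])
  have c2' : ng x ≠ ng a := fun h => c1 (ng_injective h)
  rw [sc_fix' c1 c2]
  simp only [nul, if_neg c1, if_neg c2, if_neg c1', if_neg c2', mul_one]
  exact (sgF_mul_self F x).symm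

/-- the Weyl element of a valid name is monomial for the reflection -/
theorem exists_nu {s : RB n} (hs : s.Valid) {t : F} (ht : t ≠ 0) :
    ∃ ν : J n → F, IsMono (mW s t) s.perm ν ∧
      ∀ x, ν x * ν (ng x) = sgF F x * sgF F (s.perm x) := by
  cases s with
  | lg a b => exact ⟨nus a b t, isMono_mws hs t, nus_kappa hs ht⟩
  | sh a =>
    have ht' : sgF F a * t ≠ 0 := mul_ne_zero (sgF_ne_zero a) ht
    exact ⟨nul a (sgF F a * t), isMono_mwl a _, nul_kappa a ht'⟩

end MCONJ

/-- MCONJ -/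
theorem mW_conj {s r : RB n} (hs : s.Valid) (hr : r.Valid) {t : F} (ht : t ≠ 0) :
    ∃ η : F, η ≠ 0 ∧ ∀ u : F, mW s t * xrm r u = xrm (r.map s.perm) (η * u) * mW s t := by
  obtain ⟨ν, hν, hκ⟩ := MCONJ.exists_nu hs ht
  have hng : ∀ a, s.perm (ng a) = ng (s.perm a) := RB.perm_ngEquivariant s
  have hinj : Function.Injective s.perm := s.perm.injective
  cases r with
  | lg c d =>
    refine ⟨ν c * (ν d)⁻¹, mul_ne_zero (MCONJ.nu_ne_zero hκ c)
      (inv_ne_zero (MCONJ.nu_ne_zero hκ d)), fun u => ?_⟩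
    exact MCONJ.conj_xs hν hinj hng hκ c d u
  | sh c =>
    refine ⟨ν c * (ν (ng c))⁻¹, mul_ne_zero (MCONJ.nu_ne_zero hκ c)
      (inv_ne_zero (MCONJ.nu_ne_zero hκ (ng c))), fun u => ?_⟩
    exact MCONJ.conj_xl hν hinj hng hκ c u

end Cfsg.Agent.S2092P
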