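import Mathlib
import Cfsg.Agent.Helper2.PSLM.Defs

set_option autoImplicit false

/-! S2086 pieces I4 (four index identity) and R1 (additivity of the canonical lifts). -/

namespace Cfsg.Agent.S2086P

open scoped commutatorElement
open Cfsg.Agent.Helper2.Stb

variable {n : ℕ} {K : Type*} [Field K] {G : Type*} [Group G] {E : Type*} [Group E]

/-! ### I4 -/
theorem four_index (S : StD n K G) (ψ : E →* G) (hψ : Function.Surjective ψ)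
    (hc : ψ.ker ≤ Subgroup.center E)
    (hC2 : ∀ (a b : Root n) (t u : K), a.1.1 ≠ b.1.2 → a.1.2 ≠ b.1.1 →
      CL ψ (S.T a t) (S.T b u))
    (i j l m : Fin n) (hij : i ≠ j) (hjl : j ≠ l) (him : i ≠ m) (hml : m ≠ l) (hil : i ≠ l)
    (hjm : j ≠ m) (s t : K) :
    cl ψ hψ (S.T (rt i j hij) s) (S.T (rt j l hjl) t) =
      cl ψ hψ (S.T (rt i m him) (s * t)) (S.T (rt m l hml) 1) := by
  obtain ⟨u, hu⟩ := hψ (S.T (rt i j hij) s)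
  obtain ⟨a, ha⟩ := hψ (S.T (rt j m hjm) t)
  obtain ⟨b, hb⟩ := hψ (S.T (rt m l hml) 1)
  have hab : ψ ⁅a, b⁆ = S.T (rt j l hjl) t := by
    rw [map_commutatorElement, ha, hb, S.chev' j m l hjm hml hjl, mul_one]
  have hw : ψ ⁅u, a⁆ = S.T (rt i m him) (s * t) := by
    rw [map_commutatorElement, hu, ha, S.chev' i j m hij hjm him]
  have hwb : ψ ⁅⁅u, a⁆, b⁆ = S.T (rt i l hil) (s * t) := by
    rw [map_commutatorElement, hw, hb, S.chev' i m l him hml hil, mul_one]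
  rw [← cl_eq ψ hψ hc hu hab, ← cl_eq ψ hψ hc hw hb]
  have c1 : Commute u b := hC2 (rt i j hij) (rt m l hml) s 1 hil hjm u b hu hb
  have c2 : Commute ⁅u, a⁆ ⁅a, b⁆ :=
    hC2 (rt i m him) (rt j l hjl) (s * t) t hil (Ne.symm hjm) _ _ hw hab
  have c3 : Commute ⁅⁅u, a⁆, b⁆ ⁅a, b⁆ :=
    hC2 (rt i l hil) (rt j l hjl) (s * t) t hil (Ne.symm hjl) _ _ hwb hab
  have e1 : u * ⁅a, b⁆ * u⁻¹ = ⁅u * a * u⁻¹, u * b * u⁻¹⁆ := by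
    simp only [commutatorElement_def]; group
  have e2 : u * a * u⁻¹ = ⁅u, a⁆ * a := by
    simp only [commutatorElement_def]; group
  have e3 : u * b * u⁻¹ = b := by rw [c1.eq, mul_inv_cancel_right]
  have e4 : ∀ w : E, ⁅w * a, b⁆ = w * ⁅a, b⁆ * w⁻¹ * ⁅w, b⁆ := by
    intro w
    simp only [commutatorElement_def]; group
  have e5 : ⁅u, a⁆ * ⁅a, b⁆ * ⁅u, a⁆⁻¹ = ⁅a, b⁆ := by rw [c2.eq, mul_inv_cancel_right]
  calc ⁅u, ⁅a, b⁆⁆ = u * ⁅a, b⁆ * u⁻¹ * ⁅a, b⁆⁻¹ := commutatorElement_def _ _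
    _ = ⁅a, b⁆ * ⁅⁅u, a⁆, b⁆ * ⁅a, b⁆⁻¹ := by rw [e1, e2, e3, e4, e5]
    _ = ⁅⁅u, a⁆, b⁆ := by rw [← c3.eq, mul_inv_cancel_right]

/-! ### R1 -/
theorem X_add (S : StD n K G) (ψ : E →* G) (hψ : Function.Surjective ψ)
    (hc : ψ.ker ≤ Subgroup.center E) (hn : 3 ≤ n)
    (hC2 : ∀ (a b : Root n) (t u : K), a.1.1 ≠ b.1.2 → a.1.2 ≠ b.1.1 →
      CL ψ (S.T a t) (S.T b u))
    (a : Root n) (t u : K) :
    X S ψ hψ hn a t * X S ψ hψ hn a u = X S ψ hψ hn a (t + u) := by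
  obtain ⟨e₁, he₁⟩ := hψ (S.T (rt a.1.1 (third hn a) (third_ne_fst hn a)) t)
  obtain ⟨e₂, he₂⟩ := hψ (S.T (rt a.1.1 (third hn a) (third_ne_fst hn a)) u)
  obtain ⟨b, hb⟩ := hψ (S.T (rt (third hn a) a.1.2 (third_ne_snd hn a)) 1)
  have he₁₂ : ψ (e₁ * e₂) = S.T (rt a.1.1 (third hn a) (third_ne_fst hn a)) (t + u) := by
    rw [map_mul, he₁, he₂, S.add]
  have hX1 : X S ψ hψ hn a t = ⁅e₁, b⁆ := (cl_eq ψ hψ hc he₁ hb).symm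
  have hX2 : X S ψ hψ hn a u = ⁅e₂, b⁆ := (cl_eq ψ hψ hc he₂ hb).symm
  have hX3 : X S ψ hψ hn a (t + u) = ⁅e₁ * e₂, b⁆ := (cl_eq ψ hψ hc he₁₂ hb).symm
  have hm1 : ψ ⁅e₁, b⁆ = S.T a t := by rw [← hX1]; exact map_X S ψ hψ hn a t
  have hm2 : ψ ⁅e₂, b⁆ = S.T a u := by rw [← hX2]; exact map_X S ψ hψ hn a u
  have c1 : Commute e₁ ⁅e₂, b⁆ :=
    hC2 (rt a.1.1 (third hn a) (third_ne_fst hn a)) a t u a.2 (Ne.symm (third_ne_fst hn a))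
      _ _ he₁ hm2
  have c2 : Commute ⁅e₁, b⁆ ⁅e₂, b⁆ := hC2 a a t u a.2 (Ne.symm a.2) _ _ hm1 hm2
  have e4 : ⁅e₁ * e₂, b⁆ = e₁ * ⁅e₂, b⁆ * e₁⁻¹ * ⁅e₁, b⁆ := by
    simp only [commutatorElement_def]; group
  rw [hX1, hX2, hX3, e4, c1.eq, mul_inv_cancel_right, c2.eq]

end Cfsg.Agent.S2086P
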