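import Mathlib
import Cfsg.Agent.Helper2.PSLM.Defs

set_option autoImplicit false

/-! S2086 pieces SAMEROOT, ROW4, COL4, DISJ5: commuting root elements have commuting lifts
(the cases settled by one extra index). -/

namespace Cfsg.Agent.S2086P

open scoped commutatorElement
open Cfsg.Agent.Helper2.Stb

variable {n : ℕ} {K : Type*} [Field K] {G : Type*} [Group G] {E : Type*} [Group E]

/-! ### SAMEROOT -/
theorem cl_same_root (S : StD n K G) (ψ : E →* G) (hψ : Function.Surjective ψ)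
    (hc : ψ.ker ≤ Subgroup.center E) (hn : 3 ≤ n) (a : Root n) (s t : K) :
    CL ψ (S.T a s) (S.T a t) := by
  obtain ⟨k, hik, hkj⟩ := exists_third hn a
  have h1 : Commute (S.T a s) (S.T (rt a.1.1 k hik) t) :=
    S.comm a (rt a.1.1 k hik) s t hik (Ne.symm a.2)
  have h2 : Commute (S.T a s) (S.T (rt k a.1.2 hkj) 1) :=
    S.comm a (rt k a.1.2 hkj) s 1 a.2 (Ne.symm hkj)
  have h3 := CL_of_comm ψ hψ hc h1 h2
  rw [S.chev' a.1.1 k a.1.2 hik hkj a.2, mul_one] at h3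
  exact h3

/-! ### ROW4 -/
theorem cl_row_of_four (S : StD n K G) (ψ : E →* G) (hψ : Function.Surjective ψ)
    (hc : ψ.ker ≤ Subgroup.center E) (hn : 4 ≤ n) (i j k : Fin n) (hij : i ≠ j) (hik : i ≠ k)
    (hjk : j ≠ k) (s t : K) : CL ψ (S.T (rt i j hij) s) (S.T (rt i k hik) t) := by
  obtain ⟨m, hmi, hmj, hmk⟩ := exists_fourth hn i j k
  have h1 : Commute (S.T (rt i k hik) t) (S.T (rt i m (Ne.symm hmi)) s) :=
    S.comm (rt i k hik) (rt i m (Ne.symm hmi)) t s (Ne.symm hmi) (Ne.symm hik)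
  have h2 : Commute (S.T (rt i k hik) t) (S.T (rt m j hmj) 1) :=
    S.comm (rt i k hik) (rt m j hmj) t 1 hij (Ne.symm hmk)
  have h3 := CL_of_comm ψ hψ hc h1 h2
  rw [S.chev' i m j (Ne.symm hmi) hmj hij, mul_one] at h3
  exact h3.symm

/-! ### COL4 -/
theorem cl_col_of_four (S : StD n K G) (ψ : E →* G) (hψ : Function.Surjective ψ)
    (hc : ψ.ker ≤ Subgroup.center E) (hn : 4 ≤ n) (i j k : Fin n) (hik : i ≠ k) (hjk : j ≠ k)
    (hij : i ≠ j) (s t : K) : CL ψ (S.T (rt i k hik) s) (S.T (rt j k hjk) t) := by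
  obtain ⟨m, hmi, hmj, hmk⟩ := exists_fourth hn i j k
  have h1 : Commute (S.T (rt j k hjk) t) (S.T (rt i m (Ne.symm hmi)) s) :=
    S.comm (rt j k hjk) (rt i m (Ne.symm hmi)) t s (Ne.symm hmj) (Ne.symm hik)
  have h2 : Commute (S.T (rt j k hjk) t) (S.T (rt m k hmk) 1) :=
    S.comm (rt j k hjk) (rt m k hmk) t 1 hjk (Ne.symm hmk)
  have h3 := CL_of_comm ψ hψ hc h1 h2
  rw [S.chev' i m k (Ne.symm hmi) hmk hik, mul_one] at h3
  exact h3.symm

/-! ### DISJ5 -/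
theorem cl_disj_of_five (S : StD n K G) (ψ : E →* G) (hψ : Function.Surjective ψ)
    (hc : ψ.ker ≤ Subgroup.center E) (hn : 5 ≤ n) (i j k l : Fin n) (hij : i ≠ j) (hkl : k ≠ l)
    (hik : i ≠ k) (hil : i ≠ l) (hjk : j ≠ k) (hjl : j ≠ l) (s t : K) :
    CL ψ (S.T (rt i j hij) s) (S.T (rt k l hkl) t) := by
  obtain ⟨m, hmi, hmj, hmk, hml⟩ := exists_fifth hn i j k l
  have h1 : Commute (S.T (rt k l hkl) t) (S.T (rt i m (Ne.symm hmi)) s) :=
    S.comm (rt k l hkl) (rt i m (Ne.symm hmi)) t s (Ne.symm hmk) (Ne.symm hil)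
  have h2 : Commute (S.T (rt k l hkl) t) (S.T (rt m j hmj) 1) :=
    S.comm (rt k l hkl) (rt m j hmj) t 1 (Ne.symm hjk) (Ne.symm hml)
  have h3 := CL_of_comm ψ hψ hc h1 h2
  rw [S.chev' i m j (Ne.symm hmi) hmj hij, mul_one] at h3
  exact h3.symm

end Cfsg.Agent.S2086P
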