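import Mathlib

set_option autoImplicit false

/-! S2799 board (driver helper10), piece E1 (blueprint L7): orbit-product lemma for a generating
family of subgroups of a finite 2-group. Mathlib only. -/

namespace Cfsg.Agent.S2799P

open Subgroup MulAction

/-- E1 (blueprint L7): orbit-product lemma for a generating family of subgroups. -/
theorem E1 {D : Type*} [Group D] [Finite D] (hD : IsPGroup 2 D)
    {Ω : Type*} [MulAction D Ω] [DecidableEq Ω] [Fintype Ω]
    {W : Type*} [CommGroup W] (f : Ω → W)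
    (𝔉 : Set (Subgroup D)) (hgen : sSup 𝔉 = ⊤)
    (hZ : ∀ A' ∈ 𝔉, ∀ T : Finset Ω, (∀ a ∈ A', ∀ ω ∈ T, a • ω ∈ T) →
      (∀ ω ∈ T, ∃ a ∈ A', a • ω ≠ ω) → ∏ ω ∈ T, f ω = 1)
    (ω₀ : Ω) (hfix : ∀ d : D, d • ω₀ = ω₀)
    (huniq : ∀ ω : Ω, (∀ d : D, d • ω = ω) → ω = ω₀) :
    ∏ ω, f ω = f ω₀ := by
  classical
  have : Fact (Nat.Prime 2) := ⟨Nat.prime_two⟩
  have hnil : Group.IsNilpotent D := hD.isNilpotent
  -- the product over a non-trivial orbit is 1
  have horb : ∀ ω : Ω, ω ≠ ω₀ →
      ∏ x ∈ Finset.univ.filter (fun x => x ∈ MulAction.orbit D ω), f x = 1 := by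
    intro ω hω
    have hK : MulAction.stabilizer D ω ≠ ⊤ := by
      intro h
      apply hω
      apply huniq
      intro d
      have : d ∈ MulAction.stabilizer D ω := h ▸ Subgroup.mem_top d
      exact this
    obtain ⟨M, hM, hKM⟩ := (eq_top_or_exists_le_coatom (MulAction.stabilizer D ω)).resolve_left hK
    have hMn : M.Normal :=
      NormalizerCondition.normal_of_coatom M Group.normalizerCondition_of_isNilpotent hM
    have hex : ∃ A' ∈ 𝔉, ¬ A' ≤ M := by
      by_contra hcon
      push Not at hcon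
      have h1 : sSup 𝔉 ≤ M := sSup_le hcon
      rw [hgen] at h1
      exact hM.1 (top_le_iff.mp h1)
    obtain ⟨A', hA', hA'M⟩ := hex
    apply hZ A' hA'
    · intro a _ x hx
      rw [Finset.mem_filter] at hx ⊢
      exact ⟨Finset.mem_univ _, MulAction.mem_orbit_of_mem_orbit a hx.2⟩
    · intro x hx
      rw [Finset.mem_filter] at hx
      obtain ⟨g, rfl⟩ := hx.2
      by_contra hcon
      push Not at hcon
      apply hA'M
      intro a ha
      have h1 : a ∈ MulAction.stabilizer D (g • ω) := hcon a ha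
      rw [MulAction.stabilizer_smul_eq_stabilizer_map_conj] at h1
      obtain ⟨k, hk, rfl⟩ := h1
      exact hMn.conj_mem k (hKM hk) g
  -- every invariant finset avoiding `ω₀` has product 1
  have key : ∀ n : ℕ, ∀ T : Finset Ω, T.card = n → (∀ d : D, ∀ x ∈ T, d • x ∈ T) → ω₀ ∉ T →
      ∏ x ∈ T, f x = 1 := by
    intro n
    induction n using Nat.strong_induction_on with
    | _ n ih =>
      intro T hcard hinv h0
      by_cases hT : T = ∅
      · subst hT
        simp
      · obtain ⟨ω, hωT⟩ := Finset.nonempty_iff_ne_empty.mpr hT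
        set O := Finset.univ.filter (fun x => x ∈ MulAction.orbit D ω) with hO
        have hOT : O ⊆ T := by
          intro x hx
          rw [hO, Finset.mem_filter] at hx
          obtain ⟨g, rfl⟩ := hx.2
          exact hinv g ω hωT
        have hωO : ω ∈ O := by
          rw [hO, Finset.mem_filter]
          exact ⟨Finset.mem_univ _, MulAction.mem_orbit_self ω⟩
        have hω0 : ω ≠ ω₀ := fun h => h0 (h ▸ hωT)
        have hsplit : ∏ x ∈ T, f x = (∏ x ∈ T \ O, f x) * ∏ x ∈ O, f x :=
          (Finset.prod_sdiff hOT).symm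
        rw [hsplit, horb ω hω0, mul_one]
        apply ih (T \ O).card ?_ (T \ O) rfl ?_ ?_
        · rw [← hcard]
          apply Finset.card_lt_card
          exact Finset.sdiff_ssubset hOT ⟨ω, hωO⟩
        · intro d x hx
          rw [Finset.mem_sdiff] at hx ⊢
          refine ⟨hinv d x hx.1, fun hdx => hx.2 ?_⟩
          rw [hO, Finset.mem_filter] at hdx ⊢
          refine ⟨Finset.mem_univ _, ?_⟩
          have := MulAction.mem_orbit_of_mem_orbit d⁻¹ hdx.2
          rwa [inv_smul_smul] at this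
        · intro h
          exact h0 (Finset.mem_sdiff.mp h).1
  have hmain : ∏ ω, f ω = f ω₀ * ∏ x ∈ Finset.univ.erase ω₀, f x :=
    (Finset.mul_prod_erase _ _ (Finset.mem_univ ω₀)).symm
  rw [hmain, key _ _ rfl ?_ (Finset.notMem_erase _ _), mul_one]
  intro d x hx
  rw [Finset.mem_erase] at hx ⊢
  refine ⟨fun h => hx.1 ?_, Finset.mem_univ _⟩
  have : x = d⁻¹ • ω₀ := by rw [← h, inv_smul_smul]
  rw [this, hfix]

end Cfsg.Agent.S2799P
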