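import Mathlib
import Cfsg.Agent.Helper26.ReplFamily
import Cfsg.Agent.Helper17.Basic

set_option autoImplicit false

/-! S2799 board (driver helper10), piece F4c (blueprint L4(c)): counting with an abelian subgroup of
largest order: index 2 of `A ∩ C(K)` in `A` forces every `a ∈ A` outside `C(K)` to act on the abelian
group `K` as a transvection (`|K : C_K(a)| = 2`). -/

namespace Cfsg.Agent.S2799P

open Subgroup MulAction

/-- Two abelian subgroups commuting elementwise generate an abelian subgroup. -/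
theorem F4c.aux_comm_sup {X : Type*} [Group X] {A K : Subgroup X}
    (hA : ∀ x ∈ A, ∀ y ∈ A, x * y = y * x) (hK : ∀ x ∈ K, ∀ y ∈ K, x * y = y * x)
    (hAK : ∀ x ∈ A, ∀ y ∈ K, x * y = y * x) :
    ∀ x ∈ A ⊔ K, ∀ y ∈ A ⊔ K, x * y = y * x := by
  have h1 : ∀ x ∈ A, A ⊔ K ≤ centralizer ({x} : Set X) := by
    intro x hx
    apply sup_le
    · intro y hy
      rw [mem_centralizer_singleton_iff]
      exact hA y hy x hx
    · intro y hy
      rw [mem_centralizer_singleton_iff]
      exact (hAK x hx y hy).symm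
  have h2 : ∀ x ∈ K, A ⊔ K ≤ centralizer ({x} : Set X) := by
    intro x hx
    apply sup_le
    · intro y hy
      rw [mem_centralizer_singleton_iff]
      exact hAK y hy x hx
    · intro y hy
      rw [mem_centralizer_singleton_iff]
      exact hK y hy x hx
  have h3 : A ⊔ K ≤ centralizer ((A ⊔ K : Subgroup X) : Set X) := by
    apply sup_le
    · intro x hx
      rw [mem_centralizer_iff]
      intro y hy
      have := h1 x hx hy
      rw [mem_centralizer_singleton_iff] at this
      exact this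
    · intro x hx
      rw [mem_centralizer_iff]
      intro y hy
      have := h2 x hx hy
      rw [mem_centralizer_singleton_iff] at this
      exact this
  intro x hx y hy
  have := h3 hy
  rw [mem_centralizer_iff] at this
  exact this x hx

/-- F4c (blueprint L4(c)). -/
theorem F4c {X : Type*} [Group X] [Finite X] (S K : Subgroup X) (hKS : K ≤ S)
    (hKab : ∀ x ∈ K, ∀ y ∈ K, x * y = y * x)
    (A : Subgroup X) (hA : A ∈ Cfsg.Agent.Helper26.famEl 0 S)
    (hidx : (A ⊓ centralizer (K : Set X)).relIndex A = 2)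
    (a : X) (ha : a ∈ A) (haK : a ∉ centralizer (K : Set X)) :
    (K ⊓ centralizer ({a} : Set X)).relIndex K = 2 := by
  obtain ⟨hAS, ⟨hAab, -⟩, hAmax⟩ := hA
  set A₀ : Subgroup X := A ⊓ centralizer (K : Set X) with hA₀
  have hA₀A : A₀ ≤ A := inf_le_left
  have hcommA₀K : ∀ x ∈ A₀, ∀ y ∈ K, x * y = y * x := by
    intro x hx y hy
    have := (Subgroup.mem_inf.mp hx).2
    rw [mem_centralizer_iff] at this
    exact (this y hy).symm
  have hA₁ab : ∀ x ∈ A₀ ⊔ K, ∀ y ∈ A₀ ⊔ K, x * y = y * x :=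
    F4c.aux_comm_sup (fun x hx y hy => hAab x (hA₀A hx) y (hA₀A hy)) hKab hcommA₀K
  have hA₁S : A₀ ⊔ K ≤ S := sup_le (hA₀A.trans hAS) hKS
  have hle : Nat.card (A₀ ⊔ K : Subgroup X) ≤ Nat.card A :=
    hAmax (A₀ ⊔ K) hA₁S ⟨hA₁ab, fun x _ => pow_zero x⟩
  -- product formula
  have hKnorm : K ≤ normalizer (A₀ : Set X) := by
    intro y hy
    rw [mem_normalizer_iff]
    intro x
    have key : ∀ z ∈ A₀, y * z * y⁻¹ = z := by
      intro z hz
      rw [← hcommA₀K z hz y hy, mul_inv_cancel_right]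
    constructor
    · intro hx
      rw [key x hx]
      exact hx
    · intro hx
      have := key _ hx
      have e : x = y⁻¹ * (y * x * y⁻¹) * y := by group
      have hy' : y⁻¹ ∈ K := K.inv_mem hy
      have h2 : y⁻¹ * (y * x * y⁻¹) * y⁻¹⁻¹ = y * x * y⁻¹ := by
        rw [← hcommA₀K _ hx _ hy', mul_inv_cancel_right]
      rw [inv_inv] at h2
      rw [e, h2]
      exact hx
  have hprod := Cfsg.Agent.Helper17.card_sup_mul_card_inf A₀ K hKnorm
  have hKcent : K ≤ centralizer (K : Set X) := by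
    intro x hx
    rw [mem_centralizer_iff]
    intro y hy
    exact hKab y hy x hx
  have hinf : A₀ ⊓ K = A ⊓ K := by
    rw [hA₀, inf_assoc, inf_eq_right.mpr hKcent]
  rw [hinf] at hprod
  -- |A| = 2 |A₀|
  have h2 := Cfsg.Agent.Helper17.relIndex_mul_card_inf A₀ A
  rw [hidx, inf_eq_left.mpr hA₀A] at h2
  -- C_K(a)
  set CK : Subgroup X := K ⊓ centralizer ({a} : Set X) with hCK
  have hAKCK : A ⊓ K ≤ CK := by
    intro x hx
    refine Subgroup.mem_inf.mpr ⟨(Subgroup.mem_inf.mp hx).2, ?_⟩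
    rw [mem_centralizer_singleton_iff]
    exact hAab x (Subgroup.mem_inf.mp hx).1 a ha
  have hCKK : CK ≤ K := inf_le_left
  have hCKne : CK ≠ K := by
    intro h
    apply haK
    rw [mem_centralizer_iff]
    intro y hy
    have hy' : y ∈ CK := h ▸ hy
    have := (Subgroup.mem_inf.mp hy').2
    rw [mem_centralizer_singleton_iff] at this
    exact this
  have h3 := Cfsg.Agent.Helper17.relIndex_mul_card_inf CK K
  rw [inf_eq_left.mpr hCKK] at h3
  have hcardle : Nat.card (A ⊓ K : Subgroup X) ≤ Nat.card CK :=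
    Nat.card_le_card_of_injective (Subgroup.inclusion hAKCK) (Subgroup.inclusion_injective _)
  have hposA₀ : 0 < Nat.card A₀ := Nat.card_pos
  have hposCK : 0 < Nat.card CK := Nat.card_pos
  have hposK : 0 < Nat.card K := Nat.card_pos
  -- |K| ≤ 2 |A ⊓ K|
  have h4 : Nat.card A₀ * Nat.card K ≤ Nat.card A₀ * (2 * Nat.card (A ⊓ K : Subgroup X)) := by
    calc Nat.card A₀ * Nat.card K = Nat.card (A₀ ⊔ K : Subgroup X) * Nat.card (A ⊓ K : Subgroup X) :=
          hprod.symm
      _ ≤ Nat.card A * Nat.card (A ⊓ K : Subgroup X) := Nat.mul_le_mul_right _ hle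
      _ = Nat.card A₀ * (2 * Nat.card (A ⊓ K : Subgroup X)) := by rw [← h2]; ring
  have h5 : Nat.card K ≤ 2 * Nat.card (A ⊓ K : Subgroup X) := Nat.le_of_mul_le_mul_left h4 hposA₀
  have h6 : CK.relIndex K * Nat.card CK ≤ 2 * Nat.card CK := by
    rw [h3]
    exact h5.trans (Nat.mul_le_mul_left 2 hcardle)
  have h7 : CK.relIndex K ≤ 2 := Nat.le_of_mul_le_mul_right h6 hposCK
  have h8 : CK.relIndex K ≠ 0 := by
    intro h
    rw [h, zero_mul] at h3
    omega
  have h9 : CK.relIndex K ≠ 1 := by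
    intro h
    rw [h, one_mul] at h3
    exact hCKne (Subgroup.eq_of_le_of_card_ge hCKK h3.ge)
  omega

end Cfsg.Agent.S2799P
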