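import Mathlib
import Cfsg.Agent.Helper27.S3001QDefs
import Cfsg.Agent.Helper27.S3001G1

/-! Board `s3001qpieces`, row G2: `hat` and the lattice operations (`⊔`, `⨆`, commutators, conjugation). -/

set_option autoImplicit false

namespace Cfsg.Agent.S3001P

open Cfsg.Agent.S2789P Cfsg.Agent.S2999P Cfsg.Agent.S3000P Cfsg.Agent.S3001P
open scoped commutatorElement

universe u

variable {G : Type u} [Group G]

theorem hat_sup {R X Y : Subgroup G} (hX : X ≤ NR R) (hY : Y ≤ NR R) : hat R (X ⊔ Y) = hat R X ⊔ hat R Y := by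
  unfold hat
  rw [Subgroup.subgroupOf_sup hX hY, Subgroup.map_sup]

/-- `subgroupOf` commutes with `⨆` below the ambient subgroup -/
theorem G2_aux_subgroupOf_iSup {ι : Sort*} {N : Subgroup G} (X : ι → Subgroup G) (hX : ∀ i, X i ≤ N) :
    (⨆ i, X i).subgroupOf N = ⨆ i, (X i).subgroupOf N := by
  apply Subgroup.map_injective N.subtype_injective
  rw [Subgroup.map_subgroupOf_eq_of_le (iSup_le hX), Subgroup.map_iSup]
  congr 1
  funext i
  rw [Subgroup.map_subgroupOf_eq_of_le (hX i)]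

theorem hat_iSup {ι : Sort*} {R : Subgroup G} (X : ι → Subgroup G) (hX : ∀ i, X i ≤ NR R) :
    hat R (⨆ i, X i) = ⨆ i, hat R (X i) := by
  unfold hat
  rw [G2_aux_subgroupOf_iSup X hX, Subgroup.map_iSup]

/-- `subgroupOf` commutes with commutators below the ambient subgroup -/
theorem G2_aux_subgroupOf_commutator {N X Y : Subgroup G} (hX : X ≤ N) (hY : Y ≤ N) :
    (⁅X, Y⁆ : Subgroup G).subgroupOf N = ⁅X.subgroupOf N, Y.subgroupOf N⁆ := by
  have hc : (⁅X, Y⁆ : Subgroup G) ≤ N := by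
    rw [Subgroup.commutator_le]
    intro x hx y hy
    exact N.mul_mem (N.mul_mem (N.mul_mem (hX hx) (hY hy)) (N.inv_mem (hX hx))) (N.inv_mem (hY hy))
  apply Subgroup.map_injective N.subtype_injective
  rw [Subgroup.map_subgroupOf_eq_of_le hc, Subgroup.map_commutator,
    Subgroup.map_subgroupOf_eq_of_le hX, Subgroup.map_subgroupOf_eq_of_le hY]

theorem hat_commutator {R X Y : Subgroup G} (hX : X ≤ NR R) (hY : Y ≤ NR R) : hat R ⁅X, Y⁆ = ⁅hat R X, hat R Y⁆ := by
  unfold hat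
  rw [G2_aux_subgroupOf_commutator hX hY, Subgroup.map_commutator]

theorem hat_map_conj {R X : Subgroup G} (t : ↥(NR R)) :
    hat R (X.map (MulAut.conj (t : G)).toMonoidHom) = (hat R X).map (MulAut.conj (qpi R t)).toMonoidHom := by
  ext y
  rw [mem_hat, Subgroup.mem_map]
  constructor
  · rintro ⟨n, hn, rfl⟩
    obtain ⟨x, hx, hxn⟩ := Subgroup.mem_map.mp hn
    have hxn' : (t : G) * x * (t : G)⁻¹ = (n : G) := by simpa using hxn
    have hxN : x ∈ NR R := by
      have : x = (t : G)⁻¹ * (n : G) * (t : G) := by rw [← hxn']; group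
      rw [this]
      exact (NR R).mul_mem ((NR R).mul_mem ((NR R).inv_mem t.2) n.2) t.2
    refine ⟨qpi R ⟨x, hxN⟩, qpi_mem_hat ⟨x, hxN⟩ hx, ?_⟩
    have : n = t * ⟨x, hxN⟩ * t⁻¹ := by
      apply Subtype.ext
      simp [← hxn']
    rw [this]
    simp
  · rintro ⟨z, hz, rfl⟩
    obtain ⟨m, hm, rfl⟩ := mem_hat.mp hz
    refine ⟨t * m * t⁻¹, ?_, by simp⟩
    refine Subgroup.mem_map.mpr ⟨(m : G), hm, ?_⟩
    simp

end Cfsg.Agent.S3001P
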