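import Mathlib

/-!
# S3816 (Flavell): definitions for the internal form

Ambient finite group `G`, `A ≤ G` of odd prime order `p`, `K ≤ G` solvable, normalised by `A`,
`p ∤ |K|`.  `cA A k = [k,A] = ⟨k⁻¹ · a k a⁻¹ : a ∈ A⟩`, `DD A K = ⟨C_{[k,A]}(A) : k ∈ K⟩`.
Blueprint: `departures/helper13_S3816_blueprint.md`.
-/

set_option autoImplicit false

namespace Cfsg.Agent.S3816P

universe u

variable {G : Type u} [Group G]

/-- `[k,A]`: the subgroup generated by the `k⁻¹ · (a k a⁻¹)`, `a ∈ A`. -/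
def cA (A : Subgroup G) (k : G) : Subgroup G :=
  Subgroup.closure {c : G | ∃ a ∈ A, c = k⁻¹ * (a * k * a⁻¹)}

/-- `D(K) = ⟨ C_{[k,A]}(A) : k ∈ K ⟩`. -/
def DD (A K : Subgroup G) : Subgroup G :=
  ⨆ k ∈ K, cA A k ⊓ Subgroup.centralizer (A : Set G)

/-- The standing hypotheses of the internal theorem. -/
structure Hyp (p : ℕ) (A K : Subgroup G) : Prop where
  card : Nat.card A = p
  norm : A ≤ Subgroup.normalizer (K : Set G)
  cop : (Nat.card K).Coprime p
  solv : Group.IsSolvable K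

/-- The conclusion (the nontrivial inclusion). -/
def Thm (A K : Subgroup G) : Prop :=
  ⁅K, A⁆ ⊓ Subgroup.centralizer (A : Set G) ≤ DD A K

/-- A minimal counterexample with `G = K A`. -/
structure MC (p : ℕ) (A K : Subgroup G) : Prop where
  hyp : Hyp p A K
  top : K ⊔ A = ⊤
  ih : ∀ (G' : Type u) [Group G'] [Finite G'] (A' K' : Subgroup G'),
    Nat.card K' < Nat.card K → Hyp p A' K' → Thm A' K'
  neg : ¬ Thm A K

/-- `N` is a minimal normal subgroup of `G` inside `K`. -/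
structure MinN (K N : Subgroup G) : Prop where
  le : N ≤ K
  ne : N ≠ ⊥
  normal : N.Normal
  min : ∀ M : Subgroup G, M ≤ N → M.Normal → M ≠ ⊥ → M = N

/-- `X_0 = (D ∩ X)[X,A]`. -/
def X0 (A K X : Subgroup G) : Subgroup G := (DD A K ⊓ X) ⊔ ⁅X, A⁆

/-- The Frattini subgroup of `K` as a subgroup of `G`. -/
noncomputable def Phi (K : Subgroup G) : Subgroup G := (frattini ↥K).map K.subtype

/-- `ker θ = (D ∩ N)[N,A]`. -/
def Kth (A K N : Subgroup G) : Subgroup G := (DD A K ⊓ N) ⊔ ⁅N, A⁆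

end Cfsg.Agent.S3816P
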