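import Mathlib
import Cfsg.Agent.Helper13.S3816Defs

/-! S3816 board, row BASIC: elementary facts on `cA A k = [k,A]` and `DD A K`. -/

set_option autoImplicit false

open scoped commutatorElement

namespace Cfsg.Agent.S3816P

universe u

variable {G : Type u} [Group G] {A K : Subgroup G}

theorem cA_gen_eq (k a : G) : k⁻¹ * (a * k * a⁻¹) = ⁅k⁻¹, a⁆ := by
  rw [commutatorElement_def]; group

theorem cA_le_commutator {X : Subgroup G} {k : G} (hk : k ∈ X) : cA A k ≤ ⁅X, A⁆ := by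
  unfold cA
  rw [Subgroup.closure_le]
  rintro _ ⟨a, ha, rfl⟩
  rw [cA_gen_eq]
  exact Subgroup.commutator_mem_commutator (X.inv_mem hk) ha

theorem cA_le (hAK : A ≤ Subgroup.normalizer (K : Set G)) {k : G} (hk : k ∈ K) : cA A k ≤ K := by
  unfold cA
  rw [Subgroup.closure_le]
  rintro _ ⟨a, ha, rfl⟩
  have h1 : a * k * a⁻¹ ∈ K := (Subgroup.mem_normalizer_iff.mp (hAK ha) k).mp hk
  exact K.mul_mem (K.inv_mem hk) h1

theorem cA_normalized (A : Subgroup G) (k : G) :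
    A ≤ Subgroup.normalizer (cA A k : Set G) := by
  -- conjugation by `b ∈ A` maps the generating set into `cA A k`
  have key : ∀ b ∈ A, ∀ g ∈ cA A k, b * g * b⁻¹ ∈ cA A k := by
    intro b hb g hg
    unfold cA at hg
    induction hg using Subgroup.closure_induction with
    | mem x hx =>
      obtain ⟨a, ha, rfl⟩ := hx
      -- b (k⁻¹ a k a⁻¹) b⁻¹ = (k⁻¹ b k b⁻¹)⁻¹ (k⁻¹ (ba) k (ba)⁻¹)
      have h1 : k⁻¹ * (b * k * b⁻¹) ∈ cA A k :=
        Subgroup.subset_closure ⟨b, hb, rfl⟩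
      have h2 : k⁻¹ * ((b * a) * k * (b * a)⁻¹) ∈ cA A k :=
        Subgroup.subset_closure ⟨b * a, A.mul_mem hb ha, rfl⟩
      have : b * (k⁻¹ * (a * k * a⁻¹)) * b⁻¹
          = (k⁻¹ * (b * k * b⁻¹))⁻¹ * (k⁻¹ * ((b * a) * k * (b * a)⁻¹)) := by group
      rw [this]
      exact (cA A k).mul_mem ((cA A k).inv_mem h1) h2
    | one => simp
    | mul x y _ _ hx hy =>
      have : b * (x * y) * b⁻¹ = (b * x * b⁻¹) * (b * y * b⁻¹) := by group
      rw [this]; exact (cA A k).mul_mem hx hy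
    | inv x _ hx =>
      have : b * x⁻¹ * b⁻¹ = (b * x * b⁻¹)⁻¹ := by group
      rw [this]; exact (cA A k).inv_mem hx
  intro b hb
  rw [Subgroup.mem_normalizer_iff]
  intro g
  constructor
  · exact key b hb g
  · intro h
    have := key b⁻¹ (A.inv_mem hb) _ h
    simpa [mul_assoc] using this

theorem cA_fix_mul {c : G} (hc : c ∈ Subgroup.centralizer (A : Set G)) (k : G) :
    cA A (c * k) = cA A k := by
  unfold cA
  congr 1
  ext g
  constructor
  · rintro ⟨a, ha, rfl⟩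
    refine ⟨a, ha, ?_⟩
    have h := Subgroup.mem_centralizer_iff.mp hc a ha
    -- a * c = c * a
    calc (c * k)⁻¹ * (a * (c * k) * a⁻¹) = k⁻¹ * c⁻¹ * ((a * c) * k * a⁻¹) := by group
      _ = k⁻¹ * c⁻¹ * ((c * a) * k * a⁻¹) := by rw [h]
      _ = k⁻¹ * (a * k * a⁻¹) := by group
  · rintro ⟨a, ha, rfl⟩
    refine ⟨a, ha, ?_⟩
    have h := Subgroup.mem_centralizer_iff.mp hc a ha
    symm
    calc (c * k)⁻¹ * (a * (c * k) * a⁻¹) = k⁻¹ * c⁻¹ * ((a * c) * k * a⁻¹) := by group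
      _ = k⁻¹ * c⁻¹ * ((c * a) * k * a⁻¹) := by rw [h]
      _ = k⁻¹ * (a * k * a⁻¹) := by group

theorem DD_mono {X : Subgroup G} (hX : X ≤ K) : DD A X ≤ DD A K := by
  unfold DD
  refine iSup₂_le fun k hk => ?_
  exact le_iSup₂_of_le k (hX hk) le_rfl

theorem DD_le_fix (A K : Subgroup G) : DD A K ≤ Subgroup.centralizer (A : Set G) := by
  unfold DD
  exact iSup₂_le fun k _ => inf_le_right

theorem DD_le_comm (A K : Subgroup G) : DD A K ≤ ⁅K, A⁆ := by
  unfold DD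
  exact iSup₂_le fun k hk => inf_le_left.trans (cA_le_commutator hk)

theorem cA_inf_le_DD {k : G} (hk : k ∈ K) :
    cA A k ⊓ Subgroup.centralizer (A : Set G) ≤ DD A K := by
  unfold DD
  exact le_iSup₂_of_le k hk le_rfl

/-- Elementwise description of a join of two elementwise commuting subgroups. -/
theorem mem_sup_of_commute {H1 H2 : Subgroup G} (hc : ∀ x ∈ H1, ∀ y ∈ H2, x * y = y * x) {g : G}
    (hg : g ∈ H1 ⊔ H2) : ∃ y ∈ H1, ∃ z ∈ H2, y * z = g := by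
  rw [Subgroup.sup_eq_closure_mul] at hg
  induction hg using Subgroup.closure_induction with
  | mem x hx =>
    obtain ⟨y, hy, z, hz, rfl⟩ := hx
    exact ⟨y, hy, z, hz, rfl⟩
  | one => exact ⟨1, H1.one_mem, 1, H2.one_mem, by simp⟩
  | mul a b _ _ ha hb =>
    obtain ⟨y1, hy1, z1, hz1, rfl⟩ := ha
    obtain ⟨y2, hy2, z2, hz2, rfl⟩ := hb
    refine ⟨y1 * y2, H1.mul_mem hy1 hy2, z1 * z2, H2.mul_mem hz1 hz2, ?_⟩
    have h := hc y2 hy2 z1 hz1
    calc y1 * y2 * (z1 * z2) = y1 * (y2 * z1) * z2 := by group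
      _ = y1 * (z1 * y2) * z2 := by rw [h]
      _ = y1 * z1 * (y2 * z2) := by group
  | inv a _ ha =>
    obtain ⟨y, hy, z, hz, rfl⟩ := ha
    refine ⟨y⁻¹, H1.inv_mem hy, z⁻¹, H2.inv_mem hz, ?_⟩
    have h := hc y hy z hz
    calc y⁻¹ * z⁻¹ = (z * y)⁻¹ := by group
      _ = (y * z)⁻¹ := by rw [h]

end Cfsg.Agent.S3816P
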