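import Mathlib
import Cfsg.Agent.Helper10.S4017Defs
open Cfsg.Agent.S4017P

set_option autoImplicit false

namespace Cfsg.Agent.S4017P

theorem MINV {G : Type*} [Group G] [Finite G] (Y A : Subgroup G) (hY : Y ≠ ⊥)
    (hYab : ∀ x ∈ Y, ∀ y ∈ Y, x * y = y * x) (hodd : ∀ x ∈ Y, Odd (orderOf x))
    (hA2 : ∀ v ∈ A, v * v = 1) (hAab : ∀ v ∈ A, ∀ w ∈ A, v * w = w * v)
    (hAN : ∀ v ∈ A, ∀ x ∈ Y, v * x * v⁻¹ ∈ Y) :
    ∃ y ∈ Y, y ≠ 1 ∧ ∀ v ∈ A, v * y * v⁻¹ = y ∨ v * y * v⁻¹ = y⁻¹ := by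
  classical
  -- the family of nontrivial A-invariant subgroups of Y, by cardinality
  let P : ℕ → Prop := fun n => ∃ Y1 : Subgroup G, Y1 ≤ Y ∧ Y1 ≠ ⊥ ∧
    (∀ v ∈ A, ∀ x ∈ Y1, v * x * v⁻¹ ∈ Y1) ∧ Nat.card Y1 = n
  have hex : ∃ n, P n := ⟨Nat.card Y, Y, le_rfl, hY, hAN, rfl⟩
  obtain ⟨Y1, hY1Y, hY1ne, hY1inv, hY1card⟩ := Nat.find_spec hex
  have hmin : ∀ Y2 : Subgroup G, Y2 ≤ Y → Y2 ≠ ⊥ → (∀ v ∈ A, ∀ x ∈ Y2, v * x * v⁻¹ ∈ Y2) →
      Nat.card Y1 ≤ Nat.card Y2 := by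
    intro Y2 h1 h2 h3
    rw [hY1card]
    exact Nat.find_min' hex ⟨Y2, h1, h2, h3, rfl⟩
  -- a nontrivial element of Y1
  obtain ⟨y, hyY1, hy1⟩ : ∃ y ∈ Y1, y ≠ 1 := by
    by_contra hcon
    apply hY1ne
    rw [Subgroup.eq_bot_iff_forall]
    intro x hx
    by_contra hx1
    exact hcon ⟨x, hx, hx1⟩
  refine ⟨y, hY1Y hyY1, hy1, ?_⟩
  intro v hv
  -- the fixed points of v on Y1
  let Cv : Subgroup G := Y1 ⊓ Subgroup.centralizer ({v} : Set G)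
  have hmemCv : ∀ x : G, x ∈ Cv ↔ x ∈ Y1 ∧ v * x = x * v := by
    intro x
    simp only [Cv, Subgroup.mem_inf, Subgroup.mem_centralizer_iff, Set.mem_singleton_iff,
      forall_eq]
  have hCvinv : ∀ w ∈ A, ∀ x ∈ Cv, w * x * w⁻¹ ∈ Cv := by
    intro w hw x hx
    rw [hmemCv] at hx ⊢
    refine ⟨hY1inv w hw x hx.1, ?_⟩
    have hvw : v * w = w * v := hAab v hv w hw
    calc v * (w * x * w⁻¹) = (v * w) * x * w⁻¹ := by group
      _ = w * (v * x) * w⁻¹ := by rw [hvw]; group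
      _ = w * (x * v) * w⁻¹ := by rw [hx.2]
      _ = w * x * (v * w⁻¹) := by group
      _ = w * x * (w⁻¹ * v) := by
          have : v * w⁻¹ = w⁻¹ * v := by
            calc v * w⁻¹ = w⁻¹ * (w * v) * w⁻¹ := by group
              _ = w⁻¹ * (v * w) * w⁻¹ := by rw [hvw]
              _ = w⁻¹ * v := by group
          rw [this]
      _ = w * x * w⁻¹ * v := by group
  by_cases hCv : Cv = ⊥
  · -- v inverts y
    right
    have hvy : v * y * v⁻¹ ∈ Y1 := hY1inv v hv y hyY1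
    have hx : y * (v * y * v⁻¹) ∈ Cv := by
      rw [hmemCv]
      refine ⟨Y1.mul_mem hyY1 hvy, ?_⟩
      have hvv : v * v = 1 := hA2 v hv
      have hvinv : v⁻¹ = v := by
        calc v⁻¹ = v⁻¹ * (v * v) := by rw [hvv, mul_one]
          _ = v := by group
      have hcomm : y * (v * y * v⁻¹) = (v * y * v⁻¹) * y :=
        hYab y (hY1Y hyY1) _ (hY1Y hvy)
      calc v * (y * (v * y * v⁻¹)) = (v * y * v⁻¹) * (v * v) * y * v⁻¹ := by group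
        _ = (v * y * v⁻¹) * y * v⁻¹ := by rw [hvv, mul_one]
        _ = y * (v * y * v⁻¹) * v⁻¹ := by rw [← hcomm]
        _ = y * (v * y * v⁻¹) * v := by rw [hvinv]
    rw [hCv, Subgroup.mem_bot] at hx
    calc v * y * v⁻¹ = y⁻¹ * (y * (v * y * v⁻¹)) := by group
      _ = y⁻¹ := by rw [hx, mul_one]
  · -- v centralizes Y1
    left
    have hle : Cv ≤ Y1 := inf_le_left
    have hcard : Nat.card Y1 ≤ Nat.card Cv := hmin Cv (hle.trans hY1Y) hCv hCvinv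
    have heq : Cv = Y1 := Subgroup.eq_of_le_of_card_ge hle hcard
    have hyCv : y ∈ Cv := by rw [heq]; exact hyY1
    rw [hmemCv] at hyCv
    rw [hyCv.2]; group

end Cfsg.Agent.S4017P
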