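import Mathlib
import Cfsg.Agent.Helper10.S4017Defs
open Cfsg.Agent.S4017P

set_option autoImplicit false

namespace Cfsg.Agent.S4017P

theorem ORB {G : Type*} [Group G] [Finite G] {p a : ℕ} (hp : p.Prime) (hp2 : p ≠ 2)
    (ha : 2 ^ a = p + 1) (S : Subgroup G) (y : G)
    (hyS : ∀ x ∈ S, y * x * y⁻¹ ∈ S) (hy : IsPEl p y)
    (hS : Nat.card S < 2 ^ a ∨ (Nat.card S ≤ 2 ^ a ∧ ∃ t ∈ S, t ≠ 1 ∧ y * t * y⁻¹ = t)) :
    ∀ x ∈ S, y * x * y⁻¹ = x := by
  classical
  have : Fact p.Prime := ⟨hp⟩
  obtain ⟨k, hk⟩ := hy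
  letI : Fintype ↥S := Fintype.ofFinite _
  let f : Function.End ↥S := fun x => ⟨y * x * y⁻¹, hyS x x.2⟩
  have hfn : ∀ n : ℕ, ∀ x : ↥S, (((f ^ n) x : ↥S) : G) = y ^ n * x * (y ^ n)⁻¹ := by
    intro n
    induction n with
    | zero =>
      intro x
      simp only [pow_zero, one_mul, inv_one, mul_one]
      rfl
    | succ n ih =>
      intro x
      have h1 : (f ^ (n + 1)) x = f ((f ^ n) x) := by
        rw [pow_succ']; rfl
      rw [h1]
      show y * ((f ^ n) x : G) * y⁻¹ = _
      rw [ih x, pow_succ']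
      group
  have hf : f ^ p ^ k = 1 := by
    funext x
    apply Subtype.ext
    rw [hfn, ← hk, pow_orderOf_eq_one]
    simp only [one_mul, inv_one, mul_one]
    rfl
  have hmod := Equiv.Perm.card_fixedPoints_modEq (p := p) (n := k) hf
  let F' : Subgroup ↥S := (Subgroup.centralizer ({y} : Set G)).subgroupOf S
  have hset : Function.fixedPoints f = (F' : Set ↥S) := by
    ext x
    simp only [SetLike.mem_coe, F',
      Subgroup.mem_subgroupOf, Subgroup.mem_centralizer_iff, Set.mem_singleton_iff, forall_eq]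
    constructor
    · intro h
      have h2 : y * (x : G) * y⁻¹ = x := congrArg Subtype.val h
      calc y * (x : G) = y * x * y⁻¹ * y := by group
        _ = x * y := by rw [h2]
    · intro h
      apply Subtype.ext
      show y * (x : G) * y⁻¹ = x
      rw [h]; group
  have hcard : Fintype.card ↥(Function.fixedPoints f) = Nat.card F' := by
    rw [← Nat.card_eq_fintype_card]
    exact Nat.card_congr (Equiv.setCongr hset)
  have hdvd : Nat.card F' ∣ Nat.card S := Subgroup.card_subgroup_dvd_card F'
  have hpos : 0 < Nat.card F' := Nat.card_pos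
  have hSpos : 0 < Nat.card S := Nat.card_pos
  rw [← Nat.card_eq_fintype_card, hcard] at hmod
  have hle : Nat.card F' ≤ Nat.card S := Nat.le_of_dvd hSpos hdvd
  -- F' = ⊤
  have htop : Nat.card F' = Nat.card S := by
    by_contra hne
    have hlt : Nat.card F' < Nat.card S := lt_of_le_of_ne hle hne
    have hpd : p ∣ Nat.card S - Nat.card F' := (Nat.modEq_iff_dvd' hle).mp hmod.symm
    have hge : p ≤ Nat.card S - Nat.card F' := Nat.le_of_dvd (by omega) hpd
    rcases hS with h | ⟨h, t, htS, ht1, hty⟩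
    · omega
    · have h2 : 2 ≤ Nat.card F' := by
        have hone : (1 : ↥S) ∈ F' := F'.one_mem
        have htm : (⟨t, htS⟩ : ↥S) ∈ F' := by
          simp only [F', Subgroup.mem_subgroupOf, Subgroup.mem_centralizer_iff,
            Set.mem_singleton_iff, forall_eq]
          calc y * t = y * t * y⁻¹ * y := by group
            _ = t * y := by rw [hty]
        have hne' : (⟨(1 : ↥S), hone⟩ : F') ≠ ⟨⟨t, htS⟩, htm⟩ := by
          intro h
          apply ht1
          have := congrArg (fun u : F' => ((u : ↥S) : G)) h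
          simpa using this.symm
        have : Nontrivial F' := ⟨⟨_, _, hne'⟩⟩
        exact Finite.one_lt_card
      omega
  have hF : F' = ⊤ := Subgroup.eq_top_of_card_eq F' htop
  intro x hx
  have hxm : (⟨x, hx⟩ : ↥S) ∈ F' := by rw [hF]; trivial
  simp only [F', Subgroup.mem_subgroupOf, Subgroup.mem_centralizer_iff,
    Set.mem_singleton_iff, forall_eq] at hxm
  rw [hxm]; group

end Cfsg.Agent.S4017P
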