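import Mathlib
import Cfsg.Agent.Helper21.BswDefs2

/-!
Brauer–Suzuki–Wall, abstract form: piece D2P, the case `ε = +1` (`q = 2k+1`):
from the counting data `CountPlus` to the conclusion `ConclX`.
-/

set_option autoImplicit false

namespace Cfsg.Agent.Helper13.BswPlus

open Cfsg.Agent.Helper21.Bsw

universe u
variable {G : Type u} [Group G] [Finite G] {t s : G} {K : Subgroup G}

/-- the data of the subgroup `Q = C(x0)` and the involution `u` inverting it -/
structure QData (K : Subgroup G) (x0 u : G) : Prop where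
  hR : RType K x0
  hu : orderOf u = 2
  hinv : ∀ y ∈ Subgroup.centralizer ({x0} : Set G), u * y * u⁻¹ = y⁻¹
  hab : ∀ a ∈ Subgroup.centralizer ({x0} : Set G), ∀ b ∈ Subgroup.centralizer ({x0} : Set G),
    a * b = b * a
  hcard : Nat.card (Subgroup.centralizer ({x0} : Set G)) = 2 * Nat.card K + 1
  hcent : ∀ y ∈ Subgroup.centralizer ({x0} : Set G), y ≠ 1 → RType K y ∧
    invCount y = 2 * Nat.card K + 1 ∧
    Subgroup.centralizer ({y} : Set G) = Subgroup.centralizer ({x0} : Set G)

/-- Steps 1–4: existence of `x0`, `u`. -/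
theorem exists_qData (h : Hyp t s K) (c : CountPlus K) : ∃ (x0 u : G), QData K x0 u := by
  have hk : 0 < Nat.card K := Nat.card_pos
  have hne : Nonempty {x : G // RType K x ∧ invCount x = 2 * Nat.card K + 1} := by
    have h1 := c.card_R0
    have h2 : 0 < Nat.card {x : G // RType K x ∧ invCount x = 2 * Nat.card K + 1} := by
      rw [h1]
      have : 1 < (2 * Nat.card K + 1) ^ 2 := by nlinarith
      omega
    exact (Nat.card_pos_iff.mp h2).1
  obtain ⟨⟨x0, hx0R, hx0c⟩⟩ := hne
  have hne2 : Nonempty {v : G // orderOf v = 2 ∧ v * x0 * v⁻¹ = x0⁻¹} := by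
    have : 0 < invCount x0 := by rw [hx0c]; omega
    unfold invCount at this
    exact (Nat.card_pos_iff.mp this).1
  obtain ⟨⟨u, hu, hux⟩⟩ := hne2
  obtain ⟨hinv, hab, hcard⟩ := h.centralizer_inverted hx0R hu hux
  refine ⟨x0, u, hx0R, hu, hinv, hab, by rw [hcard, hx0c], ?_⟩
  intro y hy hy1
  have hyR := h.rType_of_mem_centralizer hx0R hy hy1
  obtain ⟨-, -, hcardy⟩ := h.centralizer_inverted hyR hu (hinv y hy)
  have hle : Subgroup.centralizer ({x0} : Set G) ≤ Subgroup.centralizer ({y} : Set G) := by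
    intro a ha
    rw [Subgroup.mem_centralizer_singleton_iff]
    exact hab a ha y hy
  have hcle := Subgroup.card_le_of_le hle
  rw [hcard, hx0c, hcardy] at hcle
  have hyc : invCount y = 2 * Nat.card K + 1 := by
    rcases c.inv y hyR with h1 | h1
    · exact h1
    · omega
  refine ⟨hyR, hyc, ?_⟩
  symm
  apply Subgroup.eq_of_le_of_card_ge hle
  rw [hcardy, hyc, hcard, hx0c]

namespace QData

variable {x0 u : G}

theorem u_sq (d : QData K x0 u) : u * u = 1 := by
  have := pow_orderOf_eq_one u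
  rwa [d.hu, pow_two] at this

theorem u_inv (d : QData K x0 u) : u⁻¹ = u := inv_eq_of_mul_eq_one_left d.u_sq

theorem x0_mem (d : QData K x0 u) : x0 ∈ Subgroup.centralizer ({x0} : Set G) := by
  rw [Subgroup.mem_centralizer_singleton_iff]

/-- if `v` inverts `Q` then `v u ∈ Q` -/
theorem mul_u_mem (d : QData K x0 u) {v : G}
    (hv : ∀ y ∈ Subgroup.centralizer ({x0} : Set G), v * y * v⁻¹ = y⁻¹) :
    v * u ∈ Subgroup.centralizer ({x0} : Set G) := by
  rw [Subgroup.mem_centralizer_singleton_iff]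
  have h1 := d.hinv x0 d.x0_mem
  have h2 := hv x0⁻¹ (Subgroup.inv_mem _ d.x0_mem)
  rw [inv_inv] at h2
  calc v * u * x0 = v * (u * x0 * u⁻¹) * u := by group
    _ = (v * x0⁻¹ * v⁻¹) * v * u := by rw [h1]; group
    _ = x0 * (v * u) := by rw [h2]; group

/-- square roots in `Q` -/
theorem exists_sqrt (d : QData K x0 u) {m : G} (hm : m ∈ Subgroup.centralizer ({x0} : Set G)) :
    ∃ n ∈ Subgroup.centralizer ({x0} : Set G), n * n = m := by
  refine ⟨m ^ (Nat.card K + 1), Subgroup.pow_mem _ hm _, ?_⟩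
  have h1 : (⟨m, hm⟩ : Subgroup.centralizer ({x0} : Set G)) ^
      Nat.card (Subgroup.centralizer ({x0} : Set G)) = 1 := pow_card_eq_one'
  have h2 : m ^ (2 * Nat.card K + 1) = 1 := by
    have := congrArg Subtype.val h1
    rw [d.hcard] at this
    simpa using this
  calc m ^ (Nat.card K + 1) * m ^ (Nat.card K + 1) = m ^ (2 * Nat.card K + 1) * m := by
        rw [← pow_add, ← pow_succ]; congr 1; omega
    _ = m := by rw [h2, one_mul]

/-- Steps 5–6: involutions of `N(Q)` invert `Q` and are `Q`-conjugate to `u`. -/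
theorem involution_normalizer (h : Hyp t s K) (d : QData K x0 u) {v : G} (hv : orderOf v = 2)
    (hvN : v ∈ Subgroup.normalizer ((Subgroup.centralizer ({x0} : Set G) : Subgroup G) : Set G)) :
    (∀ y ∈ Subgroup.centralizer ({x0} : Set G), v * y * v⁻¹ = y⁻¹) ∧
    ∃ n ∈ Subgroup.centralizer ({x0} : Set G), v = n * u * n⁻¹ := by
  have hv2 : v * v = 1 := by
    have := pow_orderOf_eq_one v
    rwa [hv, pow_two] at this
  rw [Subgroup.mem_normalizer_iff] at hvN
  have hnorm : ∀ c ∈ Subgroup.centralizer ({x0} : Set G),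
      v * c * v⁻¹ ∈ Subgroup.centralizer ({x0} : Set G) := fun c hc => (hvN c).mp hc
  have hfpf : ∀ c ∈ Subgroup.centralizer ({x0} : Set G), v * c * v⁻¹ = c → c = 1 := by
    intro c hc hvc
    have hmem : c ∈ Subgroup.centralizer ({x0} : Set G) ⊓ Subgroup.centralizer ({v} : Set G) := by
      refine Subgroup.mem_inf.mpr ⟨hc, ?_⟩
      rw [Subgroup.mem_centralizer_singleton_iff]
      calc c * v = (v * c * v⁻¹) * v := by rw [hvc]
        _ = v * c := by group
    rw [h.centralizer_inf_eq_bot d.hR hv, Subgroup.mem_bot] at hmem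
    exact hmem
  obtain ⟨hinv, -⟩ := inverts_of_fpf' _ v hv2 hnorm hfpf
  refine ⟨hinv, ?_⟩
  obtain ⟨n, hn, hnn⟩ := d.exists_sqrt (d.mul_u_mem hinv)
  refine ⟨n, hn, ?_⟩
  have h1 := d.hinv n⁻¹ (Subgroup.inv_mem _ hn)
  rw [inv_inv] at h1
  have hu2 := d.u_sq
  calc v = (v * u) * u⁻¹ := by group
    _ = n * n * u := by rw [← hnn, d.u_inv]
    _ = n * (u * n⁻¹ * u⁻¹) * u := by rw [h1]
    _ = n * u * n⁻¹ := by group

theorem u_mem_normalizer (d : QData K x0 u) :
    u ∈ Subgroup.normalizer ((Subgroup.centralizer ({x0} : Set G) : Subgroup G) : Set G) := by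
  rw [Subgroup.mem_normalizer_iff]
  intro y
  constructor
  · intro hy
    rw [d.hinv y hy]; exact Subgroup.inv_mem _ hy
  · intro hy
    have h1 := d.hinv _ hy
    have hu2 := d.u_sq
    have h2 : u * (u * y * u⁻¹) * u⁻¹ = y := by
      calc u * (u * y * u⁻¹) * u⁻¹ = (u * u) * y * (u * u)⁻¹ := by group
        _ = y := by rw [hu2]; group
    rw [h2] at h1
    rw [h1]; exact Subgroup.inv_mem _ hy

/-- Step 7: `N(Q) = Q · (N(Q) ⊓ C(u))`. -/
theorem exists_factor (h : Hyp t s K) (d : QData K x0 u) {g : G}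
    (hg : g ∈ Subgroup.normalizer ((Subgroup.centralizer ({x0} : Set G) : Subgroup G) : Set G)) :
    ∃ n ∈ Subgroup.centralizer ({x0} : Set G),
      n⁻¹ * g ∈ Subgroup.normalizer ((Subgroup.centralizer ({x0} : Set G) : Subgroup G) : Set G) ⊓
        Subgroup.centralizer ({u} : Set G) := by
  have h1 : g * u * g⁻¹ ∈
      Subgroup.normalizer ((Subgroup.centralizer ({x0} : Set G) : Subgroup G) : Set G) :=
    Subgroup.mul_mem _ (Subgroup.mul_mem _ hg d.u_mem_normalizer) (Subgroup.inv_mem _ hg)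
  have h2 : orderOf (g * u * g⁻¹) = 2 := by rw [orderOf_conj', d.hu]
  obtain ⟨-, n, hn, hnu⟩ := d.involution_normalizer h h2 h1
  refine ⟨n, hn, Subgroup.mem_inf.mpr ⟨?_, ?_⟩⟩
  · exact Subgroup.mul_mem _ (Subgroup.inv_mem _ (Subgroup.le_normalizer hn)) hg
  · rw [Subgroup.mem_centralizer_singleton_iff]
    calc n⁻¹ * g * u = n⁻¹ * (g * u * g⁻¹) * g := by group
      _ = u * (n⁻¹ * g) := by rw [hnu]; group

/-- Step 9: `N(Q) ⊓ C(u) ≤ g K g⁻¹` where `u = g t g⁻¹`. -/
theorem E_le (h : Hyp t s K) (d : QData K x0 u) {g : G} (hg : g * t * g⁻¹ = u) :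
    Subgroup.normalizer ((Subgroup.centralizer ({x0} : Set G) : Subgroup G) : Set G) ⊓
        Subgroup.centralizer ({u} : Set G) ≤ cj g K := by
  intro e he
  rw [Subgroup.mem_inf] at he
  by_contra hek
  have h' := h.conj g
  rw [hg] at h'
  have he2 : orderOf e = 2 := h'.orderOf_eq_two_of_not_mem he.2 hek
  obtain ⟨hinv, -⟩ := d.involution_normalizer h he2 he.1
  have h1 := d.mul_u_mem hinv
  have h2 : e * u ∈ Subgroup.centralizer ({u} : Set G) :=
    Subgroup.mul_mem _ he.2 (by rw [Subgroup.mem_centralizer_singleton_iff])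
  have h3 : e * u ∈ Subgroup.centralizer ({x0} : Set G) ⊓ Subgroup.centralizer ({u} : Set G) :=
    Subgroup.mem_inf.mpr ⟨h1, h2⟩
  rw [h.centralizer_inf_eq_bot d.hR d.hu, Subgroup.mem_bot] at h3
  have h4 : e = u := by
    have : e = u⁻¹ := eq_inv_of_mul_eq_one_left h3
    rw [this, d.u_inv]
  apply hek
  rw [h4, ← hg]
  exact conj_mem_cj h.htK

/-- the number of non-identity elements of `Q` -/
theorem card_Q_ne_one (d : QData K x0 u) :
    Nat.card {y : Subgroup.centralizer ({x0} : Set G) // y ≠ 1} = 2 * Nat.card K := by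
  classical
  have e := Equiv.optionSubtypeNe (1 : Subgroup.centralizer ({x0} : Set G))
  have h1 := Nat.card_congr e
  rw [Finite.card_option, d.hcard] at h1
  omega

/-- Step 10: the conjugates of `Q#` are disjoint. -/
theorem index_le (d : QData K x0 u) :
    (Subgroup.normalizer ((Subgroup.centralizer ({x0} : Set G) : Subgroup G) : Set G)).index *
      (2 * Nat.card K) ≤ Nat.card {x : G // RType K x ∧ invCount x = 2 * Nat.card K + 1} := by
  set Q := Subgroup.centralizer ({x0} : Set G) with hQ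
  set N := Subgroup.normalizer (Q : Set G) with hN
  have hcq := d.card_Q_ne_one
  suffices key : Nat.card ((G ⧸ N) × {y : Q // y ≠ 1}) ≤
      Nat.card {x : G // RType K x ∧ invCount x = 2 * Nat.card K + 1} by
    rw [Nat.card_prod, hcq] at key
    exact key
  let f : (G ⧸ N) × {y : Q // y ≠ 1} → {x : G // RType K x ∧ invCount x = 2 * Nat.card K + 1} :=
    fun p => ⟨(Quotient.out p.1) * (p.2.1 : G) * (Quotient.out p.1)⁻¹, by
      have hy1 : (p.2.1 : G) ≠ 1 := fun h1 => p.2.2 (Subtype.ext h1)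
      have := d.hcent (p.2.1 : G) p.2.1.2 hy1
      rw [rType_conj_iff, invCount_conj]
      exact ⟨this.1, this.2.1⟩⟩
  apply Nat.card_le_card_of_injective f
  rintro ⟨c, ⟨y, hy⟩⟩ ⟨c', ⟨y', hy'⟩⟩ hff
  have hff' : (Quotient.out c) * (y : G) * (Quotient.out c)⁻¹
      = (Quotient.out c') * (y' : G) * (Quotient.out c')⁻¹ := congrArg Subtype.val hff
  set a := Quotient.out c with ha
  set a' := Quotient.out c' with ha'
  have hy1 : (y : G) ≠ 1 := fun h1 => hy (Subtype.ext h1)
  have hy1' : (y' : G) ≠ 1 := fun h1 => hy' (Subtype.ext h1)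
  have hb : (a'⁻¹ * a) * (y : G) * (a'⁻¹ * a)⁻¹ = (y' : G) := by
    calc (a'⁻¹ * a) * (y : G) * (a'⁻¹ * a)⁻¹ = a'⁻¹ * (a * (y : G) * a⁻¹) * a' := by group
      _ = (y' : G) := by rw [hff']; group
  have hc1 := (d.hcent (y : G) y.2 hy1).2.2
  have hc2 := (d.hcent (y' : G) y'.2 hy1').2.2
  have hcj : cj (a'⁻¹ * a) Q = Q := by
    rw [← hb, centralizer_conj, hc1] at hc2
    exact hc2
  have hbN : a'⁻¹ * a ∈ N := by
    rw [hN, Subgroup.mem_normalizer_iff]
    intro z
    constructor
    · intro hz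
      have := conj_mem_cj (g := a'⁻¹ * a) hz
      rwa [hcj] at this
    · intro hz
      rw [← hcj, mem_cj] at hz
      have e : (a'⁻¹ * a)⁻¹ * ((a'⁻¹ * a) * z * (a'⁻¹ * a)⁻¹) * (a'⁻¹ * a) = z := by group
      rwa [e] at hz
  have hcc : c' = c := by
    rw [← QuotientGroup.out_eq' c, ← QuotientGroup.out_eq' c']
    exact QuotientGroup.eq.mpr hbN
  subst hcc
  have hyy : (y : G) = (y' : G) := by
    have : a * (y : G) * a⁻¹ = a * (y' : G) * a⁻¹ := hff'
    exact mul_left_cancel (mul_right_cancel this)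
  have : y = y' := Subtype.ext hyy
  subst this
  rfl

/-- `|N(Q)| ≤ |Q| |E|` -/
theorem card_N_le (h : Hyp t s K) (d : QData K x0 u) :
    Nat.card (Subgroup.normalizer ((Subgroup.centralizer ({x0} : Set G) : Subgroup G) : Set G)) ≤
      (2 * Nat.card K + 1) *
      Nat.card (Subgroup.normalizer ((Subgroup.centralizer ({x0} : Set G) : Subgroup G) : Set G) ⊓
        Subgroup.centralizer ({u} : Set G) : Subgroup G) := by
  set Q := Subgroup.centralizer ({x0} : Set G) with hQ
  set N := Subgroup.normalizer (Q : Set G) with hN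
  rw [← d.hcard, ← Nat.card_prod]
  let f : Q × (N ⊓ Subgroup.centralizer ({u} : Set G) : Subgroup G) → N :=
    fun p => ⟨(p.1 : G) * (p.2 : G), Subgroup.mul_mem _ (Subgroup.le_normalizer p.1.2)
      (Subgroup.mem_inf.mp p.2.2).1⟩
  apply Nat.card_le_card_of_surjective f
  rintro ⟨g, hg⟩
  obtain ⟨n, hn, hng⟩ := d.exists_factor h hg
  refine ⟨⟨⟨n, hn⟩, ⟨n⁻¹ * g, hng⟩⟩, ?_⟩
  apply Subtype.ext
  show n * (n⁻¹ * g) = g
  group

end QData

/-- `N(X) = H` for `⊥ ≠ X ≤ K` -/
theorem normalizer_eq_H (h : Hyp t s K) {X : Subgroup G} (hX : X ≤ K) (hX1 : X ≠ ⊥) :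
    Subgroup.normalizer (X : Set G) = Subgroup.centralizer ({t} : Set G) := by
  apply le_antisymm
  · intro n hn
    obtain ⟨x, hx, hx1⟩ := (X.bot_or_exists_ne_one).resolve_left hX1
    rw [Subgroup.mem_normalizer_iff] at hn
    have h2 := (hn x).mp hx
    exact h.mem_H_of_conj_mem' (hX hx) hx1 (hX h2)
  · intro n hn
    have key : ∀ m ∈ Subgroup.centralizer ({t} : Set G), ∀ x ∈ X, m * x * m⁻¹ ∈ X := by
      intro m hm x hx
      by_cases hmK : m ∈ K
      · rw [h.hKab m hmK x (hX hx), mul_assoc, mul_inv_cancel, mul_one]; exact hx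
      · rw [h.conj_eq_inv_of_not_mem hm hmK (hX hx)]; exact X.inv_mem hx
    rw [Subgroup.mem_normalizer_iff]
    intro x
    constructor
    · exact key n hn x
    · intro hx
      have h2 := key n⁻¹ (Subgroup.inv_mem _ hn) _ hx
      have e : n⁻¹ * (n * x * n⁻¹) * n⁻¹⁻¹ = x := by group
      rwa [e] at h2

/-- a subgroup whose elements all square to `1` and that has a unique involution has order `≤ 2` -/
theorem card_le_two_of_sq (D : Subgroup G) (u : G)
    (hD : ∀ d ∈ D, d ≠ 1 → d = u) : Nat.card D ≤ 2 := by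
  classical
  have h1 : Nat.card D ≤ Nat.card Bool := by
    apply Nat.card_le_card_of_injective (fun d : D => decide ((d : G) = 1))
    intro a b hab
    have hab' : decide ((a : G) = 1) = decide ((b : G) = 1) := hab
    apply Subtype.ext
    by_cases ha : (a : G) = 1
    · have hb : (b : G) = 1 := by
        have : decide ((b : G) = 1) = true := by rw [← hab']; exact decide_eq_true ha
        exact of_decide_eq_true this
      rw [ha, hb]
    · have hb : (b : G) ≠ 1 := by
        intro hb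
        have : decide ((a : G) = 1) = true := by rw [hab']; exact decide_eq_true hb
        exact ha (of_decide_eq_true this)
      rw [hD a a.2 ha, hD b b.2 hb]
  simpa using h1

end Cfsg.Agent.Helper13.BswPlus

namespace Cfsg.Agent.Helper21.Bsw

open Cfsg.Agent.Helper13.BswPlus

universe u
variable {G : Type u} [Group G] [Finite G] {t s : G} {K : Subgroup G}

/-- Piece D2P: the case `ε = +1`. -/
theorem conclX_of_countPlus (h : Hyp t s K) (c : CountPlus K) : ConclX G := by
  obtain ⟨x0, u, d⟩ := exists_qData h c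
  obtain ⟨g, hg⟩ := isConj_iff.mp (h.hconj t u h.ht d.hu)
  have hk : 0 < Nat.card K := Nat.card_pos
  have hEle := d.E_le h hg
  have h1 := d.index_le
  rw [c.card_R0] at h1
  have h2 := d.card_N_le h
  have h3 := Subgroup.index_mul_card
    (Subgroup.normalizer ((Subgroup.centralizer ({x0} : Set G) : Subgroup G) : Set G))
  have h4 := c.card_G
  set Q := Subgroup.centralizer ({x0} : Set G) with hQ
  set N := Subgroup.normalizer (Q : Set G) with hN
  set E := N ⊓ Subgroup.centralizer ({u} : Set G) with hE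
  have hidx : N.index ≤ 2 * Nat.card K + 2 := by
    have e : (2 * Nat.card K + 1) ^ 2 - 1 = (2 * Nat.card K + 2) * (2 * Nat.card K) := by
      have : (2 * Nat.card K + 1) ^ 2 = (2 * Nat.card K + 2) * (2 * Nat.card K) + 1 := by ring
      omega
    rw [e] at h1
    exact Nat.le_of_mul_le_mul_right h1 (by omega)
  have hkE : Nat.card K ≤ Nat.card E := by
    have e1 : ((2 * Nat.card K + 1) * (2 * Nat.card K + 2)) * (2 * Nat.card K) ≤
        ((2 * Nat.card K + 1) * (2 * Nat.card K + 2)) * (2 * Nat.card E) := by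
      calc ((2 * Nat.card K + 1) * (2 * Nat.card K + 2)) * (2 * Nat.card K) = 2 * Nat.card G := h4.symm
        _ = 2 * (N.index * Nat.card N) := by rw [h3]
        _ ≤ 2 * ((2 * Nat.card K + 2) * ((2 * Nat.card K + 1) * Nat.card E)) := by
            apply Nat.mul_le_mul_left
            exact Nat.mul_le_mul hidx h2
        _ = ((2 * Nat.card K + 1) * (2 * Nat.card K + 2)) * (2 * Nat.card E) := by ring
    have := Nat.le_of_mul_le_mul_left e1 (by positivity)
    omega
  have hED : E = cj g K := Subgroup.eq_of_le_of_card_ge hEle (by rw [card_cj]; exact hkE)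
  have h' := h.conj g
  rw [hg] at h'
  have hDN : cj g K ≤ N := by rw [← hED]; exact inf_le_left
  have hDu : cj g K ≤ Subgroup.centralizer ({u} : Set G) := by rw [← hED]; exact inf_le_right
  have hDne : cj g K ≠ ⊥ := by
    intro hbot
    have := h'.htK
    rw [hbot, Subgroup.mem_bot] at this
    exact h'.t_ne_one this
  refine ⟨Q, cj g K, ?_, ?_, ?_, ?_, ?_, ?_, ?_, ?_⟩
  · rw [d.hcard, h4]
    simp
  · intro x hx hx1
    exact (d.hcent x hx hx1).2.2
  · exact ⟨⟨fun a b => Subtype.ext (h'.hKab a a.2 b b.2)⟩⟩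
  · rw [card_cj, d.hcard]
  · rw [eq_bot_iff]
    calc Q ⊓ cj g K ≤ Q ⊓ Subgroup.centralizer ({u} : Set G) := inf_le_inf_left _ hDu
      _ = ⊥ := h.centralizer_inf_eq_bot d.hR d.hu
  · apply le_antisymm
    · intro n hn
      obtain ⟨m, hm, hmn⟩ := d.exists_factor h hn
      rw [← hE, hED] at hmn
      have : n = m * (m⁻¹ * n) := by group
      rw [this]
      exact Subgroup.mul_mem_sup hm hmn
    · exact sup_le Subgroup.le_normalizer hDN
  · intro X hX hX1
    refine ⟨?_, g * s * g⁻¹, h'.hs, h'.hsK, h'.hinv, ?_⟩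
    · rw [normalizer_eq_H h' hX hX1, normalizer_eq_H h' le_rfl hDne]
    · rw [normalizer_eq_H h' le_rfl hDne, h'.hH]
  · by_cases hD2 : Nat.card (cj g K) ≤ 2
    · left; exact hD2
    · right
      by_contra hall
      apply hD2
      apply card_le_two_of_sq (cj g K) u
      intro x hx hx1
      apply h'.eq_t_of_sq_eq_one hx _ hx1
      by_contra hxx
      exact hall ⟨x, hx, hxx⟩

end Cfsg.Agent.Helper21.Bsw
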