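import Mathlib
import Cfsg.Agent.Helper16.BswLoc
import Cfsg.Agent.Helper11.SylowInter

/-!
Brauer–Suzuki–Wall, piece D2Mc, abstract core: a local criterion for the Sylow `p`-subgroups
of a finite group to be a T.I. set (maximal intersection argument + LOC-1).
-/

set_option autoImplicit false

namespace Cfsg.Agent.Helper13.BswTI

open Cfsg.Agent.Helper21.Bsw.Loc

variable {G : Type*} [Group G]

omit [Group G] in
theorem odd_of_no_involution [Group G] [Finite G] (T : Subgroup G)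
    (hT : ∀ u ∈ T, orderOf u ≠ 2) : ∀ n ∈ T, Odd (orderOf n) := by
  intro n hn
  by_contra hodd
  rw [Nat.not_odd_iff_even] at hodd
  have h2 : 2 ∣ orderOf n := hodd.two_dvd
  have := orderOf_pow_orderOf_div (orderOf_pos n).ne' h2
  exact hT _ (T.pow_mem hn _) this

theorem mem_centralizer_conj_iff {n z a : G} :
    a ∈ Subgroup.centralizer ({z} : Set G) ↔
      n * a * n⁻¹ ∈ Subgroup.centralizer ({n * z * n⁻¹} : Set G) := by
  rw [Subgroup.mem_centralizer_singleton_iff, Subgroup.mem_centralizer_singleton_iff]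
  constructor
  · intro h
    calc n * a * n⁻¹ * (n * z * n⁻¹) = n * (a * z) * n⁻¹ := by group
      _ = n * (z * a) * n⁻¹ := by rw [h]
      _ = n * z * n⁻¹ * (n * a * n⁻¹) := by group
  · intro h
    calc a * z = n⁻¹ * (n * a * n⁻¹ * (n * z * n⁻¹)) * n := by group
      _ = n⁻¹ * (n * z * n⁻¹ * (n * a * n⁻¹)) * n := by rw [h]
      _ = z * a := by group

variable [Finite G]

/-- a pair of distinct Sylow `p`-subgroups with maximal non-trivial intersection cannot exist -/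
theorem max_pair_false (p : ℕ) [Fact p.Prime]
    (H1a : ∀ w : G, w ≠ 1 → (∃ n : ℕ, w ^ (p ^ n) = 1) →
      Odd (Nat.card (Subgroup.centralizer ({w} : Set G))))
    (H1b : ∀ w : G, w ≠ 1 → (∃ n : ℕ, w ^ (p ^ n) = 1) →
      ∀ u : G, orderOf u = 2 → u * w * u⁻¹ ≠ w⁻¹)
    (H2 : ∀ z : G, z ≠ 1 → Odd (orderOf z) → (¬ ∃ n : ℕ, z ^ (p ^ n) = 1) →
      (∀ a ∈ Subgroup.centralizer ({z} : Set G), ∀ b ∈ Subgroup.centralizer ({z} : Set G),
        a * b = b * a) ∧
      (∀ a ∈ Subgroup.centralizer ({z} : Set G), a ≠ 1 → Odd (orderOf a) →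
        Subgroup.centralizer ({a} : Set G) = Subgroup.centralizer ({z} : Set G)) ∧
      (∀ n ∈ Subgroup.normalizer ((Subgroup.centralizer ({z} : Set G) : Subgroup G) : Set G),
        Odd (orderOf n) → n ∈ Subgroup.centralizer ({z} : Set G)))
    (Q1 Q2 : Sylow p G) (hQne : Q1 ≠ Q2) (hQW : (Q1 : Subgroup G) ⊓ Q2 ≠ ⊥)
    (hmax : ∀ R1 R2 : Sylow p G, R1 ≠ R2 → (R1 : Subgroup G) ⊓ R2 ≠ ⊥ →
      Nat.card ((R1 : Subgroup G) ⊓ R2 : Subgroup G) ≤
        Nat.card ((Q1 : Subgroup G) ⊓ Q2 : Subgroup G)) : False := by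
  set W : Subgroup G := (Q1 : Subgroup G) ⊓ Q2 with hW
  set T : Subgroup G := Subgroup.normalizer (W : Set G) with hT
  have hWp : ∀ w ∈ W, ∃ n : ℕ, w ^ (p ^ n) = 1 := by
    intro w hw
    obtain ⟨k, hk⟩ := Q1.2 ⟨w, (Subgroup.mem_inf.mp hw).1⟩
    refine ⟨k, ?_⟩
    have := congrArg Subtype.val hk
    simpa using this
  -- Step A: `T` has no involution
  have hnoinv : ∀ u ∈ T, orderOf u ≠ 2 := by
    intro u huT hu2
    have huu : u * u = 1 := by
      have := pow_orderOf_eq_one u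
      rwa [hu2, pow_two] at this
    have hcent : ∀ w ∈ W, u * w * u⁻¹ = w := by
      intro w hw
      by_contra hne
      have huw : u * w * u⁻¹ ∈ W := (Subgroup.mem_normalizer_iff.mp huT w).mp hw
      have hcW : w⁻¹ * (u * w * u⁻¹) ∈ W := W.mul_mem (W.inv_mem hw) huw
      have hc1 : w⁻¹ * (u * w * u⁻¹) ≠ 1 := by
        intro h1
        apply hne
        have := inv_mul_eq_one.mp h1
        exact this.symm
      apply H1b _ hc1 (hWp _ hcW) u hu2
      calc u * (w⁻¹ * (u * w * u⁻¹)) * u⁻¹ = (u * w⁻¹ * u⁻¹) * ((u * u) * w * (u * u)⁻¹) := by group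
        _ = (w⁻¹ * (u * w * u⁻¹))⁻¹ := by rw [huu]; group
    obtain ⟨w, hw, hw1⟩ := (W.bot_or_exists_ne_one).resolve_left hQW
    have hmem : u ∈ Subgroup.centralizer ({w} : Set G) := by
      rw [Subgroup.mem_centralizer_singleton_iff]
      calc u * w = (u * w * u⁻¹) * u := by group
        _ = w * u := by rw [hcent w hw]
    have hdvd := Subgroup.orderOf_dvd_natCard _ hmem
    rw [hu2] at hdvd
    have hodd := H1a w hw1 (hWp w hw)
    rw [← Nat.not_even_iff_odd] at hodd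
    exact hodd (even_iff_two_dvd.mpr hdvd)
  have hTodd := odd_of_no_involution T hnoinv
  -- Step B: the hypothesis of LOC-1
  have hN : ∀ r : ℕ, r.Prime → r ≠ p → ∀ R : Subgroup G, R ≤ T → IsPGroup r R → R ≠ ⊥ →
      ∀ n ∈ T, n ∈ Subgroup.normalizer (R : Set G) → n ∈ Subgroup.centralizer (R : Set G) := by
    intro r hr hrp R hRT hR hRne n hnT hnN
    haveI : Fact r.Prime := ⟨hr⟩
    haveI : Nontrivial R := (Subgroup.nontrivial_iff_ne_bot R).mpr hRne
    haveI := hR.center_nontrivial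
    obtain ⟨⟨z, hzc⟩, hz1⟩ := exists_ne (1 : Subgroup.center R)
    have hz1' : (z : G) ≠ 1 := by
      intro h1
      apply hz1
      apply Subtype.ext
      apply Subtype.ext
      exact h1
    have hzcomm : ∀ y ∈ R, y * (z : G) = (z : G) * y := by
      intro y hy
      have := Subgroup.mem_center_iff.mp hzc ⟨y, hy⟩
      exact congrArg Subtype.val this
    have hzodd : Odd (orderOf (z : G)) := hTodd _ (hRT z.2)
    have hznp : ¬ ∃ m : ℕ, (z : G) ^ (p ^ m) = 1 := by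
      rintro ⟨m, hm⟩
      obtain ⟨j, hj⟩ := hR z
      have hj' : (z : G) ^ (r ^ j) = 1 := by
        have := congrArg Subtype.val hj
        simpa using this
      have h3 : orderOf (z : G) ∣ Nat.gcd (p ^ m) (r ^ j) :=
        Nat.dvd_gcd (orderOf_dvd_of_pow_eq_one hm) (orderOf_dvd_of_pow_eq_one hj')
      have hcop : Nat.Coprime (p ^ m) (r ^ j) := by
        apply Nat.Coprime.pow
        exact (Nat.coprime_primes (Fact.out : p.Prime) hr).2 (Ne.symm hrp)
      rw [hcop] at h3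
      exact hz1' (orderOf_eq_one_iff.1 (Nat.dvd_one.1 h3))
    obtain ⟨hab, hcen, hnor⟩ := H2 (z : G) hz1' hzodd hznp
    have hRA : ∀ y ∈ R, y ∈ Subgroup.centralizer ({(z : G)} : Set G) := by
      intro y hy
      rw [Subgroup.mem_centralizer_singleton_iff]
      exact hzcomm y hy
    have hz2R : n * (z : G) * n⁻¹ ∈ R := (Subgroup.mem_normalizer_iff.mp hnN _).mp z.2
    have hz2ne : n * (z : G) * n⁻¹ ≠ 1 := by
      intro h1
      apply hz1'
      have : (z : G) = n⁻¹ * (n * (z : G) * n⁻¹) * n := by group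
      rw [this, h1]; group
    have hceq := hcen _ (hRA _ hz2R) hz2ne (hTodd _ (hRT hz2R))
    have hnNA : n ∈ Subgroup.normalizer
        ((Subgroup.centralizer ({(z : G)} : Set G) : Subgroup G) : Set G) := by
      rw [Subgroup.mem_normalizer_iff]
      intro a
      rw [mem_centralizer_conj_iff (n := n), hceq]
    have hnA := hnor n hnNA (hTodd n hnT)
    rw [Subgroup.mem_centralizer_iff]
    intro y hy
    exact hab y (hRA y hy) n hnA
  -- Step C
  obtain ⟨P, hPT, hPp, -, hPel⟩ := exists_normal_sylow_of_local p T hN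
  obtain ⟨P3, hP3⟩ := hPp.exists_le_sylow
  have hWT : W ≤ T := Subgroup.le_normalizer
  have key : ∀ Qi : Sylow p G, W ≤ (Qi : Subgroup G) → W ≠ (Qi : Subgroup G) →
      (W ≤ (P3 : Subgroup G) ⊓ Qi ∧
        Nat.card W < Nat.card ((P3 : Subgroup G) ⊓ Qi : Subgroup G)) := by
    intro Qi hWQ hWne
    have hlt : W < (Qi : Subgroup G) := lt_of_le_of_ne hWQ hWne
    have h1 := Cfsg.Agent.Helper11.lt_inf_normalizer (Qi : Subgroup G) W Qi.2 hlt
    have h2 : (Qi : Subgroup G) ⊓ Subgroup.normalizer (W : Set G) ≤ (P3 : Subgroup G) ⊓ Qi := by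
      intro x hx
      rw [Subgroup.mem_inf] at hx
      refine Subgroup.mem_inf.mpr ⟨hP3 (hPel x hx.2 ?_), hx.1⟩
      obtain ⟨k, hk⟩ := Qi.2 ⟨x, hx.1⟩
      refine ⟨k, ?_⟩
      have := congrArg Subtype.val hk
      simpa using this
    have h3 : W < (P3 : Subgroup G) ⊓ Qi := lt_of_lt_of_le h1 h2
    refine ⟨h3.le, ?_⟩
    by_contra hcard
    have := Subgroup.eq_of_le_of_card_ge h3.le (Nat.le_of_not_lt hcard)
    exact h3.ne this
  have hfin : ∀ Qi : Sylow p G, W ≤ (Qi : Subgroup G) → W ≠ (Qi : Subgroup G) → P3 = Qi := by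
    intro Qi hWQ hWne
    by_contra hne
    obtain ⟨hle, hlt⟩ := key Qi hWQ hWne
    have hne2 : (P3 : Subgroup G) ⊓ Qi ≠ ⊥ := by
      intro hbot
      rw [hbot, le_bot_iff] at hle
      exact hQW hle
    have := hmax P3 Qi hne hne2
    omega
  have e1 : P3 = Q1 := by
    apply hfin Q1 inf_le_left
    intro h1
    apply hQne
    apply Cfsg.Agent.Helper11.sylow_eq_of_le
    rw [← h1]; exact inf_le_right
  have e2 : P3 = Q2 := by
    apply hfin Q2 inf_le_right
    intro h1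
    apply hQne
    symm
    apply Cfsg.Agent.Helper11.sylow_eq_of_le
    rw [← h1]; exact inf_le_left
  exact hQne (e1.symm.trans e2)

/-- the Sylow `p`-subgroups form a T.I. set -/
theorem sylow_ti (p : ℕ) [Fact p.Prime]
    (H1a : ∀ w : G, w ≠ 1 → (∃ n : ℕ, w ^ (p ^ n) = 1) →
      Odd (Nat.card (Subgroup.centralizer ({w} : Set G))))
    (H1b : ∀ w : G, w ≠ 1 → (∃ n : ℕ, w ^ (p ^ n) = 1) →
      ∀ u : G, orderOf u = 2 → u * w * u⁻¹ ≠ w⁻¹)
    (H2 : ∀ z : G, z ≠ 1 → Odd (orderOf z) → (¬ ∃ n : ℕ, z ^ (p ^ n) = 1) →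
      (∀ a ∈ Subgroup.centralizer ({z} : Set G), ∀ b ∈ Subgroup.centralizer ({z} : Set G),
        a * b = b * a) ∧
      (∀ a ∈ Subgroup.centralizer ({z} : Set G), a ≠ 1 → Odd (orderOf a) →
        Subgroup.centralizer ({a} : Set G) = Subgroup.centralizer ({z} : Set G)) ∧
      (∀ n ∈ Subgroup.normalizer ((Subgroup.centralizer ({z} : Set G) : Subgroup G) : Set G),
        Odd (orderOf n) → n ∈ Subgroup.centralizer ({z} : Set G)))
    (P1 P2 : Sylow p G) (hne : P1 ≠ P2) : (P1 : Subgroup G) ⊓ P2 = ⊥ := by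
  classical
  by_contra hW
  let S := {pr : Sylow p G × Sylow p G // pr.1 ≠ pr.2 ∧ (pr.1 : Subgroup G) ⊓ pr.2 ≠ ⊥}
  haveI : Nonempty S := ⟨⟨(P1, P2), hne, hW⟩⟩
  obtain ⟨⟨⟨Q1, Q2⟩, hQne, hQW⟩, hmax⟩ := Finite.exists_max
    (fun pr : S => Nat.card ((pr.1.1 : Subgroup G) ⊓ pr.1.2 : Subgroup G))
  apply max_pair_false p H1a H1b H2 Q1 Q2 hQne hQW
  intro R1 R2 hR hRW
  exact hmax ⟨(R1, R2), hR, hRW⟩

/-- a subgroup of order `p ^ a` is a Sylow subgroup when `2 |G| = p ^ a * m` with `p ∤ m` -/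
theorem exists_sylow_eq (p a m : ℕ) [Fact p.Prime] (C : Subgroup G) (hC : Nat.card C = p ^ a)
    (hG : 2 * Nat.card G = p ^ a * m) (hm : Nat.Coprime p m) :
    ∃ S : Sylow p G, (S : Subgroup G) = C := by
  have hCp : IsPGroup p C := IsPGroup.of_card hC
  obtain ⟨S, hS⟩ := hCp.exists_le_sylow
  obtain ⟨b, hb⟩ := IsPGroup.iff_card.mp S.2
  have h1 : p ^ b ∣ p ^ a * m := by
    rw [← hG, ← hb]
    exact Dvd.dvd.mul_left (Subgroup.card_subgroup_dvd_card _) 2
  have h2 : p ^ b ∣ p ^ a := Nat.Coprime.dvd_of_dvd_mul_right (Nat.Coprime.pow_left b hm) h1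
  have h3 : p ^ b ≤ p ^ a := Nat.le_of_dvd (pow_pos (Fact.out : p.Prime).pos a) h2
  refine ⟨S, ?_⟩
  symm
  apply Subgroup.eq_of_le_of_card_ge hS
  rw [hb, hC]; exact h3

end Cfsg.Agent.Helper13.BswTI
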