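import Mathlib
import Cfsg.Agent.Helper21.BswDefs2
import Cfsg.Agent.Helper13.BswTI

/-!
Brauer–Suzuki–Wall, piece D2Mc (case `ε = -1`): the centralizers `C(x)`, `x ∈ R0`, form a T.I. set.
Here with the conclusions of D2Ma-2 (`odd_torus`) and D2Mb (`unipotent`) as hypotheses.
-/

set_option autoImplicit false

namespace Cfsg.Agent.Helper13.BswMinusC

open Cfsg.Agent.Helper21.Bsw Cfsg.Agent.Helper13.BswTI

universe u
variable {G : Type u} [Group G] [Finite G] {t s : G} {K : Subgroup G}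

theorem ti_of (h : Hyp t s K) (c : CountMinus K)
    (hU : ∃ p : ℕ, p.Prime ∧ (∃ a : ℕ, 2 * Nat.card K - 1 = p ^ a) ∧
      (∀ x : G, RType K x → invCount x = 0 →
        orderOf x = p ∧ Nat.card (Subgroup.centralizer ({x} : Set G)) = 2 * Nat.card K - 1 ∧
        ∀ y ∈ Subgroup.centralizer ({x} : Set G), y ≠ 1 → RType K y ∧ invCount y = 0) ∧
      (∀ y : G, y ≠ 1 → (∃ n : ℕ, y ^ (p ^ n) = 1) → RType K y ∧ invCount y = 0))
    (hT : ∀ z : G, z ≠ 1 → Odd (orderOf z) → (KType K z ∨ (RType K z ∧ invCount z ≠ 0)) →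
      (∀ a ∈ Subgroup.centralizer ({z} : Set G), ∀ b ∈ Subgroup.centralizer ({z} : Set G),
        a * b = b * a) ∧
      (∀ a ∈ Subgroup.centralizer ({z} : Set G), a ≠ 1 → Odd (orderOf a) →
        Subgroup.centralizer ({a} : Set G) = Subgroup.centralizer ({z} : Set G)) ∧
      (∀ n ∈ Subgroup.normalizer ((Subgroup.centralizer ({z} : Set G) : Subgroup G) : Set G),
        Odd (orderOf n) → n ∈ Subgroup.centralizer ({z} : Set G)))
    {x : G} (hx : RType K x) (hx0 : invCount x = 0) :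
    ∀ y ∈ Subgroup.centralizer ({x} : Set G), y ≠ 1 →
      Subgroup.centralizer ({y} : Set G) = Subgroup.centralizer ({x} : Set G) := by
  obtain ⟨p, hp, ⟨a, hpa⟩, hR0, hpel⟩ := hU
  haveI : Fact p.Prime := ⟨hp⟩
  have hk2 : 2 ≤ Nat.card K := by
    have h1 : 0 < Nat.card K := Nat.card_pos
    have h2 := h.two_dvd_card_K
    omega
  have ha : a ≠ 0 := by
    intro ha
    rw [ha, pow_zero] at hpa
    omega
  have hpq : p ∣ 2 * Nat.card K - 1 := by rw [hpa]; exact dvd_pow_self p ha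
  -- arithmetic: `p` is coprime to `(2k)(2k-2)`
  have hcop : Nat.Coprime p ((2 * Nat.card K) * (2 * Nat.card K - 2)) := by
    rw [Nat.Prime.coprime_iff_not_dvd hp]
    intro hdvd
    rcases (Nat.Prime.dvd_mul hp).mp hdvd with h1 | h1
    · have := Nat.dvd_sub h1 hpq
      have e : 2 * Nat.card K - (2 * Nat.card K - 1) = 1 := by omega
      rw [e] at this
      exact hp.one_lt.ne' (Nat.dvd_one.mp this)
    · have := Nat.dvd_sub hpq h1
      have e : 2 * Nat.card K - 1 - (2 * Nat.card K - 2) = 1 := by omega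
      rw [e] at this
      exact hp.one_lt.ne' (Nat.dvd_one.mp this)
  have hG : 2 * Nat.card G = p ^ a * ((2 * Nat.card K) * (2 * Nat.card K - 2)) := by
    rw [c.card_G, hpa, mul_assoc]
  -- hypotheses of `sylow_ti`
  have H1a : ∀ w : G, w ≠ 1 → (∃ n : ℕ, w ^ (p ^ n) = 1) →
      Odd (Nat.card (Subgroup.centralizer ({w} : Set G))) := by
    intro w hw1 hwp
    obtain ⟨hwR, hw0⟩ := hpel w hw1 hwp
    rw [(hR0 w hwR hw0).2.1]
    exact ⟨Nat.card K - 1, by omega⟩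
  have H1b : ∀ w : G, w ≠ 1 → (∃ n : ℕ, w ^ (p ^ n) = 1) →
      ∀ v : G, orderOf v = 2 → v * w * v⁻¹ ≠ w⁻¹ := by
    intro w hw1 hwp v hv hvw
    obtain ⟨hwR, hw0⟩ := hpel w hw1 hwp
    unfold invCount at hw0
    have : Nonempty {u : G // orderOf u = 2 ∧ u * w * u⁻¹ = w⁻¹} := ⟨⟨v, hv, hvw⟩⟩
    have hpos : 0 < Nat.card {u : G // orderOf u = 2 ∧ u * w * u⁻¹ = w⁻¹} := Nat.card_pos
    omega
  have H2 : ∀ z : G, z ≠ 1 → Odd (orderOf z) → (¬ ∃ n : ℕ, z ^ (p ^ n) = 1) →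
      (∀ a ∈ Subgroup.centralizer ({z} : Set G), ∀ b ∈ Subgroup.centralizer ({z} : Set G),
        a * b = b * a) ∧
      (∀ a ∈ Subgroup.centralizer ({z} : Set G), a ≠ 1 → Odd (orderOf a) →
        Subgroup.centralizer ({a} : Set G) = Subgroup.centralizer ({z} : Set G)) ∧
      (∀ n ∈ Subgroup.normalizer ((Subgroup.centralizer ({z} : Set G) : Subgroup G) : Set G),
        Odd (orderOf n) → n ∈ Subgroup.centralizer ({z} : Set G)) := by
    intro z hz1 hzodd hznp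
    apply hT z hz1 hzodd
    by_cases hzK : KType K z
    · left; exact hzK
    · right
      refine ⟨⟨hz1, hzK⟩, ?_⟩
      intro hz0
      apply hznp
      refine ⟨1, ?_⟩
      rw [pow_one, ← (hR0 z ⟨hz1, hzK⟩ hz0).1]
      exact pow_orderOf_eq_one z
  intro y hy hy1
  obtain ⟨hyR, hy0⟩ := (hR0 x hx hx0).2.2 y hy hy1
  obtain ⟨S1, hS1⟩ := exists_sylow_eq p a _ (Subgroup.centralizer ({x} : Set G))
    (by rw [(hR0 x hx hx0).2.1, hpa]) hG hcop
  obtain ⟨S2, hS2⟩ := exists_sylow_eq p a _ (Subgroup.centralizer ({y} : Set G))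
    (by rw [(hR0 y hyR hy0).2.1, hpa]) hG hcop
  by_cases hSS : S2 = S1
  · rw [← hS1, ← hS2, hSS]
  · exfalso
    have hbot := sylow_ti p H1a H1b H2 S2 S1 hSS
    have hmem : y ∈ (S2 : Subgroup G) ⊓ S1 := by
      rw [hS1, hS2]
      refine Subgroup.mem_inf.mpr ⟨?_, hy⟩
      rw [Subgroup.mem_centralizer_singleton_iff]
    rw [hbot, Subgroup.mem_bot] at hmem
    exact hy1 hmem

end Cfsg.Agent.Helper13.BswMinusC
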