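import Mathlib
import Cfsg.Agent.Helper13.BswMinusC0
import Cfsg.Agent.Helper1.BswMinusA
import Cfsg.Agent.Helper29.BswMinusB

/-!
Brauer–Suzuki–Wall, piece D2Mc (case `ε = -1`): the centralizers `C(x)`, `x ∈ R0`, form a T.I. set.
-/

set_option autoImplicit false

namespace Cfsg.Agent.Helper21.Bsw

universe u
variable {G : Type u} [Group G] [Finite G] {t s : G} {K : Subgroup G}

/-- D2Mc -/
theorem Minus.ti (h : Hyp t s K) (c : CountMinus K) {x : G} (hx : RType K x)
    (hx0 : invCount x = 0) :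
    ∀ y ∈ Subgroup.centralizer ({x} : Set G), y ≠ 1 →
      Subgroup.centralizer ({y} : Set G) = Subgroup.centralizer ({x} : Set G) :=
  Cfsg.Agent.Helper13.BswMinusC.ti_of h c (Minus.unipotent h c)
    (fun _ hz1 hzodd hz => Minus.odd_torus h c hz1 hzodd hz) hx hx0

end Cfsg.Agent.Helper21.Bsw
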