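import Mathlib
import Cfsg.Agent.Helper26.S4394Defs
import Cfsg.Agent.Helper14.PCore
import Cfsg.Agent.Helper23.PSeries
import Cfsg.Agent.Helper7.HallHigmanDual
import Cfsg.Agent.Lead.PSolvHall
import Cfsg.Agent.Helper29.PRatD

set_option autoImplicit false

/-! S4394, piece C2c1: `R_G` = preimage of `O_{p'}(G/Q)`, `Q = O_p(G)`; `T/Q` acts faithfully on `R_G/Q`. -/

namespace Cfsg.Agent.S4394P

open Cfsg

/-- C2c1 (M): the `p'`-subgroup `R_G/Q = O_{p'}(G/Q)`, on which `T/Q` acts faithfully. -/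
theorem C2c1 {G : Type*} [Group G] [Finite G] {p : ℕ} [Fact p.Prime] (hsol : Cfsg.IsPSolvable p G)
    (T : Sylow p G) :
    ∃ RG : Subgroup G, RG.Normal ∧ Cfsg.pCore p G ≤ RG ∧ ¬ p ∣ (Cfsg.pCore p G).relIndex RG ∧
      ∀ t ∈ (T : Subgroup G), (∀ r ∈ RG, t * r * t⁻¹ * r⁻¹ ∈ Cfsg.pCore p G) → t ∈ Cfsg.pCore p G := by
  have hQn : (Cfsg.pCore p G).Normal := Cfsg.Agent.Helper14.pCore_normal p
  set Q := Cfsg.pCore p G with hQ
  set f := QuotientGroup.mk' Q with hf
  have hfs : Function.Surjective f := QuotientGroup.mk'_surjective Q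
  set O := Cfsg.pPrimeCore p (G ⧸ Q) with hO
  have hOn : O.Normal := inferInstance
  have hOcop : (Nat.card O).Coprime p := Cfsg.Agent.Helper23.pPrimeCore_card_coprime p (G ⧸ Q)
  have hsolq : Cfsg.IsPSolvable p (G ⧸ Q) := Cfsg.Agent.Lead.isPSolvable_quotient hsol Q
  have hpc : Cfsg.pCore p (G ⧸ Q) = ⊥ := Cfsg.Agent.Helper29.PRat.pCore_quotient_pCore' p
  have hcent : Subgroup.centralizer (O : Set (G ⧸ Q)) ≤ O :=
    Cfsg.Agent.Helper7.centralizer_pPrimeCore_le_of_isPSolvable hsolq hpc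
  refine ⟨O.comap f, hOn.comap f, ?_, ?_, ?_⟩
  · intro x hx
    rw [Subgroup.mem_comap]
    have : f x = 1 := (QuotientGroup.eq_one_iff x).2 hx
    rw [this]; exact O.one_mem
  · have hQker : Q = (⊥ : Subgroup (G ⧸ Q)).comap f := by
      rw [MonoidHom.comap_bot, hf, QuotientGroup.ker_mk']
    have h0 : ((⊥ : Subgroup (G ⧸ Q)).comap f).relIndex (O.comap f) = Nat.card O := by
      rw [Subgroup.relIndex_comap, Subgroup.map_comap_eq_self_of_surjective hfs,
        Subgroup.relIndex_bot_left]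
    have h1 : Q.relIndex (O.comap f) = Nat.card O := by
      rw [← h0]
      exact congrArg (fun H : Subgroup G => H.relIndex (O.comap f)) hQker
    rw [h1]
    intro hdvd
    have := Nat.Coprime.eq_one_of_dvd hOcop.symm hdvd
    exact (Fact.out : p.Prime).one_lt.ne' this
  · intro t ht hcomm
    have hmem : f t ∈ Subgroup.centralizer (O : Set (G ⧸ Q)) := by
      rw [Subgroup.mem_centralizer_iff]
      intro y hy
      obtain ⟨r, rfl⟩ := hfs y
      have hr : r ∈ O.comap f := hy
      have h1 : f (t * r * t⁻¹ * r⁻¹) = 1 := (QuotientGroup.eq_one_iff _).2 (hcomm r hr)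
      rw [map_mul, map_mul, map_mul, map_inv, map_inv] at h1
      -- f t * f r * (f t)⁻¹ * (f r)⁻¹ = 1
      have h2 : f t * f r = f r * f t := by
        have := congrArg (fun z => z * (f r * f t)) h1
        simpa [mul_assoc] using this
      exact h2.symm
    have hO1 : f t ∈ O := hcent hmem
    -- order of f t divides a power of p and |O|
    have hd1 : orderOf (f t) ∣ Nat.card O := by
      have := Subgroup.orderOf_dvd_natCard O hO1
      exact this
    obtain ⟨k, hk⟩ := (T.2 ⟨t, ht⟩)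
    have hd2 : orderOf (f t) ∣ p ^ k := by
      apply orderOf_dvd_of_pow_eq_one
      have : t ^ (p ^ k) = 1 := by
        have := congrArg Subtype.val hk
        simpa using this
      rw [← map_pow, this, map_one]
    have hcop : (Nat.card O).Coprime (p ^ k) := hOcop.pow_right k
    have h1 : orderOf (f t) = 1 := Nat.eq_one_of_dvd_coprimes hcop hd1 hd2
    have : f t = 1 := orderOf_eq_one_iff.1 h1
    exact (QuotientGroup.eq_one_iff t).1 this

end Cfsg.Agent.S4394P
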