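import Mathlib
import Cfsg.Prelude.Def_Classical
import Cfsg.Prelude.Def_GeometricClasses
import Cfsg.Agent.Helper5.S5973Defs
import Cfsg.Agent.Helper13.QuadWitt
import Cfsg.Agent.Helper28.Spin6

set_option autoImplicit false

/-! S5973 + S5987 piece HCANCEL: cancellation of a hyperbolic orthogonal summand. -/

universe u

namespace Cfsg.Agent.S5973P

open Module Cfsg.Agent.S5955P

namespace HCANCEL

section Aux

variable {F : Type*} [Field F] {V : Type*} [AddCommGroup V] [Module F V]

theorem polarBilin_app (Q : QuadraticForm F V) (x y : V) :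
    QuadraticMap.polarBilin Q x y = QuadraticMap.polar Q x y := rfl

theorem polar_resQ (Q : QuadraticForm F V) (W : Submodule F V) (w w' : W) :
    QuadraticMap.polar (resQ Q W) w w' = QuadraticMap.polar Q (w : V) (w' : V) :=
  Cfsg.Agent.Helper13.polar_comp_subtype Q W w w'

/-- the polar form vanishes on a totally singular subspace -/
theorem polar_eq_zero_of_ts (Q : QuadraticForm F V) (W : Submodule F V) (hW : IsTS Q W)
    {x y : V} (hx : x ∈ W) (hy : y ∈ W) : QuadraticMap.polar Q x y = 0 := by
  unfold QuadraticMap.polar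
  rw [hW _ (W.add_mem hx hy), hW _ hx, hW _ hy]; simp

/-- nondegeneracy from left separation -/
theorem nd_of_left (Q : QuadraticForm F V)
    (h : ∀ v : V, (∀ w : V, QuadraticMap.polar Q v w = 0) → v = 0) : ND Q := by
  refine ⟨fun v hv => h v hv, fun v hv => h v fun w => ?_⟩
  rw [QuadraticMap.polar_comm]; exact hv w

theorem left_of_nd (Q : QuadraticForm F V) (hQ : ND Q) :
    ∀ v : V, (∀ w : V, QuadraticMap.polar Q v w = 0) → v = 0 := fun v hv => hQ.1 v hv

/-- the first summand of an orthogonal decomposition is nondegenerate -/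
theorem nd_res_left (Q : QuadraticForm F V) (hQ : ND Q) (C N : Submodule F V)
    (hCN : IsCompl C N) (horth : POrth Q C N) : ND (resQ Q C) := by
  apply nd_of_left
  intro c hc
  have : (c : V) = 0 := by
    apply left_of_nd Q hQ
    intro w
    have hw : w ∈ C ⊔ N := by rw [hCN.sup_eq_top]; trivial
    obtain ⟨c', hc', n, hn, rfl⟩ := Submodule.mem_sup.mp hw
    rw [QuadraticMap.polar_add_right, horth _ c.2 _ hn, add_zero]
    have := hc ⟨c', hc'⟩
    rwa [polar_resQ] at this
  exact Subtype.ext this

theorem porth_symm (Q : QuadraticForm F V) {A B : Submodule F V} (h : POrth Q A B) :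
    POrth Q B A := fun b hb a ha => by rw [QuadraticMap.polar_comm]; exact h a ha b hb

/-- a totally singular subspace has at most half the dimension -/
theorem ts_le_half' [FiniteDimensional F V] (Q : QuadraticForm F V) (hQ : ND Q)
    (W : Submodule F V) (hW : IsTS Q W) : 2 * finrank F W ≤ finrank F V := by
  have h1 := LinearMap.BilinForm.finrank_orthogonal (B := QuadraticMap.polarBilin Q) hQ W
  have h2 : W ≤ LinearMap.BilinForm.orthogonal (QuadraticMap.polarBilin Q) W := by
    intro w hw
    rw [LinearMap.BilinForm.mem_orthogonal_iff]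
    intro n hn
    show QuadraticMap.polarBilin Q n w = 0
    rw [polarBilin_app]
    exact polar_eq_zero_of_ts Q W hW hn hw
  have h3 := Submodule.finrank_mono h2
  have h4 : finrank F W ≤ finrank F V := Submodule.finrank_le W
  omega

end Aux

end HCANCEL

section Types

variable {F : Type*} [Field F] [Fintype F] {V : Type*} [AddCommGroup V] [Module F V]
  [FiniteDimensional F V]

open HCANCEL in
/-- HCANCEL: cancellation of a hyperbolic summand -/
theorem isHyp_cancel (Q : QuadraticForm F V) (hQ : ND Q) (C N : Submodule F V)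
    (hCN : IsCompl C N) (horth : POrth Q C N) (hC : IsHyp (resQ Q C)) (hV : IsHyp Q) :
    IsHyp (resQ Q N) := by
  obtain ⟨WC, hWCts, hWCdim⟩ := hC
  obtain ⟨W, hWts, hWdim⟩ := hV
  have hNDC : ND (resQ Q C) := nd_res_left Q hQ C N hCN horth
  have hNDN : ND (resQ Q N) := nd_res_left Q hQ N C hCN.symm (porth_symm Q horth)
  set B : LinearMap.BilinForm F V := QuadraticMap.polarBilin Q with hB
  set WC' : Submodule F V := WC.map C.subtype with hWC'
  have hWC'dim : finrank F WC' = finrank F WC :=
    (Submodule.equivMapOfInjective C.subtype C.injective_subtype WC).finrank_eq.symm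
  have hWC'C : WC' ≤ C := by
    rintro _ ⟨c, _, rfl⟩
    exact c.2
  have hWC'ts : IsTS Q WC' := by
    rintro _ ⟨c, hc, rfl⟩
    exact hWCts c hc
  -- (a) the orthogonal of `WC` inside `C` is `WC`
  have hkey : ∀ c ∈ C, (∀ x ∈ WC', QuadraticMap.polar Q x c = 0) → c ∈ WC' := by
    intro c hc hcx
    have h1 := LinearMap.BilinForm.finrank_orthogonal
      (B := QuadraticMap.polarBilin (resQ Q C)) hNDC WC
    have h2 : WC ≤ LinearMap.BilinForm.orthogonal (QuadraticMap.polarBilin (resQ Q C)) WC := by
      intro w hw
      rw [LinearMap.BilinForm.mem_orthogonal_iff]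
      intro n hn
      show QuadraticMap.polarBilin (resQ Q C) n w = 0
      rw [polarBilin_app]
      exact polar_eq_zero_of_ts (resQ Q C) WC hWCts hn hw
    have h3 : LinearMap.BilinForm.orthogonal (QuadraticMap.polarBilin (resQ Q C)) WC = WC := by
      symm
      apply Submodule.eq_of_le_of_finrank_le h2
      rw [h1]; omega
    have h4 : (⟨c, hc⟩ : C) ∈ LinearMap.BilinForm.orthogonal (QuadraticMap.polarBilin (resQ Q C)) WC := by
      rw [LinearMap.BilinForm.mem_orthogonal_iff]
      intro n hn
      show QuadraticMap.polarBilin (resQ Q C) n ⟨c, hc⟩ = 0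
      rw [polarBilin_app, polar_resQ]
      exact hcx _ ⟨n, hn, rfl⟩
    rw [h3] at h4
    exact ⟨⟨c, hc⟩, h4, rfl⟩
  -- (b) dimension count
  set D : Submodule F V := W ⊓ WC' with hD
  set W' : Submodule F V := W ⊓ LinearMap.BilinForm.orthogonal B WC' with hW'
  have hdimCN : finrank F C + finrank F N = finrank F V := Submodule.finrank_add_eq_of_isCompl hCN
  have hle : W ⊔ LinearMap.BilinForm.orthogonal B WC' ≤ LinearMap.BilinForm.orthogonal B D := by
    apply sup_le
    · intro w hw
      rw [LinearMap.BilinForm.mem_orthogonal_iff]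
      intro n hn
      show QuadraticMap.polarBilin Q n w = 0
      rw [polarBilin_app]
      exact polar_eq_zero_of_ts Q W hWts hn.1 hw
    · exact LinearMap.BilinForm.orthogonal_le inf_le_right
  have e1 : finrank F ↥(W ⊔ LinearMap.BilinForm.orthogonal B WC') + finrank F W'
      = finrank F W + finrank F (LinearMap.BilinForm.orthogonal B WC') :=
    Submodule.finrank_sup_add_finrank_inf_eq W (LinearMap.BilinForm.orthogonal B WC')
  have e2 := LinearMap.BilinForm.finrank_orthogonal (B := B) hQ WC'
  have e3 := LinearMap.BilinForm.finrank_orthogonal (B := B) hQ D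
  have e4 := Submodule.finrank_mono hle
  have e5 : finrank F D ≤ finrank F WC' := Submodule.finrank_mono inf_le_right
  have e6 : finrank F WC' ≤ finrank F V := Submodule.finrank_le _
  -- (c) the projection onto `N`
  set π : V →ₗ[F] N := N.projectionOnto C hCN.symm with hπ
  have hdecomp : ∀ w ∈ W', w - (π w : V) ∈ WC' ∧ Q (π w : V) = 0 := by
    intro w hw
    have hcC : w - (π w : V) ∈ C := by
      rw [← Submodule.ker_projectionOnto hCN.symm, LinearMap.mem_ker, map_sub,
        Submodule.projectionOnto_apply_left, sub_self]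
    have hc0 : w - (π w : V) ∈ WC' := by
      apply hkey _ hcC
      intro x hx
      rw [QuadraticMap.polar_sub_right]
      have h1 : QuadraticMap.polar Q x w = 0 := by
        have hw2 : w ∈ LinearMap.BilinForm.orthogonal B WC' := hw.2
        rw [LinearMap.BilinForm.mem_orthogonal_iff] at hw2
        exact hw2 x hx
      have h2 : QuadraticMap.polar Q x (π w : V) = 0 := horth x (hWC'C hx) _ (π w).2
      rw [h1, h2, sub_zero]
    refine ⟨hc0, ?_⟩
    have hQw : Q w = 0 := hWts w hw.1
    have hsplit : w = (w - (π w : V)) + (π w : V) := by abel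
    have h3 : Q w = Q (w - (π w : V)) + Q (π w : V)
        + QuadraticMap.polar Q (w - (π w : V)) (π w : V) := by
      conv_lhs => rw [hsplit]
      unfold QuadraticMap.polar
      ring
    rw [hQw, hWC'ts _ hc0, horth _ hcC _ (π w).2] at h3
    simpa using h3.symm
  set T : Submodule F N := W'.map π with hT
  have hTts : IsTS (resQ Q N) T := by
    rintro _ ⟨w, hw, rfl⟩
    rw [resQ_apply]
    exact (hdecomp w hw).2
  -- rank-nullity
  set f : W' →ₗ[F] N := π.domRestrict W' with hf
  have hrange : LinearMap.range f = T := by rw [hf, LinearMap.range_domRestrict]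
  have hrn := LinearMap.finrank_range_add_finrank_ker f
  have hker : finrank F (LinearMap.ker f) ≤ finrank F D := by
    have h1 : (LinearMap.ker f).map W'.subtype ≤ D := by
      rintro _ ⟨x, hx, rfl⟩
      have hx0 : π (x : V) = 0 := LinearMap.mem_ker.mp hx
      have hxC : (x : V) ∈ C := by
        rw [← Submodule.ker_projectionOnto hCN.symm, LinearMap.mem_ker]
        exact hx0
      have h2 := (hdecomp x x.2).1
      rw [hx0] at h2
      simp only [ZeroMemClass.coe_zero, sub_zero] at h2
      exact ⟨x.2.1, h2⟩
    have h2 := Submodule.finrank_mono h1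
    rwa [(Submodule.equivMapOfInjective W'.subtype W'.injective_subtype
      (LinearMap.ker f)).finrank_eq.symm] at h2
  rw [hrange] at hrn
  have hTle := ts_le_half' (resQ Q N) hNDN T hTts
  refine ⟨T, hTts, ?_⟩
  omega

end Types

end Cfsg.Agent.S5973P
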