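import Mathlib
import Cfsg.Prelude.Def_Classical
import Cfsg.Prelude.Def_GeometricClasses
import Cfsg.Agent.Helper5.S5973Defs
import Cfsg.Agent.Helper13.QuadWitt
import Cfsg.Agent.Helper28.Spin6
import Cfsg.Agent.Helper13.S5973HCANCEL

set_option autoImplicit false

/-! S5973 + S5987 piece NDRES (wrapper of an auxiliary lemma of HCANCEL). -/

universe u

namespace Cfsg.Agent.S5973P

open Module Cfsg.Agent.S5955P

section Types

variable {F : Type*} [Field F] [Fintype F] {V : Type*} [AddCommGroup V] [Module F V]
  [FiniteDimensional F V]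

/-- NDRES: the summands of an orthogonal decomposition of a nondegenerate space are nondegenerate -/
theorem nd_res_of_orth (Q : QuadraticForm F V) (hQ : ND Q) (C N : Submodule F V)
    (hCN : IsCompl C N) (horth : POrth Q C N) : ND (resQ Q C) ∧ ND (resQ Q N) :=
  ⟨HCANCEL.nd_res_left Q hQ C N hCN horth,
    HCANCEL.nd_res_left Q hQ N C hCN.symm (HCANCEL.porth_symm Q horth)⟩

end Types

end Cfsg.Agent.S5973P
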