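import Mathlib
import Cfsg.Prelude.Def_Classical
import Cfsg.Prelude.Def_GeometricClasses
import Cfsg.Agent.Helper5.S5973Defs
import Cfsg.Agent.Helper13.QuadWitt
import Cfsg.Agent.Helper28.Spin6
import Cfsg.Agent.Helper2.QuadExt

set_option autoImplicit false

/-! S5973 + S5987 piece ANISO: two anisotropic planes over a finite field are isometric. -/

universe u

namespace Cfsg.Agent.S5973P

open Module Cfsg.Agent.S5955P

namespace ANISO

section Aux

variable {F : Type*} [Field F] [Fintype F] {V : Type*} [AddCommGroup V] [Module F V]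
  [FiniteDimensional F V]

/-- an anisotropic plane has a basis `v₁, v₂` with `Q v₁ = 1` -/
theorem exists_basis (Q : QuadraticForm F V) (hV : finrank F V = 2)
    (ha : ∀ v : V, Q v = 0 → v = 0) :
    ∃ b : Basis (Fin 2) F V, Q (b 0) = 1 := by
  obtain ⟨v₁, hv₁⟩ := Cfsg.Agent.Helper13.represents_of_aniso Q (by omega) ha 1
  have hv₁0 : v₁ ≠ 0 := by
    rintro rfl
    rw [map_zero] at hv₁
    exact zero_ne_one hv₁
  -- a vector outside the line of `v₁`
  have hex : ∃ v₂ : V, v₂ ∉ Submodule.span F {v₁} := by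
    by_contra hcon
    have htop : Submodule.span F {v₁} = ⊤ := by
      rw [eq_top_iff]
      intro v _
      by_contra hv
      exact hcon ⟨v, hv⟩
    have h1 : finrank F (Submodule.span F {v₁}) = 1 := finrank_span_singleton hv₁0
    rw [htop, finrank_top, hV] at h1
    omega
  obtain ⟨v₂, hv₂⟩ := hex
  have hli : LinearIndependent F ![v₁, v₂] := by
    rw [LinearIndependent.pair_iff' hv₁0]
    intro a hav
    apply hv₂
    rw [← hav]
    exact Submodule.smul_mem _ _ (Submodule.mem_span_singleton_self v₁)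
  refine ⟨basisOfLinearIndependentOfCardEqFinrank hli (by rw [hV]; simp), ?_⟩
  rw [coe_basisOfLinearIndependentOfCardEqFinrank]
  simpa using hv₁

theorem irr_of_basis (Q : QuadraticForm F V) (ha : ∀ v : V, Q v = 0 → v = 0)
    (b : Basis (Fin 2) F V) (hb : Q (b 0) = 1) (r : F) :
    r ^ 2 - QuadraticMap.polar Q (b 0) (b 1) * r + Q (b 1) ≠ 0 := by
  intro hr
  have h1 : Q ((-r) • b 0 + (1 : F) • b 1) = 0 := by
    rw [Cfsg.Agent.Helper13.map_smul_add_smul, hb]
    linear_combination hr
  have h2 := ha _ h1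
  have hli := b.linearIndependent
  rw [Fintype.linearIndependent_iff] at hli
  have h3 := hli ![-r, 1] (by simpa [Fin.sum_univ_two] using h2) 1
  simp at h3

theorem repr_eq (b : Basis (Fin 2) F V) (v : V) :
    v = b.repr v 0 • b 0 + b.repr v 1 • b 1 := by
  conv_lhs => rw [← b.sum_repr v]
  rw [Fin.sum_univ_two]

end Aux

end ANISO

section Types

variable {F : Type*} [Field F] [Fintype F] {V : Type*} [AddCommGroup V] [Module F V]
  [FiniteDimensional F V]

open ANISO in
/-- ANISO: two anisotropic planes over a finite field are isometric -/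
theorem aniso_plane_unique {V' : Type*} [AddCommGroup V'] [Module F V'] [FiniteDimensional F V']
    (Q : QuadraticForm F V) (Q' : QuadraticForm F V') (hV : finrank F V = 2) (hV' : finrank F V' = 2)
    (ha : ∀ v : V, Q v = 0 → v = 0) (ha' : ∀ v : V', Q' v = 0 → v = 0) :
    ∃ g : V ≃ₗ[F] V', ∀ v, Q' (g v) = Q v := by
  obtain ⟨b, hb⟩ := exists_basis Q hV ha
  obtain ⟨b', hb'⟩ := exists_basis Q' hV' ha'
  have hirr := irr_of_basis Q ha b hb
  have hirr' := irr_of_basis Q' ha' b' hb'
  have hcard := Cfsg.Agent.Helper2.QExt.card_trace_norm_eq' (F := F) (q := Fintype.card F) rfl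
    hirr' hirr
  have hne : Nonempty {p : F × F // 2 * p.1 + QuadraticMap.polar Q' (b' 0) (b' 1) * p.2
      = QuadraticMap.polar Q (b 0) (b 1) ∧
      p.1 ^ 2 + QuadraticMap.polar Q' (b' 0) (b' 1) * p.1 * p.2 + Q' (b' 1) * p.2 ^ 2
      = Q (b 1)} := by
    by_contra hcon
    rw [not_nonempty_iff] at hcon
    rw [Nat.card_of_isEmpty] at hcard
    omega
  obtain ⟨⟨⟨x, y⟩, h1, h2⟩⟩ := hne
  simp only at h1 h2
  set w : V' := x • b' 0 + y • b' 1 with hw
  have hQw : Q' w = Q (b 1) := by
    rw [hw, Cfsg.Agent.Helper13.map_smul_add_smul, hb']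
    linear_combination h2
  have hpw : QuadraticMap.polar Q' (b' 0) w = QuadraticMap.polar Q (b 0) (b 1) := by
    rw [hw, QuadraticMap.polar_add_right, QuadraticMap.polar_smul_right,
      QuadraticMap.polar_smul_right, Cfsg.Agent.Helper13.polar_self', hb']
    simp only [smul_eq_mul]
    linear_combination h1
  set g₀ : V →ₗ[F] V' := b.constr F ![b' 0, w] with hg₀
  have hg₀v : ∀ v, g₀ v = b.repr v 0 • b' 0 + b.repr v 1 • w := by
    intro v
    rw [hg₀, Basis.constr_apply_fintype, Fin.sum_univ_two]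
    simp [Basis.equivFun_apply]
  have hisom : ∀ v, Q' (g₀ v) = Q v := by
    intro v
    rw [hg₀v]
    have hL : Q' (b.repr v 0 • b' 0 + b.repr v 1 • w) = (b.repr v 0) ^ 2 * 1
        + b.repr v 0 * b.repr v 1 * QuadraticMap.polar Q (b 0) (b 1)
        + (b.repr v 1) ^ 2 * Q (b 1) := by
      rw [Cfsg.Agent.Helper13.map_smul_add_smul Q' (b.repr v 0) (b.repr v 1) (b' 0) w, hb',
        hQw, hpw]
    have hR : Q (b.repr v 0 • b 0 + b.repr v 1 • b 1) = (b.repr v 0) ^ 2 * 1
        + b.repr v 0 * b.repr v 1 * QuadraticMap.polar Q (b 0) (b 1)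
        + (b.repr v 1) ^ 2 * Q (b 1) := by
      rw [Cfsg.Agent.Helper13.map_smul_add_smul, hb]
    rw [hL]
    conv_rhs => rw [repr_eq b v]
    rw [hR]
  have hinj : Function.Injective g₀ := by
    rw [injective_iff_map_eq_zero]
    intro v hv
    apply ha
    rw [← hisom, hv, map_zero]
  refine ⟨LinearEquiv.ofInjectiveOfFinrankEq g₀ hinj (by rw [hV, hV']), fun v => ?_⟩
  exact hisom v

end Types

end Cfsg.Agent.S5973P
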