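import Mathlib
import Cfsg.Prelude.Def_Classical
import Cfsg.Prelude.Def_GeometricClasses
import Cfsg.Agent.Helper5.S5973Defs
import Cfsg.Agent.Helper13.QuadWitt
import Cfsg.Agent.Helper28.Spin6
import Cfsg.Agent.Helper13.S5973ANISO

set_option autoImplicit false

/-! S5973 + S5987 piece ANISO2: the orthogonal sum of two anisotropic planes contains a totally
singular plane. -/

universe u

namespace Cfsg.Agent.S5973P

open Module Cfsg.Agent.S5955P

namespace ANISO2

section Aux

variable {F : Type*} [Field F] [Fintype F] {V : Type*} [AddCommGroup V] [Module F V]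
  [FiniteDimensional F V]

/-- a vector of an anisotropic plane which is polar-orthogonal to the plane vanishes -/
theorem eq_zero_of_orth (Q : QuadraticForm F V) (P : Submodule F V) (hP : finrank F P = 2)
    (ha : ∀ v ∈ P, Q v = 0 → v = 0) (u : V) (hu : u ∈ P)
    (hperp : ∀ t ∈ P, QuadraticMap.polar Q u t = 0) : u = 0 := by
  have h2Q : 2 * Q u = 0 := by
    rw [← Cfsg.Agent.Helper13.polar_self']; exact hperp u hu
  by_cases h2 : (2 : F) = 0
  · by_contra hu0
    have : CharP F 2 := CharTwo.of_one_ne_zero_of_two_eq_zero one_ne_zero h2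
    have hchar : ringChar F = 2 := ringChar.eq F 2
    have hQu : Q u ≠ 0 := fun h => hu0 (ha u hu h)
    -- a vector of `P` outside the line of `u`
    have hex : ∃ t ∈ P, t ∉ Submodule.span F {u} := by
      by_contra hcon
      have hle : P ≤ Submodule.span F {u} := by
        intro t ht
        by_contra htn
        exact hcon ⟨t, ht, htn⟩
      have h1 : finrank F (Submodule.span F {u}) = 1 := finrank_span_singleton hu0
      have := Submodule.finrank_mono hle
      omega
    obtain ⟨t, htP, htn⟩ := hex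
    obtain ⟨a, ha2⟩ := FiniteField.isSquare_of_char_two hchar (Q t / Q u)
    have hQ0 : Q (a • u + (1 : F) • t) = 0 := by
      rw [Cfsg.Agent.Helper13.map_smul_add_smul, hperp t htP]
      have h3 : a ^ 2 * Q u = Q t := by
        rw [sq, ← ha2]; field_simp
      have h4 : Q t + Q t = 0 := by
        rw [← two_mul, h2, zero_mul]
      rw [h3]
      linear_combination h4
    have h5 := ha _ (P.add_mem (P.smul_mem a hu) (P.smul_mem 1 htP)) hQ0
    apply htn
    have h6 : t = (-a) • u := by
      rw [one_smul] at h5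
      rw [neg_smul]
      exact eq_neg_of_add_eq_zero_right h5
    rw [h6]
    exact Submodule.smul_mem _ _ (Submodule.mem_span_singleton_self u)
  · exact ha u hu ((mul_eq_zero.mp h2Q).resolve_left h2)

end Aux

end ANISO2

section Types

variable {F : Type*} [Field F] [Fintype F] {V : Type*} [AddCommGroup V] [Module F V]
  [FiniteDimensional F V]

open ANISO2 in
/-- ANISO2: the orthogonal sum of two anisotropic planes contains a totally singular plane -/
theorem exists_ts_plane_of_aniso (Q : QuadraticForm F V) (P₁ P₂ : Submodule F V)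
    (h₁ : finrank F P₁ = 2) (h₂ : finrank F P₂ = 2) (horth : POrth Q P₁ P₂)
    (ha₁ : ∀ v ∈ P₁, Q v = 0 → v = 0) (ha₂ : ∀ v ∈ P₂, Q v = 0 → v = 0) :
    ∃ W : Submodule F V, W ≤ P₁ ⊔ P₂ ∧ IsTS Q W ∧ finrank F W = 2 := by
  obtain ⟨g, hg⟩ := aniso_plane_unique (resQ Q P₁) (-(resQ Q P₂)) h₁ h₂
    (fun v hv => Subtype.ext (ha₁ v v.2 (by rwa [resQ_apply] at hv)))
    (fun v hv => Subtype.ext (ha₂ v v.2 (by
      rw [neg_apply, resQ_apply, neg_eq_zero] at hv; exact hv)))
  have hg' : ∀ v : P₁, Q ((g v : P₂) : V) = - Q (v : V) := by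
    intro v
    have := hg v
    rw [neg_apply, resQ_apply, resQ_apply] at this
    rw [← this, neg_neg]
  set φ : P₁ →ₗ[F] V := P₁.subtype + P₂.subtype ∘ₗ g.toLinearMap with hφ
  have hφv : ∀ v : P₁, φ v = (v : V) + ((g v : P₂) : V) := fun v => rfl
  have hinj : Function.Injective φ := by
    rw [injective_iff_map_eq_zero]
    intro v hv
    rw [hφv] at hv
    have hvP₂ : (v : V) ∈ P₂ := by
      rw [eq_neg_of_add_eq_zero_left hv]
      exact P₂.neg_mem (g v).2
    have := eq_zero_of_orth Q P₂ h₂ ha₂ (v : V) hvP₂ (fun t ht => horth _ v.2 t ht)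
    exact Subtype.ext this
  refine ⟨LinearMap.range φ, ?_, ?_, ?_⟩
  · rintro _ ⟨v, rfl⟩
    rw [hφv]
    exact Submodule.add_mem_sup v.2 (g v).2
  · rintro _ ⟨v, rfl⟩
    rw [hφv]
    have := QuadraticMap.map_add (⇑Q) (v : V) ((g v : P₂) : V)
    rw [this, hg', horth _ v.2 _ (g v).2]
    ring
  · rw [LinearMap.finrank_range_of_inj hinj, h₁]

end Types

end Cfsg.Agent.S5973P
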