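import Mathlib
import Cfsg.Prelude.Def_Classical
import Cfsg.Prelude.Def_GeometricClasses
import Cfsg.Agent.Helper5.S5973Defs
import Cfsg.Agent.Helper13.QuadWitt
import Cfsg.Agent.Helper28.Spin6
import Cfsg.Agent.Helper13.S5973HCANCEL

set_option autoImplicit false

/-! S5973 + S5987 piece WDHYP: in a Witt decomposition the space is hyperbolic iff the anisotropic
part vanishes. -/

universe u

namespace Cfsg.Agent.S5973P

open Module Cfsg.Agent.S5955P

namespace WDHYP

section Aux

variable {F : Type*} [Field F] {V : Type*} [AddCommGroup V] [Module F V]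

/-- the span of pairwise orthogonal singular vectors is totally singular -/
theorem isTS_span {ι : Type*} (Q : QuadraticForm F V) (e : ι → V) (hQ : ∀ i, Q (e i) = 0)
    (hP : ∀ i j, QuadraticMap.polar Q (e i) (e j) = 0) :
    IsTS Q (Submodule.span F (Set.range e)) := by
  have h1 : ∀ i, ∀ u ∈ Submodule.span F (Set.range e), QuadraticMap.polar Q (e i) u = 0 := by
    intro i u hu
    induction hu using Submodule.span_induction with
    | mem x hx => obtain ⟨j, rfl⟩ := hx; exact hP i j
    | zero => simp
    | add x y _ _ hx hy => rw [QuadraticMap.polar_add_right, hx, hy, add_zero]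
    | smul c x _ hx => rw [QuadraticMap.polar_smul_right, hx, smul_zero]
  have h2 : ∀ v ∈ Submodule.span F (Set.range e),
      Q v = 0 ∧ ∀ u ∈ Submodule.span F (Set.range e), QuadraticMap.polar Q v u = 0 := by
    intro v hv
    induction hv using Submodule.span_induction with
    | mem x hx => obtain ⟨j, rfl⟩ := hx; exact ⟨hQ j, h1 j⟩
    | zero => exact ⟨by simp, fun u _ => by simp⟩
    | add x y _ hy' hx hy =>
      refine ⟨?_, fun u hu => ?_⟩
      · have := QuadraticMap.map_add (⇑Q) x y
        rw [this, hx.1, hy.1, hx.2 y hy']; simp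
      · rw [QuadraticMap.polar_add_left, hx.2 u hu, hy.2 u hu, add_zero]
    | smul c x _ hx =>
      refine ⟨?_, fun u hu => ?_⟩
      · rw [QuadraticMap.map_smul, hx.1, smul_zero]
      · rw [QuadraticMap.polar_smul_left, hx.2 u hu, smul_zero]
  exact fun v hv => (h2 v hv).1

variable {Q : QuadraticForm F V} {m : ℕ} {e f : Fin m → V} {A : Submodule F V}

theorem li_e (h : Cfsg.Agent.Helper13.IsWittDecomp Q m e f A) : LinearIndependent F e := by
  apply Cfsg.Agent.Helper13.linearIndependent_of_dual_polar Q e f
  · intro i j hij; rw [h.ef, if_neg hij]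
  · intro i; rw [h.ef, if_pos rfl]; exact one_ne_zero

theorem fe (h : Cfsg.Agent.Helper13.IsWittDecomp Q m e f A) (i j : Fin m) :
    QuadraticMap.polar Q (f i) (e j) = if i = j then 1 else 0 := by
  rw [QuadraticMap.polar_comm, h.ef]
  by_cases hij : i = j
  · rw [if_pos hij, if_pos hij.symm]
  · rw [if_neg hij, if_neg (Ne.symm hij)]

theorem li_ef (h : Cfsg.Agent.Helper13.IsWittDecomp Q m e f A) :
    LinearIndependent F (Sum.elim e f) := by
  apply Cfsg.Agent.Helper13.linearIndependent_of_dual_polar Q (Sum.elim e f) (Sum.elim f e)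
  · rintro (i | i) (j | j) hij
    · simp only [Sum.elim_inl]; rw [h.ef, if_neg (fun hh => hij (by rw [hh]))]
    · simp only [Sum.elim_inl, Sum.elim_inr]; exact h.ee i j
    · simp only [Sum.elim_inl, Sum.elim_inr]; exact h.ff i j
    · simp only [Sum.elim_inr]; rw [fe h, if_neg (fun hh => hij (by rw [hh]))]
  · rintro (i | i)
    · simp only [Sum.elim_inl]; rw [h.ef, if_pos rfl]; exact one_ne_zero
    · simp only [Sum.elim_inr]; rw [fe h, if_pos rfl]; exact one_ne_zero

/-- the hyperbolic part of a Witt decomposition -/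
def hypPart (e f : Fin m → V) : Submodule F V :=
  Submodule.span F (Set.range e) ⊔ Submodule.span F (Set.range f)

theorem hypPart_eq (e f : Fin m → V) :
    hypPart (F := F) e f = Submodule.span F (Set.range (Sum.elim e f)) := by
  unfold hypPart
  rw [Set.Sum.elim_range, Submodule.span_union]

theorem finrank_hypPart (h : Cfsg.Agent.Helper13.IsWittDecomp Q m e f A) :
    finrank F (hypPart (F := F) e f) = 2 * m := by
  rw [hypPart_eq, finrank_span_eq_card (li_ef h)]
  simp; ring

theorem porth_hypPart (h : Cfsg.Agent.Helper13.IsWittDecomp Q m e f A) :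
    POrth Q (hypPart (F := F) e f) A := by
  have hle : hypPart (F := F) e f ≤
      LinearMap.BilinForm.orthogonal (QuadraticMap.polarBilin Q) A := by
    unfold hypPart
    apply sup_le
    · rw [Submodule.span_le]
      rintro _ ⟨i, rfl⟩
      intro n hn
      show QuadraticMap.polarBilin Q n (e i) = 0
      rw [HCANCEL.polarBilin_app, QuadraticMap.polar_comm]
      exact h.eA n hn i
    · rw [Submodule.span_le]
      rintro _ ⟨i, rfl⟩
      intro n hn
      show QuadraticMap.polarBilin Q n (f i) = 0
      rw [HCANCEL.polarBilin_app, QuadraticMap.polar_comm]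
      exact h.fA n hn i
  intro c hc a ha
  have := hle hc
  rw [LinearMap.BilinForm.mem_orthogonal_iff] at this
  have h2 := this a ha
  rw [QuadraticMap.polar_comm]
  exact h2

theorem isCompl_hypPart [FiniteDimensional F V]
    (h : Cfsg.Agent.Helper13.IsWittDecomp Q m e f A) : IsCompl (hypPart (F := F) e f) A := by
  have hdisj : hypPart (F := F) e f ⊓ A = ⊥ := by
    rw [eq_bot_iff]
    rintro v ⟨hvC, hvA⟩
    rw [Submodule.mem_bot]
    exact h.nondegA v hvA fun a' ha' => porth_hypPart h v hvC a' ha'
  have hdim := Submodule.finrank_sup_add_finrank_inf_eq (hypPart (F := F) e f) A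
  rw [hdisj, finrank_bot, finrank_hypPart h] at hdim
  have htop : hypPart (F := F) e f ⊔ A = ⊤ := by
    apply Submodule.eq_top_of_finrank_eq
    have := h.rank
    omega
  exact ⟨disjoint_iff.mpr hdisj, codisjoint_iff.mpr htop⟩

theorem isHyp_hypPart (h : Cfsg.Agent.Helper13.IsWittDecomp Q m e f A) :
    IsHyp (resQ Q (hypPart (F := F) e f)) := by
  have hle : Submodule.span F (Set.range e) ≤ hypPart (F := F) e f := le_sup_left
  refine ⟨(Submodule.span F (Set.range e)).comap (hypPart (F := F) e f).subtype, ?_, ?_⟩
  · intro w hw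
    rw [resQ_apply]
    exact isTS_span Q e h.Qe h.ee _ hw
  · rw [(Submodule.comapSubtypeEquivOfLe hle).finrank_eq, finrank_span_eq_card (li_e h),
      finrank_hypPart h]
    simp

end Aux

end WDHYP

section Types

variable {F : Type*} [Field F] [Fintype F] {V : Type*} [AddCommGroup V] [Module F V]
  [FiniteDimensional F V]

open WDHYP in
/-- WDHYP: in a Witt decomposition (helper13) the space is hyperbolic iff the anisotropic part vanishes -/
theorem isHyp_iff_of_wittDecomp (Q : QuadraticForm F V) (hQ : ND Q) (m : ℕ) (e f : Fin m → V)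
    (A : Submodule F V) (h : Cfsg.Agent.Helper13.IsWittDecomp Q m e f A) : IsHyp Q ↔ A = ⊥ := by
  constructor
  · intro hV
    obtain ⟨T, hT, hdim⟩ := isHyp_cancel Q hQ (hypPart (F := F) e f) A (isCompl_hypPart h)
      (porth_hypPart h) (isHyp_hypPart h) hV
    have hTbot : T = ⊥ := by
      rw [eq_bot_iff]
      intro t ht
      rw [Submodule.mem_bot]
      have h0 : Q (t : V) = 0 := by
        have := hT t ht
        rwa [resQ_apply] at this
      exact Subtype.ext (h.aniso t t.2 h0)
    rw [hTbot, finrank_bot] at hdim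
    exact Submodule.finrank_eq_zero.mp hdim.symm
  · intro hA
    refine ⟨Submodule.span F (Set.range e), isTS_span Q e h.Qe h.ee, ?_⟩
    have := h.rank
    rw [hA, finrank_bot] at this
    rw [finrank_span_eq_card (li_e h)]
    simp only [Fintype.card_fin]
    omega

end Types

end Cfsg.Agent.S5973P
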