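import Mathlib
import Cfsg.Prelude.Def_Classical
import Cfsg.Prelude.Def_GeometricClasses
import Cfsg.Agent.Helper5.S5973Defs
import Cfsg.Agent.Helper13.QuadWitt
import Cfsg.Agent.Helper28.Spin6
import Cfsg.Agent.Helper13.S5973WDHYP
import Cfsg.Agent.Helper13.S5973ANISO2

set_option autoImplicit false

/-! S5973 + S5987 piece HYPSUM: the Witt type is multiplicative on orthogonal sums. -/

universe u

namespace Cfsg.Agent.S5973P

open Module Cfsg.Agent.S5955P

namespace HYPSUM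

section Aux

variable {F : Type*} [Field F] {V : Type*} [AddCommGroup V] [Module F V]

/-- `U` contains a totally singular subspace of half its dimension -/
def HypIn (Q : QuadraticForm F V) (U : Submodule F V) : Prop :=
  ∃ W : Submodule F V, W ≤ U ∧ IsTS Q W ∧ 2 * finrank F W = finrank F U

theorem hypIn_of_res (Q : QuadraticForm F V) (U : Submodule F V) (h : IsHyp (resQ Q U)) :
    HypIn Q U := by
  obtain ⟨W, hW, hdim⟩ := h
  refine ⟨W.map U.subtype, ?_, ?_, ?_⟩
  · rintro _ ⟨w, _, rfl⟩; exact w.2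
  · rintro _ ⟨w, hw, rfl⟩; exact hW w hw
  · rw [← hdim, (Submodule.equivMapOfInjective U.subtype U.injective_subtype W).finrank_eq]

theorem res_of_hypIn (Q : QuadraticForm F V) (U : Submodule F V) (h : HypIn Q U) :
    IsHyp (resQ Q U) := by
  obtain ⟨W, hWU, hW, hdim⟩ := h
  refine ⟨W.comap U.subtype, ?_, ?_⟩
  · intro w hw
    rw [resQ_apply]
    exact hW _ hw
  · rw [(Submodule.comapSubtypeEquivOfLe hWU).finrank_eq, hdim]

theorem hypIn_top (Q : QuadraticForm F V) : HypIn Q ⊤ ↔ IsHyp Q := by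
  constructor
  · rintro ⟨W, _, hW, hdim⟩
    exact ⟨W, hW, by rw [hdim, finrank_top]⟩
  · rintro ⟨W, hW, hdim⟩
    exact ⟨W, le_top, hW, by rw [hdim, finrank_top]⟩

/-- transport of `HypIn` from a subspace to the ambient space -/
theorem hypIn_map (Q : QuadraticForm F V) (C : Submodule F V) (H : Submodule F C)
    (h : HypIn (resQ Q C) H) : HypIn Q (H.map C.subtype) := by
  obtain ⟨W, hWH, hW, hdim⟩ := h
  refine ⟨W.map C.subtype, Submodule.map_mono hWH, ?_, ?_⟩
  · rintro _ ⟨w, hw, rfl⟩; exact hW w hw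
  · rw [(Submodule.equivMapOfInjective C.subtype C.injective_subtype W).finrank_eq.symm,
      (Submodule.equivMapOfInjective C.subtype C.injective_subtype H).finrank_eq.symm, hdim]

theorem porth_sup_left (Q : QuadraticForm F V) {A B Z : Submodule F V} (hA : POrth Q A Z)
    (hB : POrth Q B Z) : POrth Q (A ⊔ B) Z := by
  intro x hx z hz
  obtain ⟨a, ha, b, hb, rfl⟩ := Submodule.mem_sup.mp hx
  rw [QuadraticMap.polar_add_left, hA a ha z hz, hB b hb z hz, add_zero]

theorem porth_sup_right (Q : QuadraticForm F V) {A B Z : Submodule F V} (hA : POrth Q Z A)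
    (hB : POrth Q Z B) : POrth Q Z (A ⊔ B) :=
  HCANCEL.porth_symm Q (porth_sup_left Q (HCANCEL.porth_symm Q hA) (HCANCEL.porth_symm Q hB))

theorem porth_mono (Q : QuadraticForm F V) {A A' B B' : Submodule F V} (h : POrth Q A B)
    (hA : A' ≤ A) (hB : B' ≤ B) : POrth Q A' B' :=
  fun a ha b hb => h a (hA ha) b (hB hb)

/-- orthogonal sums of hyperbolic subspaces are hyperbolic -/
theorem hypIn_sup [FiniteDimensional F V] (Q : QuadraticForm F V) (U₁ U₂ : Submodule F V)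
    (hdisj : U₁ ⊓ U₂ = ⊥) (horth : POrth Q U₁ U₂) (h₁ : HypIn Q U₁) (h₂ : HypIn Q U₂) :
    HypIn Q (U₁ ⊔ U₂) := by
  obtain ⟨W₁, hW₁U, hW₁, hdim₁⟩ := h₁
  obtain ⟨W₂, hW₂U, hW₂, hdim₂⟩ := h₂
  refine ⟨W₁ ⊔ W₂, sup_le_sup hW₁U hW₂U, ?_, ?_⟩
  · intro w hw
    obtain ⟨a, ha, b, hb, rfl⟩ := Submodule.mem_sup.mp hw
    have := QuadraticMap.map_add (⇑Q) a b
    rw [this, hW₁ a ha, hW₂ b hb, horth a (hW₁U ha) b (hW₂U hb)]; simp
  · have e1 := Submodule.finrank_sup_add_finrank_inf_eq W₁ W₂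
    have e2 := Submodule.finrank_sup_add_finrank_inf_eq U₁ U₂
    have hW : W₁ ⊓ W₂ = ⊥ := by
      rw [eq_bot_iff, ← hdisj]; exact inf_le_inf hW₁U hW₂U
    rw [hW, finrank_bot] at e1
    rw [hdisj, finrank_bot] at e2
    omega

end Aux

section Fin

variable {F : Type*} [Field F] [Fintype F] {V : Type*} [AddCommGroup V] [Module F V]
  [FiniteDimensional F V]

/-- structure of a nondegenerate non-hyperbolic subspace of even dimension -/
theorem exists_decomp_of_not_hyp (Q : QuadraticForm F V) (C : Submodule F V)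
    (hND : ND (resQ Q C)) (hev : Even (finrank F C)) (hnh : ¬ IsHyp (resQ Q C)) :
    ∃ H A : Submodule F V, H ⊔ A = C ∧ POrth Q H A ∧ HypIn Q H ∧ finrank F A = 2 ∧
      (∀ a ∈ A, Q a = 0 → a = 0) ∧ finrank F H + 2 = finrank F C := by
  obtain ⟨m, e, f, A, h⟩ := Cfsg.Agent.Helper13.exists_wittDecomp (F := F) (finrank F C)
    (resQ Q C) rfl (HCANCEL.left_of_nd _ hND)
  have hA : A ≠ ⊥ := fun hA => hnh ((isHyp_iff_of_wittDecomp (resQ Q C) hND m e f A h).mpr hA)
  have hA0 : finrank F A ≠ 0 := fun h0 => hA (Submodule.finrank_eq_zero.mp h0)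
  have hA2 : finrank F A = 2 := by
    have h1 := h.rank
    have h2 := h.rankA
    obtain ⟨k, hk⟩ := hev
    omega
  have hcompl := WDHYP.isCompl_hypPart h
  refine ⟨(WDHYP.hypPart (F := F) e f).map C.subtype, A.map C.subtype, ?_, ?_, ?_, ?_, ?_, ?_⟩
  · rw [← Submodule.map_sup, hcompl.sup_eq_top, Submodule.map_top, Submodule.range_subtype]
  · rintro _ ⟨x, hx, rfl⟩ _ ⟨a, ha, rfl⟩
    have := WDHYP.porth_hypPart h x hx a ha
    rwa [HCANCEL.polar_resQ] at this
  · exact hypIn_map Q C _ (hypIn_of_res _ _ (WDHYP.isHyp_hypPart h))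
  · rw [(Submodule.equivMapOfInjective C.subtype C.injective_subtype A).finrank_eq.symm, hA2]
  · rintro _ ⟨a, ha, rfl⟩ h0
    have := h.aniso a ha (by rw [resQ_apply]; exact h0)
    rw [this]; rfl
  · rw [(Submodule.equivMapOfInjective C.subtype C.injective_subtype _).finrank_eq.symm,
      WDHYP.finrank_hypPart h]
    have h1 := h.rank
    omega

/-- two non-hyperbolic orthogonal summands of even dimension give a hyperbolic space -/
theorem isHyp_of_not_not (Q : QuadraticForm F V) (hQ : ND Q) (C N : Submodule F V)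
    (hCN : IsCompl C N) (horth : POrth Q C N) (hC : Even (finrank F C)) (hN : Even (finrank F N))
    (hnC : ¬ IsHyp (resQ Q C)) (hnN : ¬ IsHyp (resQ Q N)) : IsHyp Q := by
  have hNDC : ND (resQ Q C) := HCANCEL.nd_res_left Q hQ C N hCN horth
  have hNDN : ND (resQ Q N) :=
    HCANCEL.nd_res_left Q hQ N C hCN.symm (HCANCEL.porth_symm Q horth)
  obtain ⟨H₁, A₁, hs₁, ho₁, hh₁, hA₁, ha₁, hd₁⟩ := exists_decomp_of_not_hyp Q C hNDC hC hnC
  obtain ⟨H₂, A₂, hs₂, ho₂, hh₂, hA₂, ha₂, hd₂⟩ := exists_decomp_of_not_hyp Q N hNDN hN hnN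
  have hH₁C : H₁ ≤ C := hs₁ ▸ le_sup_left
  have hA₁C : A₁ ≤ C := hs₁ ▸ le_sup_right
  have hH₂N : H₂ ≤ N := hs₂ ▸ le_sup_left
  have hA₂N : A₂ ≤ N := hs₂ ▸ le_sup_right
  have hCNbot : C ⊓ N = ⊥ := hCN.inf_eq_bot
  have hdimCN : finrank F C + finrank F N = finrank F V := Submodule.finrank_add_eq_of_isCompl hCN
  -- the sum of the anisotropic planes
  have hAA : A₁ ⊓ A₂ = ⊥ := by
    rw [eq_bot_iff, ← hCNbot]; exact inf_le_inf hA₁C hA₂N
  have hY : HypIn Q (A₁ ⊔ A₂) := by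
    obtain ⟨W, hW, hWts, hWdim⟩ := exists_ts_plane_of_aniso Q A₁ A₂ hA₁ hA₂
      (porth_mono Q horth hA₁C hA₂N) ha₁ ha₂
    refine ⟨W, hW, hWts, ?_⟩
    have e := Submodule.finrank_sup_add_finrank_inf_eq A₁ A₂
    rw [hAA, finrank_bot] at e
    omega
  -- the sum of the hyperbolic parts
  have hHH : H₁ ⊓ H₂ = ⊥ := by
    rw [eq_bot_iff, ← hCNbot]; exact inf_le_inf hH₁C hH₂N
  have hX : HypIn Q (H₁ ⊔ H₂) :=
    hypIn_sup Q H₁ H₂ hHH (porth_mono Q horth hH₁C hH₂N) hh₁ hh₂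
  have hXY : POrth Q (H₁ ⊔ H₂) (A₁ ⊔ A₂) := by
    apply porth_sup_left
    · exact porth_sup_right Q ho₁ (porth_mono Q horth hH₁C hA₂N)
    · exact porth_sup_right Q
        (porth_mono Q (HCANCEL.porth_symm Q horth) hH₂N hA₁C) ho₂
  have htop : (H₁ ⊔ H₂) ⊔ (A₁ ⊔ A₂) = ⊤ := by
    rw [sup_sup_sup_comm, hs₁, hs₂, hCN.sup_eq_top]
  have hdisj : (H₁ ⊔ H₂) ⊓ (A₁ ⊔ A₂) = ⊥ := by
    have e1 := Submodule.finrank_sup_add_finrank_inf_eq (H₁ ⊔ H₂) (A₁ ⊔ A₂)
    have e2 := Submodule.finrank_add_le_finrank_add_finrank H₁ H₂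
    have e3 := Submodule.finrank_add_le_finrank_add_finrank A₁ A₂
    rw [htop, finrank_top] at e1
    apply Submodule.finrank_eq_zero.mp
    omega
  have := hypIn_sup Q _ _ hdisj hXY hX hY
  rw [htop] at this
  exact (hypIn_top Q).mp this

end Fin

end HYPSUM

section Types

variable {F : Type*} [Field F] [Fintype F] {V : Type*} [AddCommGroup V] [Module F V]
  [FiniteDimensional F V]

open HYPSUM in
/-- HYPSUM: the Witt type is multiplicative on orthogonal sums -/
theorem isHyp_iff_of_orth (Q : QuadraticForm F V) (hQ : ND Q) (C N : Submodule F V)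
    (hCN : IsCompl C N) (horth : POrth Q C N) (hC : Even (finrank F C)) (hN : Even (finrank F N)) :
    IsHyp Q ↔ (IsHyp (resQ Q C) ↔ IsHyp (resQ Q N)) := by
  constructor
  · intro hV
    exact ⟨fun hc => isHyp_cancel Q hQ C N hCN horth hc hV,
      fun hn => isHyp_cancel Q hQ N C hCN.symm (HCANCEL.porth_symm Q horth) hn hV⟩
  · intro hiff
    by_cases hc : IsHyp (resQ Q C)
    · have hn := hiff.mp hc
      have := hypIn_sup Q C N hCN.inf_eq_bot horth (hypIn_of_res Q C hc) (hypIn_of_res Q N hn)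
      rw [hCN.sup_eq_top] at this
      exact (hypIn_top Q).mp this
    · exact isHyp_of_not_not Q hQ C N hCN horth hC hN hc (fun hn => hc (hiff.mpr hn))

end Types

end Cfsg.Agent.S5973P
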