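import Mathlib
import Cfsg.Agent.Helper12.LSpWDefs

set_option autoImplicit false

/-! S2347 piece SARITH. -/

namespace Cfsg.Agent.Helper12.LSp

theorem sarith_aux (q : ℕ) (hq : Odd q) (m : ℕ) :
    ∃ k t : ℕ, q = 2 * k + 1 ∧ q ^ m = 2 * t + 1 ∧ (q - 1) / 2 = k ∧ NS q m = t ∧
      NS q (m + 1) = 2 * k * t + k + t := by
  obtain ⟨k, hk⟩ := hq
  obtain ⟨t, ht⟩ : Odd (q ^ m) := Odd.pow ⟨k, hk⟩
  refine ⟨k, t, hk, ht, ?_, ?_, ?_⟩
  · rw [hk]; omega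
  · unfold NS; rw [ht]; omega
  · unfold NS
    have h1 : q ^ (m + 1) = 2 * (2 * k * t + k + t) + 1 := by
      rw [pow_succ, ht, hk]; ring
    rw [h1]; omega

theorem NS_succ (q : ℕ) (hq : Odd q) (m : ℕ) : NS q (m + 1) = (q - 1) / 2 * q ^ m + NS q m := by
  obtain ⟨k, t, _, h2, h3, h4, h5⟩ := sarith_aux q hq m
  rw [h5, h3, h4, h2]; ring

theorem NS_succ_le (q : ℕ) (hq : Odd q) (m : ℕ) : NS q (m + 1) ≤ (q - 1) * q ^ m := by
  obtain ⟨k, t, h1, h2, _, _, h5⟩ := sarith_aux q hq m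
  rw [h5, h2]
  have h6 : q - 1 = 2 * k := by omega
  rw [h6]
  rcases Nat.eq_zero_or_pos k with hk0 | hkpos
  · subst hk0
    have hq1 : q = 1 := by omega
    rw [hq1, one_pow] at h2
    have : t = 0 := by omega
    subst this
    simp
  · nlinarith

end Cfsg.Agent.Helper12.LSp
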