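import Mathlib

set_option autoImplicit false

/-! S2347 piece SQUAD. -/

namespace Cfsg.Agent.Helper12.LSp

open Polynomial

variable {F : Type*} [Field F]

theorem squad_exists [Fintype F] (h2 : (2 : F) ≠ 0) (c b c' : F) (hc : c ≠ 0) (hb : b ≠ 0) :
    ∃ x y : F, c * x ^ 2 + b * y ^ 2 = c' := by
  have hchar : ringChar F ≠ 2 := by
    intro h
    apply h2
    have h3 : ((ringChar F : ℕ) : F) = 0 := ringChar.Nat.cast_ringChar
    rw [h] at h3
    exact_mod_cast h3
  have hR : Fintype.card F % 2 = 1 := FiniteField.odd_card_of_char_ne_two hchar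
  have hf2 : degree (C c * X ^ 2 : F[X]) = 2 := degree_C_mul_X_pow 2 hc
  have hg2 : degree (C b * X ^ 2 - C c' : F[X]) = 2 := by
    rw [degree_sub_eq_left_of_degree_lt]
    · exact degree_C_mul_X_pow 2 hb
    · rw [degree_C_mul_X_pow 2 hb]
      exact lt_of_le_of_lt degree_C_le (by norm_num)
  obtain ⟨x, y, hxy⟩ := FiniteField.exists_root_sum_quadratic hf2 hg2 hR
  refine ⟨x, y, ?_⟩
  simp only [eval_mul, eval_C, eval_pow, eval_X, eval_sub] at hxy
  linear_combination hxy

end Cfsg.Agent.Helper12.LSp
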