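import Mathlib

set_option autoImplicit false

/-! S2347 piece WRANK. -/

namespace Cfsg.Agent.Helper12.LSp

open Matrix

variable {F : Type*} [Field F]

theorem card_fix_mul_card_range [Fintype F] {ι : Type*} [Fintype ι] [DecidableEq ι]
    (M : Matrix ι ι F) :
    Nat.card {v : ι → F // M *ᵥ v = v} * Nat.card (Set.range fun v : ι → F => v - M *ᵥ v) =
      Fintype.card F ^ Fintype.card ι := by
  obtain ⟨f, hf⟩ : ∃ f : (ι → F) →ₗ[F] (ι → F), f = LinearMap.id - Matrix.toLin' M := ⟨_, rfl⟩
  have hfapp : ∀ v, f v = v - M *ᵥ v := by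
    intro v
    rw [hf, LinearMap.sub_apply, LinearMap.id_apply, Matrix.toLin'_apply]
  have hker : Nat.card (LinearMap.ker f) = Nat.card {v : ι → F // M *ᵥ v = v} := by
    apply Nat.card_congr
    refine Equiv.subtypeEquivRight ?_
    intro v
    rw [LinearMap.mem_ker, hfapp, sub_eq_zero]
    exact eq_comm
  have hrange : Nat.card (LinearMap.range f) =
      Nat.card (Set.range fun v : ι → F => v - M *ᵥ v) := by
    apply Nat.card_congr
    refine Equiv.subtypeEquivRight ?_
    intro w
    rw [LinearMap.mem_range, Set.mem_range]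
    constructor
    · rintro ⟨v, hv⟩
      exact ⟨v, by rw [← hfapp]; exact hv⟩
    · rintro ⟨v, hv⟩
      exact ⟨v, by rw [hfapp]; exact hv⟩
  have h1 := Submodule.card_eq_card_quotient_mul_card (LinearMap.ker f)
  have h2 : Nat.card ((ι → F) ⧸ LinearMap.ker f) = Nat.card (LinearMap.range f) :=
    Nat.card_congr (LinearMap.quotKerEquivRange f).toEquiv
  rw [h2, hker, hrange] at h1
  rw [← h1, Nat.card_eq_fintype_card, Fintype.card_fun]

end Cfsg.Agent.Helper12.LSp
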