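import Mathlib

set_option autoImplicit false

/-! S2347 piece SSQ. -/

namespace Cfsg.Agent.Helper12.LSp

variable {F : Type*} [Field F]

theorem ssq_card [Fintype F] [DecidableEq F] (hodd : Odd (Fintype.card F)) (c : F) (hc : c ≠ 0) :
    (Fintype.card F - 1) / 2 ≤
      (Finset.univ.filter (fun x : F => ∃ a : F, a ≠ 0 ∧ x = a ^ 2 * c)).card := by
  have hs : (Finset.univ.filter (fun a : F => a ≠ 0)).card = Fintype.card F - 1 := by
    rw [Finset.filter_ne' Finset.univ (0 : F), Finset.card_erase_of_mem (Finset.mem_univ _),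
      Finset.card_univ]
  have himg : (Finset.univ.filter (fun a : F => a ≠ 0)).image (fun a => a ^ 2 * c) =
      Finset.univ.filter (fun x : F => ∃ a : F, a ≠ 0 ∧ x = a ^ 2 * c) := by
    ext x
    simp only [Finset.mem_image, Finset.mem_filter, Finset.mem_univ, true_and]
    constructor
    · rintro ⟨a, ha, rfl⟩
      exact ⟨a, ha, rfl⟩
    · rintro ⟨a, ha, rfl⟩
      exact ⟨a, ha, rfl⟩
  have hfib : ∀ y ∈ (Finset.univ.filter (fun a : F => a ≠ 0)).image (fun a => a ^ 2 * c),
      ((Finset.univ.filter (fun a : F => a ≠ 0)).filter (fun a => a ^ 2 * c = y)).card ≤ 2 := by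
    intro y _
    by_cases h : ((Finset.univ.filter (fun a : F => a ≠ 0)).filter
        (fun a => a ^ 2 * c = y)).Nonempty
    · obtain ⟨a₀, ha₀⟩ := h
      rw [Finset.mem_filter] at ha₀
      have hsub : (Finset.univ.filter (fun a : F => a ≠ 0)).filter (fun a => a ^ 2 * c = y) ⊆
          {a₀, -a₀} := by
        intro a ha
        rw [Finset.mem_filter] at ha
        have h1 : a ^ 2 * c = a₀ ^ 2 * c := ha.2.trans ha₀.2.symm
        have h2 : a ^ 2 = a₀ ^ 2 := mul_right_cancel₀ hc h1
        rcases sq_eq_sq_iff_eq_or_eq_neg.mp h2 with h3 | h3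
        · rw [h3]; exact Finset.mem_insert_self _ _
        · rw [h3]; exact Finset.mem_insert_of_mem (Finset.mem_singleton_self _)
      exact (Finset.card_le_card hsub).trans Finset.card_le_two
    · rw [Finset.not_nonempty_iff_eq_empty.mp h, Finset.card_empty]
      exact Nat.zero_le _
  have h1 := Finset.card_le_mul_card_image (Finset.univ.filter (fun a : F => a ≠ 0)) 2 hfib
  rw [hs, himg] at h1
  exact Nat.div_le_of_le_mul h1

end Cfsg.Agent.Helper12.LSp
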