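import Mathlib
import Cfsg.Prelude.Def_Classical

/-! # S2558 (k(O^±_2n(q)) bounds, q odd), chapter (L) LOWER BOUND `q^n ≤ 2 k(O^±_2n(q))` (driver helper13).

Namespace `Cfsg.Agent.S2558P.LOW`.  Route (helper29's proposal, after helper17's `S2482Low`): the class invariant is
`P(x) = charpoly (x + x⁻¹)`.  For `h` monic with `h(2) h(-2) ≠ 0` let `R = F[Y]/(h)`, `δ = Y² - 4` (a unit of `R`),
`V_h = R × R = R[√δ]` with the form `B(u, v) = μ(u₁ v₁ - δ u₂ v₂)` (`μ` the top-coefficient functional; `B` = trace-like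
form of the norm form of `R[√δ]/R`) and `g` = multiplication by `ω = (Y + √δ)/2`, `N(ω) = 1`, `ω + ω⁻¹ = Y`: so
`P(g) = h²`, and `disc V_h = N_{R/F}(-δ) = (-1)^e h(2) h(-2)` up to squares.  A general monic `h` of degree `n` is
`(X-2)^a (X+2)^b h₀`: add a diagonal space of dimension `2a + 2b` with `g = diag(1,…,1,-1,…,-1)`, whose discriminant is free
as soon as `a + b ≥ 1`.  Hence EVERY monic `h` of degree `n` with `h(2) h(-2) = 0` is realised in both `O⁺` and `O⁻`, and `h` with
`h(2) h(-2) ≠ 0` in the type given by the square class of `h(2) h(-2)`: at least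
`q^(n-2) ((2q - 1) + (q-1)²/2) ≥ q^n / 2` values of `P` on each group. -/

set_option autoImplicit false

universe u

namespace Cfsg.Agent.S2558P.LOW

open Polynomial

section forms

variable {F R : Type*} [Field F] [CommRing R] [Algebra F R]

/-- `B((u₁,u₂),(v₁,v₂)) = μ(u₁ v₁ - δ u₂ v₂)` -/
noncomputable def normForm (μ : R →ₗ[F] F) (δ : R) : LinearMap.BilinForm F (R × R) :=
  LinearMap.mk₂ F (fun u v => μ (u.1 * v.1 - δ * (u.2 * v.2)))
    (by
      intro u u' v
      simp only [Prod.fst_add, Prod.snd_add]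
      rw [← map_add]
      congr 1
      ring)
    (by
      intro c u v
      simp only [Prod.smul_fst, Prod.smul_snd]
      rw [smul_mul_assoc, smul_mul_assoc, mul_smul_comm, ← smul_sub, map_smul])
    (by
      intro u v v'
      simp only [Prod.fst_add, Prod.snd_add]
      rw [← map_add]
      congr 1
      ring)
    (by
      intro c u v
      simp only [Prod.smul_fst, Prod.smul_snd]
      rw [mul_smul_comm, mul_smul_comm, mul_smul_comm, ← smul_sub, map_smul])

theorem normForm_apply (μ : R →ₗ[F] F) (δ : R) (u v : R × R) :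
    normForm μ δ u v = μ (u.1 * v.1 - δ * (u.2 * v.2)) := rfl

/-- multiplication by `ω = (Y + √δ)/2` on `R[√δ] = R × R` -/
noncomputable def omg (Y δ : R) : R × R →ₗ[F] R × R :=
  (2 : F)⁻¹ • LinearMap.prod
    ((LinearMap.mulLeft F Y).comp (LinearMap.fst F R R) +
      (LinearMap.mulLeft F δ).comp (LinearMap.snd F R R))
    (LinearMap.fst F R R + (LinearMap.mulLeft F Y).comp (LinearMap.snd F R R))

theorem omg_apply (Y δ : R) (u : R × R) :
    omg (F := F) Y δ u = (2 : F)⁻¹ • (Y * u.1 + δ * u.2, u.1 + Y * u.2) := rfl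

/-- multiplication by `ω⁻¹ = (Y - √δ)/2` -/
noncomputable def omgInv (Y δ : R) : R × R →ₗ[F] R × R :=
  (2 : F)⁻¹ • LinearMap.prod
    ((LinearMap.mulLeft F Y).comp (LinearMap.fst F R R) -
      (LinearMap.mulLeft F δ).comp (LinearMap.snd F R R))
    (-(LinearMap.fst F R R) + (LinearMap.mulLeft F Y).comp (LinearMap.snd F R R))

theorem omgInv_apply (Y δ : R) (u : R × R) :
    omgInv (F := F) Y δ u = (2 : F)⁻¹ • (Y * u.1 - δ * u.2, -u.1 + Y * u.2) := rfl

end forms

section real

/-- `(n, P, D)` is realised over `F`: there are a symmetric bilinear space `(V, B)` with a basis of `n` vectors whose Gram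
determinant is `D ≠ 0` up to a nonzero square, and an isometry `g` (with inverse `ginv`) such that `g + g⁻¹` has
characteristic polynomial `P`. -/
def Realizes (F : Type u) [Field F] (n : ℕ) (P : F[X]) (D : F) : Prop :=
  ∃ (V : Type u) (_ : AddCommGroup V) (_ : Module F V) (I : Type) (_ : Fintype I) (_ : DecidableEq I)
    (B : LinearMap.BilinForm F V) (g ginv : V →ₗ[F] V) (b : Module.Basis I F V) (s : F),
    Fintype.card I = n ∧ (∀ u v, B u v = B v u) ∧ (∀ u v, B (g u) (g v) = B u v) ∧
    g ∘ₗ ginv = LinearMap.id ∧ s ≠ 0 ∧ D ≠ 0 ∧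
    (LinearMap.BilinForm.toMatrix b B).det = s ^ 2 * D ∧
    (LinearMap.toMatrix b b (g + ginv)).charpoly = P

end real

end Cfsg.Agent.S2558P.LOW
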