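import Mathlib
import Cfsg.Agent.S0093
import Cfsg.Agent.S0121
import Cfsg.Agent.Helper1.PGroup

/-! Board `s3786pieces`, row CRIT2: Thompson's critical subgroup inside a `q`-subgroup `S` of `H`
(transport of the landed `S0093`, `S0121` from `↥S`). -/

set_option autoImplicit false

namespace Cfsg.Agent.S3786P

open Subgroup
open scoped commutatorElement

/-- K4. Thompson's critical subgroup inside the `q`-subgroup `S` of `H` (transport of the landed `S0093`, `S0121` from `↥S`):
characteristic, `[C,C] ≤ Z(C)`, `C^q ≤ Z(C)` (`Φ(C) ≤ Z(C)`), and a `q'`-element of `N(S)` centralising `C` centralises `S`. -/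
theorem CRIT2 {H : Type*} [Group H] [Finite H] (q : ℕ) [Fact q.Prime] (S : Subgroup H) (hS : IsPGroup q S) :
    ∃ C : Subgroup H, C ≤ S ∧ normalizer (S : Set H) ≤ normalizer (C : Set H) ∧
      (∀ a ∈ C, ∀ b ∈ C, a * b * a⁻¹ * b⁻¹ ∈ centralizer (C : Set H)) ∧
      (∀ a ∈ C, a ^ q ∈ centralizer (C : Set H)) ∧
      ∀ t ∈ normalizer (S : Set H), (orderOf t).Coprime q → t ∈ centralizer (C : Set H) →
        t ∈ centralizer (S : Set H) := by
  obtain ⟨K, hKchar, h1, h2, h3⟩ := Cfsg.Agent.S0093.result (P := ↥S) hS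
  refine ⟨K.map S.subtype, map_subtype_le K, ?_, ?_, ?_, ?_⟩
  · -- `N(S) ≤ N(C)`
    have key : ∀ t ∈ normalizer (S : Set H), ∀ c ∈ K.map S.subtype, t * c * t⁻¹ ∈ K.map S.subtype := by
      intro t ht c hc
      obtain ⟨x, hx, rfl⟩ := hc
      have hφ : K.comap (S.normalizerMonoidHom ⟨t, ht⟩).toMonoidHom = K :=
        hKchar.fixed (S.normalizerMonoidHom ⟨t, ht⟩)
      have hx' : (S.normalizerMonoidHom ⟨t, ht⟩) x ∈ K := by
        have : x ∈ K.comap (S.normalizerMonoidHom ⟨t, ht⟩).toMonoidHom := by rw [hφ]; exact hx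
        exact this
      exact ⟨(S.normalizerMonoidHom ⟨t, ht⟩) x, hx', rfl⟩
    intro t ht
    rw [mem_normalizer_iff]
    intro c
    constructor
    · exact key t ht c
    · intro hc
      have := key t⁻¹ (inv_mem ht) _ hc
      have e : t⁻¹ * (t * c * t⁻¹) * t⁻¹⁻¹ = c := by group
      rwa [e] at this
  · -- class 2
    intro a ha b hb
    obtain ⟨x, hx, rfl⟩ := ha
    obtain ⟨y, hy, rfl⟩ := hb
    have hxy : ⁅x, y⁆ ∈ centralizer (K : Set ↥S) :=
      (h2 (commutator_mem_commutator hx (mem_top y))).2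
    rw [mem_centralizer_iff]
    rintro c ⟨z, hz, rfl⟩
    have h := (mem_centralizer_iff.1 hxy) z hz
    have h' := congrArg (S.subtype) h
    simpa [commutatorElement_def] using h'
  · -- `q`-th powers
    intro a ha
    obtain ⟨x, hx, rfl⟩ := ha
    have hKq : IsPGroup q ↥K := hS.to_subgroup K
    have hfr : (⟨x, hx⟩ : ↥K) ^ q ∈ frattini ↥K := Cfsg.Agent.Helper1.IsPGroup.pow_mem_frattini hKq _
    have hxq : x ^ q ∈ centralizer (K : Set ↥S) := h1 ⟨_, hfr, rfl⟩
    rw [mem_centralizer_iff]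
    rintro c ⟨z, hz, rfl⟩
    have h := (mem_centralizer_iff.1 hxq) z hz
    have h' := congrArg (S.subtype) h
    simpa using h'
  · -- a `q'`-element of `N(S)` centralising `C` centralises `S`
    intro t ht hcop htC
    have hord : orderOf (S.normalizerMonoidHom ⟨t, ht⟩) ∣ orderOf t := by
      have h : orderOf (S.normalizerMonoidHom ⟨t, ht⟩) ∣
          orderOf (⟨t, ht⟩ : ↥(normalizer (S : Set H))) := orderOf_map_dvd _ _
      rwa [Subgroup.orderOf_mk] at h
    have hcop' : Nat.Coprime (orderOf (S.normalizerMonoidHom ⟨t, ht⟩)) q :=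
      Nat.Coprime.coprime_dvd_left hord hcop
    have hfix : ∀ x ∈ K, (S.normalizerMonoidHom ⟨t, ht⟩) x = x := by
      intro x hx
      apply Subtype.ext
      show t * (x : H) * t⁻¹ = x
      have h := (mem_centralizer_iff.1 htC) (x : H) ⟨x, hx, rfl⟩
      rw [← h]; group
    have hφ1 : S.normalizerMonoidHom ⟨t, ht⟩ = 1 :=
      Cfsg.Agent.S0121.result hS K hKchar h1 h2 h3 _ hcop' hfix
    rw [mem_centralizer_iff]
    intro s hs
    have h := congrArg (fun ψ : MulAut ↥S => ((ψ ⟨s, hs⟩ : ↥S) : H)) hφ1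
    have h' : t * s * t⁻¹ = s := h
    calc s * t = (t * s * t⁻¹) * t := by rw [h']
      _ = t * s := by group

end Cfsg.Agent.S3786P
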