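import Mathlib
import Cfsg.Agent.Helper3.S5655EVDefs
import Cfsg.Agent.Helper20.S5655EVMONO

set_option autoImplicit false
set_option linter.unusedSectionVars false
set_option linter.unusedVariables false

/-! # S5655 k = 1, chapter "q EVEN", piece E2CENTRE: three twisted swaps applied to an isotropic vector -/

namespace Cfsg.Agent.S5655K1.EV

open Matrix
open Cfsg.Agent.S2644 Cfsg.Agent.Helper2.SUGen Cfsg.Agent.Helper28.SimMax Cfsg.Agent.S5658P

variable {K : Type*} [Field K] {q n : ℕ}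

local notation "h" => Cfsg.hermForm n K q
local notation "T" => Cfsg.unitaryTransvection n q

/-- the diagonal part of a twisted swap -/
noncomputable def E2CENTRE.dd (D : Frob K q) (r s : Fin n) (t : K) : Fin n → K :=
  fun j => (if j = r then t else 1) * (if j = s then D.σ t else 1)

theorem E2CENTRE.dd_norm (D : Frob K q) (r s : Fin n) {t : K} (ht : t * D.σ t = 1) (j : Fin n) :
    E2CENTRE.dd D r s t j * D.σ (E2CENTRE.dd D r s t j) = 1 := by
  have ht' : D.σ t * t = 1 := by rw [mul_comm]; exact ht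
  unfold E2CENTRE.dd
  split_ifs <;> simp [D.invol, ht, ht']

theorem E2CENTRE.dd_prod (D : Frob K q) {r s : Fin n} {t : K} (ht : t * D.σ t = 1) :
    ∏ j, E2CENTRE.dd D r s t j = 1 := by
  classical
  unfold E2CENTRE.dd
  rw [Finset.prod_mul_distrib]
  simp [Finset.prod_ite_eq', ht]

theorem E2CENTRE.dd_left (D : Frob K q) {r s : Fin n} (hrs : r ≠ s) (t : K) :
    E2CENTRE.dd D r s t r = t := by
  simp [E2CENTRE.dd, hrs]

theorem E2CENTRE.dd_right (D : Frob K q) {r s : Fin n} (hrs : r ≠ s) (t : K) :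
    E2CENTRE.dd D r s t s = D.σ t := by
  simp [E2CENTRE.dd, hrs.symm]

theorem E2CENTRE.dd_of_ne (D : Frob K q) {r s i : Fin n} (hir : i ≠ r) (his : i ≠ s) (t : K) :
    E2CENTRE.dd D r s t i = 1 := by
  simp [E2CENTRE.dd, hir, his]

theorem E2CENTRE.main (D : Frob K q) (h2 : (2 : K) = 0) {v : Fin n → K} (hvv : h v v = 0)
    {r1 s1 r2 s2 r3 s3 : Fin n} (hnd : [r1, s1, r2, s2, r3, s3].Nodup) {t1 t2 t3 : K}
    (ht1 : t1 * D.σ t1 = 1) (ht2 : t2 * D.σ t2 = 1) (ht3 : t3 * D.σ t3 = 1) :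
    ∃ A : Matrix (Fin n) (Fin n) K, Pres (q := q) A ∧ A.det = 1 ∧ IsMono A ∧
      h (A *ᵥ v) v = Nm D (v r1 + D.σ t1 * v s1) + Nm D (v r2 + D.σ t2 * v s2)
        + Nm D (v r3 + D.σ t3 * v s3) ∧
      (∀ i, i ∉ [r1, s1, r2, s2, r3, s3] → (A *ᵥ v + v) i = 0) ∧
      (A *ᵥ v + v) r1 = v r1 + D.σ t1 * v s1 ∧ (A *ᵥ v + v) s1 = t1 * (v r1 + D.σ t1 * v s1) ∧
      (A *ᵥ v + v) r2 = v r2 + D.σ t2 * v s2 ∧ (A *ᵥ v + v) s2 = t2 * (v r2 + D.σ t2 * v s2) ∧
      (A *ᵥ v + v) r3 = v r3 + D.σ t3 * v s3 ∧ (A *ᵥ v + v) s3 = t3 * (v r3 + D.σ t3 * v s3) := by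
  classical
  simp only [List.nodup_cons, List.mem_cons, List.not_mem_nil, or_false, not_or, List.nodup_nil,
    and_true, not_false_eq_true] at hnd
  obtain ⟨⟨h12, h13, h14, h15, h16⟩, ⟨h23, h24, h25, h26⟩, ⟨h34, h35, h36⟩, ⟨h45, h46⟩, h56⟩ := hnd
  set π : Equiv.Perm (Fin n) := Equiv.swap r1 s1 * Equiv.swap r2 s2 * Equiv.swap r3 s3 with hπ
  set d : Fin n → K := fun j =>
    E2CENTRE.dd D r1 s1 t1 j * E2CENTRE.dd D r2 s2 t2 j * E2CENTRE.dd D r3 s3 t3 j with hd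
  -- values of π
  have hπr1 : π r1 = s1 := by
    simp [hπ, Equiv.Perm.mul_apply, Equiv.swap_apply_of_ne_of_ne, h13, h14, h15, h16]
  have hπs1 : π s1 = r1 := by
    simp [hπ, Equiv.Perm.mul_apply, Equiv.swap_apply_of_ne_of_ne, h23, h24, h25, h26]
  have hπr2 : π r2 = s2 := by
    simp [hπ, Equiv.Perm.mul_apply, Equiv.swap_apply_of_ne_of_ne, h35, h36, Ne.symm h14, Ne.symm h24]
  have hπs2 : π s2 = r2 := by
    simp [hπ, Equiv.Perm.mul_apply, Equiv.swap_apply_of_ne_of_ne, h45, h46, Ne.symm h13, Ne.symm h23]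
  have hπr3 : π r3 = s3 := by
    simp [hπ, Equiv.Perm.mul_apply, Equiv.swap_apply_of_ne_of_ne, Ne.symm h16, Ne.symm h26,
      Ne.symm h36, Ne.symm h46]
  have hπs3 : π s3 = r3 := by
    simp [hπ, Equiv.Perm.mul_apply, Equiv.swap_apply_of_ne_of_ne, Ne.symm h15, Ne.symm h25,
      Ne.symm h35, Ne.symm h45]
  have hπo : ∀ i, i ∉ [r1, s1, r2, s2, r3, s3] → π i = i := by
    intro i hi
    simp only [List.mem_cons, List.not_mem_nil, or_false, not_or] at hi
    obtain ⟨i1, i2, i3, i4, i5, i6⟩ := hi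
    simp [hπ, Equiv.Perm.mul_apply, Equiv.swap_apply_of_ne_of_ne, i1, i2, i3, i4, i5, i6]
  -- values of d
  have hdr1 : d r1 = t1 := by
    simp only [hd]
    rw [E2CENTRE.dd_left D h12, E2CENTRE.dd_of_ne D h13 h14, E2CENTRE.dd_of_ne D h15 h16, mul_one,
      mul_one]
  have hds1 : d s1 = D.σ t1 := by
    simp only [hd]
    rw [E2CENTRE.dd_right D h12, E2CENTRE.dd_of_ne D h23 h24, E2CENTRE.dd_of_ne D h25 h26, mul_one,
      mul_one]
  have hdr2 : d r2 = t2 := by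
    simp only [hd]
    rw [E2CENTRE.dd_left D h34, E2CENTRE.dd_of_ne D (Ne.symm h13) (Ne.symm h23),
      E2CENTRE.dd_of_ne D h35 h36, mul_one, one_mul]
  have hds2 : d s2 = D.σ t2 := by
    simp only [hd]
    rw [E2CENTRE.dd_right D h34, E2CENTRE.dd_of_ne D (Ne.symm h14) (Ne.symm h24),
      E2CENTRE.dd_of_ne D h45 h46, mul_one, one_mul]
  have hdr3 : d r3 = t3 := by
    simp only [hd]
    rw [E2CENTRE.dd_left D h56, E2CENTRE.dd_of_ne D (Ne.symm h15) (Ne.symm h25),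
      E2CENTRE.dd_of_ne D (Ne.symm h35) (Ne.symm h45), one_mul, one_mul]
  have hds3 : d s3 = D.σ t3 := by
    simp only [hd]
    rw [E2CENTRE.dd_right D h56, E2CENTRE.dd_of_ne D (Ne.symm h16) (Ne.symm h26),
      E2CENTRE.dd_of_ne D (Ne.symm h36) (Ne.symm h46), one_mul, one_mul]
  have hdo : ∀ i, i ∉ [r1, s1, r2, s2, r3, s3] → d i = 1 := by
    intro i hi
    simp only [List.mem_cons, List.not_mem_nil, or_false, not_or] at hi
    obtain ⟨i1, i2, i3, i4, i5, i6⟩ := hi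
    simp only [hd]
    rw [E2CENTRE.dd_of_ne D i1 i2, E2CENTRE.dd_of_ne D i3 i4, E2CENTRE.dd_of_ne D i5 i6, mul_one,
      mul_one]
  have hdn : ∀ j, d j * D.σ (d j) = 1 := by
    intro j
    have e1 := E2CENTRE.dd_norm D r1 s1 ht1 j
    have e2 := E2CENTRE.dd_norm D r2 s2 ht2 j
    have e3 := E2CENTRE.dd_norm D r3 s3 ht3 j
    simp only [hd, map_mul]
    calc E2CENTRE.dd D r1 s1 t1 j * E2CENTRE.dd D r2 s2 t2 j * E2CENTRE.dd D r3 s3 t3 j *
          (D.σ (E2CENTRE.dd D r1 s1 t1 j) * D.σ (E2CENTRE.dd D r2 s2 t2 j) *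
            D.σ (E2CENTRE.dd D r3 s3 t3 j))
        = (E2CENTRE.dd D r1 s1 t1 j * D.σ (E2CENTRE.dd D r1 s1 t1 j)) *
          (E2CENTRE.dd D r2 s2 t2 j * D.σ (E2CENTRE.dd D r2 s2 t2 j)) *
          (E2CENTRE.dd D r3 s3 t3 j * D.σ (E2CENTRE.dd D r3 s3 t3 j)) := by ring
      _ = 1 := by rw [e1, e2, e3]; ring
  have hdet : (mono π d).det = 1 := by
    rw [MONO.det h2, hd]
    simp only
    rw [Finset.prod_mul_distrib, Finset.prod_mul_distrib, E2CENTRE.dd_prod D ht1,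
      E2CENTRE.dd_prod D ht2, E2CENTRE.dd_prod D ht3]
    ring
  -- the vector u = A v + v
  have hur1 : (mono π d *ᵥ v + v) r1 = v r1 + D.σ t1 * v s1 := by
    have := MONO.mulVec_apply π d v s1
    rw [hπs1, hds1] at this
    rw [Pi.add_apply, this]; ring
  have hus1 : (mono π d *ᵥ v + v) s1 = t1 * (v r1 + D.σ t1 * v s1) := by
    have := MONO.mulVec_apply π d v r1
    rw [hπr1, hdr1] at this
    rw [Pi.add_apply, this, mul_add, ← mul_assoc, ht1, one_mul]
  have hur2 : (mono π d *ᵥ v + v) r2 = v r2 + D.σ t2 * v s2 := by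
    have := MONO.mulVec_apply π d v s2
    rw [hπs2, hds2] at this
    rw [Pi.add_apply, this]; ring
  have hus2 : (mono π d *ᵥ v + v) s2 = t2 * (v r2 + D.σ t2 * v s2) := by
    have := MONO.mulVec_apply π d v r2
    rw [hπr2, hdr2] at this
    rw [Pi.add_apply, this, mul_add, ← mul_assoc, ht2, one_mul]
  have hur3 : (mono π d *ᵥ v + v) r3 = v r3 + D.σ t3 * v s3 := by
    have := MONO.mulVec_apply π d v s3
    rw [hπs3, hds3] at this
    rw [Pi.add_apply, this]; ring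
  have hus3 : (mono π d *ᵥ v + v) s3 = t3 * (v r3 + D.σ t3 * v s3) := by
    have := MONO.mulVec_apply π d v r3
    rw [hπr3, hdr3] at this
    rw [Pi.add_apply, this, mul_add, ← mul_assoc, ht3, one_mul]
  have huo : ∀ i, i ∉ [r1, s1, r2, s2, r3, s3] → (mono π d *ᵥ v + v) i = 0 := by
    intro i hi
    have := MONO.mulVec_apply π d v i
    rw [hπo i hi, hdo i hi, one_mul] at this
    rw [Pi.add_apply, this, ← two_mul, h2, zero_mul]
  refine ⟨mono π d, MONO.pres D π hdn, hdet, MONO.isMono π d, ?_, huo, hur1, hus1, hur2, hus2,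
    hur3, hus3⟩
  -- the value of the form
  have hstep : h (mono π d *ᵥ v) v = h (mono π d *ᵥ v + v) v := by
    rw [h_add_left, hvv, add_zero]
  rw [hstep]
  have hsum : h (mono π d *ᵥ v + v) v
      = ∑ i ∈ ({r1, s1, r2, s2, r3, s3} : Finset (Fin n)), (mono π d *ᵥ v + v) i * (v i) ^ q := by
    unfold Cfsg.hermForm
    symm
    apply Finset.sum_subset (Finset.subset_univ _)
    intro i _ hi
    have hi' : i ∉ [r1, s1, r2, s2, r3, s3] := by
      simpa using hi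
    rw [huo i hi', zero_mul]
  rw [hsum]
  rw [Finset.sum_insert (by simp [h12, h13, h14, h15, h16]),
    Finset.sum_insert (by simp [h23, h24, h25, h26]),
    Finset.sum_insert (by simp [h34, h35, h36]),
    Finset.sum_insert (by simp [h45, h46]),
    Finset.sum_insert (by simp [h56]), Finset.sum_singleton]
  rw [hur1, hus1, hur2, hus2, hur3, hus3]
  simp only [Nm, ← D.pow, map_add, map_mul, D.invol]
  ring

end Cfsg.Agent.S5655K1.EV
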