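import Mathlib
import Cfsg.Agent.Helper12.LSUDefs

set_option autoImplicit false

namespace Cfsg.Agent.Helper12.LSU

open Matrix Cfsg Cfsg.Agent.Helper2.SUGen

variable {F : Type*} [Field F] {q : ℕ}

/-- product of block matrices -/
theorem modela_bm_mul {m : ℕ} (A B C E A' B' C' E' : Matrix (Fin m) (Fin m) F) :
    bm A B C E * bm A' B' C' E' =
      bm (A * A' + B * C') (A * B' + B * E') (C * A' + E * C') (C * B' + E * E') := by
  unfold bm
  rw [Matrix.reindex_apply, Matrix.reindex_apply, Matrix.reindex_apply,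
    Matrix.submatrix_mul_equiv, Matrix.fromBlocks_multiply]

theorem modela_bm_one {m : ℕ} :
    bm (1 : Matrix (Fin m) (Fin m) F) 0 0 1 = 1 := by
  unfold bm
  rw [Matrix.fromBlocks_one, Matrix.reindex_apply, Matrix.submatrix_one_equiv]

theorem modela_bm_det {m : ℕ} (A B E : Matrix (Fin m) (Fin m) F) :
    (bm A B 0 E).det = A.det * E.det := by
  unfold bm
  rw [Matrix.det_reindex_self, Matrix.det_fromBlocks_zero₂₁]

theorem modela_bm_apply₁₂ {m : ℕ} (A B C E : Matrix (Fin m) (Fin m) F) (i j : Fin m) :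
    bm A B C E (Fin.castAdd m i) (Fin.natAdd m j) = B i j := by
  unfold bm
  simp [-Fin.natAdd_eq_addNat]

theorem uM_add {m : ℕ} (Y Y' : Matrix (Fin m) (Fin m) F) : uM (Y + Y') = uM Y * uM Y' := by
  unfold uM
  rw [modela_bm_mul]
  congr 1
  · simp
  · simp [add_comm]
  · simp
  · simp

theorem uM_zero {m : ℕ} : uM (0 : Matrix (Fin m) (Fin m) F) = 1 := by
  unfold uM
  exact modela_bm_one

theorem uM_injective {m : ℕ} :
    Function.Injective (uM : Matrix (Fin m) (Fin m) F → Matrix (Fin (m + m)) (Fin (m + m)) F) := by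
  intro Y Y' h
  ext i j
  have h1 := congrFun (congrFun h (Fin.castAdd m i)) (Fin.natAdd m j)
  unfold uM at h1
  rw [modela_bm_apply₁₂, modela_bm_apply₁₂] at h1
  exact h1

theorem uM_det {m : ℕ} (Y : Matrix (Fin m) (Fin m) F) : (uM Y).det = 1 := by
  unfold uM
  rw [modela_bm_det, Matrix.det_one, one_mul]

theorem modela_det_ct (σ : F →+* F) {m : ℕ} (A : Matrix (Fin m) (Fin m) F) :
    (ct σ A).det = σ A.det := by
  unfold ct
  rw [Matrix.det_transpose, ← RingHom.mapMatrix_apply, ← RingHom.map_det]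

theorem lM_det (σ : F →+* F) {m : ℕ} (A : Matrix (Fin m) (Fin m) F) (hA : A.det ≠ 0)
    (hfix : σ A.det = A.det) : (lM σ A).det = 1 := by
  unfold lM
  rw [modela_bm_det, Matrix.det_nonsing_inv, modela_det_ct, hfix, Ring.inverse_eq_inv',
    mul_inv_cancel₀ hA]

theorem lM_mul_uM (σ : F →+* F) {m : ℕ} (A : Matrix (Fin m) (Fin m) F) (hA : A.det ≠ 0)
    (Y : Matrix (Fin m) (Fin m) F) : lM σ A * uM Y = uM (hact σ A Y) * lM σ A := by
  have hdet : (ct σ A).det ≠ 0 := by
    rw [modela_det_ct]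
    intro h
    exact hA ((map_eq_zero σ).mp h)
  have hinv : ct σ A * (ct σ A)⁻¹ = 1 :=
    Matrix.mul_nonsing_inv _ (isUnit_iff_ne_zero.mpr hdet)
  unfold lM uM hact
  rw [modela_bm_mul, modela_bm_mul]
  congr 1
  · simp
  · simp only [Matrix.mul_zero, Matrix.zero_mul, zero_add, add_zero]
    rw [Matrix.mul_assoc (A * Y), hinv, Matrix.mul_one]
  · simp
  · simp

end Cfsg.Agent.Helper12.LSU
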