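import Mathlib
import Cfsg.Agent.Helper12.LSUDefs

set_option autoImplicit false

namespace Cfsg.Agent.Helper12.LSU

open Matrix Cfsg Cfsg.Agent.Helper2.SUGen

variable {F : Type*} [Field F] {q : ℕ}

/-- the sesquilinear pairing `∑ u_i σ(v_i)` -/
def modelc_ip (σ : F →+* F) {m : ℕ} (u v : Fin m → F) : F := ∑ i, u i * σ (v i)

theorem modelc_ip_add_left (σ : F →+* F) {m : ℕ} (u u' v : Fin m → F) :
    modelc_ip σ (u + u') v = modelc_ip σ u v + modelc_ip σ u' v := by
  unfold modelc_ip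
  rw [← Finset.sum_add_distrib]
  refine Finset.sum_congr rfl fun i _ => ?_
  rw [Pi.add_apply, add_mul]

theorem modelc_ip_add_right (σ : F →+* F) {m : ℕ} (u v v' : Fin m → F) :
    modelc_ip σ u (v + v') = modelc_ip σ u v + modelc_ip σ u v' := by
  unfold modelc_ip
  rw [← Finset.sum_add_distrib]
  refine Finset.sum_congr rfl fun i _ => ?_
  rw [Pi.add_apply, map_add, mul_add]

/-- `⟨u, M v⟩ = ⟨M* u, v⟩` -/
theorem modelc_ip_mulVec_right (σ : F →+* F) {m : ℕ} (M : Matrix (Fin m) (Fin m) F)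
    (u v : Fin m → F) :
    modelc_ip σ u (M *ᵥ v) = modelc_ip σ (ct σ M *ᵥ u) v := by
  unfold modelc_ip
  simp only [Matrix.mulVec, dotProduct, map_sum, map_mul, Finset.mul_sum, Finset.sum_mul, ct_apply]
  rw [Finset.sum_comm]
  refine Finset.sum_congr rfl fun j _ => Finset.sum_congr rfl fun i _ => ?_
  ring

theorem modelc_ct_ct (σ : F →+* F) (hσ2 : ∀ x, σ (σ x) = x) {m : ℕ}
    (M : Matrix (Fin m) (Fin m) F) : ct σ (ct σ M) = M := by
  ext i j
  rw [ct_apply, ct_apply, hσ2]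

/-- `⟨M u, v⟩ = ⟨u, M* v⟩` -/
theorem modelc_ip_mulVec_left (σ : F →+* F) (hσ2 : ∀ x, σ (σ x) = x) {m : ℕ}
    (M : Matrix (Fin m) (Fin m) F) (u v : Fin m → F) :
    modelc_ip σ (M *ᵥ u) v = modelc_ip σ u (ct σ M *ᵥ v) := by
  rw [modelc_ip_mulVec_right, modelc_ct_ct σ hσ2]

/-- top half of a block matrix times a vector -/
theorem modelc_bm_mulVec_castAdd {m : ℕ} (A B C E : Matrix (Fin m) (Fin m) F)
    (x : Fin (m + m) → F) (i : Fin m) :
    (bm A B C E *ᵥ x) (Fin.castAdd m i) =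
      (A *ᵥ fun j => x (Fin.castAdd m j)) i + (B *ᵥ fun j => x (Fin.natAdd m j)) i := by
  unfold bm
  rw [Matrix.mulVec, dotProduct, ← finSumFinEquiv.sum_comp]
  simp [-Fin.natAdd_eq_addNat, Fintype.sum_sum_type, Matrix.mulVec, dotProduct]

/-- bottom half of a block matrix times a vector -/
theorem modelc_bm_mulVec_natAdd {m : ℕ} (A B C E : Matrix (Fin m) (Fin m) F)
    (x : Fin (m + m) → F) (i : Fin m) :
    (bm A B C E *ᵥ x) (Fin.natAdd m i) =
      (C *ᵥ fun j => x (Fin.castAdd m j)) i + (E *ᵥ fun j => x (Fin.natAdd m j)) i := by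
  unfold bm
  rw [Matrix.mulVec, dotProduct, ← finSumFinEquiv.sum_comp]
  simp [-Fin.natAdd_eq_addNat, Fintype.sum_sum_type, Matrix.mulVec, dotProduct]

/-- the form in terms of the pairing of the halves -/
theorem modelc_fJ_eq (σ : F →+* F) (a : F) {m : ℕ} (x y : Fin (m + m) → F) :
    fJ σ a x y =
      a * modelc_ip σ (fun j => x (Fin.castAdd m j)) (fun j => y (Fin.natAdd m j)) +
      σ a * modelc_ip σ (fun j => x (Fin.natAdd m j)) (fun j => y (Fin.castAdd m j)) := by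
  unfold fJ modelc_ip
  rw [Finset.sum_add_distrib, Finset.mul_sum, Finset.mul_sum]
  congr 1 <;> refine Finset.sum_congr rfl fun i _ => ?_ <;> ring

theorem uM_pres (σ : F →+* F) (hσ2 : ∀ x, σ (σ x) = x) (a : F) (ha : σ a = -a) {m : ℕ}
    (Y : Matrix (Fin m) (Fin m) F) (hY : Y ∈ Herm σ m) (x y : Fin (m + m) → F) :
    fJ σ a (uM Y *ᵥ x) (uM Y *ᵥ y) = fJ σ a x y := by
  have hY' : ct σ Y = Y := hY
  set X1 : Fin m → F := fun j => x (Fin.castAdd m j) with hX1
  set X2 : Fin m → F := fun j => x (Fin.natAdd m j) with hX2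
  set Y1 : Fin m → F := fun j => y (Fin.castAdd m j) with hY1
  set Y2 : Fin m → F := fun j => y (Fin.natAdd m j) with hY2
  have htop : ∀ z : Fin (m + m) → F, (fun j => (uM Y *ᵥ z) (Fin.castAdd m j)) =
      (fun j => z (Fin.castAdd m j)) + Y *ᵥ (fun j => z (Fin.natAdd m j)) := by
    intro z
    funext j
    unfold uM
    rw [modelc_bm_mulVec_castAdd, Matrix.one_mulVec]
    rfl
  have hbot : ∀ z : Fin (m + m) → F, (fun j => (uM Y *ᵥ z) (Fin.natAdd m j)) =
      (fun j => z (Fin.natAdd m j)) := by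
    intro z
    funext j
    unfold uM
    rw [modelc_bm_mulVec_natAdd, Matrix.one_mulVec, Matrix.zero_mulVec]
    simp
  rw [modelc_fJ_eq, modelc_fJ_eq, htop x, htop y, hbot x, hbot y]
  rw [modelc_ip_add_left, modelc_ip_add_right, modelc_ip_mulVec_left σ hσ2, hY', ha]
  ring

theorem lM_pres (σ : F →+* F) (hσ2 : ∀ x, σ (σ x) = x) (a : F) {m : ℕ}
    (A : Matrix (Fin m) (Fin m) F) (hA : A.det ≠ 0) (x y : Fin (m + m) → F) :
    fJ σ a (lM σ A *ᵥ x) (lM σ A *ᵥ y) = fJ σ a x y := by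
  have hdet : (ct σ A).det ≠ 0 := by
    unfold ct
    rw [Matrix.det_transpose]
    have : (A.map σ).det = σ A.det := by
      rw [← RingHom.mapMatrix_apply, ← RingHom.map_det]
    rw [this]
    intro h
    exact hA ((map_eq_zero σ).mp h)
  have hunit : IsUnit (ct σ A).det := isUnit_iff_ne_zero.mpr hdet
  have hinv : ct σ A * (ct σ A)⁻¹ = 1 := Matrix.mul_nonsing_inv _ hunit
  have htop : ∀ z : Fin (m + m) → F, (fun j => (lM σ A *ᵥ z) (Fin.castAdd m j)) =
      A *ᵥ (fun j => z (Fin.castAdd m j)) := by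
    intro z
    funext j
    unfold lM
    rw [modelc_bm_mulVec_castAdd, Matrix.zero_mulVec]
    simp
  have hbot : ∀ z : Fin (m + m) → F, (fun j => (lM σ A *ᵥ z) (Fin.natAdd m j)) =
      (ct σ A)⁻¹ *ᵥ (fun j => z (Fin.natAdd m j)) := by
    intro z
    funext j
    unfold lM
    rw [modelc_bm_mulVec_natAdd, Matrix.zero_mulVec]
    simp
  rw [modelc_fJ_eq, modelc_fJ_eq, htop x, htop y, hbot x, hbot y]
  rw [modelc_ip_mulVec_left σ hσ2, Matrix.mulVec_mulVec, hinv, Matrix.one_mulVec]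
  rw [modelc_ip_mulVec_right σ A, Matrix.mulVec_mulVec, hinv, Matrix.one_mulVec]

end Cfsg.Agent.Helper12.LSU
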