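import Mathlib

set_option autoImplicit false
set_option linter.unusedSectionVars false
set_option linter.unusedVariables false

/-! # S0679 (non-solvable transitive groups of degree 11): definitions (driver helper13)

Everything is stated for a subgroup `G` of `Equiv.Perm α`, `Fintype.card α = 11`, in ELEMENTARY terms:
`NoCyc G` (no `p`-cycle for `p = 2, 3, 5, 7`: Jordan), `stabF G s` (pointwise stabiliser of a finset, as a
subgroup of `Perm α`), `Trans G k` (`k`-transitivity on injective `k`-tuples). -/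

namespace Cfsg.Agent.S0679P

open Equiv Equiv.Perm MulAction

variable {α : Type*} [Fintype α] [DecidableEq α]

/-- `G` contains no `p`-cycle for `p = 2, 3, 5, 7` -/
def NoCyc (G : Subgroup (Perm α)) : Prop :=
  ∀ g ∈ G, g.IsCycle →
    g.support.card ≠ 2 ∧ g.support.card ≠ 3 ∧ g.support.card ≠ 5 ∧ g.support.card ≠ 7

/-- the pointwise stabiliser in `G` of the finset `s`, as a subgroup of `Perm α` -/
def stabF (G : Subgroup (Perm α)) (s : Finset α) : Subgroup (Perm α) where
  carrier := {g | g ∈ G ∧ ∀ a ∈ s, g a = a}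
  one_mem' := ⟨G.one_mem, fun _ _ => rfl⟩
  mul_mem' := by
    rintro g h ⟨hg, hg'⟩ ⟨hh, hh'⟩
    refine ⟨G.mul_mem hg hh, fun a ha => ?_⟩
    rw [Perm.mul_apply, hh' a ha, hg' a ha]
  inv_mem' := by
    rintro g ⟨hg, hg'⟩
    refine ⟨G.inv_mem hg, fun a ha => ?_⟩
    rw [Perm.inv_eq_iff_eq, hg' a ha]

theorem mem_stabF {G : Subgroup (Perm α)} {s : Finset α} {g : Perm α} :
    g ∈ stabF G s ↔ g ∈ G ∧ ∀ a ∈ s, g a = a := Iff.rfl

theorem stabF_le (G : Subgroup (Perm α)) (s : Finset α) : stabF G s ≤ G := fun _ h => h.1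

theorem stabF_empty (G : Subgroup (Perm α)) : stabF G ∅ = G := by
  ext g
  simp [mem_stabF]

theorem stabF_mono (G : Subgroup (Perm α)) {s s' : Finset α} (h : s ⊆ s') :
    stabF G s' ≤ stabF G s := fun _ hg => ⟨hg.1, fun a ha => hg.2 a (h ha)⟩

/-- `k`-transitivity on injective `k`-tuples, elementary form -/
def Trans (G : Subgroup (Perm α)) (k : ℕ) : Prop :=
  ∀ x y : Fin k ↪ α, ∃ g ∈ G, ∀ i, g (x i) = y i

/-- the set of fixed points of a permutation -/
def fixF (g : Perm α) : Finset α := Finset.univ.filter fun a => g a = a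

theorem mem_fixF {g : Perm α} {a : α} : a ∈ fixF g ↔ g a = a := by
  simp [fixF]

theorem card_fixF (g : Perm α) : (fixF g).card + g.support.card = Fintype.card α := by
  have h : fixF g = g.supportᶜ := by
    ext a
    simp [fixF, Perm.mem_support]
  rw [h, Finset.card_compl]
  have := Finset.card_le_univ g.support
  omega

end Cfsg.Agent.S0679P
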