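import Cfsg.Agent.Helper12.S5702Defs2
import Cfsg.Agent.Helper12.S5702Lib
import Cfsg.Agent.Helper13.QuadWitt
import Cfsg.Agent.Helper13.QuadExt

set_option autoImplicit false
set_option linter.unusedSectionVars false
set_option linter.unusedVariables false

/-! # S5702 piece REDF2: over a finite field, a quadratic form with non-degenerate polar form in even
dimension is, in suitable coordinates and up to a scalar, a standard form `QfMinus m K a b`. -/

namespace Cfsg.Agent.S5702P

open Matrix Cfsg.Agent.Helper28.Sg Cfsg.Agent.Helper28.Spin Cfsg.Agent.Helper12.OrthGen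
  Cfsg.Agent.S5683P

namespace REDF2

variable {K : Type*} [Field K] {V : Type*} [AddCommGroup V] [Module K V]

/-- comparison on the standard basis -/
theorem form_eq (Q₀ : QuadraticForm K V) {m : ℕ} (a b c : K) (bv : Idx m → V)
    (h1 : ∀ k, Q₀ (bv k) = c * QfMinus m K a b (Pi.single k 1))
    (h2 : ∀ k l, QuadraticMap.polar Q₀ (bv k) (bv l) =
      c * B (QfMinus m K a b) (Pi.single k 1) (Pi.single l 1)) :
    ∀ x : Idx m → K, Q₀ (∑ k, x k • bv k) = c * QfMinus m K a b x := by
  classical
  set L : (Idx m → K) →ₗ[K] V := Fintype.linearCombination K bv with hL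
  have hLs : ∀ k, L (Pi.single k 1) = bv k := by
    intro k
    rw [hL, Fintype.linearCombination_apply_single, one_smul]
  have heq : Q₀.comp L = c • QfMinus m K a b := by
    apply Cfsg.Agent.Helper13.quadraticForm_ext_basis (Pi.basisFun K (Idx m))
    · intro k
      rw [Pi.basisFun_apply, QuadraticMap.comp_apply, hLs, h1, QuadraticMap.smul_apply, smul_eq_mul]
    · intro k l
      have e1 : QuadraticMap.polar (Q₀.comp L) (Pi.single k 1) (Pi.single l 1) =
          QuadraticMap.polar Q₀ (L (Pi.single k 1)) (L (Pi.single l 1)) := by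
        simp [QuadraticMap.polar]
      have e2 : QuadraticMap.polar (c • QfMinus m K a b) (Pi.single k 1) (Pi.single l 1) =
          c * QuadraticMap.polar (QfMinus m K a b) (Pi.single k (1 : K)) (Pi.single l 1) := by
        simp [QuadraticMap.polar]; ring
      rw [Pi.basisFun_apply, Pi.basisFun_apply, e1, e2, hLs, hLs, h2]
  intro x
  have := congrArg (fun q : QuadraticForm K (Idx m → K) => q x) heq
  simp only [QuadraticMap.comp_apply, QuadraticMap.smul_apply, smul_eq_mul] at this
  rw [← this, hL, Fintype.linearCombination_apply]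

/-- a scaled hyperbolic frame together with two further vectors gives the standard form -/
theorem form_eq_frame (Q₀ : QuadraticForm K V) {m : ℕ} (c : K) (hc : c ≠ 0) (E G : Fin m → V)
    (d₁ d₂ : V) (hQE : ∀ i, Q₀ (E i) = 0) (hQG : ∀ i, Q₀ (G i) = 0)
    (hEG : ∀ i j, QuadraticMap.polar Q₀ (E i) (G j) = if i = j then c else 0)
    (hEE : ∀ i j, QuadraticMap.polar Q₀ (E i) (E j) = 0)
    (hGG : ∀ i j, QuadraticMap.polar Q₀ (G i) (G j) = 0)
    (hE1 : ∀ i, QuadraticMap.polar Q₀ (E i) d₁ = 0) (hE2 : ∀ i, QuadraticMap.polar Q₀ (E i) d₂ = 0)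
    (hG1 : ∀ i, QuadraticMap.polar Q₀ (G i) d₁ = 0) (hG2 : ∀ i, QuadraticMap.polar Q₀ (G i) d₂ = 0)
    (hd1 : Q₀ d₁ = c) :
    ∀ x : Idx m → K, Q₀ (∑ k, x k • (Sum.elim (Sum.elim E G) ![d₁, d₂] : Idx m → V) k) =
      c * QfMinus m K (QuadraticMap.polar Q₀ d₁ d₂ / c) (Q₀ d₂ / c) x := by
  classical
  have hGE : ∀ i j, QuadraticMap.polar Q₀ (G i) (E j) = if i = j then c else 0 := by
    intro i j
    rw [QuadraticMap.polar_comm, hEG]
    by_cases h : i = j
    · subst h; simp
    · rw [if_neg h, if_neg (Ne.symm h)]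
  have h1E : ∀ i, QuadraticMap.polar Q₀ d₁ (E i) = 0 := fun i => by
    rw [QuadraticMap.polar_comm]; exact hE1 i
  have h2E : ∀ i, QuadraticMap.polar Q₀ d₂ (E i) = 0 := fun i => by
    rw [QuadraticMap.polar_comm]; exact hE2 i
  have h1G : ∀ i, QuadraticMap.polar Q₀ d₁ (G i) = 0 := fun i => by
    rw [QuadraticMap.polar_comm]; exact hG1 i
  have h2G : ∀ i, QuadraticMap.polar Q₀ d₂ (G i) = 0 := fun i => by
    rw [QuadraticMap.polar_comm]; exact hG2 i
  have h21 : QuadraticMap.polar Q₀ d₂ d₁ = QuadraticMap.polar Q₀ d₁ d₂ :=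
    QuadraticMap.polar_comm _ _ _
  have h11 : QuadraticMap.polar Q₀ d₁ d₁ = 2 * c := by
    rw [Cfsg.Agent.Helper13.polar_self', hd1]
  have h22 : QuadraticMap.polar Q₀ d₂ d₂ = 2 * Q₀ d₂ := Cfsg.Agent.Helper13.polar_self' _ _
  apply form_eq
  · rintro ((i | i) | u)
    · show Q₀ (E i) = _
      rw [hQE, show (Pi.single (Sum.inl (Sum.inl i)) (1 : K) : Idx m → K) = ee K i from rfl, Q_ee,
        mul_zero]
    · show Q₀ (G i) = _
      rw [hQG, show (Pi.single (Sum.inl (Sum.inr i)) (1 : K) : Idx m → K) = ff K i from rfl, Q_ff,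
        mul_zero]
    · fin_cases u
      · show Q₀ d₁ = _
        rw [show (Pi.single (Sum.inr ((fun i => i) ⟨0, by decide⟩ : Fin 2)) (1 : K) : Idx m → K) =
          d1 K m from rfl, Q_d1, mul_one, hd1]
      · show Q₀ d₂ = _
        rw [show (Pi.single (Sum.inr ((fun i => i) ⟨1, by decide⟩ : Fin 2)) (1 : K) : Idx m → K) =
          d2 K m from rfl, Q_d2]
        field_simp
  · rintro ((i | i) | u) ((j | j) | v)
    · show QuadraticMap.polar Q₀ (E i) (E j) = _
      rw [hEE, show (Pi.single (Sum.inl (Sum.inl i)) (1 : K) : Idx m → K) = ee K i from rfl, B_ee]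
      simp
    · show QuadraticMap.polar Q₀ (E i) (G j) = _
      rw [hEG, show (Pi.single (Sum.inl (Sum.inl i)) (1 : K) : Idx m → K) = ee K i from rfl, B_ee]
      by_cases h : i = j
      · subst h; simp
      · rw [if_neg h, Pi.single_apply, if_neg, mul_zero]
        intro h'
        apply h
        injection h' with h'
        injection h' with h'
    · show QuadraticMap.polar Q₀ (E i) ((![d₁, d₂] : Fin 2 → V) v) = _
      rw [show (Pi.single (Sum.inl (Sum.inl i)) (1 : K) : Idx m → K) = ee K i from rfl, B_ee]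
      fin_cases v
      · simpa using hE1 i
      · simpa using hE2 i
    · show QuadraticMap.polar Q₀ (G i) (E j) = _
      rw [hGE, show (Pi.single (Sum.inl (Sum.inr i)) (1 : K) : Idx m → K) = ff K i from rfl, B_ff]
      by_cases h : i = j
      · subst h; simp
      · rw [if_neg h, Pi.single_apply, if_neg, mul_zero]
        intro h'
        apply h
        injection h' with h'
        injection h' with h'
    · show QuadraticMap.polar Q₀ (G i) (G j) = _
      rw [hGG, show (Pi.single (Sum.inl (Sum.inr i)) (1 : K) : Idx m → K) = ff K i from rfl, B_ff]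
      simp
    · show QuadraticMap.polar Q₀ (G i) ((![d₁, d₂] : Fin 2 → V) v) = _
      rw [show (Pi.single (Sum.inl (Sum.inr i)) (1 : K) : Idx m → K) = ff K i from rfl, B_ff]
      fin_cases v
      · simpa using hG1 i
      · simpa using hG2 i
    · show QuadraticMap.polar Q₀ ((![d₁, d₂] : Fin 2 → V) u) (E j) = _
      rw [show (Pi.single (Sum.inl (Sum.inl j)) (1 : K) : Idx m → K) = ee K j from rfl, B_ee']
      fin_cases u
      · simpa using h1E j
      · simpa using h2E j
    · show QuadraticMap.polar Q₀ ((![d₁, d₂] : Fin 2 → V) u) (G j) = _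
      rw [show (Pi.single (Sum.inl (Sum.inr j)) (1 : K) : Idx m → K) = ff K j from rfl, B_ff']
      fin_cases u
      · simpa using h1G j
      · simpa using h2G j
    · show QuadraticMap.polar Q₀ ((![d₁, d₂] : Fin 2 → V) u) ((![d₁, d₂] : Fin 2 → V) v) = _
      rw [B_apply]
      fin_cases u <;> fin_cases v
      · simp [h11]; ring
      · simp; field_simp
      · simp [h21]; field_simp
      · simp [h22]; field_simp

/-- the binary anisotropic part has non-zero discriminant -/
theorem disc_ne_zero (Q₀ : QuadraticForm K V) (A : Submodule K V) (bA : Module.Basis (Fin 2) K A)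
    (hndA : ∀ a ∈ A, (∀ a' ∈ A, QuadraticMap.polar Q₀ a a' = 0) → a = 0) :
    4 * (Q₀ (bA 0 : V) * Q₀ (bA 1 : V)) - (QuadraticMap.polar Q₀ (bA 0 : V) (bA 1 : V)) ^ 2 ≠ 0 := by
  classical
  set d₁ : V := (bA 0 : V) with hd₁
  set d₂ : V := (bA 1 : V) with hd₂
  set p := QuadraticMap.polar Q₀ d₁ d₂ with hp
  have h11 : QuadraticMap.polar Q₀ d₁ d₁ = 2 * Q₀ d₁ := Cfsg.Agent.Helper13.polar_self' _ _
  have h22 : QuadraticMap.polar Q₀ d₂ d₂ = 2 * Q₀ d₂ := Cfsg.Agent.Helper13.polar_self' _ _
  have h21 : QuadraticMap.polar Q₀ d₂ d₁ = p := QuadraticMap.polar_comm _ _ _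
  -- every vector of `A` is a combination of `d₁, d₂`
  have hrep : ∀ a' ∈ A, ∃ α β : K, a' = α • d₁ + β • d₂ := by
    intro a' ha'
    refine ⟨bA.repr ⟨a', ha'⟩ 0, bA.repr ⟨a', ha'⟩ 1, ?_⟩
    have := congrArg (Subtype.val) (bA.sum_repr ⟨a', ha'⟩)
    rw [Fin.sum_univ_two] at this
    simpa [hd₁, hd₂] using this.symm
  have hperp : ∀ v : V, QuadraticMap.polar Q₀ v d₁ = 0 → QuadraticMap.polar Q₀ v d₂ = 0 →
      ∀ a' ∈ A, QuadraticMap.polar Q₀ v a' = 0 := by
    intro v hv1 hv2 a' ha'
    obtain ⟨α, β, rfl⟩ := hrep a' ha'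
    rw [QuadraticMap.polar_add_right, QuadraticMap.polar_smul_right, QuadraticMap.polar_smul_right,
      hv1, hv2]
    simp
  have hli : LinearIndependent K (fun i : Fin 2 => ((bA i : A) : V)) :=
    bA.linearIndependent.map' A.subtype (Submodule.ker_subtype A)
  intro hdet
  have hv0 : p • d₁ - (2 * Q₀ d₁) • d₂ = 0 := by
    apply hndA _ (A.sub_mem (A.smul_mem _ (bA 0).2) (A.smul_mem _ (bA 1).2))
    apply hperp
    · rw [QuadraticMap.polar_sub_left, QuadraticMap.polar_smul_left, QuadraticMap.polar_smul_left,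
        h11, h21]
      simp only [smul_eq_mul]; ring
    · rw [QuadraticMap.polar_sub_left, QuadraticMap.polar_smul_left, QuadraticMap.polar_smul_left,
        h22, ← hp]
      simp only [smul_eq_mul]; linear_combination -hdet
  have hcoef := (Fintype.linearIndependent_iff.mp hli) ![p, -(2 * Q₀ d₁)] (by
    rw [Fin.sum_univ_two]
    simp only [Matrix.cons_val_zero, Matrix.cons_val_one, neg_smul]
    rw [← sub_eq_add_neg]; exact hv0)
  have hp0 : p = 0 := by simpa using hcoef 0
  have hq0 : 2 * Q₀ d₁ = 0 := by simpa using hcoef 1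
  have hd0 : d₁ = 0 := by
    apply hndA _ (bA 0).2
    apply hperp
    · rw [h11, hq0]
    · rw [← hp, hp0]
  have : (bA 0 : A) = 0 := Subtype.ext hd0
  exact bA.ne_zero 0 this

end REDF2

/-- REDF2 [M-L]: over a finite field, a quadratic form with non-degenerate polar form in even dimension `n ≥ 2` is,
in suitable coordinates and up to a scalar `c`, a standard form `QfMinus m K a b` (both types). -/
theorem REDF2.exists_basis {K : Type*} [Field K] [Finite K] {n : ℕ} (hn : 2 ≤ n) (heven : Even n)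
    (Q₀ : QuadraticForm K (Fin n → K))
    (hnd : ∀ v : Fin n → K, (∀ w, QuadraticMap.polar Q₀ v w = 0) → v = 0) :
    ∃ (m : ℕ) (a b c : K) (bv : Idx m → (Fin n → K)), 2 * m + 2 = n ∧ 4 * b - a ^ 2 ≠ 0 ∧ c ≠ 0 ∧
      ∀ x : Idx m → K, Q₀ (∑ k, x k • bv k) = c * QfMinus m K a b x := by
  classical
  obtain ⟨m', e, f, A, hW⟩ :=
    Cfsg.Agent.Helper13.exists_wittDecomp n Q₀ (Module.finrank_fin_fun K) hnd
  have hrank : Module.finrank K A + 2 * m' = n := by
    have := hW.rank
    rwa [Module.finrank_fin_fun K] at this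
  have hA2 := hW.rankA
  obtain ⟨r, hr⟩ := heven
  have hcases : Module.finrank K A = 2 ∨ Module.finrank K A = 0 := by omega
  rcases hcases with hA | hA
  · -- anisotropic part of dimension 2
    set bA : Module.Basis (Fin 2) K A := Module.finBasisOfFinrankEq K A hA with hbA
    set d₁ : Fin n → K := (bA 0 : Fin n → K) with hd₁
    set d₂ : Fin n → K := (bA 1 : Fin n → K) with hd₂
    have hd₁A : d₁ ∈ A := (bA 0).2
    have hd₂A : d₂ ∈ A := (bA 1).2
    have hc : Q₀ d₁ ≠ 0 := by
      intro h
      have h0 : d₁ = 0 := hW.aniso d₁ hd₁A h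
      exact bA.ne_zero 0 (Subtype.ext h0)
    refine ⟨m', QuadraticMap.polar Q₀ d₁ d₂ / Q₀ d₁, Q₀ d₂ / Q₀ d₁, Q₀ d₁,
      Sum.elim (Sum.elim e (fun i => Q₀ d₁ • f i)) ![d₁, d₂], by omega, ?_, hc, ?_⟩
    · have hdisc := REDF2.disc_ne_zero Q₀ A bA hW.nondegA
      rw [← hd₁, ← hd₂] at hdisc
      intro h
      apply hdisc
      field_simp at h
      linear_combination h
    · apply REDF2.form_eq_frame Q₀ (Q₀ d₁) hc e (fun i => Q₀ d₁ • f i) d₁ d₂ hW.Qe
      · intro i
        rw [QuadraticMap.map_smul, hW.Qf, smul_zero]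
      · intro i j
        rw [QuadraticMap.polar_smul_right, hW.ef]
        by_cases h : i = j
        · simp [h]
        · simp [h]
      · exact hW.ee
      · intro i j
        rw [QuadraticMap.polar_smul_right, QuadraticMap.polar_smul_left, hW.ff]
        simp
      · exact fun i => hW.eA d₁ hd₁A i
      · exact fun i => hW.eA d₂ hd₂A i
      · intro i
        rw [QuadraticMap.polar_smul_left, hW.fA d₁ hd₁A i, smul_zero]
      · intro i
        rw [QuadraticMap.polar_smul_left, hW.fA d₂ hd₂A i, smul_zero]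
      · rfl
  · -- anisotropic part trivial: split off the last hyperbolic pair
    obtain ⟨m, rfl⟩ : ∃ m, m' = m + 1 := ⟨m' - 1, by omega⟩
    set el : Fin n → K := e (Fin.last m) with hel
    set fl : Fin n → K := f (Fin.last m) with hfl
    have hpol : QuadraticMap.polar Q₀ (el + fl) fl = 1 := by
      rw [QuadraticMap.polar_add_left, hW.ef, hW.ff]
      simp
    have hQfl : Q₀ fl = 0 := hW.Qf _
    have hQd : Q₀ (el + fl) = 1 := by
      rw [QuadraticMap.map_add Q₀ el fl, hW.Qe, hW.Qf, hW.ef]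
      simp
    have key := REDF2.form_eq_frame Q₀ (1 : K) one_ne_zero (fun i => e (Fin.castSucc i))
      (fun i => f (Fin.castSucc i)) (el + fl) fl (fun i => hW.Qe _) (fun i => hW.Qf _)
      (by
        intro i j
        rw [hW.ef]
        simp [Fin.castSucc_inj])
      (fun i j => hW.ee _ _) (fun i j => hW.ff _ _)
      (by
        intro i
        rw [QuadraticMap.polar_add_right, hW.ee, hW.ef, if_neg (Fin.castSucc_ne_last i)]
        simp)
      (by
        intro i
        rw [hW.ef, if_neg (Fin.castSucc_ne_last i)])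
      (by
        intro i
        rw [QuadraticMap.polar_add_right, hW.ff, QuadraticMap.polar_comm, hW.ef,
          if_neg (Ne.symm (Fin.castSucc_ne_last i))]
        simp)
      (fun i => hW.ff _ _) hQd
    refine ⟨m, QuadraticMap.polar Q₀ (el + fl) fl / 1, Q₀ fl / 1, 1, _, by omega, ?_, one_ne_zero,
      key⟩
    rw [hpol, hQfl]
    simp

end Cfsg.Agent.S5702P
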