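import Cfsg.Agent.Helper12.S5702Defs2
import Cfsg.Agent.Helper17.S5683ALLPRATO

/-! S5702 piece ALLPRATO (driver helper12; port of helper17's S5683 ALLPRATO): an injective matrix mapping every
rational singular point to a rational point is in `F^* GL(F₀)`.  No `2 ≠ 0`: the two binary basis vectors are reached
through the singular vectors `d₁ + e_0 - f_0`, `d₂ + e_0 - b f_0`, whose independence from `e_1` is seen by pairing
with `f_0`. -/

set_option autoImplicit false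
set_option linter.unusedSectionVars false
set_option linter.unusedVariables false

namespace Cfsg.Agent.S5702P

open Matrix Cfsg.Agent.Helper28.Sg Cfsg.Agent.Helper28.Spin Cfsg.Agent.Helper12.OrthGen
  Cfsg.Agent.S5683P

variable {F : Type*} [Field F] {m : ℕ} {a b : F}

namespace ALLPRATO

/-- one step of the chain: orthogonal independent rational singular vectors share the scalar -/
theorem step (F₀ : Subfield F) (A : Matrix (Idx m) (Idx m) F)
    (hA : ∀ x : Idx m → F, A *ᵥ x = 0 → x = 0)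
    (hall : ∀ s : Idx m → F, Rat F₀ s → s ≠ 0 → QfMinus m F a b s = 0 → PRat F₀ (A *ᵥ s))
    {z : F} (hz : z ≠ 0) {s₁ s₂ : Idx m → F} (hr₁ : Rat F₀ s₁) (hr₂ : Rat F₀ s₂)
    (hQ₁ : QfMinus m F a b s₁ = 0) (hQ₂ : QfMinus m F a b s₂ = 0)
    (hB : B (QfMinus m F a b) s₁ s₂ = 0)
    (hind : LinearIndependent F ![s₁, s₂]) (h₁ : Rat F₀ (z • A *ᵥ s₁)) :
    Rat F₀ (z • A *ᵥ s₂) := by
  have hs₂0 : s₂ ≠ 0 := by
    have := hind.ne_zero 1
    simpa using this
  have hs₃0 : s₁ + s₂ ≠ 0 := by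
    intro h
    have h2 := (LinearIndependent.pair_iff.1 hind) 1 1 (by rw [one_smul, one_smul]; exact h)
    exact one_ne_zero h2.1
  have hQ₃ : QfMinus m F a b (s₁ + s₂) = 0 := by
    rw [Q_add, hQ₁, hQ₂, hB]; ring
  obtain ⟨z₂, hz₂, h₂⟩ := hall s₂ hr₂ hs₂0 hQ₂
  obtain ⟨z₃, hz₃, h₃⟩ := hall (s₁ + s₂) (Cfsg.Agent.S5683P.Rat.add hr₁ hr₂) hs₃0 hQ₃
  exact Cfsg.Agent.S5683P.ALLPRATO.transfer F₀ A hA hz hz₂ hz₃ h₁ h₂ h₃ hind

theorem indep_of_B {s₁ s₂ t : Idx m → F} (h1 : B (QfMinus m F a b) t s₁ = 0)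
    (h2 : B (QfMinus m F a b) t s₂ ≠ 0) (hs₁ : s₁ ≠ 0) : LinearIndependent F ![s₁, s₂] := by
  rw [LinearIndependent.pair_iff]
  intro c d hcd
  have h3 : B (QfMinus m F a b) t (c • s₁ + d • s₂) = 0 := by
    rw [hcd]
    exact QuadraticMap.polar_zero_right _ _
  have h4 : B (QfMinus m F a b) t (c • s₁ + d • s₂) =
      c * B (QfMinus m F a b) t s₁ + d * B (QfMinus m F a b) t s₂ := by
    show QuadraticMap.polar _ _ _ = _
    rw [QuadraticMap.polar_add_right, QuadraticMap.polar_smul_right, QuadraticMap.polar_smul_right]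
    rfl
  rw [h4, h1, mul_zero, zero_add] at h3
  have hd : d = 0 := by
    rcases mul_eq_zero.1 h3 with h | h
    · exact h
    · exact absurd h h2
  rw [hd, zero_smul, add_zero] at hcd
  rcases smul_eq_zero.1 hcd with h | h
  · exact ⟨h, hd⟩
  · exact absurd h hs₁

end ALLPRATO

/-- ALLPRATO: an injective matrix mapping every rational singular point to a rational point is in `F^* GL(F₀)`
(chain all `e_j, f_j` and the singular vectors `d₁ + e_0 - f_0`, `d₂ + e_0 - b f_0` to `e_0`). -/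
theorem ALLPRATO.inN_of_singular (hm : 2 ≤ m) (F₀ : Subfield F) (ha : a ∈ F₀) (hb : b ∈ F₀)
    (hab : 4 * b - a ^ 2 ≠ 0)
    (A : Matrix (Idx m) (Idx m) F) (hA : ∀ x : Idx m → F, A *ᵥ x = 0 → x = 0)
    (hall : ∀ s : Idx m → F, Rat F₀ s → s ≠ 0 → QfMinus m F a b s = 0 → PRat F₀ (A *ᵥ s)) :
    InN F₀ A := by
  classical
  set i0 : Fin m := ⟨0, by omega⟩ with hi0
  set i1 : Fin m := ⟨1, by omega⟩ with hi1
  have h01 : i0 ≠ i1 := by
    intro h
    rw [hi0, hi1, Fin.mk.injEq] at h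
    omega
  obtain ⟨z, hz, hW0⟩ := hall (ee F i0) (rat_ee i0) (ee_ne_zero i0) (Q_ee i0)
  -- coordinates of the basis vectors
  have ee_lr : ∀ i j : Fin m, (ee F i : Idx m → F) (Sum.inl (Sum.inr j)) = 0 := by
    intro i j; simp [ee]
  have ee_ll : ∀ i j : Fin m, (ee F i : Idx m → F) (Sum.inl (Sum.inl j)) = if j = i then 1 else 0 := by
    intro i j; simp [ee, Pi.single_apply]
  have ee_r : ∀ (i : Fin m) (k : Fin 2), (ee F i : Idx m → F) (Sum.inr k) = 0 := by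
    intro i k; simp [ee]
  have ff_ll : ∀ i j : Fin m, (ff F i : Idx m → F) (Sum.inl (Sum.inl j)) = 0 := by
    intro i j; simp [ff]
  have ff_lr : ∀ i j : Fin m, (ff F i : Idx m → F) (Sum.inl (Sum.inr j)) = if j = i then 1 else 0 := by
    intro i j; simp [ff, Pi.single_apply]
  have ff_r : ∀ (i : Fin m) (k : Fin 2), (ff F i : Idx m → F) (Sum.inr k) = 0 := by
    intro i k; simp [ff]
  have d1_ll : ∀ j : Fin m, (d1 F m : Idx m → F) (Sum.inl (Sum.inl j)) = 0 := by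
    intro j; simp [d1]
  have d1_lr : ∀ j : Fin m, (d1 F m : Idx m → F) (Sum.inl (Sum.inr j)) = 0 := by
    intro j; simp [d1]
  have d1_0 : (d1 F m : Idx m → F) (Sum.inr 0) = 1 := by simp [d1]
  have d1_1 : (d1 F m : Idx m → F) (Sum.inr 1) = 0 := by simp [d1]
  have d2_ll : ∀ j : Fin m, (d2 F m : Idx m → F) (Sum.inl (Sum.inl j)) = 0 := by
    intro j; simp [d2]
  have d2_lr : ∀ j : Fin m, (d2 F m : Idx m → F) (Sum.inl (Sum.inr j)) = 0 := by
    intro j; simp [d2]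
  have d2_0 : (d2 F m : Idx m → F) (Sum.inr 0) = 0 := by simp [d2]
  have d2_1 : (d2 F m : Idx m → F) (Sum.inr 1) = 1 := by simp [d2]
  -- the `e_j`, `j ≠ i0`
  have hWe : ∀ j : Fin m, Rat F₀ (z • A *ᵥ ee F j) := by
    intro j
    by_cases hj : j = i0
    · rw [hj]; exact hW0
    · refine ALLPRATO.step F₀ A hA hall hz (rat_ee i0) (rat_ee j) (Q_ee i0) (Q_ee j) ?_ ?_ hW0
      · rw [B_ee, ee_lr]
      · refine ALLPRATO.indep_of_B (a := a) (b := b) (t := ff F j) ?_ ?_ (ee_ne_zero i0)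
        · rw [B_ff, ee_ll, if_neg hj]
        · rw [B_ff, ee_ll, if_pos rfl]; exact one_ne_zero
  have hWf : ∀ j : Fin m, Rat F₀ (z • A *ᵥ ff F j) := by
    intro j
    by_cases hj : j = i0
    · rw [hj]
      refine ALLPRATO.step F₀ A hA hall hz (rat_ee i1) (rat_ff i0) (Q_ee i1) (Q_ff i0) ?_ ?_ (hWe i1)
      · rw [B_ee, ff_lr, if_neg h01.symm]
      · refine ALLPRATO.indep_of_B (a := a) (b := b) (t := ee F i0) ?_ ?_ (ee_ne_zero i1)
        · rw [B_ee, ee_lr]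
        · rw [B_ee, ff_lr, if_pos rfl]; exact one_ne_zero
    · refine ALLPRATO.step F₀ A hA hall hz (rat_ee i0) (rat_ff j) (Q_ee i0) (Q_ff j) ?_ ?_ hW0
      · rw [B_ee, ff_lr, if_neg (Ne.symm hj)]
      · refine ALLPRATO.indep_of_B (a := a) (b := b) (t := ee F j) ?_ ?_ (ee_ne_zero i0)
        · rw [B_ee, ee_lr]
        · rw [B_ee, ff_lr, if_pos rfl]; exact one_ne_zero
  -- the singular vector `d₁ + e_0 - f_0`
  have hs1r : Rat F₀ (d1 F m + (ee F i0 - ff F i0)) :=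
    Cfsg.Agent.S5683P.Rat.add rat_d1 (Cfsg.Agent.S5683P.Rat.sub (rat_ee i0) (rat_ff i0))
  have hQs1 : QfMinus m F a b (d1 F m + (ee F i0 - ff F i0)) = 0 := by
    have e1 : QfMinus m F a b (ee F i0 - ff F i0) = -1 := by
      rw [sub_eq_add_neg, Q_add, Q_ee, QuadraticMap.map_neg, Q_ff, B_ee, Pi.neg_apply, ff_lr,
        if_pos rfl]
      ring
    rw [Q_add, Q_d1, e1, B_d1, Pi.sub_apply, Pi.sub_apply, ee_r, ee_r, ff_r, ff_r]
    ring
  have hWs1 : Rat F₀ (z • A *ᵥ (d1 F m + (ee F i0 - ff F i0))) := by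
    refine ALLPRATO.step F₀ A hA hall hz (rat_ee i1) hs1r (Q_ee i1) hQs1 ?_ ?_ (hWe i1)
    · rw [B_ee, Pi.add_apply, Pi.sub_apply, d1_lr, ee_lr, ff_lr, if_neg h01.symm]
      ring
    · refine ALLPRATO.indep_of_B (a := a) (b := b) (t := ff F i0) ?_ ?_ (ee_ne_zero i1)
      · rw [B_ff, ee_ll, if_neg h01]
      · rw [B_ff, Pi.add_apply, Pi.sub_apply, d1_ll, ee_ll, ff_ll, if_pos rfl]
        simp
  have hWd1 : Rat F₀ (z • A *ᵥ d1 F m) := by
    have e : z • A *ᵥ d1 F m = z • A *ᵥ (d1 F m + (ee F i0 - ff F i0)) - z • A *ᵥ ee F i0 +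
        z • A *ᵥ ff F i0 := by
      rw [Matrix.mulVec_add, Matrix.mulVec_sub, smul_add, smul_sub]
      abel
    rw [e]
    exact Cfsg.Agent.S5683P.Rat.add (Cfsg.Agent.S5683P.Rat.sub hWs1 hW0) (hWf i0)
  -- the singular vector `d₂ + e_0 - b f_0`
  have hs2r : Rat F₀ (d2 F m + (ee F i0 - b • ff F i0)) :=
    Cfsg.Agent.S5683P.Rat.add rat_d2 (Cfsg.Agent.S5683P.Rat.sub (rat_ee i0) (Cfsg.Agent.S5683P.Rat.smul hb (rat_ff i0)))
  have hQs2 : QfMinus m F a b (d2 F m + (ee F i0 - b • ff F i0)) = 0 := by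
    have e1 : QfMinus m F a b (ee F i0 - b • ff F i0) = -b := by
      rw [sub_eq_add_neg, Q_add, Q_ee, QuadraticMap.map_neg, QuadraticMap.map_smul, Q_ff, B_ee,
        Pi.neg_apply, Pi.smul_apply, ff_lr, if_pos rfl]
      simp
    rw [Q_add, Q_d2, e1, B_d2, Pi.sub_apply, Pi.sub_apply, Pi.smul_apply, Pi.smul_apply, ee_r, ee_r,
      ff_r, ff_r]
    simp
  have hWs2 : Rat F₀ (z • A *ᵥ (d2 F m + (ee F i0 - b • ff F i0))) := by
    refine ALLPRATO.step F₀ A hA hall hz (rat_ee i1) hs2r (Q_ee i1) hQs2 ?_ ?_ (hWe i1)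
    · rw [B_ee, Pi.add_apply, Pi.sub_apply, Pi.smul_apply, d2_lr, ee_lr, ff_lr, if_neg h01.symm]
      simp
    · refine ALLPRATO.indep_of_B (a := a) (b := b) (t := ff F i0) ?_ ?_ (ee_ne_zero i1)
      · rw [B_ff, ee_ll, if_neg h01]
      · rw [B_ff, Pi.add_apply, Pi.sub_apply, Pi.smul_apply, d2_ll, ee_ll, ff_ll, if_pos rfl]
        simp
  have hWd2 : Rat F₀ (z • A *ᵥ d2 F m) := by
    have e : z • A *ᵥ d2 F m = z • A *ᵥ (d2 F m + (ee F i0 - b • ff F i0)) - z • A *ᵥ ee F i0 +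
        b • (z • A *ᵥ ff F i0) := by
      rw [Matrix.mulVec_add, Matrix.mulVec_sub, Matrix.mulVec_smul, smul_add, smul_sub,
        smul_comm z b]
      abel
    rw [e]
    exact Cfsg.Agent.S5683P.Rat.add (Cfsg.Agent.S5683P.Rat.sub hWs2 hW0) (Cfsg.Agent.S5683P.Rat.smul hb (hWf i0))
  refine ⟨z, hz, RatM.of_cols ?_⟩
  intro j
  rw [Matrix.smul_mulVec]
  rcases j with (j | j) | u
  · exact hWe j
  · exact hWf j
  · fin_cases u
    · exact hWd1
    · exact hWd2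

end Cfsg.Agent.S5702P
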