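import Mathlib
import Cfsg.Prelude.Def_Characters
import Cfsg.Agent.Helper7.S2333Defs
import Cfsg.Agent.Helper7.S2333Basic
import Cfsg.Agent.Helper12.WGDefs

/-!
# S2524, chapter GAP (odd characteristic orbit bound): shared definitions

`qf M x = xᵀ M x`, `polar Q x y = Q (x + y) - Q x - Q y` are helper7's (`Cfsg.Agent.S2333P`).
The "discriminant" of a pair `(u, v)` for `Q` is `4 Q(u) Q(v) - polar Q u v ^ 2`
(the determinant of the Gram matrix of the polar form on `(u, v)`).
-/

set_option autoImplicit false

namespace Cfsg.Agent.S2524P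

open Matrix Cfsg Cfsg.Agent.S2333P

variable {F : Type*} [Field F] {n : ℕ}

/-- the polar form on the diagonal (any characteristic) -/
theorem gap_polar_self (M : Matrix (Fin n) (Fin n) F) (x : Fin n → F) :
    polar (qf M) x x = 2 * qf M x := by
  unfold polar
  rw [← two_smul F x, qf_smul]
  ring

/-- the relation "the form `Q` takes the values `a, c, b` on the pair `(u, v)`" -/
def gapRel (a c b : F) (Q : (Fin n → F) → F) (u v : Fin n → F) : Prop :=
  Q u = a ∧ Q v = c ∧ polar Q u v = b

theorem gap_polar_smul_smul (M : Matrix (Fin n) (Fin n) F) (s t : F) (x y : Fin n → F) :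
    polar (qf M) (s • x) (t • y) = s * t * polar (qf M) x y := by
  rw [polar_smul_left, polar_smul_right]
  ring

/-- the quadratic form on a plane -/
theorem gap_qf_plane (M : Matrix (Fin n) (Fin n) F) (x y : F) (u v : Fin n → F) :
    qf M (x • u + y • v) = x ^ 2 * qf M u + y ^ 2 * qf M v + x * y * polar (qf M) u v := by
  rw [qf_add, qf_smul, qf_smul, gap_polar_smul_smul]

end Cfsg.Agent.S2524P
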