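import Mathlib
import Cfsg.Prelude.Def_Characters
import Cfsg.Agent.Helper7.S2333Defs
import Cfsg.Agent.Helper7.S2333Basic
import Cfsg.Agent.Helper7.S2333Orb
import Cfsg.Agent.Helper12.WGDefs
import Cfsg.Agent.Helper13.WGGapDefs
import Cfsg.Agent.Helper28.WGGapCLASS
import Cfsg.Agent.Helper25.WGGapHPLANE
import Cfsg.Agent.Helper24.WGGapLINE0
import Cfsg.Agent.Helper28.WGGapLINEA
import Cfsg.Agent.Helper7.WGGapUNIP
import Cfsg.Agent.Helper24.WGGapUNIV
import Cfsg.Agent.Helper7.WGGapNZERO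

/-!
# S2524, chapter GAP: the orbit bound for quadratic forms in odd characteristic (assembly)
-/

set_option autoImplicit false

namespace Cfsg.Agent.S2524P

open Matrix Cfsg Cfsg.Agent.S2333P

variable {F : Type*} [Field F] [Fintype F]

omit [Fintype F] in
/-- a pair with nonzero discriminant is linearly independent -/
theorem gap_indep_of_disc {n : ℕ} (M : Matrix (Fin n) (Fin n) F) (u v : Fin n → F)
    (hd : 4 * qf M u * qf M v - (polar (qf M) u v) ^ 2 ≠ 0) :
    u ≠ 0 ∧ ∀ t : F, v ≠ t • u := by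
  constructor
  · rintro rfl
    apply hd
    rw [qf_zero, polar_zero_left]
    ring
  · rintro t rfl
    apply hd
    rw [qf_smul, polar_smul_right, gap_polar_self]
    ring

open Classical in
/-- transport of the standard count to an arbitrary independent pair -/
theorem gap_count_ge (m : ℕ) (Φ : Finset ((Fin (m + 2) → F) → F))
    (hq : ∀ Q ∈ Φ, ∃ M : Matrix (Fin (m + 2)) (Fin (m + 2)) F, Q = qf M)
    (hstab : ∀ Q ∈ Φ, ∀ A : Matrix (Fin (m + 2)) (Fin (m + 2)) F, A.det ≠ 0 →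
      (fun x => Q (A *ᵥ x)) ∈ Φ)
    (Q₀ : (Fin (m + 2) → F) → F) (hQ₀ : Q₀ ∈ Φ) (u₀ v₀ : Fin (m + 2) → F)
    (hb : 4 * Q₀ u₀ * Q₀ v₀ - (polar Q₀ u₀ v₀) ^ 2 ≠ 0)
    (u v : Fin (m + 2) → F) (hu : u ≠ 0) (hv : ∀ t : F, v ≠ t • u) :
    Fintype.card F ^ (2 * m) ≤
      (Φ.filter (fun Q => gapRel (Q₀ u₀) (Q₀ v₀) (polar Q₀ u₀ v₀) Q u v)).card := by
  obtain ⟨M₀, rfl⟩ := hq Q₀ hQ₀
  obtain ⟨hu₀, hv₀⟩ := gap_indep_of_disc M₀ u₀ v₀ hb
  obtain ⟨B₀, hB₀, hB₀0, hB₀1⟩ := exists_basis_matrix m u₀ v₀ hu₀ hv₀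
  obtain ⟨B, hB, hB0, hB1⟩ := exists_basis_matrix m u v hu hv
  have hM₁ : qf (B₀ᵀ * M₀ * B₀) ∈ Φ := by
    have := hstab _ hQ₀ B₀ hB₀
    have e : (fun x => qf M₀ (B₀ *ᵥ x)) = qf (B₀ᵀ * M₀ * B₀) := by
      funext x
      rw [qf_comp]
    rwa [e] at this
  have e0 : qf (B₀ᵀ * M₀ * B₀) (Pi.single 0 1) = qf M₀ u₀ := by rw [qf_comp, hB₀0]
  have e1 : qf (B₀ᵀ * M₀ * B₀) (Pi.single 1 1) = qf M₀ v₀ := by rw [qf_comp, hB₀1]
  have e01 : polar (qf (B₀ᵀ * M₀ * B₀)) (Pi.single 0 1) (Pi.single 1 1) = polar (qf M₀) u₀ v₀ := by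
    unfold polar
    rw [qf_comp, qf_comp, qf_comp, mulVec_add, hB₀0, hB₀1]
  have hstd := gap_count_ge_std m Φ hstab (B₀ᵀ * M₀ * B₀) hM₁ (by rw [e0, e1, e01]; exact hb)
  rw [e0, e1, e01] at hstd
  refine le_trans hstd ?_
  have hBu : IsUnit B.det := isUnit_iff_ne_zero.mpr hB
  have hBinv : (B⁻¹).det ≠ 0 := by
    rw [Matrix.det_nonsing_inv, Ring.inverse_eq_inv']
    exact inv_ne_zero hB
  have hiu : B⁻¹ *ᵥ u = Pi.single 0 1 := by
    rw [← hB0, mulVec_mulVec, Matrix.nonsing_inv_mul B hBu, one_mulVec]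
  have hiv : B⁻¹ *ᵥ v = Pi.single 1 1 := by
    rw [← hB1, mulVec_mulVec, Matrix.nonsing_inv_mul B hBu, one_mulVec]
  apply Finset.card_le_card_of_injOn (fun Q => fun x => Q (B⁻¹ *ᵥ x))
  · intro Q hQ
    rw [Finset.mem_coe, Finset.mem_filter] at hQ ⊢
    obtain ⟨hQΦ, h0, h1, h01⟩ := hQ
    refine ⟨hstab Q hQΦ _ hBinv, ?_, ?_, ?_⟩
    · show Q (B⁻¹ *ᵥ u) = _
      rw [hiu, h0]
    · show Q (B⁻¹ *ᵥ v) = _
      rw [hiv, h1]
    · rw [polar_comp, hiu, hiv, h01]
  · intro Q _ Q' _ hQQ'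
    funext x
    have := congrFun hQQ' (B *ᵥ x)
    simp only [mulVec_mulVec, Matrix.nonsing_inv_mul B hBu, one_mulVec] at this
    exact this

open Classical in
/-- case H: the number of hyperbolic pairs of a quadratic form -/
theorem gap_card_rel_le_H (m : ℕ) (M : Matrix (Fin (m + 2)) (Fin (m + 2)) F) :
    (Finset.univ.filter (fun p : (Fin (m + 2) → F) × (Fin (m + 2) → F) =>
      gapRel 0 0 1 (qf M) p.1 p.2)).card ≤
      2 * Fintype.card F * Fintype.card F ^ (2 * m) := by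
  have hq0 : 0 < Fintype.card F := Fintype.card_pos
  have hsplit : (Finset.univ.filter (fun p : (Fin (m + 2) → F) × (Fin (m + 2) → F) =>
      gapRel 0 0 1 (qf M) p.1 p.2)) = Finset.univ.filter
        (fun p : (Fin (m + 2) → F) × (Fin (m + 2) → F) =>
          qf M p.1 = 0 ∧ (qf M p.2 = 0 ∧ polar (qf M) p.1 p.2 = 1)) := by
    ext p
    rw [Finset.mem_filter, Finset.mem_filter]
    exact Iff.rfl
  rw [hsplit,
    card_pairs_eq_sum (fun u => qf M u = 0) (fun u v => qf M v = 0 ∧ polar (qf M) u v = 1)]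
  have hin : ∀ u : Fin (m + 2) → F, qf M u = 0 →
      (Finset.univ.filter (fun v => qf M v = 0 ∧ polar (qf M) u v = 1)).card ≤
        Fintype.card F ^ m := by
    intro u hu
    have h1 := gap_card_line_le_sing M u hu 0 1 one_ne_zero
    have h3 := card_polar_eq_le (m + 2) (by omega) M u 1 one_ne_zero
    have h4 : Fintype.card F * (Finset.univ.filter
        (fun v => qf M v = 0 ∧ polar (qf M) u v = 1)).card ≤ Fintype.card F * Fintype.card F ^ m := by
      refine le_trans h1 (le_trans h3 ?_)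
      rw [show m + 2 - 1 = m + 1 by omega, pow_succ, mul_comm]
    exact Nat.le_of_mul_le_mul_left h4 hq0
  by_cases hex : ∃ w, qf M w ≠ 0
  · obtain ⟨w, hw⟩ := hex
    have hs := card_sing_le (m + 2) (by omega) M w hw
    rw [show m + 2 - 1 = m + 1 by omega] at hs
    calc ∑ u ∈ Finset.univ.filter (fun u => qf M u = 0),
          (Finset.univ.filter (fun v => qf M v = 0 ∧ polar (qf M) u v = 1)).card
        ≤ ∑ _u ∈ Finset.univ.filter (fun u => qf M u = 0), Fintype.card F ^ m := by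
          apply Finset.sum_le_sum
          intro u hu
          exact hin u (Finset.mem_filter.mp hu).2
      _ = (Finset.univ.filter (fun u => qf M u = 0)).card * Fintype.card F ^ m := by
          rw [Finset.sum_const, smul_eq_mul]
      _ ≤ 2 * Fintype.card F ^ (m + 1) * Fintype.card F ^ m := Nat.mul_le_mul_right _ hs
      _ = 2 * Fintype.card F * Fintype.card F ^ (2 * m) := by ring
  · have hall : ∀ w, qf M w = 0 := by
      intro w
      by_contra h
      exact hex ⟨w, h⟩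
    have : ∀ u, (Finset.univ.filter (fun v => qf M v = 0 ∧ polar (qf M) u v = 1)).card = 0 := by
      intro u
      rw [Finset.card_eq_zero, Finset.filter_eq_empty_iff]
      rintro v - ⟨-, h⟩
      unfold polar at h
      rw [hall, hall, hall, sub_zero, sub_zero] at h
      exact zero_ne_one h
    simp only [this, Finset.sum_const_zero, Nat.zero_le]

open Classical in
/-- the number of pairs with prescribed values `(a, c, b)`, `a ≠ 0`, of nonzero discriminant, when
the value `a` is taken at most `(q + 1) q^m` times -/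
theorem gap_card_rel_le_A (h2 : (2 : F) ≠ 0) (m : ℕ) (M : Matrix (Fin (m + 2)) (Fin (m + 2)) F)
    (a c b : F) (ha : a ≠ 0) (hd : 4 * a * c - b ^ 2 ≠ 0)
    (hN : (Finset.univ.filter (fun u : Fin (m + 2) → F => qf M u = a)).card ≤
      (Fintype.card F + 1) * Fintype.card F ^ m) :
    (Finset.univ.filter (fun p : (Fin (m + 2) → F) × (Fin (m + 2) → F) =>
      gapRel a c b (qf M) p.1 p.2)).card ≤
      2 * (Fintype.card F + 1) * Fintype.card F ^ (2 * m) := by
  have hq0 : 0 < Fintype.card F := Fintype.card_pos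
  have hsplit : (Finset.univ.filter (fun p : (Fin (m + 2) → F) × (Fin (m + 2) → F) =>
      gapRel a c b (qf M) p.1 p.2)) = Finset.univ.filter
        (fun p : (Fin (m + 2) → F) × (Fin (m + 2) → F) =>
          qf M p.1 = a ∧ (qf M p.2 = c ∧ polar (qf M) p.1 p.2 = b)) := by
    ext p
    rw [Finset.mem_filter, Finset.mem_filter]
    exact Iff.rfl
  rw [hsplit,
    card_pairs_eq_sum (fun u => qf M u = a) (fun u v => qf M v = c ∧ polar (qf M) u v = b)]
  have hin : ∀ u : Fin (m + 2) → F, qf M u = a →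
      (Finset.univ.filter (fun v => qf M v = c ∧ polar (qf M) u v = b)).card ≤
        2 * Fintype.card F ^ m := by
    intro u hu
    have h1 := gap_card_fiber_le h2 M u c b (by rw [hu]; exact ha) (by rw [hu]; exact hd)
    have hw : polar (qf M) u u ≠ 0 := by
      rw [gap_polar_self, hu]
      exact mul_ne_zero h2 ha
    have h3 := gap_card_polar_eq_le (m + 2) M u u hw b
    have h4 : (Fintype.card F * Fintype.card F) * (Finset.univ.filter
        (fun v => qf M v = c ∧ polar (qf M) u v = b)).card ≤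
          (Fintype.card F * Fintype.card F) * (2 * Fintype.card F ^ m) := by
      calc (Fintype.card F * Fintype.card F) * (Finset.univ.filter
            (fun v => qf M v = c ∧ polar (qf M) u v = b)).card
          = Fintype.card F * (Fintype.card F * (Finset.univ.filter
            (fun v => qf M v = c ∧ polar (qf M) u v = b)).card) := by ring
        _ ≤ Fintype.card F * (2 * (Finset.univ.filter
            (fun v : Fin (m + 2) → F => polar (qf M) u v = b)).card) :=
            Nat.mul_le_mul_left _ h1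
        _ = 2 * (Fintype.card F * (Finset.univ.filter
            (fun v : Fin (m + 2) → F => polar (qf M) u v = b)).card) := by ring
        _ ≤ 2 * Fintype.card F ^ (m + 2) := Nat.mul_le_mul_left _ h3
        _ = (Fintype.card F * Fintype.card F) * (2 * Fintype.card F ^ m) := by ring
    exact Nat.le_of_mul_le_mul_left h4 (Nat.mul_pos hq0 hq0)
  calc ∑ u ∈ Finset.univ.filter (fun u => qf M u = a),
        (Finset.univ.filter (fun v => qf M v = c ∧ polar (qf M) u v = b)).card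
      ≤ ∑ _u ∈ Finset.univ.filter (fun u => qf M u = a), 2 * Fintype.card F ^ m :=
        Finset.sum_le_sum fun u hu => hin u (Finset.mem_filter.mp hu).2
    _ = (Finset.univ.filter (fun u => qf M u = a)).card * (2 * Fintype.card F ^ m) := by
        rw [Finset.sum_const, smul_eq_mul]
    _ ≤ (Fintype.card F + 1) * Fintype.card F ^ m * (2 * Fintype.card F ^ m) :=
        Nat.mul_le_mul_right _ hN
    _ = 2 * (Fintype.card F + 1) * Fintype.card F ^ (2 * m) := by ring

open Classical in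
/-- the choice of the triple `(a, c, b)` for a form with a pair of nonzero discriminant -/
theorem gap_exists_good_triple (h2 : (2 : F) ≠ 0) (m : ℕ)
    (M₀ : Matrix (Fin (m + 2)) (Fin (m + 2)) F) (x y : Fin (m + 2) → F)
    (hxy : 4 * qf M₀ x * qf M₀ y - (polar (qf M₀) x y) ^ 2 ≠ 0) :
    ∃ (a c b : F) (u₀ v₀ : Fin (m + 2) → F), qf M₀ u₀ = a ∧ qf M₀ v₀ = c ∧
      polar (qf M₀) u₀ v₀ = b ∧ 4 * a * c - b ^ 2 ≠ 0 ∧
      (Finset.univ.filter (fun p : (Fin (m + 2) → F) × (Fin (m + 2) → F) =>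
        gapRel a c b (qf M₀) p.1 p.2)).card ≤
        2 * (Fintype.card F + 1) * Fintype.card F ^ (2 * m) := by
  by_cases hE : ∀ u, qf M₀ u = 0 → ∀ v, polar (qf M₀) u v = 0
  · -- case E
    have ha₁ : qf M₀ x ≠ 0 := by
      intro h0
      apply hxy
      rw [h0, hE x h0 y]
      ring
    have h0 := gap_card_zero_ge h2 (m + 2) (by omega) M₀ hE x y hxy
    rw [show m + 2 - 2 = m by omega] at h0
    have hchar : ringChar F ≠ 2 := by
      intro h
      apply h2
      have := (ringChar.spec F 2).mpr (by rw [h])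
      exact_mod_cast this
    obtain ⟨ε, hε⟩ := FiniteField.exists_nonsquare hchar
    have hε0 : ε ≠ 0 := by
      rintro rfl
      exact hε (IsSquare.zero)
    have hcl := gap_card_class_le h2 (m + 2) (by omega) M₀
      (by rw [show m + 2 - 2 = m by omega]; exact h0) (qf M₀ x) ε ha₁ hε
    rw [show m + 2 - 2 = m by omega] at hcl
    by_cases hN : (Finset.univ.filter (fun u : Fin (m + 2) → F => qf M₀ u = qf M₀ x)).card ≤
        (Fintype.card F + 1) * Fintype.card F ^ m
    · exact ⟨qf M₀ x, qf M₀ y, polar (qf M₀) x y, x, y, rfl, rfl, rfl, hxy,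
        gap_card_rel_le_A h2 m M₀ _ _ _ ha₁ hxy hN⟩
    · have hN' : (Finset.univ.filter (fun u : Fin (m + 2) → F => qf M₀ u = ε * qf M₀ x)).card ≤
          (Fintype.card F + 1) * Fintype.card F ^ m := by
        have e : 2 * (Fintype.card F + 1) * Fintype.card F ^ m =
            2 * ((Fintype.card F + 1) * Fintype.card F ^ m) := by ring
        rw [e] at hcl
        omega
      obtain ⟨s, t, hst⟩ := gap_exists_value h2 M₀ x y hxy (ε * qf M₀ x)
      have hne : ε * qf M₀ x ≠ 0 := mul_ne_zero hε0 ha₁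
      have hst0 : s ≠ 0 ∨ t ≠ 0 := by
        by_contra hcon
        rw [not_or, not_not, not_not] at hcon
        rw [hcon.1, hcon.2, zero_smul, zero_smul, add_zero, qf_zero] at hst
        exact hne hst.symm
      obtain ⟨v₁, hv₁⟩ := gap_exists_partner M₀ x y hxy s t hst0
      refine ⟨ε * qf M₀ x, qf M₀ v₁, polar (qf M₀) (s • x + t • y) v₁, s • x + t • y, v₁, hst,
        rfl, rfl, ?_, ?_⟩
      · rw [← hst]; exact hv₁
      · apply gap_card_rel_le_A h2 m M₀ _ _ _ hne _ hN'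
        rw [← hst]; exact hv₁
  · -- case H
    have hex : ∃ u, qf M₀ u = 0 ∧ ∃ v, polar (qf M₀) u v ≠ 0 := by
      by_contra hcon
      apply hE
      intro u hu v
      by_contra hv
      exact hcon ⟨u, hu, v, hv⟩
    obtain ⟨u, hu, v, hv⟩ := hex
    obtain ⟨v', hv'⟩ : ∃ v' : Fin (m + 2) → F, v' = (polar (qf M₀) u v)⁻¹ • v := ⟨_, rfl⟩
    have hp1 : polar (qf M₀) u v' = 1 := by
      rw [hv', polar_smul_right, inv_mul_cancel₀ hv]
    obtain ⟨v'', hv''⟩ : ∃ v'' : Fin (m + 2) → F, v'' = v' + (-qf M₀ v') • u := ⟨_, rfl⟩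
    have hq'' : qf M₀ v'' = 0 := by
      rw [hv'', qf_add_smul, hu, mul_zero, add_zero, polar_comm, hp1]
      ring
    have hp'' : polar (qf M₀) u v'' = 1 := by
      rw [hv'', polar_add_right, polar_smul_right, gap_polar_self, hu, hp1]
      ring
    refine ⟨0, 0, 1, u, v'', hu, hq'', hp'', by norm_num, ?_⟩
    refine le_trans (gap_card_rel_le_H m M₀) ?_
    apply Nat.mul_le_mul_right
    omega

omit [Fintype F] in
/-- the relation is transported by substitutions -/
theorem gap_rel_comp {n : ℕ} (a c b : F) (Q : (Fin n → F) → F) (A : Matrix (Fin n) (Fin n) F)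
    (u v : Fin n → F) :
    gapRel a c b (fun z => Q (A *ᵥ z)) u v ↔ gapRel a c b Q (A *ᵥ u) (A *ᵥ v) := by
  unfold gapRel
  rw [polar_comp]

open Classical in
/-- **the orbit bound**: a `GL`-stable set of quadratic forms over a finite field of odd order
containing a form of rank at least two has at least `(q^n - 1)(q^n - q)/(2(q+1))` elements -/
theorem gap_orbit_bound (h2 : (2 : F) ≠ 0) (m : ℕ) (Φ : Finset ((Fin (m + 2) → F) → F))
    (hq : ∀ Q ∈ Φ, ∃ M : Matrix (Fin (m + 2)) (Fin (m + 2)) F, Q = qf M)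
    (hstab : ∀ Q ∈ Φ, ∀ A : Matrix (Fin (m + 2)) (Fin (m + 2)) F, A.det ≠ 0 →
      (fun x => Q (A *ᵥ x)) ∈ Φ)
    (hne : ∃ Q ∈ Φ, ∃ x y, 4 * Q x * Q y - (polar Q x y) ^ 2 ≠ 0) :
    (Fintype.card F ^ (m + 2) - 1) * (Fintype.card F ^ (m + 2) - Fintype.card F) ≤
      2 * (Fintype.card F + 1) * Φ.card := by
  have hq0 : 0 < Fintype.card F := Fintype.card_pos
  have hqm : 0 < Fintype.card F ^ (2 * m) := pow_pos hq0 _
  obtain ⟨Q₀, hQ₀, x, y, hxy⟩ := hne
  obtain ⟨M₀, rfl⟩ := hq _ hQ₀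
  obtain ⟨a, c, b, u₀, v₀, hu₀, hv₀, huv₀, hd, hcard⟩ := gap_exists_good_triple h2 m M₀ x y hxy
  rw [← card_pairs (F := F) (m + 2)]
  set P := Finset.univ.filter (fun p : (Fin (m + 2) → F) × (Fin (m + 2) → F) =>
      p.1 ≠ 0 ∧ ∀ t : F, p.2 ≠ t • p.1) with hP
  set Bd := 2 * (Fintype.card F + 1) * Fintype.card F ^ (2 * m) with hBd
  set Φ' := Φ.filter (fun Q => (Finset.univ.filter
      (fun p : (Fin (m + 2) → F) × (Fin (m + 2) → F) => gapRel a c b Q p.1 p.2)).card ≤ Bd)
    with hΦ'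
  have hq' : ∀ Q ∈ Φ', ∃ M : Matrix (Fin (m + 2)) (Fin (m + 2)) F, Q = qf M :=
    fun Q hQ => hq Q (Finset.mem_filter.mp hQ).1
  have hstab' : ∀ Q ∈ Φ', ∀ A : Matrix (Fin (m + 2)) (Fin (m + 2)) F, A.det ≠ 0 →
      (fun x => Q (A *ᵥ x)) ∈ Φ' := by
    intro Q hQ A hA
    rw [hΦ', Finset.mem_filter] at hQ ⊢
    refine ⟨hstab Q hQ.1 A hA, le_trans ?_ hQ.2⟩
    apply Finset.card_le_card_of_injOn
      (fun p : (Fin (m + 2) → F) × (Fin (m + 2) → F) => (A *ᵥ p.1, A *ᵥ p.2))
    · intro p hp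
      rw [Finset.mem_coe, Finset.mem_filter] at hp ⊢
      exact ⟨Finset.mem_univ _, (gap_rel_comp a c b Q A p.1 p.2).mp hp.2⟩
    · intro p _ p' _ hpp'
      have hinj := Matrix.mulVec_injective_of_det_ne_zero hA
      have h1 : A *ᵥ p.1 = A *ᵥ p'.1 := congrArg Prod.fst hpp'
      have h2' : A *ᵥ p.2 = A *ᵥ p'.2 := congrArg Prod.snd hpp'
      exact Prod.ext (hinj h1) (hinj h2')
  have hQ₀' : qf M₀ ∈ Φ' := Finset.mem_filter.mpr ⟨hQ₀, hcard⟩
  have hd' : 4 * qf M₀ u₀ * qf M₀ v₀ - (polar (qf M₀) u₀ v₀) ^ 2 ≠ 0 := by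
    rw [hu₀, hv₀, huv₀]; exact hd
  have key := double_count Φ' P (fun Q u v => gapRel a c b Q u v)
    (Fintype.card F ^ (2 * m)) Bd
    (by
      intro p hp
      rw [hP, Finset.mem_filter] at hp
      have := gap_count_ge m Φ' hq' hstab' (qf M₀) hQ₀' u₀ v₀ hd' p.1 p.2 hp.2.1 hp.2.2
      rwa [hu₀, hv₀, huv₀] at this)
    (by
      intro Q hQ
      exact (Finset.mem_filter.mp hQ).2)
  have h3 : P.card * Fintype.card F ^ (2 * m) ≤
      (2 * (Fintype.card F + 1) * Φ.card) * Fintype.card F ^ (2 * m) := by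
    refine le_trans key ?_
    have : Φ'.card ≤ Φ.card := Finset.card_le_card (Finset.filter_subset _ _)
    calc Φ'.card * Bd ≤ Φ.card * Bd := Nat.mul_le_mul_right _ this
      _ = (2 * (Fintype.card F + 1) * Φ.card) * Fintype.card F ^ (2 * m) := by
          rw [hBd]; ring
  exact Nat.le_of_mul_le_mul_right h3 hqm

end Cfsg.Agent.S2524P
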