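import Mathlib
import Cfsg.Prelude.Def_Characters
import Cfsg.Agent.Helper24.Rep
import Cfsg.Agent.Helper7.S2333Defs
import Cfsg.Agent.Helper7.S2333Basic
import Cfsg.Agent.Helper12.WGDefs
import Cfsg.Agent.Helper13.WGGapDefs
import Cfsg.Agent.Helper13.WGGapOrb
import Cfsg.Agent.Helper19.WGGapRANK
import Cfsg.Agent.Helper18.WGSPECNAT
import Cfsg.Agent.Helper15.WGLINV

/-!
# S2524, chapter GAP: characters of small degree have a spectrum of rank at most one
-/

set_option autoImplicit false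

namespace Cfsg.Agent.S2524P

open Matrix Cfsg Cfsg.Agent.S2333P Cfsg.Agent.Helper24

variable {F : Type*} [Field F] [Fintype F]

theorem gap_two_ne_zero (hodd : Odd (Fintype.card F)) : (2 : F) ≠ 0 := by
  intro h
  have h2 : ringChar F = 2 :=
    CharP.ringChar_of_prime_eq_zero Nat.prime_two (by exact_mod_cast h)
  have h3 := FiniteField.even_card_of_char_two h2
  rw [Nat.odd_iff] at hodd
  omega

/-- **GAP** (chapter 1) -/
theorem rankLeOne_of_lt_gap (hodd : Odd (Fintype.card F)) {n : ℕ} (hn : 2 ≤ n)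
    (ψ : AddChar F ℂ) (hψ : ψ ≠ 1) (χ : ↥(symplecticGroup (Fin n) F) → ℂ)
    (hχ : IsIrrCharacter ↥(symplecticGroup (Fin n) F) χ)
    (hlt : (χ 1).re < gapR (Fintype.card F) n) : RankLeOne ψ (US n F) χ := by
  classical
  have h2 : (2 : F) ≠ 0 := gap_two_ne_zero hodd
  obtain ⟨m, rfl⟩ : ∃ m, n = m + 2 := ⟨n - 2, by omega⟩
  have hχc : IsCharacter ↥(symplecticGroup (Fin (m + 2)) F) χ :=
    IsIrrCharacter.isCharacter hχ
  have hcf : IsClassFunction ↥(symplecticGroup (Fin (m + 2)) F) χ :=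
    IsCharacter.isClassFunction hχc
  obtain ⟨k, hk, hsum⟩ := specU_nat h2 ψ hψ (US (m + 2) F) χ hχc
  intro T₀ hT₀
  by_contra hrk
  set S : Finset ↥(SymM (m + 2) F) := Finset.univ.filter (fun T => k T ≠ 0) with hS
  set Φ : Finset ((Fin (m + 2) → F) → F) := S.image (fun T => qf T.1) with hΦ
  have hkS : S.card ≤ ∑ T, k T := by
    calc S.card = ∑ _T ∈ S, 1 := by rw [Finset.sum_const, smul_eq_mul, mul_one]
      _ ≤ ∑ T ∈ S, k T := by
          apply Finset.sum_le_sum
          intro T hT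
          rw [hS, Finset.mem_filter] at hT
          exact Nat.one_le_iff_ne_zero.mpr hT.2
      _ ≤ ∑ T, k T := Finset.sum_le_sum_of_subset (Finset.subset_univ _)
  have hΦk : Φ.card ≤ ∑ T, k T := le_trans Finset.card_image_le hkS
  have hT₀S : T₀ ∈ S := by
    rw [hS, Finset.mem_filter]
    refine ⟨Finset.mem_univ _, ?_⟩
    intro h0
    apply hT₀
    rw [hk T₀, h0, Nat.cast_zero]
  have hbound : (Fintype.card F ^ (m + 2) - 1) * (Fintype.card F ^ (m + 2) - Fintype.card F) ≤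
      2 * (Fintype.card F + 1) * Φ.card := by
    apply gap_orbit_bound h2 m Φ
    · intro Q hQ
      rw [hΦ, Finset.mem_image] at hQ
      obtain ⟨T, -, rfl⟩ := hQ
      exact ⟨T.1, rfl⟩
    · intro Q hQ A hA
      rw [hΦ, Finset.mem_image] at hQ
      obtain ⟨T, hT, rfl⟩ := hQ
      rw [hS, Finset.mem_filter] at hT
      have hQeq : (fun x => qf T.1 (A *ᵥ x)) = qf (congS Aᵀ T).1 := by
        funext x
        rw [congS_val, transpose_transpose, qf_comp]
      rw [hQeq, hΦ, Finset.mem_image]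
      refine ⟨congS Aᵀ T, ?_, rfl⟩
      rw [hS, Finset.mem_filter]
      refine ⟨Finset.mem_univ _, ?_⟩
      have hinv := spec_congS ψ χ hcf Aᵀ (by rw [det_transpose]; exact hA) T
      have h1 : specU ψ (US (m + 2) F) χ (congS Aᵀ T) = specU ψ (US (m + 2) F) χ T := hinv
      rw [hk, hk] at h1
      have : k (congS Aᵀ T) = k T := by exact_mod_cast h1
      rw [this]
      exact hT.2
    · obtain ⟨u, v, huv⟩ := gap_exists_pair_of_not_rk1 h2 T₀ hrk
      exact ⟨qf T₀.1, Finset.mem_image_of_mem _ hT₀S, u, v, huv⟩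
  have hN : (Fintype.card F ^ (m + 2) - 1) * (Fintype.card F ^ (m + 2) - Fintype.card F) ≤
      2 * (Fintype.card F + 1) * ∑ T, k T :=
    le_trans hbound (Nat.mul_le_mul_left _ hΦk)
  have hre : (χ 1).re = ((∑ T, k T : ℕ) : ℝ) := by
    rw [hsum, Complex.natCast_re]
  rw [hre] at hlt
  unfold gapR at hlt
  have hpos : (0 : ℝ) < 2 * ((Fintype.card F : ℝ) + 1) := by positivity
  rw [lt_div_iff₀ hpos] at hlt
  have hNr : (((Fintype.card F ^ (m + 2) - 1 : ℕ) : ℝ)) *
      ((Fintype.card F ^ (m + 2) - Fintype.card F : ℕ) : ℝ) ≤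
      2 * ((Fintype.card F : ℝ) + 1) * ((∑ T, k T : ℕ) : ℝ) := by
    exact_mod_cast hN
  linarith

end Cfsg.Agent.S2524P
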