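import Mathlib

set_option autoImplicit false
set_option linter.style.haveILetI false
set_option linter.unusedSectionVars false
set_option linter.unusedVariables false
set_option linter.style.longLine false

/-!
# The `(2,3,5)` presentation of the alternating group of degree 5

Two elements `x, z` of a group with `x² = z⁵ = (xz)³ = 1` generate a group of order at most 60,
and such a pair is the image of a standard pair of `A₅` under a homomorphism.
-/

namespace Cfsg.Agent.Helper13.A5Pres

section Enum
variable {Γ : Type*} [Group Γ] (x z : Γ)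

variable (hx : x * x = 1) (hz : z ^ 5 = 1) (hxz : (x * z) ^ 3 = 1)

include hx in
theorem cx (w : Γ) : x * (x * w) = w := by rw [← mul_assoc, hx, one_mul]

include hz in
theorem cz (w : Γ) : z * (z * (z * (z * (z * w)))) = w := by
  have : z * (z * (z * (z * (z * w)))) = z ^ 5 * w := by
    simp only [pow_succ, pow_zero, one_mul, mul_assoc]
  rw [this, hz, one_mul]

include hxz in
theorem c3 (w : Γ) : x * (z * (x * (z * (x * (z * w))))) = w := by
  have : x * (z * (x * (z * (x * (z * w))))) = (x * z) ^ 3 * w := by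
    simp only [pow_succ, pow_zero, one_mul, mul_assoc]
  rw [this, hxz, one_mul]

include hx hz hxz in
/-- `x z x = z⁴ x z⁴`. -/
theorem R1 (w : Γ) : x * (z * (x * w)) = z * (z * (z * (z * (x * (z * (z * (z * (z * w)))))))) := by
  have h2 := c3 x z hxz (z * (z * (z * (z * (x * (z * (z * (z * (z * w)))))))))
  rw [cz z hz, cx x hx, cz z hz] at h2
  exact h2

include hx hz hxz in
/-- `x z⁴ x = z x z`. -/
theorem R2 (w : Γ) : x * (z * (z * (z * (z * (x * w))))) = z * (x * (z * w)) := by
  calc x * (z * (z * (z * (z * (x * w)))))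
      = x * (z * (z * (z * (z * (x * (x * (z * (x * (z * (x * (z * w))))))))))) := by rw [c3 x z hxz]
    _ = z * (x * (z * w)) := by rw [cx x hx, cz z hz, cx x hx]

include hx hz hxz in
/-- `x z³ x = z x z² x z`. -/
theorem I3 (w : Γ) : x * (z * (z * (z * (x * w)))) = z * (x * (z * (z * (x * (z * w))))) := by
  symm
  calc z * (x * (z * (z * (x * (z * w)))))
      = z * (x * (z * (x * (x * (z * (x * (z * w))))))) := by rw [cx x hx]
    _ = z * (x * (z * (x * (z * (z * (z * (z * (x * (z * (z * (z * (z * (z * w))))))))))))) := by rw [R1 x z hx hz hxz (z * w)]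
    _ = z * (x * (z * (x * (z * (z * (z * (z * (x * w)))))))) := by rw [cz z hz]
    _ = z * (z * (z * (z * (z * (x * (z * (z * (z * (z * (z * (z * (z * (z * (x * w)))))))))))))) := by rw [R1 x z hx hz hxz]
    _ = x * (z * (z * (z * (x * w)))) := by rw [cz z hz, cz z hz]

include hx hz hxz in
/-- `x z² x = z⁴ x z³ x z⁴`. -/
theorem I3' (w : Γ) : x * (z * (z * (x * w))) = z * (z * (z * (z * (x * (z * (z * (z * (x * (z * (z * (z * (z * w)))))))))))) := by
  rw [I3 x z hx hz hxz, cz z hz, cz z hz]

include hx hz hxz in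
/-- `x z² x z x = z⁴ x z³`. -/
theorem I4 (w : Γ) : x * (z * (z * (x * (z * (x * w))))) = z * (z * (z * (z * (x * (z * (z * (z * w))))))) := by
  calc x * (z * (z * (x * (z * (x * w)))))
      = z * (z * (z * (z * (z * (x * (z * (z * (x * (z * (x * w)))))))))) := by rw [cz z hz]
    _ = z * (z * (z * (z * (x * (z * (z * (z * (x * (x * w))))))))) := by rw [← I3 x z hx hz hxz]
    _ = z * (z * (z * (z * (x * (z * (z * (z * w))))))) := by rw [cx x hx]

include hx hz hxz in
/-- `x z² x z² x = z⁴ x z² x z⁴`. -/
theorem I5 (w : Γ) : x * (z * (z * (x * (z * (z * (x * w)))))) = z * (z * (z * (z * (x * (z * (z * (x * (z * (z * (z * (z * w))))))))))) := by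
  calc x * (z * (z * (x * (z * (z * (x * w))))))
      = x * (z * (z * (z * (z * (z * (z * (x * (z * (z * (z * (x * (z * (z * (z * (z * w))))))))))))))) := by rw [I3' x z hx hz hxz w]
    _ = x * (z * (x * (z * (z * (z * (x * (z * (z * (z * (z * w)))))))))) := by rw [cz z hz]
    _ = z * (z * (z * (z * (x * (z * (z * (z * (z * (z * (z * (z * (x * (z * (z * (z * (z * w)))))))))))))))) := by rw [R1 x z hx hz hxz]
    _ = z * (z * (z * (z * (x * (z * (z * (x * (z * (z * (z * (z * w))))))))))) := by rw [cz z hz]

include hx hz hxz in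
/-- `x z² x z⁴ x = z x z² x z²`. -/
theorem I6 (w : Γ) : x * (z * (z * (x * (z * (z * (z * (z * (x * w)))))))) = z * (x * (z * (z * (x * (z * (z * w)))))) := by
  calc x * (z * (z * (x * (z * (z * (z * (z * (x * w))))))))
      = z * (z * (z * (z * (z * (x * (z * (z * (x * (z * (z * (z * (z * (x * w))))))))))))) := by rw [cz z hz]
    _ = z * (x * (z * (z * (x * (z * (z * (x * (x * w)))))))) := by rw [← I5 x z hx hz hxz]
    _ = z * (x * (z * (z * (x * (z * (z * w)))))) := by rw [cx x hx]

include hx hz hxz in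
/-- `d z = z d z²` for `d = x z² x z³ x`. -/
theorem I7a (w : Γ) : x * (z * (z * (x * (z * (z * (z * (x * (z * w)))))))) = z * (x * (z * (z * (x * (z * (z * (z * (x * (z * (z * w)))))))))) := by
  calc x * (z * (z * (x * (z * (z * (z * (x * (z * w))))))))
      = x * (z * (z * (z * (x * (z * (z * (x * (z * (z * w))))))))) := by rw [I3 x z hx hz hxz (z * w)]
    _ = z * (x * (z * (z * (x * (z * (z * (z * (x * (z * (z * w)))))))))) := by rw [I3 x z hx hz hxz]

include hx hz hxz in
/-- `d z = z⁴ d` for `d = x z² x z³ x`. -/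
theorem I7 (w : Γ) : x * (z * (z * (x * (z * (z * (z * (x * (z * w)))))))) = z * (z * (z * (z * (x * (z * (z * (x * (z * (z * (z * (x * w))))))))))) := by
  have h := I7a x z hx hz hxz (z * (z * (z * (z * w))))
  rw [cz z hz] at h
  rw [h, cz z hz]

/-- the twelve coset representatives of `⟨z⟩`. -/
def repsL : List Γ := [1, x, x * z, x * (z * z), x * (z * (z * z)), x * (z * (z * (z * z))), x * (z * (z * x)), x * (z * (z * (x * z))), x * (z * (z * (x * (z * z)))), x * (z * (z * (x * (z * (z * z))))), x * (z * (z * (x * (z * (z * (z * z)))))), x * (z * (z * (x * (z * (z * (z * x))))))]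

include hz in
theorem cz1 : z * (z * (z * (z * z))) = 1 := by
  have := cz z hz 1
  simpa only [mul_one] using this

include hx hz hxz in
theorem stepx (c : Γ) (hc : c ∈ repsL x z) : ∃ k : ℕ, ∃ c' ∈ repsL x z, c * x = z ^ k * c' := by
  have hcz1 := cz1 z hz
  simp only [repsL, List.mem_cons, List.not_mem_nil, or_false] at hc
  rcases hc with h | h | h | h | h | h | h | h | h | h | h | h
  · rw [h]
    refine ⟨0, x, by simp [repsL], ?_⟩
    simp only [pow_succ, pow_zero, one_mul, mul_one, mul_assoc, hx, hcz1]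
  · rw [h]
    refine ⟨0, 1, by simp [repsL], ?_⟩
    simp only [pow_succ, pow_zero, one_mul, mul_one, mul_assoc, hx, hcz1]
  · rw [h]
    refine ⟨4, x * (z * (z * (z * z))), by simp [repsL], ?_⟩
    have h := R1 x z hx hz hxz 1
    simp only [mul_one] at h
    simp only [pow_succ, pow_zero, one_mul, mul_one, mul_assoc]
    exact h
  · rw [h]
    refine ⟨0, x * (z * (z * x)), by simp [repsL], ?_⟩
    simp only [pow_succ, pow_zero, one_mul, mul_one, mul_assoc, hx, hcz1]
  · rw [h]
    refine ⟨1, x * (z * (z * (x * z))), by simp [repsL], ?_⟩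
    have h := I3 x z hx hz hxz 1
    simp only [mul_one] at h
    simp only [pow_succ, pow_zero, one_mul, mul_one, mul_assoc]
    exact h
  · rw [h]
    refine ⟨1, x * z, by simp [repsL], ?_⟩
    have h := R2 x z hx hz hxz 1
    simp only [mul_one] at h
    simp only [pow_succ, pow_zero, one_mul, mul_one, mul_assoc]
    exact h
  · rw [h]
    refine ⟨0, x * (z * z), by simp [repsL], ?_⟩
    simp only [pow_succ, pow_zero, one_mul, mul_one, mul_assoc, hx, hcz1]
  · rw [h]
    refine ⟨4, x * (z * (z * z)), by simp [repsL], ?_⟩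
    have h := I4 x z hx hz hxz 1
    simp only [mul_one] at h
    simp only [pow_succ, pow_zero, one_mul, mul_one, mul_assoc]
    exact h
  · rw [h]
    refine ⟨4, x * (z * (z * (x * (z * (z * (z * z)))))), by simp [repsL], ?_⟩
    have h := I5 x z hx hz hxz 1
    simp only [mul_one] at h
    simp only [pow_succ, pow_zero, one_mul, mul_one, mul_assoc]
    exact h
  · rw [h]
    refine ⟨0, x * (z * (z * (x * (z * (z * (z * x)))))), by simp [repsL], ?_⟩
    simp only [pow_succ, pow_zero, one_mul, mul_one, mul_assoc, hx, hcz1]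
  · rw [h]
    refine ⟨1, x * (z * (z * (x * (z * z)))), by simp [repsL], ?_⟩
    have h := I6 x z hx hz hxz 1
    simp only [mul_one] at h
    simp only [pow_succ, pow_zero, one_mul, mul_one, mul_assoc]
    exact h
  · rw [h]
    refine ⟨0, x * (z * (z * (x * (z * (z * z))))), by simp [repsL], ?_⟩
    simp only [pow_succ, pow_zero, one_mul, mul_one, mul_assoc, hx, hcz1]

include hx hz hxz in
theorem stepz (c : Γ) (hc : c ∈ repsL x z) : ∃ k : ℕ, ∃ c' ∈ repsL x z, c * z = z ^ k * c' := by
  have hcz1 := cz1 z hz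
  simp only [repsL, List.mem_cons, List.not_mem_nil, or_false] at hc
  rcases hc with h | h | h | h | h | h | h | h | h | h | h | h
  · rw [h]
    refine ⟨1, 1, by simp [repsL], ?_⟩
    simp only [pow_succ, pow_zero, one_mul, mul_one, mul_assoc, hx, hcz1]
  · rw [h]
    refine ⟨0, x * z, by simp [repsL], ?_⟩
    simp only [pow_succ, pow_zero, one_mul, mul_one, mul_assoc, hx, hcz1]
  · rw [h]
    refine ⟨0, x * (z * z), by simp [repsL], ?_⟩
    simp only [pow_succ, pow_zero, one_mul, mul_one, mul_assoc, hx, hcz1]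
  · rw [h]
    refine ⟨0, x * (z * (z * z)), by simp [repsL], ?_⟩
    simp only [pow_succ, pow_zero, one_mul, mul_one, mul_assoc, hx, hcz1]
  · rw [h]
    refine ⟨0, x * (z * (z * (z * z))), by simp [repsL], ?_⟩
    simp only [pow_succ, pow_zero, one_mul, mul_one, mul_assoc, hx, hcz1]
  · rw [h]
    refine ⟨0, x, by simp [repsL], ?_⟩
    simp only [pow_succ, pow_zero, one_mul, mul_one, mul_assoc, hx, hcz1]
  · rw [h]
    refine ⟨0, x * (z * (z * (x * z))), by simp [repsL], ?_⟩
    simp only [pow_succ, pow_zero, one_mul, mul_one, mul_assoc, hx, hcz1]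
  · rw [h]
    refine ⟨0, x * (z * (z * (x * (z * z)))), by simp [repsL], ?_⟩
    simp only [pow_succ, pow_zero, one_mul, mul_one, mul_assoc, hx, hcz1]
  · rw [h]
    refine ⟨0, x * (z * (z * (x * (z * (z * z))))), by simp [repsL], ?_⟩
    simp only [pow_succ, pow_zero, one_mul, mul_one, mul_assoc, hx, hcz1]
  · rw [h]
    refine ⟨0, x * (z * (z * (x * (z * (z * (z * z)))))), by simp [repsL], ?_⟩
    simp only [pow_succ, pow_zero, one_mul, mul_one, mul_assoc, hx, hcz1]
  · rw [h]
    refine ⟨0, x * (z * (z * x)), by simp [repsL], ?_⟩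
    simp only [pow_succ, pow_zero, one_mul, mul_one, mul_assoc, hx, hcz1]
  · rw [h]
    refine ⟨4, x * (z * (z * (x * (z * (z * (z * x)))))), by simp [repsL], ?_⟩
    have h := I7 x z hx hz hxz 1
    simp only [mul_one] at h
    simp only [pow_succ, pow_zero, one_mul, mul_one, mul_assoc]
    exact h

include hx hz hxz in
/-- coset enumeration: every element of `⟨x, z⟩` is `z ^ k * c` with `c` one of twelve
representatives. -/
theorem coset_enum (g : Γ) (hg : g ∈ Subgroup.closure ({x, z} : Set Γ)) :
    ∃ k : ℕ, ∃ c ∈ repsL x z, g = z ^ k * c := by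
  have step : ∀ (g : Γ) (u : Γ), u ∈ ({x, z} : Set Γ) →
      (∃ k : ℕ, ∃ c ∈ repsL x z, g = z ^ k * c) → ∃ k : ℕ, ∃ c ∈ repsL x z, g * u = z ^ k * c := by
    rintro g u hu ⟨k, c, hc, hg⟩
    rw [hg]
    simp only [Set.mem_insert_iff, Set.mem_singleton_iff] at hu
    rcases hu with hu | hu
    · obtain ⟨k', c', hc', h⟩ := stepx x z hx hz hxz c hc
      exact ⟨k + k', c', hc', by rw [hu, mul_assoc, h, ← mul_assoc, ← pow_add]⟩
    · obtain ⟨k', c', hc', h⟩ := stepz x z hx hz hxz c hc
      exact ⟨k + k', c', hc', by rw [hu, mul_assoc, h, ← mul_assoc, ← pow_add]⟩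
  induction hg using Subgroup.closure_induction_right with
  | one => exact ⟨0, 1, by simp [repsL], by simp⟩
  | mul_right g hg u hu ih => exact step g u hu ih
  | mul_inv_cancel g hg u hu ih =>
    have hu' := hu
    simp only [Set.mem_insert_iff, Set.mem_singleton_iff] at hu'
    rcases hu' with h | h
    · have : u⁻¹ = u := by rw [h]; exact inv_eq_of_mul_eq_one_left hx
      rw [this]
      exact step g u hu ih
    · have : g * u⁻¹ = g * u * u * u * u := by
        have hi : u⁻¹ = u * u * u * u := by
          rw [h]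
          apply inv_eq_of_mul_eq_one_left
          have := cz1 z hz
          simp only [mul_assoc]
          exact this
        rw [hi]; simp only [mul_assoc]
      rw [this]
      exact step _ u hu (step _ u hu (step _ u hu (step g u hu ih)))

include hx hz hxz in
/-- the group generated by `x, z` is finite of order at most 60. -/
theorem finite_and_card_le (htop : Subgroup.closure ({x, z} : Set Γ) = ⊤) :
    Finite Γ ∧ Nat.card Γ ≤ 60 := by
  classical
  set Fs : Finset Γ := Finset.image₂ (fun (k : ℕ) (c : Γ) => z ^ k * c) (Finset.range 5)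
    (repsL x z).toFinset with hFs
  have hall : ∀ g : Γ, g ∈ Fs := by
    intro g
    obtain ⟨k, c, hc, rfl⟩ := coset_enum x z hx hz hxz g (by rw [htop]; trivial)
    rw [hFs, Finset.mem_image₂]
    refine ⟨k % 5, Finset.mem_range.mpr (Nat.mod_lt _ (by norm_num)), c, List.mem_toFinset.mpr hc, ?_⟩
    show z ^ (k % 5) * c = z ^ k * c
    rw [← pow_eq_pow_mod k hz]
  have hfin : Finite Γ := by
    have : (Set.univ : Set Γ).Finite := Fs.finite_toSet.subset (fun g _ => hall g)
    exact Set.finite_univ_iff.mp this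
  refine ⟨hfin, ?_⟩
  haveI := Fintype.ofFinite Γ
  have h1 : Nat.card Γ ≤ Fs.card := by
    rw [Nat.card_eq_fintype_card, ← Finset.card_univ]
    exact Finset.card_le_card (fun g _ => hall g)
  have h2 : Fs.card ≤ 5 * 12 := by
    refine (Finset.card_image₂_le _ _ _).trans ?_
    rw [Finset.card_range]
    exact Nat.mul_le_mul_left 5 ((List.toFinset_card_le _).trans (by simp [repsL]))
  omega

end Enum

section Present

/-- The `(2,3,5)` relations on two generators. -/
def rels : Set (FreeGroup Bool) :=
  {FreeGroup.of true * FreeGroup.of true, FreeGroup.of false ^ 5,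
    (FreeGroup.of true * FreeGroup.of false) ^ 3}

/-- The von Dyck group `D(2,3,5)` as a presented group. -/
abbrev P : Type := PresentedGroup rels

/-- The generators. -/
def px : P := PresentedGroup.of true
def pz : P := PresentedGroup.of false

theorem rel_x : px * px = 1 := by
  have h := PresentedGroup.one_of_mem (rels := rels) (x := FreeGroup.of true * FreeGroup.of true)
    (by simp [rels])
  rw [map_mul] at h
  exact h

theorem rel_z : pz ^ 5 = 1 := by
  have h := PresentedGroup.one_of_mem (rels := rels) (x := FreeGroup.of false ^ 5)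
    (by simp [rels])
  rw [map_pow] at h
  exact h

theorem rel_xz : (px * pz) ^ 3 = 1 := by
  have h := PresentedGroup.one_of_mem (rels := rels)
    (x := (FreeGroup.of true * FreeGroup.of false) ^ 3) (by simp [rels])
  rw [map_pow, map_mul] at h
  exact h

theorem closure_P : Subgroup.closure ({px, pz} : Set P) = ⊤ := by
  have h := PresentedGroup.closure_range_of rels
  have hr : Set.range (PresentedGroup.of : Bool → PresentedGroup rels) = {px, pz} := by
    ext g
    simp only [Set.mem_range, Set.mem_insert_iff, Set.mem_singleton_iff]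
    constructor
    · rintro ⟨i, rfl⟩
      cases i
      · right; rfl
      · left; rfl
    · rintro (rfl | rfl)
      · exact ⟨true, rfl⟩
      · exact ⟨false, rfl⟩
  rw [hr] at h
  exact h

instance : Finite P := (finite_and_card_le px pz rel_x rel_z rel_xz closure_P).1

theorem card_P_le : Nat.card P ≤ 60 := (finite_and_card_le px pz rel_x rel_z rel_xz closure_P).2

/-- Any `(2,3,5)` pair in a group receives a homomorphism from `P`. -/
noncomputable def toGrp {G : Type*} [Group G] (a b : G) (ha : a * a = 1) (hb : b ^ 5 = 1)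
    (hab : (a * b) ^ 3 = 1) : P →* G :=
  PresentedGroup.toGroup (f := fun i : Bool => if i then a else b) (by
    intro r hr
    simp only [rels, Set.mem_insert_iff, Set.mem_singleton_iff] at hr
    rcases hr with rfl | rfl | rfl
    · simpa using ha
    · simpa using hb
    · simpa using hab)

theorem toGrp_px {G : Type*} [Group G] (a b : G) (ha : a * a = 1) (hb : b ^ 5 = 1)
    (hab : (a * b) ^ 3 = 1) : toGrp a b ha hb hab px = a :=
  PresentedGroup.toGroup.of _

theorem toGrp_pz {G : Type*} [Group G] (a b : G) (ha : a * a = 1) (hb : b ^ 5 = 1)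
    (hab : (a * b) ^ 3 = 1) : toGrp a b ha hb hab pz = b :=
  PresentedGroup.toGroup.of _

/-- the standard involution of `A₅`. -/
def x0 : alternatingGroup (Fin 5) :=
  ⟨Equiv.swap 0 1 * Equiv.swap 2 3, Equiv.Perm.mem_alternatingGroup.mpr (by decide)⟩

/-- the standard 5-cycle of `A₅`. -/
def z0 : alternatingGroup (Fin 5) :=
  ⟨finRotate 5, Equiv.Perm.mem_alternatingGroup.mpr (by decide)⟩

theorem x0_sq : x0 * x0 = 1 := by decide
theorem z0_pow : z0 ^ 5 = 1 := by decide
theorem x0z0_pow : (x0 * z0) ^ 3 = 1 := by decide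
theorem x0_ne : x0 ≠ 1 := by decide
theorem z0_ne : z0 ≠ 1 := by decide
theorem x0z0_ne : x0 * z0 ≠ 1 := by decide

/-- The canonical map to the alternating group. -/
noncomputable def toAlt : P →* alternatingGroup (Fin 5) := toGrp x0 z0 x0_sq z0_pow x0z0_pow

theorem toAlt_px : toAlt px = x0 := toGrp_px _ _ _ _ _
theorem toAlt_pz : toAlt pz = z0 := toGrp_pz _ _ _ _ _

theorem toAlt_surjective : Function.Surjective toAlt := by
  rw [← MonoidHom.range_eq_top]
  set R := toAlt.range with hR
  have hx : x0 ∈ R := ⟨px, toAlt_px⟩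
  have hz : z0 ∈ R := ⟨pz, toAlt_pz⟩
  have hxz : x0 * z0 ∈ R := R.mul_mem hx hz
  have o2 : orderOf (⟨x0, hx⟩ : R) = 2 := by
    haveI : Fact (Nat.Prime 2) := ⟨Nat.prime_two⟩
    apply orderOf_eq_prime
    · apply Subtype.ext; rw [sq]; exact x0_sq
    · intro h; exact x0_ne (congrArg Subtype.val h)
  have o5 : orderOf (⟨z0, hz⟩ : R) = 5 := by
    haveI : Fact (Nat.Prime 5) := ⟨by norm_num⟩
    apply orderOf_eq_prime
    · apply Subtype.ext; exact z0_pow
    · intro h; exact z0_ne (congrArg Subtype.val h)
  have o3 : orderOf (⟨x0 * z0, hxz⟩ : R) = 3 := by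
    haveI : Fact (Nat.Prime 3) := ⟨Nat.prime_three⟩
    apply orderOf_eq_prime
    · apply Subtype.ext; exact x0z0_pow
    · intro h; exact x0z0_ne (congrArg Subtype.val h)
  have d2 : 2 ∣ Nat.card R := by rw [← o2]; exact orderOf_dvd_natCard _
  have d3 : 3 ∣ Nat.card R := by rw [← o3]; exact orderOf_dvd_natCard _
  have d5 : 5 ∣ Nat.card R := by
    have := orderOf_dvd_natCard (⟨z0, hz⟩ : R)
    rw [o5] at this; exact this
  have d30 : 30 ∣ Nat.card R := by
    have h6 : 6 ∣ Nat.card R := Nat.Coprime.mul_dvd_of_dvd_of_dvd (by norm_num) d2 d3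
    exact Nat.Coprime.mul_dvd_of_dvd_of_dvd (by norm_num : Nat.Coprime 6 5) h6 d5
  have hcard : Nat.card (alternatingGroup (Fin 5)) = 60 := by
    rw [Nat.card_eq_fintype_card]; decide
  have hidx := R.card_mul_index
  rw [hcard] at hidx
  obtain ⟨k, hk⟩ := d30
  have hidx2 : R.index = 1 ∨ R.index = 2 := by
    rw [hk] at hidx
    have hk0 : k ≠ 0 := by rintro rfl; simp at hidx
    have : k * R.index = 2 := by nlinarith
    have h1 : R.index ∣ 2 := Dvd.intro_left _ this
    have := (Nat.dvd_prime Nat.prime_two).mp h1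
    exact this
  rcases hidx2 with h1 | h2
  · exact Subgroup.index_eq_one.mp h1
  · exfalso
    haveI : R.Normal := Subgroup.normal_of_index_eq_two h2
    haveI := alternatingGroup.isSimpleGroup_five
    rcases (inferInstance : R.Normal).eq_bot_or_eq_top with hb | ht
    · rw [hb] at hx
      exact x0_ne (Subgroup.mem_bot.mp hx)
    · rw [ht, Subgroup.index_top] at h2
      omega

theorem toAlt_bijective : Function.Bijective toAlt := by
  apply toAlt_surjective.bijective_of_nat_card_le
  refine card_P_le.trans ?_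
  rw [Nat.card_eq_fintype_card]
  decide

/-- `P` is the alternating group of degree five. -/
noncomputable def altEquiv : P ≃* alternatingGroup (Fin 5) :=
  MulEquiv.ofBijective toAlt toAlt_bijective

/-- A `(2,3,5)` pair in a group is the image of the standard pair of `A₅`. -/
theorem exists_hom {G : Type*} [Group G] (a b : G) (ha : a * a = 1) (hb : b ^ 5 = 1)
    (hab : (a * b) ^ 3 = 1) :
    ∃ φ : alternatingGroup (Fin 5) →* G, φ x0 = a ∧ φ z0 = b := by
  refine ⟨(toGrp a b ha hb hab).comp altEquiv.symm.toMonoidHom, ?_, ?_⟩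
  · have : altEquiv.symm x0 = px := by
      rw [MulEquiv.symm_apply_eq]; exact toAlt_px.symm
    simp only [MonoidHom.comp_apply, MulEquiv.coe_toMonoidHom, this]
    exact toGrp_px a b ha hb hab
  · have : altEquiv.symm z0 = pz := by
      rw [MulEquiv.symm_apply_eq]; exact toAlt_pz.symm
    simp only [MonoidHom.comp_apply, MulEquiv.coe_toMonoidHom, this]
    exact toGrp_pz a b ha hb hab

/-- A nontrivial `(2,3,5)` pair in a group generates a copy of `A₅`. -/
theorem exists_subgroup_iso {G : Type*} [Group G] (a b : G) (ha : a * a = 1) (hb : b ^ 5 = 1)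
    (hab : (a * b) ^ 3 = 1) (hne : a ≠ 1) :
    ∃ H : Subgroup G, Nonempty (H ≃* alternatingGroup (Fin 5)) := by
  obtain ⟨φ, hφx, hφz⟩ := exists_hom a b ha hb hab
  have hinj : Function.Injective φ := by
    rw [← MonoidHom.ker_eq_bot_iff]
    haveI := alternatingGroup.isSimpleGroup_five
    rcases (inferInstance : φ.ker.Normal).eq_bot_or_eq_top with h | h
    · exact h
    · exfalso
      have : x0 ∈ φ.ker := by rw [h]; trivial
      rw [MonoidHom.mem_ker, hφx] at this
      exact hne this
  exact ⟨φ.range, ⟨(MonoidHom.ofInjective hinj).symm⟩⟩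

end Present

end Cfsg.Agent.Helper13.A5Pres
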