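import Mathlib
import Cfsg.Agent.Helper13.A5Pres
import Cfsg.Agent.S0805

set_option autoImplicit false
set_option linter.style.haveILetI false
set_option linter.unusedSectionVars false
set_option linter.unusedVariables false
set_option linter.style.longLine false

/-!
# The presentation `⟨x, y, z | x³ = y⁵ = z² = 1, z central, (xy)² = z⟩` of `SL(2,5)`
-/

namespace Cfsg.Agent.Helper13.SL25Pres

open Cfsg.Agent.Helper13.A5Pres

section Enum
variable {Γ : Type*} [Group Γ] (x y z : Γ)

/-- a group generated by `x, y, z` with `x³ = y⁵ = z² = 1`, `z` central and `(xy)² = z` has order at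
most 120. -/
theorem finite_and_card_le (hx : x ^ 3 = 1) (hy : y ^ 5 = 1) (hz : z ^ 2 = 1)
    (hzx : z * x = x * z) (hzy : z * y = y * z) (hxy : (x * y) ^ 2 = z)
    (htop : Subgroup.closure ({x, y, z} : Set Γ) = ⊤) : Finite Γ ∧ Nat.card Γ ≤ 120 := by
  classical
  -- `z` is central
  have hzc : z ∈ Subgroup.center Γ := by
    rw [Subgroup.mem_center_iff]
    intro g
    have hg : g ∈ Subgroup.closure ({x, y, z} : Set Γ) := by rw [htop]; trivial
    have : g ∈ Subgroup.centralizer ({z} : Set Γ) := by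
      revert hg
      apply (Subgroup.closure_le _).mpr
      intro u hu
      simp only [Set.mem_insert_iff, Set.mem_singleton_iff] at hu
      rw [SetLike.mem_coe, Subgroup.mem_centralizer_iff]
      intro w hw
      rw [Set.mem_singleton_iff] at hw
      rw [hw]
      rcases hu with rfl | rfl | rfl
      · exact hzx
      · exact hzy
      · rfl
    rw [Subgroup.mem_centralizer_iff] at this
    exact (this z rfl).symm
  set N : Subgroup Γ := Subgroup.zpowers z with hN
  haveI hNn : N.Normal := by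
    constructor
    intro n hn g
    have hnc : n ∈ Subgroup.center Γ := (Subgroup.zpowers_le.mpr hzc) hn
    rw [Subgroup.mem_center_iff] at hnc
    rw [hnc g, mul_inv_cancel_right]
    exact hn
  -- the quotient
  set a : Γ ⧸ N := ((x * y : Γ) : Γ ⧸ N) with ha
  set b : Γ ⧸ N := ((y⁻¹ : Γ) : Γ ⧸ N) with hb
  have hzN : ((z : Γ) : Γ ⧸ N) = 1 := (QuotientGroup.eq_one_iff z).mpr (Subgroup.mem_zpowers z)
  have haa : a * a = 1 := by
    rw [ha, ← QuotientGroup.mk_mul, ← sq, hxy, hzN]
  have hb5 : b ^ 5 = 1 := by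
    rw [hb, ← QuotientGroup.mk_pow, inv_pow, hy, inv_one, QuotientGroup.mk_one]
  have hab : (a * b) ^ 3 = 1 := by
    rw [ha, hb, ← QuotientGroup.mk_mul, ← QuotientGroup.mk_pow, mul_inv_cancel_right, hx,
      QuotientGroup.mk_one]
  have hcl : Subgroup.closure ({a, b} : Set (Γ ⧸ N)) = ⊤ := by
    rw [eq_top_iff]
    have h1 : (⊤ : Subgroup (Γ ⧸ N)) = Subgroup.map (QuotientGroup.mk' N) ⊤ := by
      rw [← MonoidHom.range_eq_map]
      exact (MonoidHom.range_eq_top.mpr (QuotientGroup.mk'_surjective N)).symm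
    rw [h1, ← htop, MonoidHom.map_closure, Subgroup.closure_le]
    rintro _ ⟨u, hu, rfl⟩
    simp only [Set.mem_insert_iff, Set.mem_singleton_iff] at hu
    have hamem : a ∈ Subgroup.closure ({a, b} : Set (Γ ⧸ N)) :=
      Subgroup.subset_closure (by simp)
    have hbmem : b ∈ Subgroup.closure ({a, b} : Set (Γ ⧸ N)) :=
      Subgroup.subset_closure (by simp)
    rcases hu with rfl | rfl | rfl
    · have : (QuotientGroup.mk' N) u = a * b := by
        rw [ha, hb, ← QuotientGroup.mk_mul, mul_inv_cancel_right]; rfl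
      rw [SetLike.mem_coe, this]
      exact Subgroup.mul_mem _ hamem hbmem
    · have : (QuotientGroup.mk' N) u = b⁻¹ := by
        rw [hb, ← QuotientGroup.mk_inv, inv_inv]; rfl
      rw [SetLike.mem_coe, this]
      exact Subgroup.inv_mem _ hbmem
    · have : (QuotientGroup.mk' N) u = 1 := hzN
      rw [SetLike.mem_coe, this]
      exact Subgroup.one_mem _
  obtain ⟨hQfin, hQcard⟩ := A5Pres.finite_and_card_le a b haa hb5 hab hcl
  have hNfin : Finite N := by
    have : orderOf z ≠ 0 := by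
      intro h0
      have := orderOf_dvd_of_pow_eq_one hz
      rw [h0] at this
      omega
    apply Nat.finite_of_card_ne_zero
    rw [hN, Nat.card_zpowers]
    exact this
  have hNcard : Nat.card N ≤ 2 := by
    rw [hN, Nat.card_zpowers]
    exact Nat.le_of_dvd (by norm_num) (orderOf_dvd_of_pow_eq_one hz)
  have hfin : Finite Γ := by
    haveI := hQfin
    haveI := hNfin
    exact Finite.of_equiv _ (Subgroup.groupEquivQuotientProdSubgroup (s := N)).symm
  refine ⟨hfin, ?_⟩
  rw [Subgroup.card_eq_card_quotient_mul_card_subgroup N]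
  calc Nat.card (Γ ⧸ N) * Nat.card N ≤ 60 * 2 := Nat.mul_le_mul hQcard hNcard
    _ = 120 := by norm_num

end Enum

section Present

/-- The relations. -/
def rels : Set (FreeGroup (Fin 3)) :=
  {FreeGroup.of (0 : Fin 3) ^ 3, FreeGroup.of (1 : Fin 3) ^ 5, FreeGroup.of (2 : Fin 3) ^ 2,
    (FreeGroup.of (2 : Fin 3))⁻¹ * FreeGroup.of 0 * FreeGroup.of 2 * (FreeGroup.of (0 : Fin 3))⁻¹,
    (FreeGroup.of (2 : Fin 3))⁻¹ * FreeGroup.of 1 * FreeGroup.of 2 * (FreeGroup.of (1 : Fin 3))⁻¹,
    (FreeGroup.of (0 : Fin 3) * FreeGroup.of 1) ^ 2 * (FreeGroup.of (2 : Fin 3))⁻¹}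

/-- The presented group. -/
abbrev P : Type := PresentedGroup rels

/-- The generators. -/
def gx : P := PresentedGroup.of 0
def gy : P := PresentedGroup.of 1
def gz : P := PresentedGroup.of 2

theorem rel_x : gx ^ 3 = 1 := by
  have h := PresentedGroup.one_of_mem (rels := rels) (x := FreeGroup.of (0 : Fin 3) ^ 3)
    (by simp [rels])
  rw [map_pow] at h
  exact h

theorem rel_y : gy ^ 5 = 1 := by
  have h := PresentedGroup.one_of_mem (rels := rels) (x := FreeGroup.of (1 : Fin 3) ^ 5)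
    (by simp [rels])
  rw [map_pow] at h
  exact h

theorem rel_z : gz ^ 2 = 1 := by
  have h := PresentedGroup.one_of_mem (rels := rels) (x := FreeGroup.of (2 : Fin 3) ^ 2)
    (by simp [rels])
  rw [map_pow] at h
  exact h

theorem rel_zx : gz * gx = gx * gz := by
  have h := PresentedGroup.one_of_mem (rels := rels)
    (x := (FreeGroup.of (2 : Fin 3))⁻¹ * FreeGroup.of 0 * FreeGroup.of 2 *
      (FreeGroup.of (0 : Fin 3))⁻¹) (by simp [rels])
  rw [map_mul, map_inv, mul_inv_eq_one] at h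
  simp only [map_mul, map_inv] at h
  have h' : (gz)⁻¹ * gx * gz = gx := h
  calc gz * gx = gz * ((gz)⁻¹ * gx * gz) := by rw [h']
    _ = gx * gz := by simp only [mul_assoc, mul_inv_cancel_left]

theorem rel_zy : gz * gy = gy * gz := by
  have h := PresentedGroup.one_of_mem (rels := rels)
    (x := (FreeGroup.of (2 : Fin 3))⁻¹ * FreeGroup.of 1 * FreeGroup.of 2 *
      (FreeGroup.of (1 : Fin 3))⁻¹) (by simp [rels])
  rw [map_mul, map_inv, mul_inv_eq_one] at h
  simp only [map_mul, map_inv] at h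
  have h' : (gz)⁻¹ * gy * gz = gy := h
  calc gz * gy = gz * ((gz)⁻¹ * gy * gz) := by rw [h']
    _ = gy * gz := by simp only [mul_assoc, mul_inv_cancel_left]

theorem rel_xy : (gx * gy) ^ 2 = gz := by
  have h := PresentedGroup.one_of_mem (rels := rels)
    (x := (FreeGroup.of (0 : Fin 3) * FreeGroup.of 1) ^ 2 * (FreeGroup.of (2 : Fin 3))⁻¹)
    (by simp [rels])
  rw [map_mul, map_inv, mul_inv_eq_one, map_pow, map_mul] at h
  exact h

theorem closure_P : Subgroup.closure ({gx, gy, gz} : Set P) = ⊤ := by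
  have h := PresentedGroup.closure_range_of rels
  have hr : Set.range (PresentedGroup.of : Fin 3 → PresentedGroup rels) = {gx, gy, gz} := by
    ext g
    simp only [Set.mem_range, Set.mem_insert_iff, Set.mem_singleton_iff]
    constructor
    · rintro ⟨i, rfl⟩
      fin_cases i
      · left; rfl
      · right; left; rfl
      · right; right; rfl
    · rintro (rfl | rfl | rfl)
      · exact ⟨0, rfl⟩
      · exact ⟨1, rfl⟩
      · exact ⟨2, rfl⟩
  rw [hr] at h
  exact h

instance : Finite P :=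
  (finite_and_card_le gx gy gz rel_x rel_y rel_z rel_zx rel_zy rel_xy closure_P).1

theorem card_P_le : Nat.card P ≤ 120 :=
  (finite_and_card_le gx gy gz rel_x rel_y rel_z rel_zx rel_zy rel_xy closure_P).2

/-- Any triple satisfying the relations receives a homomorphism from `P`. -/
noncomputable def toGrp {G : Type*} [Group G] (x y z : G) (hx : x ^ 3 = 1) (hy : y ^ 5 = 1)
    (hz : z ^ 2 = 1) (hzx : z * x = x * z) (hzy : z * y = y * z) (hxy : (x * y) ^ 2 = z) :
    P →* G :=
  PresentedGroup.toGroup (f := ![x, y, z]) (by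
    intro r hr
    simp only [rels, Set.mem_insert_iff, Set.mem_singleton_iff] at hr
    rcases hr with rfl | rfl | rfl | rfl | rfl | rfl
    · simpa using hx
    · simpa using hy
    · simpa using hz
    · simp only [map_mul, map_inv, FreeGroup.lift_apply_of, mul_inv_eq_one]
      show z⁻¹ * x * z = x
      rw [mul_assoc, ← hzx, inv_mul_cancel_left]
    · simp only [map_mul, map_inv, FreeGroup.lift_apply_of, mul_inv_eq_one]
      show z⁻¹ * y * z = y
      rw [mul_assoc, ← hzy, inv_mul_cancel_left]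
    · simp only [map_mul, map_inv, map_pow, FreeGroup.lift_apply_of, mul_inv_eq_one]
      exact hxy)

theorem toGrp_gx {G : Type*} [Group G] (x y z : G) (hx : x ^ 3 = 1) (hy : y ^ 5 = 1)
    (hz : z ^ 2 = 1) (hzx : z * x = x * z) (hzy : z * y = y * z) (hxy : (x * y) ^ 2 = z) :
    toGrp x y z hx hy hz hzx hzy hxy gx = x := PresentedGroup.toGroup.of _

theorem toGrp_gy {G : Type*} [Group G] (x y z : G) (hx : x ^ 3 = 1) (hy : y ^ 5 = 1)
    (hz : z ^ 2 = 1) (hzx : z * x = x * z) (hzy : z * y = y * z) (hxy : (x * y) ^ 2 = z) :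
    toGrp x y z hx hy hz hzx hzy hxy gy = y := PresentedGroup.toGroup.of _

theorem toGrp_gz {G : Type*} [Group G] (x y z : G) (hx : x ^ 3 = 1) (hy : y ^ 5 = 1)
    (hz : z ^ 2 = 1) (hzx : z * x = x * z) (hzy : z * y = y * z) (hxy : (x * y) ^ 2 = z) :
    toGrp x y z hx hy hz hzx hzy hxy gz = z := PresentedGroup.toGroup.of _

/-- the standard generators of `SL(2,5)`. -/
def X0 : Matrix.SpecialLinearGroup (Fin 2) (ZMod 5) := ⟨!![0, 4; 1, 4], by decide⟩
def Y0 : Matrix.SpecialLinearGroup (Fin 2) (ZMod 5) := ⟨!![1, 1; 0, 1], by decide⟩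
def Z0 : Matrix.SpecialLinearGroup (Fin 2) (ZMod 5) := ⟨!![4, 0; 0, 4], by decide⟩

theorem X0_pow : X0 ^ 3 = 1 := by decide
theorem Y0_pow : Y0 ^ 5 = 1 := by decide
theorem Z0_pow : Z0 ^ 2 = 1 := by decide
theorem Z0_X0 : Z0 * X0 = X0 * Z0 := by decide
theorem Z0_Y0 : Z0 * Y0 = Y0 * Z0 := by decide
theorem X0_Y0 : (X0 * Y0) ^ 2 = Z0 := by decide
theorem Z0_ne : Z0 ≠ 1 := by decide

/-- the canonical map to `SL(2,5)`. -/
noncomputable def toSL : P →* Matrix.SpecialLinearGroup (Fin 2) (ZMod 5) :=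
  toGrp X0 Y0 Z0 X0_pow Y0_pow Z0_pow Z0_X0 Z0_Y0 X0_Y0

theorem toSL_gx : toSL gx = X0 := toGrp_gx _ _ _ _ _ _ _ _ _
theorem toSL_gy : toSL gy = Y0 := toGrp_gy _ _ _ _ _ _ _ _ _
theorem toSL_gz : toSL gz = Z0 := toGrp_gz _ _ _ _ _ _ _ _ _

theorem closure_x0_z0 : Subgroup.closure ({A5Pres.x0, A5Pres.z0} : Set (alternatingGroup (Fin 5))) = ⊤ := by
  have h1 : (⊤ : Subgroup (alternatingGroup (Fin 5))) = Subgroup.map A5Pres.toAlt ⊤ := by
    rw [← MonoidHom.range_eq_map]
    exact (MonoidHom.range_eq_top.mpr A5Pres.toAlt_surjective).symm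
  rw [h1, ← A5Pres.closure_P, MonoidHom.map_closure]
  congr 1
  ext g
  simp only [Set.mem_image, Set.mem_insert_iff, Set.mem_singleton_iff]
  constructor
  · rintro (rfl | rfl)
    · exact ⟨A5Pres.px, Or.inl rfl, A5Pres.toAlt_px⟩
    · exact ⟨A5Pres.pz, Or.inr rfl, A5Pres.toAlt_pz⟩
  · rintro ⟨u, (rfl | rfl), rfl⟩
    · left; exact A5Pres.toAlt_px
    · right; exact A5Pres.toAlt_pz

theorem card_SL25 : Nat.card (Matrix.SpecialLinearGroup (Fin 2) (ZMod 5)) = 120 := by
  haveI : Fact (Nat.Prime 5) := ⟨by norm_num⟩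
  have h := Cfsg.Agent.S0805.card_SL2 (K := ZMod 5)
  rw [ZMod.card] at h
  exact h

theorem toSL_surjective : Function.Surjective toSL := by
  classical
  rw [← MonoidHom.range_eq_top]
  set R := toSL.range with hR
  set π := QuotientGroup.mk' (Subgroup.center (Matrix.SpecialLinearGroup (Fin 2) (ZMod 5))) with hπ
  have hX : X0 ∈ R := ⟨gx, toSL_gx⟩
  have hY : Y0 ∈ R := ⟨gy, toSL_gy⟩
  have hZ : Z0 ∈ R := ⟨gz, toSL_gz⟩
  -- the images in `PSL`
  have hZc : π Z0 = 1 := by
    rw [hπ, QuotientGroup.mk'_apply, QuotientGroup.eq_one_iff,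
      Matrix.SpecialLinearGroup.mem_center_iff]
    exact ⟨4, by decide, by decide⟩
  have haa : π (X0 * Y0) * π (X0 * Y0) = 1 := by
    rw [← map_mul, ← sq, X0_Y0, hZc]
  have hb5 : π (Y0⁻¹) ^ 5 = 1 := by
    rw [← map_pow, inv_pow, Y0_pow, inv_one, map_one]
  have hab : (π (X0 * Y0) * π (Y0⁻¹)) ^ 3 = 1 := by
    rw [← map_mul, ← map_pow, mul_inv_cancel_right, X0_pow, map_one]
  have hne : π (X0 * Y0) ≠ 1 := by
    rw [hπ, QuotientGroup.mk'_apply, Ne, QuotientGroup.eq_one_iff,
      Matrix.SpecialLinearGroup.mem_center_iff]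
    rintro ⟨r, -, hr⟩
    have h01 := congrFun (congrFun hr 0) 1
    have h01' : ((X0 * Y0 : Matrix.SpecialLinearGroup (Fin 2) (ZMod 5)) :
        Matrix (Fin 2) (Fin 2) (ZMod 5)) 0 1 = 4 := by decide
    rw [h01'] at h01
    simp [Matrix.scalar_apply] at h01
    exact absurd h01 (by decide)
  obtain ⟨φ, hφx, hφz⟩ := A5Pres.exists_hom _ _ haa hb5 hab
  have hinj : Function.Injective φ := by
    rw [← MonoidHom.ker_eq_bot_iff]
    haveI := alternatingGroup.isSimpleGroup_five
    rcases (inferInstance : φ.ker.Normal).eq_bot_or_eq_top with h | h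
    · exact h
    · exfalso
      have : A5Pres.x0 ∈ φ.ker := by rw [h]; trivial
      rw [MonoidHom.mem_ker, hφx] at this
      exact hne this
  -- `φ.range ≤ π(R)`
  have hle : φ.range ≤ R.map π := by
    rw [MonoidHom.range_eq_map, ← closure_x0_z0, MonoidHom.map_closure, Subgroup.closure_le]
    rintro _ ⟨u, hu, rfl⟩
    simp only [Set.mem_insert_iff, Set.mem_singleton_iff] at hu
    rcases hu with rfl | rfl
    · rw [SetLike.mem_coe, hφx]
      exact ⟨X0 * Y0, R.mul_mem hX hY, rfl⟩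
    · rw [SetLike.mem_coe, hφz]
      exact ⟨Y0⁻¹, R.inv_mem hY, rfl⟩
  have h60 : 60 ≤ Nat.card (R.map π) := by
    have h1 : Nat.card φ.range = 60 := by
      rw [← Nat.card_congr (MonoidHom.ofInjective hinj).toEquiv, Nat.card_eq_fintype_card]
      decide
    rw [← h1]
    exact Subgroup.card_le_of_le hle
  -- the restriction of `π` to `R`
  set ρ : R →* _ := π.comp R.subtype with hρ
  have hrange : ρ.range = R.map π := by
    rw [hρ, MonoidHom.range_comp, Subgroup.range_subtype]
  have hker : 2 ≤ Nat.card ρ.ker := by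
    have h1 : (⟨Z0, hZ⟩ : R) ∈ ρ.ker := by
      rw [MonoidHom.mem_ker]; exact hZc
    have h2 : (⟨Z0, hZ⟩ : R) ≠ 1 := fun h => Z0_ne (congrArg Subtype.val h)
    have : 1 < Nat.card ρ.ker := by
      rw [Finite.one_lt_card_iff_nontrivial]
      exact ⟨⟨⟨⟨Z0, hZ⟩, h1⟩, 1, fun h => h2 (congrArg Subtype.val h)⟩⟩
    omega
  have hRcard : 120 ≤ Nat.card R := by
    rw [Subgroup.card_eq_card_quotient_mul_card_subgroup ρ.ker,
      Nat.card_congr (QuotientGroup.quotientKerEquivRange ρ).toEquiv, hrange]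
    calc 120 = 60 * 2 := by norm_num
      _ ≤ _ := Nat.mul_le_mul h60 hker
  apply Subgroup.eq_top_of_card_eq
  have := Subgroup.card_le_card_group R
  rw [card_SL25] at this ⊢
  omega

theorem toSL_bijective : Function.Bijective toSL := by
  apply toSL_surjective.bijective_of_nat_card_le
  rw [card_SL25]
  exact card_P_le

/-- `P` is `SL(2,5)`. -/
noncomputable def slEquiv : P ≃* Matrix.SpecialLinearGroup (Fin 2) (ZMod 5) :=
  MulEquiv.ofBijective toSL toSL_bijective

theorem card_P : Nat.card P = 120 := by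
  rw [Nat.card_congr slEquiv.toEquiv, card_SL25]

end Present

end Cfsg.Agent.Helper13.SL25Pres
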