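import Mathlib
import Cfsg.Agent.Helper13.A5Pres
import Cfsg.Agent.Helper13.SL25Pres

set_option autoImplicit false
set_option linter.style.haveILetI false

/-!
# Counting subgroups isomorphic to `A₅` via `(2,3,5)`-generating pairs

A pair `(x, z)` of a group with `x² = 1 ≠ x`, `z⁵ = 1`, `(xz)³ = 1` generates a subgroup
isomorphic to `A₅`, and every subgroup isomorphic to `A₅` contains exactly `120` such pairs.
-/

namespace Cfsg.Agent.Helper13.A5Count

open scoped Pointwise

abbrev A5 := alternatingGroup (Fin 5)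

section defs
variable {G : Type*} [Group G]

/-- `(2,3,5)`-pairs. -/
def IsPair (p : G × G) : Prop :=
  p.1 * p.1 = 1 ∧ p.1 ≠ 1 ∧ p.2 ^ 5 = 1 ∧ (p.1 * p.2) ^ 3 = 1

instance [DecidableEq G] : DecidablePred (IsPair (G := G)) := fun p =>
  inferInstanceAs (Decidable (p.1 * p.1 = 1 ∧ p.1 ≠ 1 ∧ p.2 ^ 5 = 1 ∧ (p.1 * p.2) ^ 3 = 1))

theorem isPair_map {G' : Type*} [Group G'] (e : G →* G') (he : Function.Injective e) (p : G × G) :
    IsPair (e p.1, e p.2) ↔ IsPair p := by
  unfold IsPair
  simp only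
  rw [← map_mul, ← map_pow, ← map_mul, ← map_pow, ← map_one e, he.eq_iff, he.eq_iff, he.eq_iff,
    he.ne_iff]

/-- transport of pairs along an isomorphism. -/
def pairsCongr {G' : Type*} [Group G'] (e : G ≃* G') :
    {p : G × G // IsPair p} ≃ {p : G' × G' // IsPair p} :=
  (Equiv.prodCongr e.toEquiv e.toEquiv).subtypeEquiv (fun p =>
    (isPair_map e.toMonoidHom e.injective p).symm)

end defs

set_option maxRecDepth 100000 in
theorem card_pairs_A5_aux : Fintype.card {p : A5 × A5 //
    p.1 * p.1 = 1 ∧ p.1 ≠ 1 ∧ p.2 ^ 5 = 1 ∧ (p.1 * p.2) ^ 3 = 1} = 120 := by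
  decide +kernel

theorem card_pairs_A5 : Nat.card {p : A5 × A5 // IsPair p} = 120 := by
  rw [Nat.card_eq_fintype_card]
  exact card_pairs_A5_aux

section main
variable {G : Type*} [Group G]

theorem closure_iso (p : G × G) (hp : IsPair p) :
    Nonempty (Subgroup.closure ({p.1, p.2} : Set G) ≃* A5) := by
  obtain ⟨h1, h2, h3, h4⟩ := hp
  obtain ⟨φ, hφx, hφz⟩ := A5Pres.exists_hom p.1 p.2 h1 h3 h4
  have hinj : Function.Injective φ := by
    rw [← MonoidHom.ker_eq_bot_iff]
    haveI := alternatingGroup.isSimpleGroup_five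
    rcases (inferInstance : φ.ker.Normal).eq_bot_or_eq_top with h | h
    · exact h
    · exfalso
      have : A5Pres.x0 ∈ φ.ker := by rw [h]; trivial
      rw [MonoidHom.mem_ker, hφx] at this
      exact h2 this
  have hrange : φ.range = Subgroup.closure ({p.1, p.2} : Set G) := by
    rw [MonoidHom.range_eq_map, ← SL25Pres.closure_x0_z0, MonoidHom.map_closure, Set.image_pair,
      hφx, hφz]
  rw [← hrange]
  exact ⟨(MonoidHom.ofInjective hinj).symm⟩

theorem card_of_iso (L : Subgroup G) (hL : Nonempty (L ≃* A5)) : Nat.card L = 60 := by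
  obtain ⟨e⟩ := hL
  rw [Nat.card_congr e.toEquiv, Nat.card_eq_fintype_card]
  decide

theorem closure_eq (L : Subgroup G) (hL : Nonempty (L ≃* A5)) (p : G × G) (hp : IsPair p)
    (h1 : p.1 ∈ L) (h2 : p.2 ∈ L) : Subgroup.closure ({p.1, p.2} : Set G) = L := by
  have hle : Subgroup.closure ({p.1, p.2} : Set G) ≤ L := by
    rw [Subgroup.closure_le]
    intro x hx
    simp only [Set.mem_insert_iff, Set.mem_singleton_iff] at hx
    rcases hx with rfl | rfl
    · exact h1
    · exact h2
  haveI : Finite L := by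
    obtain ⟨e⟩ := hL
    exact Finite.of_equiv _ e.symm.toEquiv
  apply Subgroup.eq_of_le_of_card_ge hle
  rw [card_of_iso L hL, card_of_iso _ (closure_iso p hp)]

/-- the pairs inside a subgroup. -/
def pairsSubgroup (L : Subgroup G) :
    {q : L × L // IsPair q} ≃ {p : G × G // IsPair p ∧ p.1 ∈ L ∧ p.2 ∈ L} where
  toFun q := ⟨(q.1.1.1, q.1.2.1),
    (isPair_map L.subtype L.subtype_injective q.1).mpr q.2, q.1.1.2, q.1.2.2⟩
  invFun p := ⟨(⟨p.1.1, p.2.2.1⟩, ⟨p.1.2, p.2.2.2⟩),
    (isPair_map L.subtype L.subtype_injective (⟨p.1.1, p.2.2.1⟩, ⟨p.1.2, p.2.2.2⟩)).mp p.2.1⟩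
  left_inv q := rfl
  right_inv p := rfl

theorem card_pairs_in (L : Subgroup G) (hL : Nonempty (L ≃* A5)) :
    Nat.card {p : G × G // IsPair p ∧ p.1 ∈ L ∧ p.2 ∈ L} = 120 := by
  obtain ⟨e⟩ := hL
  rw [← Nat.card_congr (pairsSubgroup L), Nat.card_congr (pairsCongr e), card_pairs_A5]

variable [Finite G]

/-- the subgroup generated by a pair, as an element of the set of `A₅`-subgroups. -/
noncomputable def gen (p : {p : G × G // IsPair p}) :
    {L : Subgroup G // Nonempty (L ≃* A5)} :=
  ⟨Subgroup.closure ({p.1.1, p.1.2} : Set G), closure_iso p.1 p.2⟩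

theorem card_pairs :
    Nat.card {p : G × G // IsPair p} =
      120 * Nat.card {L : Subgroup G // Nonempty (L ≃* A5)} := by
  classical
  haveI : Fintype {L : Subgroup G // Nonempty (L ≃* A5)} := Fintype.ofFinite _
  rw [← Nat.card_congr (Equiv.sigmaFiberEquiv (gen (G := G))), Nat.card_sigma]
  have hfib : ∀ L : {L : Subgroup G // Nonempty (L ≃* A5)},
      Nat.card {p : {p : G × G // IsPair p} // gen p = L} = 120 := by
    intro L
    rw [← card_pairs_in L.1 L.2]
    apply Nat.card_congr
    refine ⟨fun p => ⟨p.1.1, p.1.2, ?_, ?_⟩, fun q => ⟨⟨q.1, q.2.1⟩, ?_⟩, fun p => rfl, fun q => rfl⟩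
    · have := congrArg Subtype.val p.2
      simp only [gen] at this
      rw [← this]
      exact Subgroup.subset_closure (Set.mem_insert _ _)
    · have := congrArg Subtype.val p.2
      simp only [gen] at this
      rw [← this]
      exact Subgroup.subset_closure (Set.mem_insert_of_mem _ rfl)
    · apply Subtype.ext
      exact closure_eq L.1 L.2 q.1 q.2.1 q.2.2.1 q.2.2.2
  rw [Finset.sum_congr rfl (fun L _ => hfib L), Finset.sum_const, Finset.card_univ, smul_eq_mul,
    mul_comm, Nat.card_eq_fintype_card]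

end main

section classes
variable {G : Type*} [Group G] [Finite G]

theorem card_A5 (hP : Nat.card {p : G × G // IsPair p} = 2640) :
    Nat.card {L : Subgroup G // Nonempty (L ≃* A5)} = 22 := by
  have := card_pairs (G := G)
  omega

theorem not_normal (hG : Nat.card G = 660) (hP : Nat.card {p : G × G // IsPair p} = 2640)
    (L : Subgroup G) (hL : Nonempty (L ≃* A5)) : ¬ L.Normal := by
  intro hn
  have hq : Nat.card (G ⧸ L) = 11 := by
    have := Subgroup.card_eq_card_quotient_mul_card_subgroup L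
    rw [hG, card_of_iso L hL] at this
    omega
  have key : ∀ x : G, ∀ n : ℕ, Nat.gcd n 11 = 1 → x ^ n = 1 → x ∈ L := by
    intro x n hn hx
    rw [← QuotientGroup.eq_one_iff]
    have h1 : (x : G ⧸ L) ^ n = 1 := by rw [← QuotientGroup.mk_pow, hx]; rfl
    have h2 : (x : G ⧸ L) ^ 11 = 1 := by rw [← hq]; exact pow_card_eq_one'
    have := pow_gcd_eq_one.mpr ⟨h1, h2⟩
    rwa [hn, pow_one] at this
  have hall : ∀ p : G × G, IsPair p → p.1 ∈ L ∧ p.2 ∈ L := by
    intro p hp
    exact ⟨key p.1 2 (by norm_num) (by rw [pow_two]; exact hp.1),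
      key p.2 5 (by norm_num) hp.2.2.1⟩
  have : Nat.card {p : G × G // IsPair p} = 120 := by
    rw [← card_pairs_in L hL]
    apply Nat.card_congr
    exact Equiv.subtypeEquivRight (fun p => ⟨fun h => ⟨h, hall p h⟩, fun h => h.1⟩)
  omega

/-- the conjugacy class of a subgroup. -/
def orb (L : Subgroup G) : Set (Subgroup G) := Set.range (fun g : G => MulAut.conj g • L)

theorem conj_smul_eq_iff (L : Subgroup G) (g h : G) :
    MulAut.conj g • L = MulAut.conj h • L ↔ g⁻¹ * h ∈ Subgroup.normalizer (L : Set G) := by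
  rw [Subgroup.mem_normalizer_iff_map_conj_eq, map_mul, map_inv]
  constructor
  · intro e
    have : L = (MulAut.conj g)⁻¹ • MulAut.conj h • L := by
      rw [← e, inv_smul_smul]
    rw [smul_smul] at this
    exact this.symm
  · intro e
    have : ((MulAut.conj g)⁻¹ * MulAut.conj h) • L = L := e
    rw [← smul_smul, inv_smul_eq_iff] at this
    exact this.symm

theorem card_orb (L : Subgroup G) :
    Nat.card (orb L) = (Subgroup.normalizer (L : Set G)).index := by
  rw [Subgroup.index, eq_comm]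
  apply Nat.card_congr
  refine Equiv.ofBijective (fun q => Quotient.liftOn' q (fun g => (⟨MulAut.conj g • L, g, rfl⟩ : orb L))
    ?_) ⟨?_, ?_⟩
  · intro a b hab
    rw [QuotientGroup.leftRel_apply] at hab
    apply Subtype.ext
    exact (conj_smul_eq_iff L a b).mpr hab
  · intro q1 q2
    induction q1 using Quotient.inductionOn' with
    | h a =>
      induction q2 using Quotient.inductionOn' with
      | h b =>
        intro h
        apply Quotient.sound'
        rw [QuotientGroup.leftRel_apply]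
        exact (conj_smul_eq_iff L a b).mp (congrArg Subtype.val h)
  · rintro ⟨_, g, rfl⟩
    exact ⟨Quotient.mk'' g, rfl⟩

theorem index_normalizer (hG : Nat.card G = 660)
    (hP : Nat.card {p : G × G // IsPair p} = 2640)
    (L : Subgroup G) (hL : Nonempty (L ≃* A5)) :
    (Subgroup.normalizer (L : Set G)).index = 11 := by
  have h1 : Nat.card L ∣ Nat.card (Subgroup.normalizer (L : Set G)) :=
    Subgroup.card_dvd_of_le Subgroup.le_normalizer
  have h2 := Subgroup.card_mul_index (Subgroup.normalizer (L : Set G))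
  rw [hG] at h2
  rw [card_of_iso L hL] at h1
  obtain ⟨k, hk⟩ := h1
  rw [hk] at h2
  have h3 : k * (Subgroup.normalizer (L : Set G)).index = 11 := by nlinarith
  have h4 : (Subgroup.normalizer (L : Set G)).index ∣ 11 := Dvd.intro_left _ h3
  rcases (Nat.dvd_prime (by norm_num : Nat.Prime 11)).mp h4 with h5 | h5
  · exfalso
    rw [Subgroup.index_eq_one, Subgroup.normalizer_eq_top_iff] at h5
    exact not_normal hG hP L hL h5
  · exact h5

theorem orb_subset (L : Subgroup G) (hL : Nonempty (L ≃* A5)) :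
    orb L ⊆ {M : Subgroup G | Nonempty (M ≃* A5)} := by
  rintro _ ⟨g, rfl⟩
  obtain ⟨e⟩ := hL
  exact ⟨(Subgroup.equivSMul (MulAut.conj g) L).symm.trans e⟩

theorem two_classes (hG : Nat.card G = 660)
    (hP : Nat.card {p : G × G // IsPair p} = 2640) :
    Nat.card {H : Subgroup G // Nonempty (H ≃* A5)} = 22 ∧
    ∃ H K : Subgroup G, Nonempty (H ≃* A5) ∧ Nonempty (K ≃* A5) ∧
      (∀ g : G, MulAut.conj g • H ≠ K) ∧
      ∀ L : Subgroup G, Nonempty (L ≃* A5) →
        ∃ g : G, MulAut.conj g • L = H ∨ MulAut.conj g • L = K := by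
  have h22 := card_A5 hP
  refine ⟨h22, ?_⟩
  set A : Set (Subgroup G) := {M : Subgroup G | Nonempty (M ≃* A5)} with hA
  have hAcard : A.ncard = 22 := by
    rw [← Nat.card_coe_set_eq]
    exact h22
  have hne : A.Nonempty := by
    rw [← Set.ncard_pos, hAcard]
    norm_num
  obtain ⟨H, hH⟩ := hne
  have horb : ∀ L ∈ A, (orb L).ncard = 11 := by
    intro L hL
    rw [← Nat.card_coe_set_eq, card_orb, index_normalizer hG hP L hL]
  obtain ⟨K, hK, hKH⟩ := Set.exists_mem_notMem_of_ncard_lt_ncard
    (s := orb H) (t := A) (by rw [horb H hH, hAcard]; norm_num)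
  have hdisj : Disjoint (orb H) (orb K) := by
    rw [Set.disjoint_left]
    rintro _ ⟨a, rfl⟩ ⟨b, hb⟩
    apply hKH
    refine ⟨b⁻¹ * a, ?_⟩
    have hb' : MulAut.conj b • K = MulAut.conj a • H := hb
    change MulAut.conj (b⁻¹ * a) • H = K
    rw [map_mul, map_inv, ← smul_smul, ← hb', inv_smul_smul]
  have hunion : orb H ∪ orb K = A := by
    apply Set.eq_of_subset_of_ncard_le
    · exact Set.union_subset (orb_subset H hH) (orb_subset K hK)
    · rw [Set.ncard_union_eq hdisj, horb H hH, horb K hK, hAcard]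
    · exact Set.toFinite A
  refine ⟨H, K, hH, hK, ?_, ?_⟩
  · intro g hg
    exact hKH ⟨g, hg⟩
  · intro L hL
    have hL' : L ∈ orb H ∪ orb K := by rw [hunion]; exact hL
    rcases hL' with ⟨g, hg⟩ | ⟨g, hg⟩
    · refine ⟨g⁻¹, Or.inl ?_⟩
      rw [← hg]
      change MulAut.conj g⁻¹ • MulAut.conj g • H = H
      rw [map_inv, inv_smul_smul]
    · refine ⟨g⁻¹, Or.inr ?_⟩
      rw [← hg]
      change MulAut.conj g⁻¹ • MulAut.conj g • K = K
      rw [map_inv, inv_smul_smul]

end classes

end Cfsg.Agent.Helper13.A5Count
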