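import Mathlib
import Cfsg.Prelude.Def_LieExceptional
import Cfsg.Prelude.Def_Involutions
import Cfsg.Agent.Helper18.AIDefs
import Cfsg.Agent.Helper29.CTGEO

set_option autoImplicit false

/-! # S2202 piece GEO1 (for helper18): the action on the cosets of `N_G(T)`. -/

namespace Cfsg.Agent.Helper13.AI

open Cfsg Cfsg.Agent.Helper18.AI Cfsg.Agent.Helper18.CT Cfsg.Agent.Helper29.CT MulAction

variable {G : Type*} [Group G]

/-- `N_G(T)` normalizes `C_G(T)` (membership form). -/
theorem conj_mem_centralizer_of_mem_normalizer (S : Subgroup G) {n y : G}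
    (hn : n ∈ Subgroup.normalizer (S : Set G))
    (hy : y ∈ Subgroup.centralizer (S : Set G)) :
    n * y * n⁻¹ ∈ Subgroup.centralizer (S : Set G) := by
  rw [Subgroup.mem_centralizer_iff]
  intro t ht
  have ht' : n⁻¹ * t * n ∈ S := by
    have hn' : n⁻¹ ∈ Subgroup.normalizer (S : Set G) := Subgroup.inv_mem _ hn
    have := (Subgroup.mem_normalizer_iff.mp hn' t).mp ht
    simpa using this
  have hc := (Subgroup.mem_centralizer_iff.mp hy) (n⁻¹ * t * n) ht'
  calc t * (n * y * n⁻¹) = n * ((n⁻¹ * t * n) * y) * n⁻¹ := by group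
    _ = n * (y * (n⁻¹ * t * n)) * n⁻¹ := by rw [hc]
    _ = n * y * n⁻¹ * t := by group

theorem normalizer_le_normalizer_centralizer (S : Subgroup G) :
    Subgroup.normalizer (S : Set G) ≤
      Subgroup.normalizer ((Subgroup.centralizer (S : Set G) : Subgroup G) : Set G) := by
  intro n hn
  rw [Subgroup.mem_normalizer_iff]
  intro y
  constructor
  · intro hy
    exact conj_mem_centralizer_of_mem_normalizer S hn hy
  · intro hy
    have hn' : n⁻¹ ∈ Subgroup.normalizer (S : Set G) := Subgroup.inv_mem _ hn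
    have := conj_mem_centralizer_of_mem_normalizer S hn' hy
    have e : n⁻¹ * (n * y * n⁻¹) * n⁻¹⁻¹ = y := by group
    rwa [e] at this

/-- the subgroup attached to a point of `G ⧸ N_G(T)` -/
noncomputable def Kfun1 (S : Subgroup G) (γ : G ⧸ Subgroup.normalizer (S : Set G)) : Subgroup G :=
  conjSub (Subgroup.centralizer (S : Set G)) (Quotient.out γ)

theorem Kfun1_mk (S : Subgroup G) (g : G) :
    Kfun1 S ((g : G) : G ⧸ Subgroup.normalizer (S : Set G)) =
      conjSub (Subgroup.centralizer (S : Set G)) g := by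
  unfold Kfun1
  apply conjSub_eq_of_mem_normalizer
  apply normalizer_le_normalizer_centralizer
  have h : ((Quotient.out ((g : G) : G ⧸ Subgroup.normalizer (S : Set G)) : G) :
      G ⧸ Subgroup.normalizer (S : Set G)) = (g : G ⧸ Subgroup.normalizer (S : Set G)) :=
    QuotientGroup.out_eq' _
  exact QuotientGroup.eq.mp h

theorem orderOf_conj2 (g u : G) : orderOf (g * u * g⁻¹) = orderOf u := by
  have h := MulEquiv.orderOf_eq (MulAut.conj g) u
  rwa [MulAut.conj_apply] at h

/-- **Piece GEO1.** -/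
theorem Loc1.exists_geo1 [Finite G] {T : Sylow 2 G} {e : ℕ} (h : Loc1 T e) :
    ∃ K : G ⧸ Subgroup.normalizer ((T : Subgroup G) : Set G) → Subgroup G,
      Geo1 (G ⧸ Subgroup.normalizer ((T : Subgroup G) : Set G)) K e ∧
      ∀ g : G, K (g : G ⧸ Subgroup.normalizer ((T : Subgroup G) : Set G)) =
        (Subgroup.centralizer ((T : Subgroup G) : Set G)).map (MulAut.conj g).toMonoidHom := by
  refine ⟨Kfun1 (T : Subgroup G), ?_, ?_⟩
  swap
  · intro g
    rw [Kfun1_mk, conjSub_eq_map]
  have hAN : Subgroup.centralizer ((T : Subgroup G) : Set G) ≤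
      Subgroup.normalizer ((T : Subgroup G) : Set G) := Subgroup.centralizer_le_normalizer _
  have hTN : (T : Subgroup G) ≤ Subgroup.normalizer ((T : Subgroup G) : Set G) :=
    Subgroup.le_normalizer
  refine
    { trans := inferInstance
      K_le := ?_
      K_conj := ?_
      K_comm := ?_
      K_inv := ?_
      K_cent := ?_
      inv_fix := ?_
      inv_fix_unique := ?_
      inv_card := ?_
      e_ge := h.e_ge
      e_odd := h.e_odd
      two_le := ?_ }
  · -- K_le
    intro γ
    obtain ⟨g, rfl⟩ := QuotientGroup.mk_surjective γ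
    rw [Kfun1_mk, stabilizer_mk]
    intro x hx
    rw [mem_conjSub] at hx ⊢
    exact hAN hx
  · -- K_conj
    intro g γ a ha
    obtain ⟨g0, rfl⟩ := QuotientGroup.mk_surjective γ
    rw [MulAction.Quotient.smul_mk, smul_eq_mul, Kfun1_mk, mem_conjSub]
    rw [Kfun1_mk, mem_conjSub] at ha
    have e1 : (g * g0)⁻¹ * (g * a * g⁻¹) * (g * g0) = g0⁻¹ * a * g0 := by group
    rw [e1]
    exact ha
  · -- K_comm
    intro γ a ha b hb
    obtain ⟨g, rfl⟩ := QuotientGroup.mk_surjective γ
    rw [Kfun1_mk, mem_conjSub] at ha hb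
    have hc := h.comm _ ha _ hb
    calc a * b = g * ((g⁻¹ * a * g) * (g⁻¹ * b * g)) * g⁻¹ := by group
      _ = g * ((g⁻¹ * b * g) * (g⁻¹ * a * g)) * g⁻¹ := by rw [hc]
      _ = b * a := by group
  · -- K_inv
    intro γ u hu hfix
    obtain ⟨g, rfl⟩ := QuotientGroup.mk_surjective γ
    rw [Kfun1_mk, mem_conjSub]
    rw [smul_mk_eq_iff] at hfix
    apply h.T_le
    apply h.inv_norm _ hfix
    rw [orderOf_conj', hu]
  · -- K_cent
    intro γ u hu huK x hxu
    obtain ⟨g, rfl⟩ := QuotientGroup.mk_surjective γ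
    rw [Kfun1_mk, mem_conjSub] at huK ⊢
    have hord : orderOf (g⁻¹ * u * g) = 2 := by rw [orderOf_conj', hu]
    have htT : g⁻¹ * u * g ∈ (T : Subgroup G) := h.inv_mem _ huK hord
    apply h.cent _ htT hord
    calc g⁻¹ * x * g * (g⁻¹ * u * g) = g⁻¹ * (x * u) * g := by group
      _ = g⁻¹ * (u * x) * g := by rw [hxu]
      _ = g⁻¹ * u * g * (g⁻¹ * x * g) := by group
  · -- inv_fix
    intro u hu
    obtain ⟨g, hg⟩ := h.inv_conj_mem u hu
    refine ⟨((g⁻¹ : G) : G ⧸ Subgroup.normalizer ((T : Subgroup G) : Set G)), ?_⟩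
    rw [smul_mk_eq_iff, inv_inv]
    exact hTN hg
  · -- inv_fix_unique
    intro u hu γ δ hγ hδ
    obtain ⟨g, rfl⟩ := QuotientGroup.mk_surjective γ
    obtain ⟨g', rfl⟩ := QuotientGroup.mk_surjective δ
    rw [smul_mk_eq_iff] at hγ hδ
    have hord : orderOf (g⁻¹ * u * g) = 2 := by rw [orderOf_conj', hu]
    have hord' : orderOf (g'⁻¹ * u * g') = 2 := by rw [orderOf_conj', hu]
    have htT : g⁻¹ * u * g ∈ (T : Subgroup G) := h.inv_norm _ hγ hord
    have htT' : g'⁻¹ * u * g' ∈ (T : Subgroup G) := h.inv_norm _ hδ hord'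
    have hk : (g'⁻¹ * g) * (g⁻¹ * u * g) * (g'⁻¹ * g)⁻¹ ∈ (T : Subgroup G) := by
      have e1 : (g'⁻¹ * g) * (g⁻¹ * u * g) * (g'⁻¹ * g)⁻¹ = g'⁻¹ * u * g' := by group
      rw [e1]
      exact htT'
    have := h.ti (g'⁻¹ * g) _ htT hord hk
    exact (QuotientGroup.eq.mpr this).symm
  · -- inv_card
    intro γ
    obtain ⟨g, rfl⟩ := QuotientGroup.mk_surjective γ
    rw [← h.inv_card]
    apply Nat.card_congr
    refine
      { toFun := fun u => ⟨g⁻¹ * u.1 * g, ?_, ?_⟩
        invFun := fun a => ⟨g * a.1 * g⁻¹, ?_, ?_⟩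
        left_inv := ?_
        right_inv := ?_ }
    · have h2 := u.2.2
      rw [smul_mk_eq_iff] at h2
      apply h.inv_norm _ h2
      rw [orderOf_conj', u.2.1]
    · rw [orderOf_conj', u.2.1]
    · rw [orderOf_conj2, a.2.2]
    · rw [smul_mk_eq_iff]
      have : g⁻¹ * (g * a.1 * g⁻¹) * g = a.1 := by group
      rw [this]
      exact hTN a.2.1
    · intro u
      apply Subtype.ext
      show g * (g⁻¹ * u.1 * g) * g⁻¹ = u.1
      group
    · intro a
      apply Subtype.ext
      show g⁻¹ * (g * a.1 * g⁻¹) * g = a.1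
      group
  · -- two_le
    have hidx : (Subgroup.normalizer ((T : Subgroup G) : Set G)).index ≠ 1 := by
      intro h1
      exact h.ne_top (Subgroup.index_eq_one.mp h1)
    have hpos : (Subgroup.normalizer ((T : Subgroup G) : Set G)).index ≠ 0 :=
      Subgroup.index_ne_zero_of_finite
    have : Nat.card (G ⧸ Subgroup.normalizer ((T : Subgroup G) : Set G)) =
        (Subgroup.normalizer ((T : Subgroup G) : Set G)).index := rfl
    rw [this]
    omega

end Cfsg.Agent.Helper13.AI
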