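import Mathlib
import Cfsg.Prelude.Def_Characters
import Cfsg.Agent.Helper23.AVDefs

set_option autoImplicit false

namespace Cfsg.Agent.Helper23.AV

open MulAction

universe u v

variable {G : Type u} [Group G] {Ω : Type v} [MulAction G Ω]

open Classical in
/-- classifier of pairs of ordered pairs by their coincidence pattern -/
noncomputable def o33_cls (x : (Fin 2 ↪ Ω) × (Fin 2 ↪ Ω)) : Fin 7 :=
  if x.2 0 = x.1 0 then (if x.2 1 = x.1 1 then 0 else 2)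
  else if x.2 0 = x.1 1 then (if x.2 1 = x.1 0 then 1 else 4)
  else if x.2 1 = x.1 0 then 3
  else if x.2 1 = x.1 1 then 5
  else 6

/-- the ordered pair `(a, b)` as an embedding -/
def o33_mk (a b : Ω) (h : a ≠ b) : Fin 2 ↪ Ω :=
  ⟨![a, b], by
    intro i j hij
    fin_cases i <;> fin_cases j <;> simp_all⟩

@[simp] theorem o33_mk_zero (a b : Ω) (h : a ≠ b) : o33_mk a b h 0 = a := rfl
@[simp] theorem o33_mk_one (a b : Ω) (h : a ≠ b) : o33_mk a b h 1 = b := rfl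

theorem o33_cls_spec (x : (Fin 2 ↪ Ω) × (Fin 2 ↪ Ω)) :
    (x.2 0 = x.1 0 ↔ o33_cls x = 0 ∨ o33_cls x = 2) ∧
    (x.2 0 = x.1 1 ↔ o33_cls x = 1 ∨ o33_cls x = 4) ∧
    (x.2 1 = x.1 0 ↔ o33_cls x = 1 ∨ o33_cls x = 3) ∧
    (x.2 1 = x.1 1 ↔ o33_cls x = 0 ∨ o33_cls x = 5) := by
  have hab : x.1 0 ≠ x.1 1 := x.1.injective.ne (by decide)
  have hcd : x.2 0 ≠ x.2 1 := x.2.injective.ne (by decide)
  unfold o33_cls
  by_cases h1 : x.2 0 = x.1 0 <;> by_cases h2 : x.2 0 = x.1 1 <;>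
    by_cases h3 : x.2 1 = x.1 0 <;> by_cases h4 : x.2 1 = x.1 1 <;>
    simp_all

theorem o33_smul_eq_iff (g : G) (f f' : Fin 2 ↪ Ω) :
    g • f = f' ↔ g • f 0 = f' 0 ∧ g • f 1 = f' 1 := by
  constructor
  · intro h
    rw [← h]
    exact ⟨rfl, rfl⟩
  · rintro ⟨h0, h1⟩
    apply DFunLike.ext
    intro i
    fin_cases i
    · exact h0
    · exact h1

/-- matching coincidence patterns are conjugate -/
theorem o33_exists (T : Trans4 G Ω) (f h f' h' : Fin 2 ↪ Ω)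
    (H00 : h 0 = f 0 ↔ h' 0 = f' 0) (H01 : h 0 = f 1 ↔ h' 0 = f' 1)
    (H10 : h 1 = f 0 ↔ h' 1 = f' 0) (H11 : h 1 = f 1 ↔ h' 1 = f' 1) :
    ∃ g : G, g • f = f' ∧ g • h = h' := by
  have hab : f 0 ≠ f 1 := f.injective.ne (by decide)
  have hcd : h 0 ≠ h 1 := h.injective.ne (by decide)
  have hab' : f' 0 ≠ f' 1 := f'.injective.ne (by decide)
  have hcd' : h' 0 ≠ h' 1 := h'.injective.ne (by decide)
  simp only [o33_smul_eq_iff]
  by_cases c00 : h 0 = f 0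
  · have c00' := H00.mp c00
    by_cases c11 : h 1 = f 1
    · have c11' := H11.mp c11
      obtain ⟨g, hg0, hg1⟩ := T.t2 (f 0) (f 1) (f' 0) (f' 1) hab hab'
      exact ⟨g, ⟨hg0, hg1⟩, by rw [c00, c00', hg0], by rw [c11, c11', hg1]⟩
    · have c11' : h' 1 ≠ f' 1 := fun e => c11 (H11.mpr e)
      have c10 : h 1 ≠ f 0 := fun e => hcd (c00.trans e.symm)
      have c10' : h' 1 ≠ f' 0 := fun e => hcd' (c00'.trans e.symm)
      obtain ⟨g, hg0, hg1, hg2⟩ := T.t3 (f 0) (f 1) (h 1) (f' 0) (f' 1) (h' 1) hab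
        (Ne.symm c10) (Ne.symm c11) hab' (Ne.symm c10') (Ne.symm c11')
      exact ⟨g, ⟨hg0, hg1⟩, by rw [c00, c00', hg0], hg2⟩
  · have c00' : h' 0 ≠ f' 0 := fun e => c00 (H00.mpr e)
    by_cases c01 : h 0 = f 1
    · have c01' := H01.mp c01
      by_cases c10 : h 1 = f 0
      · have c10' := H10.mp c10
        obtain ⟨g, hg0, hg1⟩ := T.t2 (f 0) (f 1) (f' 0) (f' 1) hab hab'
        exact ⟨g, ⟨hg0, hg1⟩, by rw [c01, c01', hg1], by rw [c10, c10', hg0]⟩
      · have c10' : h' 1 ≠ f' 0 := fun e => c10 (H10.mpr e)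
        have c11 : h 1 ≠ f 1 := fun e => hcd (c01.trans e.symm)
        have c11' : h' 1 ≠ f' 1 := fun e => hcd' (c01'.trans e.symm)
        obtain ⟨g, hg0, hg1, hg2⟩ := T.t3 (f 0) (f 1) (h 1) (f' 0) (f' 1) (h' 1) hab
          (Ne.symm c10) (Ne.symm c11) hab' (Ne.symm c10') (Ne.symm c11')
        exact ⟨g, ⟨hg0, hg1⟩, by rw [c01, c01', hg1], hg2⟩
    · have c01' : h' 0 ≠ f' 1 := fun e => c01 (H01.mpr e)
      by_cases c10 : h 1 = f 0
      · have c10' := H10.mp c10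
        obtain ⟨g, hg0, hg1, hg2⟩ := T.t3 (f 0) (f 1) (h 0) (f' 0) (f' 1) (h' 0) hab
          (Ne.symm c00) (Ne.symm c01) hab' (Ne.symm c00') (Ne.symm c01')
        exact ⟨g, ⟨hg0, hg1⟩, hg2, by rw [c10, c10', hg0]⟩
      · have c10' : h' 1 ≠ f' 0 := fun e => c10 (H10.mpr e)
        by_cases c11 : h 1 = f 1
        · have c11' := H11.mp c11
          obtain ⟨g, hg0, hg1, hg2⟩ := T.t3 (f 0) (f 1) (h 0) (f' 0) (f' 1) (h' 0) hab
            (Ne.symm c00) (Ne.symm c01) hab' (Ne.symm c00') (Ne.symm c01')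
          exact ⟨g, ⟨hg0, hg1⟩, hg2, by rw [c11, c11', hg1]⟩
        · have c11' : h' 1 ≠ f' 1 := fun e => c11 (H11.mpr e)
          obtain ⟨g, hg0, hg1, hg2, hg3⟩ := T.t4 (f 0) (f 1) (h 0) (h 1) (f' 0) (f' 1) (h' 0) (h' 1)
            hab (Ne.symm c00) (Ne.symm c10) (Ne.symm c01) (Ne.symm c11) hcd
            hab' (Ne.symm c00') (Ne.symm c10') (Ne.symm c01') (Ne.symm c11') hcd'
          exact ⟨g, ⟨hg0, hg1⟩, hg2, hg3⟩

theorem card_orbits_33 [Finite Ω] (T : Trans4 G Ω) :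
    Nat.card (orbitRel.Quotient G ((Fin 2 ↪ Ω) × (Fin 2 ↪ Ω))) = 7 := by
  classical
  apply card_orbits_eq_of_classifier (o33_cls (Ω := Ω))
  · intro g x
    simp only [o33_cls, Prod.smul_fst, Prod.smul_snd, Function.Embedding.smul_apply,
      smul_left_cancel_iff]
  · -- surjectivity: four distinct points
    have := Fintype.ofFinite Ω
    have hcard : Fintype.card (Fin 4) ≤ Fintype.card Ω := by
      have := T.card_le
      rw [Nat.card_eq_fintype_card] at this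
      simpa using this
    obtain ⟨e⟩ := Function.Embedding.nonempty_of_card_le hcard
    have h01 : e 0 ≠ e 1 := e.injective.ne (by decide)
    have h02 : e 0 ≠ e 2 := e.injective.ne (by decide)
    have h03 : e 0 ≠ e 3 := e.injective.ne (by decide)
    have h12 : e 1 ≠ e 2 := e.injective.ne (by decide)
    have h13 : e 1 ≠ e 3 := e.injective.ne (by decide)
    have h23 : e 2 ≠ e 3 := e.injective.ne (by decide)
    intro i
    fin_cases i
    · exact ⟨(o33_mk (e 0) (e 1) h01, o33_mk (e 0) (e 1) h01), by simp [o33_cls]⟩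
    · exact ⟨(o33_mk (e 0) (e 1) h01, o33_mk (e 1) (e 0) h01.symm), by
        simp [o33_cls, h01.symm]⟩
    · exact ⟨(o33_mk (e 0) (e 1) h01, o33_mk (e 0) (e 2) h02), by
        simp [o33_cls, h12.symm]⟩
    · exact ⟨(o33_mk (e 0) (e 1) h01, o33_mk (e 2) (e 0) h02.symm), by
        simp [o33_cls, h02.symm, h12.symm]⟩
    · exact ⟨(o33_mk (e 0) (e 1) h01, o33_mk (e 1) (e 2) h12), by
        simp [o33_cls, h01.symm, h02.symm]⟩
    · exact ⟨(o33_mk (e 0) (e 1) h01, o33_mk (e 2) (e 1) h12.symm), by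
        simp [o33_cls, h02.symm, h12.symm, h01.symm]⟩
    · exact ⟨(o33_mk (e 0) (e 1) h01, o33_mk (e 2) (e 3) h23), by
        simp [o33_cls, h02.symm, h12.symm, h03.symm, h13.symm]⟩
  · -- transitive fibres
    rintro ⟨f, h⟩ ⟨f', h'⟩ hc
    obtain ⟨s1, s2, s3, s4⟩ := o33_cls_spec (f, h)
    obtain ⟨s1', s2', s3', s4'⟩ := o33_cls_spec (f', h')
    rw [hc] at s1 s2 s3 s4
    obtain ⟨g, hg1, hg2⟩ := o33_exists T f h f' h' (s1.trans s1'.symm) (s2.trans s2'.symm)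
      (s3.trans s3'.symm) (s4.trans s4'.symm)
    refine ⟨g, ?_⟩
    rw [Prod.smul_mk, hg1, hg2]

end Cfsg.Agent.Helper23.AV
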