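import Mathlib

set_option autoImplicit false

namespace Cfsg.Agent.Helper13

/-- the nontrivial additive character of `ZMod 2` with values in `ℤ` -/
def chi2 (x : ZMod 2) : ℤ := if x = 0 then 1 else -1

theorem chi2_zero : chi2 0 = 1 := by decide

theorem chi2_one : chi2 1 = -1 := by decide

theorem chi2_add : ∀ x y : ZMod 2, chi2 (x + y) = chi2 x * chi2 y := by decide

theorem chi2_add_one (x : ZMod 2) : chi2 (x + 1) = - chi2 x := by
  rw [chi2_add, chi2_one]; ring

theorem zmod2_cases : ∀ c : ZMod 2, c = 0 ∨ c = 1 := by decide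

theorem zmod2_add_self (x : ZMod 2) : x + x = 0 := by
  revert x; decide

theorem chi2_eq_one_iff : ∀ x : ZMod 2, chi2 x = 1 ↔ x = 0 := by decide

section sums

variable {V : Type*} [AddCommGroup V] [Fintype V]

/-- orthogonality: a nonzero additive functional to `ZMod 2` has character sum zero -/
theorem sum_chi2_eq_zero (φ : V → ZMod 2) (hadd : ∀ u v, φ (u + v) = φ u + φ v)
    (u₀ : V) (hu₀ : φ u₀ ≠ 0) : ∑ u : V, chi2 (φ u) = 0 := by
  have h1 : φ u₀ = 1 := (zmod2_cases (φ u₀)).resolve_left hu₀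
  have h2 : ∑ u : V, chi2 (φ u) = ∑ u : V, chi2 (φ (u + u₀)) :=
    (Fintype.sum_equiv (Equiv.addRight u₀) (fun u => chi2 (φ (u + u₀))) (fun u => chi2 (φ u))
      (fun u => rfl)).symm
  have h3 : ∑ u : V, chi2 (φ (u + u₀)) = - ∑ u : V, chi2 (φ u) := by
    rw [← Finset.sum_neg_distrib]
    apply Finset.sum_congr rfl
    intro u _
    rw [hadd, h1, chi2_add_one]
  linarith

/-- the square of the "Arf sum" of a quadratic function over `ZMod 2` with nondegenerate
polarization is the cardinality of the space -/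
theorem arf_sum_sq [DecidableEq V] (B : V → V → ZMod 2) (q : V → ZMod 2)
    (hq : ∀ u v, q (u + v) = q u + q v + B u v)
    (hBadd : ∀ u u' t, B (u + u') t = B u t + B u' t)
    (hBzero : ∀ u, B u 0 = 0)
    (hnd : ∀ t, t ≠ 0 → ∃ u, B u t ≠ 0) :
    (∑ v : V, chi2 (q v)) ^ 2 = (Fintype.card V : ℤ) := by
  have hq0 : q 0 = 0 := by
    have := hq 0 0
    rw [add_zero, hBzero, add_zero] at this
    have h2 : q 0 + q 0 = q 0 + 0 := by rw [add_zero]; exact this.symm
    exact add_left_cancel h2
  have inner : ∀ t : V, ∑ u : V, chi2 (B u t) = if t = 0 then (Fintype.card V : ℤ) else 0 := by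
    intro t
    by_cases ht : t = 0
    · subst ht
      simp [hBzero, chi2_zero]
    · rw [if_neg ht]
      obtain ⟨u₀, hu₀⟩ := hnd t ht
      exact sum_chi2_eq_zero (fun u => B u t) (fun u v => hBadd u v t) u₀ hu₀
  calc (∑ v : V, chi2 (q v)) ^ 2
      = ∑ u : V, ∑ v : V, chi2 (q u) * chi2 (q v) := by
        rw [sq, Finset.sum_mul_sum]
    _ = ∑ u : V, ∑ t : V, chi2 (q u) * chi2 (q (u + t)) := by
        apply Finset.sum_congr rfl
        intro u _
        exact (Fintype.sum_equiv (Equiv.addLeft u) (fun t => chi2 (q u) * chi2 (q (u + t)))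
          (fun v => chi2 (q u) * chi2 (q v)) (fun t => rfl)).symm
    _ = ∑ u : V, ∑ t : V, chi2 (q t) * chi2 (B u t) := by
        apply Finset.sum_congr rfl
        intro u _
        apply Finset.sum_congr rfl
        intro t _
        rw [hq, ← chi2_add, ← chi2_add]
        congr 1
        have := zmod2_add_self (q u)
        calc q u + (q u + q t + B u t) = (q u + q u) + (q t + B u t) := by ring
          _ = q t + B u t := by rw [this, zero_add]
    _ = ∑ t : V, ∑ u : V, chi2 (q t) * chi2 (B u t) := Finset.sum_comm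
    _ = ∑ t : V, chi2 (q t) * (if t = 0 then (Fintype.card V : ℤ) else 0) := by
        apply Finset.sum_congr rfl
        intro t _
        rw [← Finset.mul_sum, inner]
    _ = (Fintype.card V : ℤ) := by
        simp [hq0, chi2_zero]

theorem arf_sum_ne_zero [DecidableEq V] (B : V → V → ZMod 2) (q : V → ZMod 2)
    (hq : ∀ u v, q (u + v) = q u + q v + B u v)
    (hBadd : ∀ u u' t, B (u + u') t = B u t + B u' t)
    (hBzero : ∀ u, B u 0 = 0)
    (hnd : ∀ t, t ≠ 0 → ∃ u, B u t ≠ 0) :
    (∑ v : V, chi2 (q v)) ≠ 0 := by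
  intro h
  have := arf_sum_sq B q hq hBadd hBzero hnd
  rw [h] at this
  have hpos : 0 < (Fintype.card V : ℤ) := by
    have : 0 < Fintype.card V := Fintype.card_pos_iff.mpr ⟨0⟩
    exact_mod_cast this
  simp at this
  omega

end sums

end Cfsg.Agent.Helper13
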