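import Mathlib

/-!
Counting lemmas for automorphism orbits (towards S4067, Laffey--MacHale):
* `orbit_weight_bound`: a weighted orbit count;
* conjugacy classes sit inside `Aut`-orbits, and noncentral classes have at least `minFac |G|`
  elements;
* `two_minFac_le_orbit`: an automorphism moving `x` outside `x G'` doubles the orbit bound.
-/

set_option autoImplicit false

namespace Cfsg.Agent.Helper13.AutOrb

open MulAction
open scoped commutatorElement

/-- Weighted orbit count: if `M ≤ w x * |orbit x|` for all `x` then `M * #orbits ≤ ∑ w`. -/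
theorem orbit_weight_bound {A α : Type*} [Group A] [MulAction A α] [Fintype α]
    (w : α → ℕ) (M : ℕ)
    (h : ∀ x : α, M ≤ w x * (orbit A x).ncard) :
    M * Nat.card (orbitRel.Quotient A α) ≤ ∑ x, w x := by
  classical
  have : Fintype (orbitRel.Quotient A α) := Fintype.ofFinite _
  rw [Nat.card_eq_fintype_card, ← Fintype.sum_fiberwise (fun x : α => (Quotient.mk'' x : orbitRel.Quotient A α)) w]
  rw [mul_comm, ← smul_eq_mul, ← Finset.card_univ, ← Finset.sum_const]
  apply Finset.sum_le_sum
  intro q _
  induction q using Quotient.inductionOn' with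
  | h x0 =>
    -- the fiber over the class of x0
    have hfib : ∀ a : α, (Quotient.mk'' a : orbitRel.Quotient A α) = Quotient.mk'' x0 ↔ a ∈ orbit A x0 := by
      intro a
      rw [Quotient.eq'']
      exact orbitRel_apply
    have hcard : Fintype.card {a : α // (Quotient.mk'' a : orbitRel.Quotient A α) = Quotient.mk'' x0}
        = (orbit A x0).ncard := by
      rw [← Nat.card_eq_fintype_card, ← Nat.card_coe_set_eq]
      exact Nat.card_congr (Equiv.subtypeEquivRight hfib)
    have hpos : 0 < (orbit A x0).ncard := by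
      rw [Set.ncard_pos (Set.toFinite _)]
      exact ⟨x0, mem_orbit_self x0⟩
    have hle : ∀ a : {a : α // (Quotient.mk'' a : orbitRel.Quotient A α) = Quotient.mk'' x0},
        M ≤ w a.1 * (orbit A x0).ncard := by
      intro a
      have h1 := h a.1
      have h2 : orbit A a.1 = orbit A x0 := orbit_eq_iff.mpr ((hfib a.1).mp a.2)
      rwa [h2] at h1
    have hsum : (orbit A x0).ncard * M ≤ (∑ a : {a : α // (Quotient.mk'' a : orbitRel.Quotient A α) = Quotient.mk'' x0}, w a.1) * (orbit A x0).ncard := by
      rw [Finset.sum_mul]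
      calc (orbit A x0).ncard * M = ∑ _a : {a : α // (Quotient.mk'' a : orbitRel.Quotient A α) = Quotient.mk'' x0}, M := by
            rw [Finset.sum_const, Finset.card_univ, hcard, smul_eq_mul]
        _ ≤ _ := Finset.sum_le_sum (fun a _ => hle a)
    rw [mul_comm] at hsum
    exact Nat.le_of_mul_le_mul_right hsum hpos

variable {G : Type*} [Group G]

/-- Divisors of `n` other than `1` are at least `minFac n`. -/
theorem minFac_le_of_dvd_of_ne_one {n d : ℕ} (hn : n ≠ 0) (hd : d ∣ n) (h1 : d ≠ 1) :
    n.minFac ≤ d := by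
  have hd0 : d ≠ 0 := by
    rintro rfl
    exact hn (zero_dvd_iff.mp hd)
  exact Nat.minFac_le_of_dvd (by omega) hd

/-- The conjugacy class of `x` lies in its orbit under `MulAut G`. -/
theorem conj_orbit_subset (x : G) : orbit (ConjAct G) x ⊆ orbit (MulAut G) x := by
  rintro _ ⟨g, rfl⟩
  refine ⟨MulAut.conj (ConjAct.ofConjAct g), ?_⟩
  simp [ConjAct.smul_def]

/-- A noncentral element has at least `minFac |G|` conjugates. -/
theorem minFac_le_conj_orbit [Finite G] {x : G} (hx : x ∉ Subgroup.center G) :
    (Nat.card G).minFac ≤ (orbit (ConjAct G) x).ncard := by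
  rw [← index_stabilizer]
  have hn : Nat.card G ≠ 0 := Nat.card_pos.ne'
  have hdvd : (stabilizer (ConjAct G) x).index ∣ Nat.card G := by
    have := (stabilizer (ConjAct G) x).index_dvd_card
    rwa [show Nat.card (ConjAct G) = Nat.card G from rfl] at this
  refine minFac_le_of_dvd_of_ne_one hn hdvd ?_
  intro h1
  rw [Subgroup.index_eq_one] at h1
  apply hx
  rw [Subgroup.mem_center_iff]
  intro g
  have hg : ConjAct.toConjAct g ∈ stabilizer (ConjAct G) x := by rw [h1]; trivial
  rw [mem_stabilizer_iff, ConjAct.smul_def, ConjAct.ofConjAct_toConjAct] at hg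
  calc g * x = g * x * g⁻¹ * g := by group
    _ = x * g := by rw [hg]

/-- A noncentral element has at least `minFac |G|` images under automorphisms. -/
theorem minFac_le_orbit [Finite G] {x : G} (hx : x ∉ Subgroup.center G) :
    (Nat.card G).minFac ≤ (orbit (MulAut G) x).ncard :=
  (minFac_le_conj_orbit hx).trans (Set.ncard_le_ncard (conj_orbit_subset x) (Set.toFinite _))

/-- If an automorphism moves the noncentral `x` outside the coset `x G'`, the orbit of `x` has
at least `2 * minFac |G|` elements. -/
theorem two_minFac_le_orbit [Finite G] {x : G} (hx : x ∉ Subgroup.center G) (σ : MulAut G)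
    (hσ : x⁻¹ * σ x ∉ commutator G) :
    2 * (Nat.card G).minFac ≤ (orbit (MulAut G) x).ncard := by
  have hσx : σ x ∉ Subgroup.center G := by
    intro h
    apply hx
    rw [Subgroup.mem_center_iff] at h ⊢
    intro g
    have := h (σ g)
    rw [← map_mul, ← map_mul] at this
    exact σ.injective this
  have hdisj : Disjoint (orbit (ConjAct G) x) (orbit (ConjAct G) (σ x)) := by
    rw [Set.disjoint_left]
    rintro y ⟨g, rfl⟩ ⟨k, hk⟩
    apply hσ
    -- k • σ x = g • x
    simp only [ConjAct.smul_def] at hk
    set g' := ConjAct.ofConjAct g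
    set k' := ConjAct.ofConjAct k
    have hsx : σ x = k'⁻¹ * g' * x * (k'⁻¹ * g')⁻¹ := by
      have : σ x = k'⁻¹ * (k' * σ x * k'⁻¹) * k' := by group
      rw [this, hk]; group
    rw [hsx]
    have : x⁻¹ * (k'⁻¹ * g' * x * (k'⁻¹ * g')⁻¹) = ⁅x⁻¹, k'⁻¹ * g'⁆ := by
      rw [commutatorElement_def]; group
    rw [this]
    exact Subgroup.commutator_mem_commutator (Subgroup.mem_top _) (Subgroup.mem_top _)
  have hsub : orbit (ConjAct G) x ∪ orbit (ConjAct G) (σ x) ⊆ orbit (MulAut G) x := by
    apply Set.union_subset (conj_orbit_subset x)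
    refine (conj_orbit_subset (σ x)).trans ?_
    have : orbit (MulAut G) (σ x) = orbit (MulAut G) x :=
      orbit_eq_iff.mpr ⟨σ, rfl⟩
    rw [this]
  calc 2 * (Nat.card G).minFac = (Nat.card G).minFac + (Nat.card G).minFac := two_mul _
    _ ≤ (orbit (ConjAct G) x).ncard + (orbit (ConjAct G) (σ x)).ncard :=
        Nat.add_le_add (minFac_le_conj_orbit hx) (minFac_le_conj_orbit hσx)
    _ = (orbit (ConjAct G) x ∪ orbit (ConjAct G) (σ x)).ncard :=
        (Set.ncard_union_eq hdisj (Set.toFinite _) (Set.toFinite _)).symm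
    _ ≤ _ := Set.ncard_le_ncard hsub (Set.toFinite _)

end Cfsg.Agent.Helper13.AutOrb
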