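import Mathlib
import Cfsg.Prelude.Def_Characters
import Cfsg.Agent.Helper24.Abelian
import Cfsg.Agent.Helper24.SmallDegree
import Cfsg.Agent.Helper24.ColumnOrth
import Cfsg.Agent.Helper24.Orthogonality

/-!
Class number bound (towards S4067): if `|G'|` is neither `1` nor the least prime `p` dividing
`|G|`, then `p * k(G) ≤ |G|`.
-/

set_option autoImplicit false

namespace Cfsg.Agent.Helper13.AutOrb

open Cfsg Cfsg.Agent.Helper24

universe u

variable {G : Type u} [Group G] [Finite G]

theorem minFac_mul_card_conjClasses_le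
    (h1 : Nat.card (commutator G) ≠ 1) (hp : Nat.card (commutator G) ≠ (Nat.card G).minFac) :
    (Nat.card G).minFac * Nat.card (ConjClasses G) ≤ Nat.card G := by
  classical
  have : Fintype G := Fintype.ofFinite G
  have : Fintype (IrrCharacter G) := Fintype.ofFinite _
  set n := Nat.card G with hn
  set p := n.minFac with hpdef
  have hn0 : n ≠ 0 := Nat.card_pos.ne'
  have hn1 : n ≠ 1 := by
    intro hn1
    apply h1
    have := Nat.le_of_dvd (Nat.pos_of_ne_zero hn0) (Subgroup.card_subgroup_dvd_card (commutator G))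
    have hpos : 0 < Nat.card (commutator G) := Nat.card_pos
    omega
  have hpprime : p.Prime := Nat.minFac_prime hn1
  -- |G'| ≥ p + 1
  have hc : p + 1 ≤ Nat.card (commutator G) := by
    have hle : p ≤ Nat.card (commutator G) := by
      have hd0 : Nat.card (commutator G) ≠ 0 := Nat.card_pos.ne'
      exact Nat.minFac_le_of_dvd (by omega) (Subgroup.card_subgroup_dvd_card (commutator G))
    omega
  have hsum := sum_irrDeg_sq (G := G)
  have hlin := card_linear_irr (G := G)
  have hk := card_irr_eq_card_conjClasses (G := G)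
  have hidx : Nat.card (commutator G) * (commutator G).index = n := Subgroup.card_mul_index _
  rw [← hk, Nat.card_eq_fintype_card]
  set S := (Finset.univ : Finset (IrrCharacter G)).filter (fun χ => irrDeg χ = 1) with hS
  set T := (Finset.univ : Finset (IrrCharacter G)).filter (fun χ => ¬ irrDeg χ = 1) with hT
  have hST : S.card + T.card = Fintype.card (IrrCharacter G) :=
    Finset.card_filter_add_card_filter_not _
  have hScard : S.card = (commutator G).index := by
    rw [← hlin, Nat.card_eq_fintype_card, hS, ← Fintype.card_subtype]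
    exact Fintype.card_congr (Equiv.subtypeEquivRight irrDeg_eq_one_iff)
  have hdeg : ∀ χ : IrrCharacter G, (if irrDeg χ = 1 then 1 else p ^ 2) ≤ irrDeg χ ^ 2 := by
    intro χ
    split_ifs with h
    · rw [h]; norm_num
    · have : p ≤ irrDeg χ := by
        have hd0 : irrDeg χ ≠ 0 := (irrDeg_pos χ).ne'
        exact Nat.minFac_le_of_dvd (by omega) (irrDeg_dvd_card χ)
      exact Nat.pow_le_pow_left this 2
  have hlow : S.card + T.card * p ^ 2 ≤ n := by
    rw [hn, ← hsum]
    calc S.card + T.card * p ^ 2 = ∑ χ : IrrCharacter G, (if irrDeg χ = 1 then 1 else p ^ 2) := by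
          rw [Finset.sum_ite, Finset.sum_const, Finset.sum_const, smul_eq_mul, smul_eq_mul, mul_one]
      _ ≤ _ := Finset.sum_le_sum (fun χ _ => hdeg χ)
  rw [← hST]
  have h2 : (p + 1) * S.card ≤ n := by
    rw [hScard, ← hidx]
    exact Nat.mul_le_mul_right _ hc
  have hp2 : 2 ≤ p := hpprime.two_le
  obtain ⟨q, hq⟩ : ∃ q, p = q + 2 := ⟨p - 2, by omega⟩
  rw [hq] at h2 hlow ⊢
  have h3 := Nat.mul_le_mul_left (q + 1) h2
  have h4 : (q + 2) * ((q + 2) * (S.card + T.card)) ≤ (q + 2) * n := by nlinarith
  exact Nat.le_of_mul_le_mul_left h4 (Nat.succ_pos _)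

end Cfsg.Agent.Helper13.AutOrb
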