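import Mathlib
import Cfsg.Agent.Helper13.AutOrbA
import Cfsg.Agent.Helper13.AutOrbB

/-!
The case `|G'| = p` of S4067: assembling the count.
-/

set_option autoImplicit false

namespace Cfsg.Agent.Helper13.AutOrb

open MulAction
open scoped commutatorElement

variable {G : Type*} [Group G]

/-- An injective endomorphism of a finite group, as an automorphism. -/
noncomputable def autOfInj [Finite G] (f : G →* G) (hf : Function.Injective f) : MulAut G :=
  MulEquiv.ofBijective f ⟨hf, Finite.surjective_of_injective hf⟩

theorem autOfInj_apply [Finite G] (f : G →* G) (hf : Function.Injective f) (x : G) :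
    autOfInj f hf x = f x := rfl

theorem exists_not_comm_of_not_mem_center {x : G} (hx : x ∉ Subgroup.center G) :
    ∃ g : G, ⁅x, g⁆ ≠ 1 := by
  by_contra h
  apply hx
  rw [Subgroup.mem_center_iff]
  intro g
  have : ⁅x, g⁆ = 1 := by
    by_contra h'
    exact h ⟨g, h'⟩
  exact (commutatorElement_eq_one_iff_mul_comm.mp this).symm

theorem mem_center_of_comm_eq_one {x : G} (h : ∀ g : G, ⁅x, g⁆ = 1) : x ∈ Subgroup.center G := by
  rw [Subgroup.mem_center_iff]
  intro g
  exact (commutatorElement_eq_one_iff_mul_comm.mp (h g)).symm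

theorem not_comm_group_card_ne_one [Finite G] (hna : ¬ IsMulCommutative G) : Nat.card G ≠ 1 := by
  intro h1
  apply hna
  have : Subsingleton G := (Nat.card_eq_one_iff_unique.mp h1).1
  exact ⟨⟨fun a b => Subsingleton.elim _ _⟩⟩

/-- If `|G'|` is the least prime divisor of `|G|` then `G'` is central. -/
theorem commutator_le_center_of_card [Finite G]
    (hcard : Nat.card (commutator G) = (Nat.card G).minFac) :
    commutator G ≤ Subgroup.center G := by
  intro c hcG
  by_contra hcen
  have h1 := minFac_le_conj_orbit hcen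
  have hsub : orbit (ConjAct G) c ⊆ ((commutator G : Subgroup G) : Set G) \ {1} := by
    rintro _ ⟨g, rfl⟩
    refine ⟨?_, ?_⟩
    · show g • c ∈ commutator G
      rw [ConjAct.smul_def]
      exact (inferInstance : (commutator G).Normal).conj_mem c hcG _
    · rw [Set.mem_singleton_iff]
      show ¬ g • c = 1
      rw [ConjAct.smul_def]
      intro h
      apply hcen
      have : c = 1 := by
        have := congrArg (fun t => (ConjAct.ofConjAct g)⁻¹ * t * (ConjAct.ofConjAct g)) h
        simpa [mul_assoc] using this
      rw [this]; exact Subgroup.one_mem _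
  have h2 := Set.ncard_le_ncard hsub (Set.toFinite _)
  have h3 : (((commutator G : Subgroup G) : Set G) \ {1}).ncard = (Nat.card G).minFac - 1 := by
    rw [Set.ncard_sdiff_singleton_of_mem (Subgroup.one_mem _), ← hcard]
    congr 1
  have hpos : 0 < (Nat.card G).minFac := Nat.minFac_pos _
  omega

theorem two_minFac_mul_card_center_le [Finite G] (hna : ¬ IsMulCommutative G) :
    2 * (Nat.card G).minFac * Nat.card (Subgroup.center G) ≤ Nat.card G := by
  set n := Nat.card G with hn
  have hn0 : n ≠ 0 := Nat.card_pos.ne'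
  set m := (Subgroup.center G).index with hm
  have hmul : Nat.card (Subgroup.center G) * m = n := Subgroup.card_mul_index _
  have hmdvd : m ∣ n := Subgroup.index_dvd_card _
  have hm1 : m ≠ 1 := by
    intro h
    apply hna
    rw [hm, Subgroup.index_eq_one] at h
    refine ⟨⟨fun a b => ?_⟩⟩
    have : a ∈ Subgroup.center G := by rw [h]; trivial
    exact (Subgroup.mem_center_iff.mp this b).symm
  have hmprime : ¬ m.Prime := by
    intro hpr
    apply hna
    have : Fact m.Prime := ⟨hpr⟩
    have hcardq : Nat.card (G ⧸ Subgroup.center G) = m := rfl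
    have : IsCyclic (G ⧸ Subgroup.center G) := isCyclic_of_prime_card hcardq
    refine ⟨⟨fun a b => ?_⟩⟩
    exact (MonoidHom.isMulCommutative_of_isCyclic_of_ker_le_center
      (QuotientGroup.mk' (Subgroup.center G)) (by simp)).is_comm.comm a b
  have hq : m.minFac.Prime := Nat.minFac_prime hm1
  obtain ⟨m', hm'⟩ := Nat.minFac_dvd m
  have hqp : n.minFac ≤ m.minFac :=
    minFac_le_of_dvd_of_ne_one hn0 ((Nat.minFac_dvd m).trans hmdvd) hq.one_lt.ne'
  have hm0 : m ≠ 0 := by
    intro h; rw [h, mul_zero] at hmul; exact hn0 hmul.symm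
  have hm'2 : 2 ≤ m' := by
    have h0 : m' ≠ 0 := by
      rintro rfl; rw [mul_zero] at hm'; exact hm0 hm'
    have h1 : m' ≠ 1 := by
      rintro rfl; rw [mul_one] at hm'; rw [hm'] at hmprime; exact hmprime hq
    omega
  have h2p : 2 * n.minFac ≤ m := by
    rw [hm']; nlinarith
  calc 2 * n.minFac * Nat.card (Subgroup.center G)
      ≤ m * Nat.card (Subgroup.center G) := Nat.mul_le_mul_right _ h2p
    _ = n := by rw [mul_comm, hmul]

/-- The final count: a proper subgroup `H ≥ Z(G)` outside of which every element is moved off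
its coset of `G'` by some automorphism. -/
theorem final_count [Finite G] (hna : ¬ IsMulCommutative G) (H : Subgroup G)
    (hZH : Subgroup.center G ≤ H) (hH : H ≠ ⊤)
    (hσ : ∀ x, x ∉ H → ∃ σ : MulAut G, x⁻¹ * σ x ∉ commutator G) :
    Nat.card (orbitRel.Quotient (MulAut G) G) ≤ Nat.card G / (Nat.card G).minFac := by
  classical
  have : Fintype G := Fintype.ofFinite G
  set n := Nat.card G with hn
  set p := n.minFac with hp
  have hn0 : n ≠ 0 := Nat.card_pos.ne'
  have hn1 : n ≠ 1 := not_comm_group_card_ne_one hna
  have hpprime : p.Prime := Nat.minFac_prime hn1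
  have hZ := two_minFac_mul_card_center_le hna
  rw [← hn, ← hp] at hZ
  have hHc : p * Nat.card H ≤ n := by
    have hmul : Nat.card H * H.index = n := Subgroup.card_mul_index _
    have hidx : p ≤ H.index :=
      minFac_le_of_dvd_of_ne_one hn0 (Subgroup.index_dvd_card _)
        (fun h => hH (Subgroup.index_eq_one.mp h))
    calc p * Nat.card H ≤ H.index * Nat.card H := Nat.mul_le_mul_right _ hidx
      _ = n := by rw [mul_comm, hmul]
  obtain ⟨q, hq⟩ : ∃ q, p = q + 1 := ⟨p - 1, by have := hpprime.two_le; omega⟩
  set w : G → ℕ := fun x => 1 + (if x ∈ H then 1 else 0)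
    + 2 * q * (if x ∈ Subgroup.center G then 1 else 0) with hw
  have hbound : ∀ x : G, 2 * p ≤ w x * (orbit (MulAut G) x).ncard := by
    intro x
    have hpos : 0 < (orbit (MulAut G) x).ncard := by
      rw [Set.ncard_pos (Set.toFinite _)]
      exact ⟨x, mem_orbit_self x⟩
    by_cases hxZ : x ∈ Subgroup.center G
    · have hxH : x ∈ H := hZH hxZ
      have : w x = 2 * p := by simp only [hw, if_pos hxH, if_pos hxZ, hq]; ring
      rw [this]
      exact Nat.le_mul_of_pos_right _ hpos
    · by_cases hxH : x ∈ H
      · have : w x = 2 := by simp only [hw, if_pos hxH, if_neg hxZ, mul_zero, add_zero]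
        rw [this]
        exact Nat.mul_le_mul_left 2 (minFac_le_orbit hxZ)
      · have : w x = 1 := by simp only [hw, if_neg hxH, if_neg hxZ, mul_zero, add_zero]
        rw [this, one_mul]
        obtain ⟨σ, hσx⟩ := hσ x hxH
        exact two_minFac_le_orbit hxZ σ hσx
  have hmain := orbit_weight_bound (A := MulAut G) w (2 * p) hbound
  have hsum : ∑ x, w x = n + Nat.card H + 2 * q * Nat.card (Subgroup.center G) := by
    simp only [hw, Finset.sum_add_distrib, ← Finset.mul_sum, Finset.sum_boole]
    simp only [Finset.sum_const, Finset.card_univ, smul_eq_mul, mul_one, Nat.cast_id]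
    rw [hn, Nat.card_eq_fintype_card, Nat.card_eq_fintype_card, Nat.card_eq_fintype_card,
      Fintype.card_subtype, Fintype.card_subtype]
  rw [hsum] at hmain
  rw [Nat.le_div_iff_mul_le hpprime.pos]
  have h5 : p * (Nat.card H + 2 * q * Nat.card (Subgroup.center G)) ≤ p * n := by
    have := Nat.mul_le_mul_left q hZ
    rw [hq] at hHc this ⊢
    nlinarith
  have h6 := Nat.le_of_mul_le_mul_left h5 hpprime.pos
  nlinarith

end Cfsg.Agent.Helper13.AutOrb
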