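import Mathlib
import Cfsg.Agent.Helper13.AutOrbD

/-!
The case `|G'| = p` of S4067: the automorphisms.
-/

set_option autoImplicit false

namespace Cfsg.Agent.Helper13.AutOrb

open MulAction
open scoped commutatorElement

variable {G : Type*} [Group G]

theorem center_ne_top_of_not_comm (hna : ¬ IsMulCommutative G) : Subgroup.center G ≠ ⊤ := by
  intro h
  apply hna
  refine ⟨⟨fun a b => ?_⟩⟩
  have : a ∈ Subgroup.center G := by rw [h]; trivial
  exact (Subgroup.mem_center_iff.mp this b).symm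

section PrimeComm

variable {p : ℕ} [hpf : Fact p.Prime] (hcard : Nat.card (commutator G) = p)
include hcard

omit hpf in
theorem pow_p_eq_one_of_mem {c : G} (hcG : c ∈ commutator G) : c ^ p = 1 := by
  have h := pow_card_eq_one' (G := commutator G) (x := ⟨c, hcG⟩)
  rw [hcard] at h
  have := congrArg Subtype.val h
  simpa using this

theorem orderOf_eq_of_mem {c : G} (hcG : c ∈ commutator G) (hc1 : c ≠ 1) : orderOf c = p :=
  orderOf_eq_prime (pow_p_eq_one_of_mem hcard hcG) hc1

omit hcard hpf in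
theorem pow_transfer {c0 t : G} (h0 : orderOf c0 = p) (ht : t ^ p = 1) {k m : ℕ}
    (h : c0 ^ k = c0 ^ m) : t ^ k = t ^ m := by
  rw [pow_eq_pow_iff_modEq, h0] at h
  rw [pow_eq_pow_iff_modEq]
  exact h.of_dvd (orderOf_dvd_of_pow_eq_one ht)

/-- Case B1: a central element of order `p` outside `G'`. -/
theorem caseB1 [Finite G] (hna : ¬ IsMulCommutative G)
    (hc : commutator G ≤ Subgroup.center G)
    (u : G) (huZ : u ∈ Subgroup.center G) (hup : u ^ p = 1) (huG : u ∉ commutator G) :
    Nat.card (orbitRel.Quotient (MulAut G) G) ≤ Nat.card G / (Nat.card G).minFac := by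
  refine final_count hna (Subgroup.center G) le_rfl (center_ne_top_of_not_comm hna) ?_
  intro x hx
  obtain ⟨g, hg⟩ := exists_not_comm_of_not_mem_center hx
  set c0 := ⁅x, g⁆ with hc0
  have hc0G : c0 ∈ commutator G := comm_mem_commutator x g
  have hord : orderOf c0 = p := orderOf_eq_of_mem hcard hc0G hg
  obtain ⟨φ, hφ⟩ := exists_hom_pow hc hcard g c0 hc0G hg u hup
  have hφZ : ∀ y, φ y ∈ Subgroup.center G := by
    intro y
    obtain ⟨k, _, hk⟩ := hφ y
    rw [hk]
    exact Subgroup.pow_mem _ huZ k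
  have hinj : Function.Injective (centralHom φ hφZ) := by
    rw [injective_iff_map_eq_one]
    intro y hy
    rw [centralHom_apply] at hy
    have hyφ : y = (φ y)⁻¹ := eq_inv_of_mul_eq_one_left hy
    have hyZ : y ∈ Subgroup.center G := by
      rw [hyφ]; exact Subgroup.inv_mem _ (hφZ y)
    have hyg : ⁅y, g⁆ = 1 :=
      commutatorElement_eq_one_iff_mul_comm.mpr (Subgroup.mem_center_iff.mp hyZ g).symm
    obtain ⟨k, hk1, hk2⟩ := hφ y
    rw [hyg] at hk1
    have : u ^ k = u ^ 0 := pow_transfer hord hup (by rw [pow_zero]; exact hk1.symm)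
    rw [hyφ, hk2, this, pow_zero, inv_one]
  refine ⟨autOfInj _ hinj, ?_⟩
  rw [autOfInj_apply, centralHom_apply, inv_mul_cancel_left]
  obtain ⟨k, hk1, hk2⟩ := hφ x
  have : u ^ k = u ^ 1 := pow_transfer hord hup (by rw [pow_one]; exact hk1.symm)
  rw [hk2, this, pow_one]
  exact huG

omit hcard hpf in
theorem comm_ne_one_of_not_mem_centralizer {a x : G} (hx : x ∉ Subgroup.centralizer {a}) :
    ⁅x, a⁆ ≠ 1 := by
  intro h
  apply hx
  rw [Subgroup.mem_centralizer_singleton_iff]
  exact commutatorElement_eq_one_iff_mul_comm.mp h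

omit hcard hpf in
theorem centralizer_ne_top_of_not_mem_center {a : G} (ha : a ∉ Subgroup.center G) :
    Subgroup.centralizer {a} ≠ ⊤ := by
  intro h
  rw [Subgroup.centralizer_eq_top_iff_subset] at h
  exact ha (h rfl)

/-- Case B2 for odd `p`: a noncentral element of order `p`. -/
theorem caseB2_odd [Finite G] (hna : ¬ IsMulCommutative G)
    (hc : commutator G ≤ Subgroup.center G) (hodd : p ≠ 2)
    (a : G) (haZ : a ∉ Subgroup.center G) (hap : a ^ p = 1) :
    Nat.card (orbitRel.Quotient (MulAut G) G) ≤ Nat.card G / (Nat.card G).minFac := by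
  refine final_count hna (Subgroup.centralizer {a}) (Subgroup.center_le_centralizer _)
    (centralizer_ne_top_of_not_mem_center haZ) ?_
  intro x hx
  have hg : ⁅x, a⁆ ≠ 1 := comm_ne_one_of_not_mem_centralizer hx
  set c0 := ⁅x, a⁆ with hc0
  have hc0G : c0 ∈ commutator G := comm_mem_commutator x a
  have hord : orderOf c0 = p := orderOf_eq_of_mem hcard hc0G hg
  obtain ⟨χ, hχ⟩ := exists_hom_pow hc hcard a c0 hc0G hg a hap
  have h1 : ∀ y1 y2, χ y1 * χ y2 = χ y2 * χ y1 := by
    intro y1 y2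
    obtain ⟨k1, _, hk1⟩ := hχ y1
    obtain ⟨k2, _, hk2⟩ := hχ y2
    rw [hk1, hk2, pow_mul_comm]
  have h2 : ∀ y1 y2, ⁅y1, χ y2⁆ = ⁅y2, χ y1⁆ := by
    intro y1 y2
    obtain ⟨k1, hk1, hk1'⟩ := hχ y1
    obtain ⟨k2, hk2, hk2'⟩ := hχ y2
    rw [hk1', hk2', comm_pow_right hc, comm_pow_right hc, hk1, hk2, ← pow_mul, ← pow_mul, mul_comm]
  have hinj : Function.Injective (transvHom hc χ h1 h2) := by
    rw [injective_iff_map_eq_one]
    intro y hy
    rw [transvHom_apply] at hy
    obtain ⟨k, hk1, hk2⟩ := hχ y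
    rw [hk2] at hy
    have hy' : y = (a ^ k)⁻¹ * (a ^ k)⁻¹ := by
      have : y = (a ^ k)⁻¹ * (a ^ k * y * a ^ k) * (a ^ k)⁻¹ := by group
      rw [this, hy, mul_one]
    have hcomm : Commute y a := by
      rw [hy']
      exact (((Commute.refl a).pow_left k).inv_left).mul_left (((Commute.refl a).pow_left k).inv_left)
    have hya : ⁅y, a⁆ = 1 := commutatorElement_eq_one_iff_mul_comm.mpr hcomm.eq
    rw [hya] at hk1
    have : a ^ k = a ^ 0 := pow_transfer hord hap (by rw [pow_zero]; exact hk1.symm)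
    rw [hy', this, pow_zero, inv_one, one_mul]
  refine ⟨autOfInj _ hinj, ?_⟩
  rw [autOfInj_apply, transvHom_apply]
  obtain ⟨k, hk1, hk2⟩ := hχ x
  have hak : a ^ k = a ^ 1 := pow_transfer hord hap (by rw [pow_one]; exact hk1.symm)
  rw [hk2, hak, pow_one]
  intro hmem
  -- then a * a is central
  have hZ1 : x⁻¹ * (a * x * a) ∈ Subgroup.center G := hc hmem
  have hZ2 : ⁅x⁻¹, a⁆ ∈ Subgroup.center G := hc (comm_mem_commutator _ _)
  have haa : a * a ∈ Subgroup.center G := by
    have : a * a = ⁅x⁻¹, a⁆⁻¹ * (x⁻¹ * (a * x * a)) := by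
      rw [commutatorElement_def]; group
    rw [this]
    exact Subgroup.mul_mem _ (Subgroup.inv_mem _ hZ2) hZ1
  have h3 : ⁅x, a * a⁆ = 1 :=
    commutatorElement_eq_one_iff_mul_comm.mpr (Subgroup.mem_center_iff.mp haa x)
  have h4 : ⁅x, a * a⁆ = c0 ^ 2 := by
    rw [← pow_two, comm_pow_right hc]
  rw [h4] at h3
  have hdvd : p ∣ 2 := by
    rw [← hord]; exact orderOf_dvd_of_pow_eq_one h3
  have := (Nat.prime_dvd_prime_iff_eq hpf.out Nat.prime_two).mp hdvd
  exact hodd this

omit hpf in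
/-- When `|G'| = 2`, its elements are `1` and the given nontrivial element. -/
theorem eq_one_or_eq_of_card_two (hp2 : p = 2) {z c : G} (hz : z ∈ commutator G) (hz1 : z ≠ 1)
    (hcG : c ∈ commutator G) : c = 1 ∨ c = z := by
  subst hp2
  have : Fact (Nat.Prime 2) := ⟨Nat.prime_two⟩
  have hz' : (⟨z, hz⟩ : commutator G) ≠ 1 := by
    intro h
    exact hz1 (congrArg Subtype.val h)
  obtain ⟨k, hk⟩ : (⟨c, hcG⟩ : commutator G) ∈ Submonoid.powers (⟨z, hz⟩ : commutator G) :=
    mem_powers_of_prime_card hcard hz'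
  have hk' : z ^ k = c := by
    have := congrArg Subtype.val hk
    simpa using this
  have hz2 : z ^ 2 = 1 := pow_p_eq_one_of_mem hcard hz
  rcases Nat.even_or_odd' k with ⟨j, rfl | rfl⟩
  · left; rw [← hk', pow_mul, hz2, one_pow]
  · right; rw [← hk', pow_succ, pow_mul, hz2, one_pow, one_mul]

/-- Case B2 for `p = 2`: a noncentral element whose square is the nontrivial commutator. -/
theorem caseB2_two [Finite G] (hna : ¬ IsMulCommutative G)
    (hc : commutator G ≤ Subgroup.center G) (hp2 : p = 2)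
    (a : G) (haZ : a ∉ Subgroup.center G) (ha2 : a * a ∈ commutator G) (ha1 : a * a ≠ 1) :
    Nat.card (orbitRel.Quotient (MulAut G) G) ≤ Nat.card G / (Nat.card G).minFac := by
  refine final_count hna (Subgroup.centralizer {a}) (Subgroup.center_le_centralizer _)
    (centralizer_ne_top_of_not_mem_center haZ) ?_
  intro x hx
  have hg : ⁅x, a⁆ ≠ 1 := comm_ne_one_of_not_mem_centralizer hx
  have hsq : (a * a) * (a * a) = 1 := by
    have := pow_p_eq_one_of_mem hcard ha2
    rw [hp2, pow_two] at this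
    exact this
  have hall : ∀ y : G, ⁅y, a⁆ = 1 ∨ ⁅y, a⁆ = a * a := fun y =>
    eq_one_or_eq_of_card_two hcard hp2 ha2 ha1 (comm_mem_commutator y a)
  obtain ⟨τ, hτ⟩ := exists_twoHom hc a ha1 hsq hall
  have hinj : Function.Injective τ := by
    rw [injective_iff_map_eq_one]
    intro y hy
    by_cases hya : ⁅y, a⁆ = 1
    · rw [(hτ y).1 hya] at hy; exact hy
    · rw [(hτ y).2 hya] at hy
      exfalso
      apply hya
      have : y = a⁻¹ := eq_inv_of_mul_eq_one_left hy
      rw [this, commutatorElement_def]; group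
  refine ⟨autOfInj _ hinj, ?_⟩
  rw [autOfInj_apply, (hτ x).2 hg, inv_mul_cancel_left]
  intro h
  exact haZ (hc h)

end PrimeComm

end Cfsg.Agent.Helper13.AutOrb
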