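import Mathlib
import Cfsg.Agent.Helper13.AutOrbE

/-!
The case `|G'| = p` of S4067: finding the element `a`, and the assembly.
-/

set_option autoImplicit false

namespace Cfsg.Agent.Helper13.AutOrb

open MulAction
open scoped commutatorElement IsMulCommutative

variable {G : Type*} [Group G]

/-- Odd `p`: if every central element of order dividing `p` is in `G'` (of order `p`), there is a
noncentral element of order `p`. -/
theorem exists_noncentral_pow_eq_one [Finite G] (hna : ¬ IsMulCommutative G)
    (hc : commutator G ≤ Subgroup.center G)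
    (hcard : Nat.card (commutator G) = (Nat.card G).minFac)
    (hodd : (Nat.card G).minFac ≠ 2)
    (hB2 : ∀ u ∈ Subgroup.center G, u ^ (Nat.card G).minFac = 1 → u ∈ commutator G) :
    ∃ a : G, a ∉ Subgroup.center G ∧ a ^ (Nat.card G).minFac = 1 := by
  set n := Nat.card G with hn
  set p := n.minFac with hp
  have hn1 : n ≠ 1 := not_comm_group_card_ne_one hna
  have hpprime : p.Prime := Nat.minFac_prime hn1
  have hexp : ∀ x y : G, ⁅x, y⁆ ^ p = 1 := fun x y =>
    pow_p_eq_one_of_mem hcard (comm_mem_commutator x y)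
  by_contra hcon
  have hall : ∀ a : G, a ^ p = 1 → a ∈ Subgroup.center G := by
    intro a ha
    by_contra haZ
    exact hcon ⟨a, haZ, ha⟩
  set π := powHom hc p hpprime hodd hexp with hπ
  have hker : π.ker ≤ commutator G := by
    intro a ha
    rw [MonoidHom.mem_ker, hπ, powHom_apply] at ha
    exact hB2 a (hall a ha) ha
  have hrange : π.range ≤ Subgroup.center G := by
    rintro _ ⟨x, rfl⟩
    rw [hπ, powHom_apply]
    apply mem_center_of_comm_eq_one
    intro g
    rw [comm_pow_left hc, hexp]
  have h1 : Nat.card π.ker ≤ p := by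
    rw [← hcard]; exact Subgroup.card_le_of_le hker
  have h2 : Nat.card π.range ≤ Nat.card (Subgroup.center G) := Subgroup.card_le_of_le hrange
  have h3 : Nat.card π.ker * Nat.card π.range = n := by
    rw [← Subgroup.index_ker]; exact Subgroup.card_mul_index _
  have h4 := two_minFac_mul_card_center_le hna
  rw [← hn, ← hp] at h4
  have hZpos : 0 < Nat.card (Subgroup.center G) := Nat.card_pos
  have h5 : n ≤ p * Nat.card (Subgroup.center G) := by
    rw [← h3]; exact Nat.mul_le_mul h1 h2
  have hppos := hpprime.pos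
  nlinarith

/-- `p = 2`: if every central involution is in `G'` (of order `2`), there is a noncentral element
whose square is the nontrivial commutator. -/
theorem exists_noncentral_sq [Finite G] (hna : ¬ IsMulCommutative G)
    (hc : commutator G ≤ Subgroup.center G)
    (hcard : Nat.card (commutator G) = 2)
    (hB2 : ∀ u ∈ Subgroup.center G, u ^ 2 = 1 → u ∈ commutator G) :
    ∃ a : G, a ∉ Subgroup.center G ∧ a * a ∈ commutator G ∧ a * a ≠ 1 := by
  -- a nontrivial commutator
  obtain ⟨x, hx⟩ : ∃ x : G, x ∉ Subgroup.center G := by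
    by_contra h
    apply center_ne_top_of_not_comm hna
    rw [eq_top_iff]
    intro x _
    by_contra hx
    exact h ⟨x, hx⟩
  obtain ⟨y, hxy⟩ := exists_not_comm_of_not_mem_center hx
  set z := ⁅x, y⁆ with hz
  have hzG : z ∈ commutator G := comm_mem_commutator x y
  have hzZ : z ∈ Subgroup.center G := hc hzG
  have hz2 : z ^ 2 = 1 := pow_p_eq_one_of_mem hcard hzG
  have hzinv : z⁻¹ = z := by
    rw [inv_eq_iff_mul_eq_one, ← pow_two, hz2]
  have hexp : ∀ g h : G, ⁅g, h⁆ ^ 2 = 1 := fun g h =>
    pow_p_eq_one_of_mem hcard (comm_mem_commutator g h)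
  have hsqZ : ∀ g : G, g * g ∈ Subgroup.center G := by
    intro g
    apply mem_center_of_comm_eq_one
    intro h
    rw [← pow_two, comm_pow_left hc, hexp]
  have hyZ : y ∉ Subgroup.center G := by
    intro h
    apply hxy
    exact commutatorElement_eq_one_iff_mul_comm.mpr (Subgroup.mem_center_iff.mp h x)
  have hxyZ : x * y ∉ Subgroup.center G := by
    intro h
    apply hxy
    have h1 : ⁅x * y, y⁆ = 1 :=
      commutatorElement_eq_one_iff_mul_comm.mpr (Subgroup.mem_center_iff.mp h y).symm
    rw [comm_mul_left hc, commutatorElement_self, mul_one] at h1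
    exact h1
  -- the squaring map on the centre
  set f : Subgroup.center G →* Subgroup.center G := powMonoidHom (α := Subgroup.center G) 2 with hf
  have hkercard : Nat.card f.ker = 2 := by
    have hz'ker : (⟨z, hzZ⟩ : Subgroup.center G) ∈ f.ker := by
      rw [MonoidHom.mem_ker, hf, powMonoidHom_apply]
      apply Subtype.ext
      simpa using hz2
    rw [Nat.card_eq_two_iff' (1 : f.ker)]
    refine ⟨⟨⟨z, hzZ⟩, hz'ker⟩, ?_, ?_⟩
    · intro h
      apply hxy
      have := congrArg (fun t : f.ker => ((t : Subgroup.center G) : G)) h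
      simpa using this
    · rintro ⟨⟨u, huZ⟩, huker⟩ hu1
      have hu2 : u ^ 2 = 1 := by
        rw [MonoidHom.mem_ker, hf, powMonoidHom_apply] at huker
        have := congrArg Subtype.val huker
        simpa using this
      have huG : u ∈ commutator G := hB2 u huZ hu2
      have : Fact (Nat.Prime 2) := ⟨Nat.prime_two⟩
      rcases eq_one_or_eq_of_card_two hcard rfl hzG hxy huG with h | h
      · exfalso; apply hu1; apply Subtype.ext; apply Subtype.ext; exact h
      · apply Subtype.ext; apply Subtype.ext; exact h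
  have hidx : f.range.index = 2 := by
    have h1 : Nat.card f.range * f.range.index = Nat.card (Subgroup.center G) :=
      Subgroup.card_mul_index _
    have h2 : Nat.card f.ker * f.ker.index = Nat.card (Subgroup.center G) :=
      Subgroup.card_mul_index _
    rw [Subgroup.index_ker, hkercard] at h2
    have hpos : 0 < Nat.card f.range := Nat.card_pos
    have : Nat.card f.range * f.range.index = Nat.card f.range * 2 := by
      rw [h1, ← h2, mul_comm]
    exact Nat.eq_of_mul_eq_mul_left hpos this
  -- the property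
  have key : ∀ a : G, a ∉ Subgroup.center G →
      (⟨a * a, hsqZ a⟩ * (⟨z, hzZ⟩ : Subgroup.center G)⁻¹ ∈ f.range) →
      ∃ a : G, a ∉ Subgroup.center G ∧ a * a ∈ commutator G ∧ a * a ≠ 1 := by
    rintro a haZ ⟨⟨w, hwZ⟩, hw⟩
    rw [hf, powMonoidHom_apply] at hw
    have hw' : w ^ 2 = a * a * z⁻¹ := by
      have := congrArg Subtype.val hw
      simpa using this
    have hwc : ∀ g : G, g * w = w * g := Subgroup.mem_center_iff.mp hwZ
    have haw : (a * w⁻¹) * (a * w⁻¹) = z := by
      have e : (a * w⁻¹) * (a * w⁻¹) = a * (w⁻¹ * (a * w) * w⁻¹) * w⁻¹ := by group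
      rw [e, hwc a]
      have : a * (w⁻¹ * (w * a) * w⁻¹) * w⁻¹ = a * a * (w ^ 2)⁻¹ := by group
      rw [this, hw']
      have hzc : ∀ g : G, g * z = z * g := Subgroup.mem_center_iff.mp hzZ
      calc a * a * (a * a * z⁻¹)⁻¹ = (a * a) * z * (a * a)⁻¹ := by group
        _ = z * (a * a) * (a * a)⁻¹ := by rw [hzc (a * a)]
        _ = z := by group
    refine ⟨a * w⁻¹, ?_, ?_, ?_⟩
    · intro h
      apply haZ
      have : a = (a * w⁻¹) * w := by group
      rw [this]
      exact Subgroup.mul_mem _ h hwZ
    · rw [haw]; exact hzG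
    · rw [haw]; exact hxy
  by_cases hx' : (⟨x * x, hsqZ x⟩ * (⟨z, hzZ⟩ : Subgroup.center G)⁻¹ ∈ f.range)
  · exact key x hx hx'
  by_cases hy' : (⟨y * y, hsqZ y⟩ * (⟨z, hzZ⟩ : Subgroup.center G)⁻¹ ∈ f.range)
  · exact key y hyZ hy'
  apply key (x * y) hxyZ
  have hmul := (Subgroup.mul_mem_iff_of_index_two hidx
    (a := ⟨x * x, hsqZ x⟩ * (⟨z, hzZ⟩ : Subgroup.center G)⁻¹)
    (b := ⟨y * y, hsqZ y⟩ * (⟨z, hzZ⟩ : Subgroup.center G)⁻¹)).mpr
    ⟨fun h => absurd h hx', fun h => absurd h hy'⟩
  have heq : (⟨x * y * (x * y), hsqZ (x * y)⟩ * (⟨z, hzZ⟩ : Subgroup.center G)⁻¹)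
      = ⟨x * x, hsqZ x⟩ * (⟨z, hzZ⟩ : Subgroup.center G)⁻¹
        * (⟨y * y, hsqZ y⟩ * (⟨z, hzZ⟩ : Subgroup.center G)⁻¹) := by
    apply Subtype.ext
    simp only [Subgroup.coe_mul, Subgroup.coe_inv]
    have h1 := mul_pow_class2 hc x y 2
    have h2 : ⁅y, x⁆ = z := by rw [← commutatorElement_inv, ← hz, hzinv]
    rw [h2] at h1
    simp only [Nat.choose_self, pow_one, pow_two] at h1
    rw [h1]
    have hzc : ∀ g : G, g * z = z * g := Subgroup.mem_center_iff.mp hzZ
    rw [hzinv]
    have hzz : z * z = 1 := by rw [← pow_two, hz2]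
    calc x * x * (y * y) * z * z = x * x * (y * y) * (z * z) := by group
      _ = x * x * (y * y) := by rw [hzz, mul_one]
      _ = x * x * ((y * y) * (z * z)) := by rw [hzz, mul_one]
      _ = x * x * ((y * y * z) * z) := by group
      _ = x * x * ((z * (y * y)) * z) := by rw [hzc (y * y)]
      _ = x * x * z * (y * y * z) := by group
  rw [heq]
  exact hmul

/-- The case `|G'| = p`. -/
theorem caseB [Finite G] (hna : ¬ IsMulCommutative G)
    (hcard : Nat.card (commutator G) = (Nat.card G).minFac) :
    Nat.card (orbitRel.Quotient (MulAut G) G) ≤ Nat.card G / (Nat.card G).minFac := by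
  have hn1 : Nat.card G ≠ 1 := not_comm_group_card_ne_one hna
  have hpprime : (Nat.card G).minFac.Prime := Nat.minFac_prime hn1
  have : Fact (Nat.card G).minFac.Prime := ⟨hpprime⟩
  have hc := commutator_le_center_of_card hcard
  by_cases hB1 : ∃ u ∈ Subgroup.center G, u ^ (Nat.card G).minFac = 1 ∧ u ∉ commutator G
  · obtain ⟨u, huZ, hup, huG⟩ := hB1
    exact caseB1 hcard hna hc u huZ hup huG
  · have hB2 : ∀ u ∈ Subgroup.center G, u ^ (Nat.card G).minFac = 1 → u ∈ commutator G := by
      intro u huZ hup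
      by_contra huG
      exact hB1 ⟨u, huZ, hup, huG⟩
    by_cases hodd : (Nat.card G).minFac = 2
    · rw [hodd] at hcard hB2
      obtain ⟨a, haZ, ha2, ha1⟩ := exists_noncentral_sq hna hc hcard hB2
      have : Fact (Nat.Prime 2) := ⟨Nat.prime_two⟩
      exact caseB2_two hcard hna hc rfl a haZ ha2 ha1
    · obtain ⟨a, haZ, hap⟩ := exists_noncentral_pow_eq_one hna hc hcard hodd hB2
      exact caseB2_odd hcard hna hc hodd a haZ hap

end Cfsg.Agent.Helper13.AutOrb
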