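import Mathlib
import Cfsg.Agent.Helper16.BCDefs
import Cfsg.Agent.Helper16.BCArrowLib
import Cfsg.Agent.Helper16.BCGENPRIN
import Cfsg.Agent.Helper25.FusionAlperin

set_option autoImplicit false

/-! S5110 piece GEN: `Aut_F(Q)` is generated by restrictions from overgroups. -/

namespace Cfsg.Agent.Helper16.BC

open Cfsg Cfsg.FusionSystem Cfsg.Agent.Helper25

variable {Ω : Type*} [Group Ω] {S : Subgroup Ω}

namespace GEN

theorem exists_preimage {A Q : Subgroup Ω} (hAS : A ≤ S) (θA : normalizerIn S A →* Ω)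
    (hθAQ : img θA A = Q) (y : Q) :
    ∃ x : A, θA ⟨(x : Ω), le_normalizerIn_self hAS x.2⟩ = (y : Ω) := by
  have hy : (y : Ω) ∈ img θA A := hθAQ ▸ y.2
  obtain ⟨n, hn, hny⟩ := (mem_img θA A _).mp hy
  exact ⟨⟨n, hn⟩, hny⟩

theorem mem_Q {A Q : Subgroup Ω} (hAS : A ≤ S) (θA : normalizerIn S A →* Ω)
    (hθAQ : img θA A = Q) (x : A) : θA ⟨(x : Ω), le_normalizerIn_self hAS x.2⟩ ∈ Q := by
  rw [← hθAQ]
  exact mem_img_of_mem θA _ x.2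

/-- The core: a map defined on a subgroup `D` with `A < D ≤ N_S(A)` gives, after transport to `Q`,
an element of `Γ'`. -/
theorem core [Finite S] (F : FusionSystem S) {Q : Subgroup Ω}
    (Γ' : Subgroup (MulAut Q))
    (hres : ∀ (R : Subgroup Ω) (hQR : Q ≤ R) (ψ : R →* Ω), R ≠ Q → R ≤ normalizerIn S Q →
      ψ ∈ F.Hom R → img ψ Q = Q → ∀ α : MulAut Q, IsRes hQR ψ α → α ∈ Γ')
    {A B D : Subgroup Ω}
    (θA : normalizerIn S A →* Ω) (hθA : θA ∈ F.Hom (normalizerIn S A)) (hθAQ : img θA A = Q)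
    (θB : normalizerIn S B →* Ω) (hθB : θB ∈ F.Hom (normalizerIn S B)) (hθBQ : img θB B = Q)
    (hAD : A ≤ D) (hDN : D ≤ normalizerIn S A) (hDA : D ≠ A)
    (ψ : D →* Ω) (hψ : ψ ∈ F.Hom D) (hψB : img ψ A = B)
    (α : MulAut Q)
    (hα : ∀ (x : D) (_ : (x : Ω) ∈ A) (y : Q), θA ⟨(x : Ω), hDN x.2⟩ = (y : Ω) →
       ∀ hB : ψ x ∈ normalizerIn S B, θB ⟨ψ x, hB⟩ = ((α y : Q) : Ω)) : α ∈ Γ' := by
  have hψ'mem : θA.comp (Subgroup.inclusion hDN) ∈ F.Hom D := restrict_mem F hDN hθA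
  obtain ⟨ψ', hψ'e⟩ : ∃ ψ' : D →* Ω, ψ' = θA.comp (Subgroup.inclusion hDN) := ⟨_, rfl⟩
  have hψ' : ψ' ∈ F.Hom D := by rw [hψ'e]; exact hψ'mem
  have hψ'app : ∀ x : D, ψ' x = θA ⟨(x : Ω), hDN x.2⟩ := fun x => by rw [hψ'e]; rfl
  obtain ⟨χ, hχ, hχinv, hχr⟩ := exists_inv_mem F hψ' (rfl : ψ'.range = ψ'.range)
  have hχD : ∀ r : ψ'.range, χ r ∈ D := by
    intro r
    exact le_of_eq hχr ⟨r, rfl⟩
  have hψN : ∀ x : D, ψ x ∈ normalizerIn S B := by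
    intro x
    rw [← hψB]
    exact map_mem_normalizerIn F hψ hDN x
  have hval : ∀ r : ψ'.range, (ψ.comp (χ.codRestrict D hχD)) r ∈ normalizerIn S B :=
    fun r => hψN _
  have h1 : ψ.comp (χ.codRestrict D hχD) ∈ F.Hom ψ'.range := F.comp_mem hχ hψ hχD
  have hμ : θB.comp ((ψ.comp (χ.codRestrict D hχD)).codRestrict (normalizerIn S B) hval)
      ∈ F.Hom ψ'.range := F.comp_mem h1 hθB hval
  obtain ⟨μ, hμe⟩ : ∃ μ : ψ'.range →* Ω, μ =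
      θB.comp ((ψ.comp (χ.codRestrict D hχD)).codRestrict (normalizerIn S B) hval) := ⟨_, rfl⟩
  rw [← hμe] at hμ
  have hμapp : ∀ (x : D) (hx : ψ' x ∈ ψ'.range), μ ⟨ψ' x, hx⟩ = θB ⟨ψ x, hψN x⟩ := by
    intro x hx
    rw [hμe]
    have h2 : χ ⟨ψ' x, hx⟩ = (x : Ω) := hχinv x hx
    have h3 : (χ.codRestrict D hχD) ⟨ψ' x, hx⟩ = x := Subtype.ext h2
    show θB ⟨ψ ((χ.codRestrict D hχD) ⟨ψ' x, hx⟩), _⟩ = θB ⟨ψ x, hψN x⟩
    congr 2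
    rw [h3]
  -- `Q ≤ R`
  have hQR : Q ≤ ψ'.range := by
    intro y hy
    have hy' : y ∈ img θA A := hθAQ ▸ hy
    obtain ⟨n, hn, hny⟩ := (mem_img θA A _).mp hy'
    refine ⟨⟨n, hAD hn⟩, ?_⟩
    rw [hψ'app, ← hny]
  have hRN : ψ'.range ≤ normalizerIn S Q := by
    rintro _ ⟨x, rfl⟩
    rw [hψ'app, ← hθAQ]
    exact map_mem_normalizerIn F hθA le_rfl _
  have hRQ : ψ'.range ≠ Q := by
    intro h
    apply hDA
    apply le_antisymm _ hAD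
    intro d hd
    have h4 : ψ' ⟨d, hd⟩ ∈ Q := h ▸ ⟨⟨d, hd⟩, rfl⟩
    rw [hψ'app, ← hθAQ] at h4
    exact mem_of_mem_img (F.injective_of_mem hθA) h4
  have hRS : ψ'.range ≤ S := hRN.trans inf_le_left
  have hQfin : Finite Q := finite_of_le (hQR.trans hRS)
  have himg : img μ Q = Q := by
    have hle : img μ Q ≤ Q := by
      intro y hy
      obtain ⟨r, hr, rfl⟩ := (mem_img μ Q y).mp hy
      have hr' : (r : Ω) ∈ img θA A := hθAQ ▸ hr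
      obtain ⟨n, hn, hnr⟩ := (mem_img θA A _).mp hr'
      have h5 : r = ⟨ψ' ⟨n, hAD hn⟩, ⟨_, rfl⟩⟩ := by
        apply Subtype.ext
        show (r : Ω) = ψ' ⟨n, hAD hn⟩
        rw [hψ'app]
        exact hnr.symm
      have h7 := hμapp ⟨n, hAD hn⟩ ⟨_, rfl⟩
      rw [h5, h7, ← hθBQ]
      apply mem_img_of_mem
      show ψ ⟨n, hAD hn⟩ ∈ B
      rw [← hψB]
      exact mem_img_of_mem ψ _ hn
    exact Subgroup.eq_of_le_of_card_ge hle (card_img (F.injective_of_mem hμ) hQR).ge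
  have hIsRes : IsRes hQR μ α := by
    intro y
    have hy' : (y : Ω) ∈ img θA A := hθAQ ▸ y.2
    obtain ⟨n, hn, hny⟩ := (mem_img θA A _).mp hy'
    have h6 := hα ⟨n, hAD hn⟩ hn y hny (hψN _)
    rw [← h6, ← hμapp ⟨n, hAD hn⟩ ⟨_, rfl⟩]
    congr 1
    apply Subtype.ext
    show ψ' ⟨n, hAD hn⟩ = (y : Ω)
    rw [hψ'app, ← hny]
  exact hres ψ'.range hQR μ hRQ hRN hμ himg α hIsRes

theorem exists_iso (F : FusionSystem S) {A Q : Subgroup Ω} (hAS : A ≤ S)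
    {θA : normalizerIn S A →* Ω} (hθA : θA ∈ F.Hom (normalizerIn S A)) (hθAQ : img θA A = Q) :
    ∃ t : A ≃* Q, ∀ x : A, ((t x : Q) : Ω) = θA ⟨(x : Ω), le_normalizerIn_self hAS x.2⟩ := by
  have hinjA : Function.Injective (θA.comp (Subgroup.inclusion (le_normalizerIn_self hAS))) :=
    (F.injective_of_mem hθA).comp (Subgroup.inclusion_injective _)
  have hrA : (θA.comp (Subgroup.inclusion (le_normalizerIn_self hAS))).range = Q := by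
    ext y
    constructor
    · rintro ⟨x, rfl⟩
      exact mem_Q hAS θA hθAQ x
    · intro hy
      obtain ⟨x, hx⟩ := exists_preimage hAS θA hθAQ ⟨y, hy⟩
      exact ⟨x, hx⟩
  exact ⟨isoOfHom _ hinjA hrA, fun x => rfl⟩

theorem exists_aut (F : FusionSystem S) {A B Q : Subgroup Ω} (hAS : A ≤ S) (hBS : B ≤ S)
    {θA : normalizerIn S A →* Ω} (hθA : θA ∈ F.Hom (normalizerIn S A)) (hθAQ : img θA A = Q)
    {θB : normalizerIn S B →* Ω} (hθB : θB ∈ F.Hom (normalizerIn S B)) (hθBQ : img θB B = Q)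
    {φ : A →* Ω} (hφ : φ ∈ F.Hom A) (hr : φ.range = B) :
    ∃ α : MulAut Q, ∀ (x : A) (y : Q), θA ⟨(x : Ω), le_normalizerIn_self hAS x.2⟩ = (y : Ω) →
      ∀ hx : φ x ∈ B, θB ⟨φ x, le_normalizerIn_self hBS hx⟩ = ((α y : Q) : Ω) := by
  obtain ⟨tA, htA⟩ := exists_iso F hAS hθA hθAQ
  obtain ⟨tB, htB⟩ := exists_iso F hBS hθB hθBQ
  obtain ⟨φi, hφi⟩ : ∃ φi : A ≃* B, ∀ x : A, ((φi x : B) : Ω) = φ x :=
    ⟨isoOfHom φ (F.injective_of_mem hφ) hr, fun x => rfl⟩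
  refine ⟨tA.symm.trans (φi.trans tB), ?_⟩
  intro x y hxy hx
  have h1 : tA x = y := Subtype.ext ((htA x).trans hxy)
  have h2 : tA.symm y = x := by rw [← h1, MulEquiv.symm_apply_apply]
  show _ = ((tB (φi (tA.symm y)) : Q) : Ω)
  rw [h2, htB]
  congr 2
  exact (hφi x).symm

/-- The relation used in the generation principle. -/
def Rel (Q : Subgroup Ω) (Γ' : Subgroup (MulAut Q))
    (θ : ∀ A : Subgroup Ω, normalizerIn S A →* Ω) (A : Subgroup Ω) (φ : A →* Ω) : Prop :=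
  ∀ (hAS : A ≤ S) (B : Subgroup Ω) (hBS : B ≤ S) (_ : φ.range = B) (α : MulAut Q),
    (∀ (x : A) (y : Q), θ A ⟨(x : Ω), le_normalizerIn_self hAS x.2⟩ = (y : Ω) →
      ∀ hx : φ x ∈ B, θ B ⟨φ x, le_normalizerIn_self hBS hx⟩ = ((α y : Q) : Ω)) → α ∈ Γ'

theorem rel_comp (F : FusionSystem S) {Q : Subgroup Ω} (Γ' : Subgroup (MulAut Q))
    (θ : ∀ A : Subgroup Ω, normalizerIn S A →* Ω)
    (hθ1 : ∀ A, F.IsConj A Q → θ A ∈ F.Hom (normalizerIn S A))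
    (hθ2 : ∀ A, F.IsConj A Q → img (θ A) A = Q)
    {A : Subgroup Ω} (hA : F.IsConj A Q) (φ : A →* Ω) (B : Subgroup Ω) (ψ : B →* Ω) (χ : A →* Ω)
    (hφ : φ ∈ F.Hom A) (hr : φ.range = B) (hψ : ψ ∈ F.Hom B)
    (hχ : ∀ (x : A) (h : φ x ∈ B), χ x = ψ ⟨φ x, h⟩) (h1 : Rel Q Γ' θ A φ)
    (h2 : Rel Q Γ' θ B ψ) : Rel Q Γ' θ A χ := by
  intro hAS C hCS hrC α hα
  have hB : F.IsConj B Q := isConj_trans F (isConj_symm F ⟨φ, hφ, hr⟩) hA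
  have hBS : B ≤ S := (isConj_le F hB).1
  have hφB : ∀ x : A, φ x ∈ B := fun x => hr ▸ ⟨x, rfl⟩
  have hψr : ψ.range = C := by
    rw [← hrC]
    ext y
    constructor
    · rintro ⟨b, rfl⟩
      have hb : (b : Ω) ∈ φ.range := hr ▸ b.2
      obtain ⟨x, hx⟩ := hb
      refine ⟨x, ?_⟩
      rw [hχ x (hφB x)]
      congr 1
      exact Subtype.ext hx
    · rintro ⟨x, rfl⟩
      exact ⟨⟨φ x, hφB x⟩, (hχ x _).symm⟩
  have hC : F.IsConj C Q := isConj_trans F (isConj_symm F ⟨ψ, hψ, hψr⟩) hB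
  obtain ⟨α₁, hα₁⟩ := exists_aut F hAS hBS (hθ1 A hA) (hθ2 A hA) (hθ1 B hB) (hθ2 B hB) hφ hr
  obtain ⟨α₂, hα₂⟩ := exists_aut F hBS hCS (hθ1 B hB) (hθ2 B hB) (hθ1 C hC) (hθ2 C hC) hψ hψr
  have m1 : α₁ ∈ Γ' := h1 hAS B hBS hr α₁ hα₁
  have m2 : α₂ ∈ Γ' := h2 hBS C hCS hψr α₂ hα₂
  have e : α = α₂ * α₁ := by
    apply MulEquiv.ext
    intro y
    obtain ⟨x, hx⟩ := exists_preimage hAS (θ A) (hθ2 A hA) y
    have hχC : χ x ∈ C := hrC ▸ ⟨x, rfl⟩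
    have e1 := hα x y hx hχC
    have e2 := hα₁ x y hx (hφB x)
    have hψC : ψ ⟨φ x, hφB x⟩ ∈ C := hψr ▸ ⟨_, rfl⟩
    have e3 := hα₂ ⟨φ x, hφB x⟩ (α₁ y) e2 hψC
    apply Subtype.ext
    rw [MulAut.mul_apply, ← e1, ← e3]
    congr 2
    exact hχ x _
  rw [e]
  exact Γ'.mul_mem m2 m1

theorem rel_inv (F : FusionSystem S) {Q : Subgroup Ω} (Γ' : Subgroup (MulAut Q))
    (θ : ∀ A : Subgroup Ω, normalizerIn S A →* Ω)
    (hθ1 : ∀ A, F.IsConj A Q → θ A ∈ F.Hom (normalizerIn S A))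
    (hθ2 : ∀ A, F.IsConj A Q → img (θ A) A = Q)
    {A : Subgroup Ω} (hA : F.IsConj A Q) (φ : A →* Ω) (B : Subgroup Ω) (ψ : B →* Ω)
    (hφ : φ ∈ F.Hom A) (hr : φ.range = B)
    (hinv : ∀ (x : A) (h : φ x ∈ B), ψ ⟨φ x, h⟩ = (x : Ω)) (h1 : Rel Q Γ' θ A φ) :
    Rel Q Γ' θ B ψ := by
  intro hBS A' hA'S hrA' α hα
  have hAS : A ≤ S := (isConj_le F hA).1
  have hφB : ∀ x : A, φ x ∈ B := fun x => hr ▸ ⟨x, rfl⟩
  have hA'A : A' = A := by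
    rw [← hrA']
    ext y
    constructor
    · rintro ⟨b, rfl⟩
      have hb : (b : Ω) ∈ φ.range := hr ▸ b.2
      obtain ⟨x, hx⟩ := hb
      have hbe : b = ⟨φ x, hφB x⟩ := Subtype.ext hx.symm
      rw [hbe, hinv]
      exact x.2
    · intro hy
      exact ⟨⟨φ ⟨y, hy⟩, hφB _⟩, hinv ⟨y, hy⟩ _⟩
  subst hA'A
  have hB : F.IsConj B Q := isConj_trans F (isConj_symm F ⟨φ, hφ, hr⟩) hA
  obtain ⟨α₁, hα₁⟩ := exists_aut F hAS hBS (hθ1 _ hA) (hθ2 _ hA) (hθ1 B hB) (hθ2 B hB) hφ hr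
  have m1 : α₁ ∈ Γ' := h1 hAS B hBS hr α₁ hα₁
  have e : α₁ * α = 1 := by
    apply MulEquiv.ext
    intro y
    obtain ⟨b, hb⟩ := exists_preimage hBS (θ B) (hθ2 B hB) y
    have hb' : (b : Ω) ∈ φ.range := hr ▸ b.2
    obtain ⟨x, hx⟩ := hb'
    have hbe : b = ⟨φ x, hφB x⟩ := Subtype.ext hx.symm
    have hψx : ψ b = (x : Ω) := by rw [hbe, hinv]
    have hψA : ψ b ∈ _ := hψx ▸ x.2
    have e1 := hα b y hb hψA
    have e1' : θ _ ⟨(x : Ω), le_normalizerIn_self hAS x.2⟩ = ((α y : Q) : Ω) := by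
      rw [← e1]
      congr 2
      exact hψx.symm
    have e2 := hα₁ x (α y) e1' (hφB x)
    apply Subtype.ext
    rw [MulAut.mul_apply, ← e2]
    show θ B ⟨φ x, _⟩ = (y : Ω)
    rw [← hb]
    congr 2
  have e' : α = α₁⁻¹ := eq_inv_of_mul_eq_one_right e
  rw [e']
  exact Γ'.inv_mem m1

theorem rel_conj [Finite S] (p : ℕ) [Fact p.Prime] (hS : IsPGroup p S) (F : FusionSystem S)
    {Q : Subgroup Ω} (hQS : Q ≤ S) (hQne : Q ≠ S) (Γ' : Subgroup (MulAut Q))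
    (hres : ∀ (R : Subgroup Ω) (hQR : Q ≤ R) (ψ : R →* Ω), R ≠ Q → R ≤ normalizerIn S Q →
      ψ ∈ F.Hom R → img ψ Q = Q → ∀ α : MulAut Q, IsRes hQR ψ α → α ∈ Γ')
    (θ : ∀ A : Subgroup Ω, normalizerIn S A →* Ω)
    (hθ1 : ∀ A, F.IsConj A Q → θ A ∈ F.Hom (normalizerIn S A))
    (hθ2 : ∀ A, F.IsConj A Q → img (θ A) A = Q)
    {A : Subgroup Ω} (hA : F.IsConj A Q) (g : Ω) (hg : g ∈ S) :
    Rel Q Γ' θ A (conjHom A g) := by
  intro hAS B hBS hr α hα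
  have hB : F.IsConj B Q :=
    isConj_trans F (isConj_symm F ⟨conjHom A g, F.conj_mem hAS hg, hr⟩) hA
  have hAne : A ≠ S := by
    intro h
    have hc := card_eq_of_isConj F hA
    apply hQne
    exact Subgroup.eq_of_le_of_card_ge hQS (by rw [← hc, h])
  obtain ⟨d, hdN, hdA⟩ := exists_mem_normalizerIn_not_mem p hS hAS hAne
  refine core F Γ' hres (θ A) (hθ1 A hA) (hθ2 A hA) (θ B) (hθ1 B hB) (hθ2 B hB)
    (le_normalizerIn_self hAS) le_rfl ?_ (conjHom (normalizerIn S A) g)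
    (F.conj_mem inf_le_left hg) ?_ α ?_
  · intro h
    exact hdA (h ▸ hdN)
  · rw [← hr]
    ext y
    rw [mem_img]
    constructor
    · rintro ⟨x, hx, rfl⟩
      exact ⟨⟨x, hx⟩, rfl⟩
    · rintro ⟨x, rfl⟩
      exact ⟨⟨x, le_normalizerIn_self hAS x.2⟩, x.2, rfl⟩
  · intro x hx y hxy hB'
    have hmem : (conjHom A g) ⟨x, hx⟩ ∈ B := hr ▸ ⟨_, rfl⟩
    exact hα ⟨x, hx⟩ y hxy hmem

theorem rel_res [Finite S] (p : ℕ) [Fact p.Prime] (hS : IsPGroup p S) (F : FusionSystem S)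
    {Q : Subgroup Ω} (Γ' : Subgroup (MulAut Q))
    (hres : ∀ (R : Subgroup Ω) (hQR : Q ≤ R) (ψ : R →* Ω), R ≠ Q → R ≤ normalizerIn S Q →
      ψ ∈ F.Hom R → img ψ Q = Q → ∀ α : MulAut Q, IsRes hQR ψ α → α ∈ Γ')
    (θ : ∀ A : Subgroup Ω, normalizerIn S A →* Ω)
    (hθ1 : ∀ A, F.IsConj A Q → θ A ∈ F.Hom (normalizerIn S A))
    (hθ2 : ∀ A, F.IsConj A Q → img (θ A) A = Q)
    {R₁ : Subgroup Ω} (ψ : R₁ →* Ω) (hψ : ψ ∈ F.Hom R₁)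
    {A : Subgroup Ω} (hA : F.IsConj A Q) (hne : A ≠ R₁) (hAR : A ≤ R₁) :
    Rel Q Γ' θ A (ψ.comp (Subgroup.inclusion hAR)) := by
  intro hAS B hBS hr α hα
  have hR₁S : R₁ ≤ S := (F.le_of_mem hψ).1
  have hB : F.IsConj B Q :=
    isConj_trans F (isConj_symm F ⟨_, restrict_mem F hAR hψ, hr⟩) hA
  have hfin : Finite R₁ := finite_of_le hR₁S
  obtain ⟨d, hdN, hdA⟩ :=
    exists_mem_normalizerIn_not_mem (S := R₁) p (hS.to_le hR₁S) hAR hne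
  have hdD : d ∈ R₁ ⊓ normalizerIn S A :=
    ⟨(Subgroup.mem_inf.mp hdN).1, hR₁S (Subgroup.mem_inf.mp hdN).1, (Subgroup.mem_inf.mp hdN).2⟩
  refine core F Γ' hres (θ A) (hθ1 A hA) (hθ2 A hA) (θ B) (hθ1 B hB) (hθ2 B hB)
    (le_inf hAR (le_normalizerIn_self hAS)) inf_le_right ?_
    (ψ.comp (Subgroup.inclusion (inf_le_left : R₁ ⊓ normalizerIn S A ≤ R₁)))
    (restrict_mem F inf_le_left hψ) ?_ α ?_
  · intro h
    exact hdA (h ▸ hdD)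
  · rw [← hr]
    ext y
    rw [mem_img]
    constructor
    · rintro ⟨x, hx, rfl⟩
      exact ⟨⟨x, hx⟩, rfl⟩
    · rintro ⟨x, rfl⟩
      exact ⟨⟨x, le_inf hAR (le_normalizerIn_self hAS) x.2⟩, x.2, rfl⟩
  · intro x hx y hxy hB'
    have hmem : (ψ.comp (Subgroup.inclusion hAR)) ⟨x, hx⟩ ∈ B := hr ▸ ⟨_, rfl⟩
    exact hα ⟨x, hx⟩ y hxy hmem

end GEN

theorem gen [Finite S] (p : ℕ) [Fact p.Prime] (hS : IsPGroup p S) (F : FusionSystem S)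
    (ℋ : Set (Subgroup Ω)) (hyp : Hyp p F ℋ) {Q : Subgroup Ω} (hQS : Q ≤ S) (hQℋ : Q ∉ ℋ)
    (hQne : Q ≠ S) (harrow : ∀ A, F.IsConj A Q → NArrow F A Q)
    (Γ' : Subgroup (MulAut Q))
    (hres : ∀ (R : Subgroup Ω) (hQR : Q ≤ R) (ψ : R →* Ω), R ≠ Q → R ≤ normalizerIn S Q →
      ψ ∈ F.Hom R → img ψ Q = Q → ∀ α : MulAut Q, IsRes hQR ψ α → α ∈ Γ') :
    F.autGroup Q ≤ Γ' := by
  have hex : ∀ A : Subgroup Ω, ∃ ρ : normalizerIn S A →* Ω,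
      (F.IsConj A Q → ρ ∈ F.Hom (normalizerIn S A) ∧ img ρ A = Q) ∧
      (A = Q → ∀ x, ρ x = (x : Ω)) := by
    intro A
    by_cases hAQ : A = Q
    · refine ⟨(normalizerIn S A).subtype,
        fun _ => ⟨subtype_mem F inf_le_left, ?_⟩, fun _ _ => rfl⟩
      have hAS : A ≤ S := hAQ ▸ hQS
      rw [← hAQ]
      ext y
      rw [mem_img]
      constructor
      · rintro ⟨x, hx, rfl⟩
        exact hx
      · intro hy
        exact ⟨⟨y, le_normalizerIn_self hAS hy⟩, hy, rfl⟩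
    · by_cases h : F.IsConj A Q
      · obtain ⟨ρ, hρ, hρQ⟩ := harrow A h
        exact ⟨ρ, fun _ => ⟨hρ, hρQ⟩, fun h' => absurd h' hAQ⟩
      · exact ⟨(normalizerIn S A).subtype, fun h' => absurd h' h, fun h' => absurd h' hAQ⟩
  choose θ hθ using hex
  have hθ1 : ∀ A, F.IsConj A Q → θ A ∈ F.Hom (normalizerIn S A) := fun A h => ((hθ A).1 h).1
  have hθ2 : ∀ A, F.IsConj A Q → img (θ A) A = Q := fun A h => ((hθ A).1 h).2
  have hθQ : ∀ x, θ Q x = (x : Ω) := (hθ Q).2 rfl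
  have key := genprin p F ℋ hyp {A | F.IsConj A Q}
    (fun A hA B hAB => isConj_trans F (isConj_symm F hAB) hA)
    (fun A hA hAℋ => hQℋ (hyp.conj A hAℋ Q hA))
    (GEN.Rel Q Γ' θ)
    (fun A hA g hg => GEN.rel_conj p hS F hQS hQne Γ' hres θ hθ1 hθ2 hA g hg)
    (fun A hA φ B ψ χ hφ hr hψ hχ h1 h2 =>
      GEN.rel_comp F Γ' θ hθ1 hθ2 hA φ B ψ χ hφ hr hψ hχ h1 h2)
    (fun A hA φ B ψ hφ hr _ hinv h1 => GEN.rel_inv F Γ' θ hθ1 hθ2 hA φ B ψ hφ hr hinv h1)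
    (fun R hR ψ hψ A hA hAR =>
      GEN.rel_res p hS F Γ' hres θ hθ1 hθ2 ψ hψ hA
        (fun h => hQℋ (hyp.conj R hR Q (h ▸ hA))) hAR)
  intro α hα
  have hαF : autHom α ∈ F.Hom Q := (mem_autGroup_iff F hQS α).mp hα
  have hrel := key Q (isConj_refl F hQS) (autHom α) hαF
  refine hrel hQS Q hQS (autHom_range α) α ?_
  intro x y hxy hx
  rw [hθQ] at hxy ⊢
  have hxy' : x = y := Subtype.ext hxy
  subst hxy'
  rfl

end Cfsg.Agent.Helper16.BC
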