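import Mathlib
import Cfsg.Prelude.Def_OddOrderLocal
import Cfsg.Agent.Helper13.BG158A
import Cfsg.Agent.Helper9.BG12g
import Cfsg.Agent.Helper10.BG16B
import Cfsg.Agent.Helper27.BG15G

/-!
# B&G Theorem 15.8 (S1435): the maximal subgroups over `N_G(R)`, clauses (2) and (5)
-/

set_option autoImplicit false
set_option linter.unusedSectionVars false
set_option linter.unusedVariables false
set_option linter.style.haveILetI false

namespace Cfsg.Agent.Helper13.BG158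

open Subgroup Cfsg
open Cfsg.Agent.Helper14 (IsSylowIn cj map_cj_eq_self_of_mem exists_isSylowIn_ge mem_map_cj
  mem_normalizer_iff_map_cj map_cj_normalizer map_cj_centralizer map_cj_one map_cj_mul
  map_cj_le_iff)
open Cfsg.Agent.Helper27.BG15

universe u

variable {G : Type u} [Group G] [Finite G]

section sylow

/-- a Sylow subgroup of `M` lying in a conjugate of `M` is a Sylow subgroup of that conjugate -/
theorem isSylowIn_of_le_map_cj {p : ℕ} [Fact p.Prime] {P M : Subgroup G} (hP : IsSylowIn p P M)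
    {g : G} (hle : P ≤ M.map (cj g)) : IsSylowIn p P (M.map (cj g)) := by
  obtain ⟨V, hV, hPV⟩ := exists_isSylowIn_ge hle hP.2.1
  obtain ⟨m, hm, hVm⟩ := (hP.map_cj g).exists_conj hV
  have hcard : Nat.card V = Nat.card P := by
    rw [hVm, card_map_cj', card_map_cj']
  have hVP : P = V := Subgroup.eq_of_le_of_card_ge hPV hcard.le
  rw [hVP]; exact hV

theorem ne_bot_of_isSylowIn_of_dvd {p : ℕ} [Fact p.Prime] {R U : Subgroup G}
    (hR : IsSylowIn p R U) (hd : p ∣ Nat.card U) : R ≠ ⊥ := by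
  intro h0
  have h1 := Sylow.ne_bot_of_dvd_card hR.toSylow hd
  apply h1
  have h2 := hR.toSylow_map.trans h0
  exact (Subgroup.map_eq_bot_iff_of_injective _ U.subtype_injective).mp h2

end sylow

variable {M K U Mstar H : Subgroup G}

/-- a Sylow subgroup of `U` is a Sylow subgroup of `M` -/
theorem Cfg.isSylowIn_of_U (I : Inp G) (c : Cfg M K U Mstar) {r : ℕ} [Fact r.Prime]
    (hrd : r ∣ Nat.card U) {R : Subgroup G} (hR : IsSylowIn r R U) : IsSylowIn r R M := by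
  have hr : r.Prime := Fact.out
  have hrκ := Cfsg.Agent.Helper18.BG16B.not_mem_kappa_of_dvd_card_U c.hKU hr hrd
  have hrσ := Cfsg.Agent.Helper18.BG16B.not_mem_sigma_of_dvd_card_U c.hKU (st1350' I) c.hM hr hrd
  have hnd : ¬ r ∣ U.relIndex M := by
    rw [relIndex_U c]
    intro hd
    have hKn : K ≤ normalizer (Cfsg.sigmaCore M : Set G) :=
      c.K_le.trans (Cfsg.Agent.H9.BG12.le_normalizer_sigmaCore M)
    have h2 := Cfsg.Agent.Helper17.card_sup_mul_card_inf (Cfsg.sigmaCore M) K hKn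
    have hd2 : r ∣ Nat.card (Cfsg.sigmaCore M) * Nat.card K := by
      rw [← h2, sup_comm]
      exact Dvd.dvd.mul_right hd _
    rcases (Nat.Prime.dvd_mul hr).mp hd2 with h3 | h3
    · exact hrσ (Cfsg.Agent.H9.BG12.mem_sigma_of_dvd_card_sigmaCore hr h3)
    · exact hrκ (c.hKU.hall.2.1 r hr h3)
  exact Cfsg.Agent.Helper14.isSylowIn_of_not_dvd_relIndex hR c.U_le hnd

/-- `K* ≠ 1` -/
theorem Cfg.Kstar_ne_bot (I : Inp G) (c : Cfg M K U Mstar) :
    Cfsg.sigmaCore M ⊓ centralizer (K : Set G) ≠ ⊥ :=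
  (I.h1354 M c.hM K c.hKU.cyclic c.hKU.hall).1

/-- `K ∩ M*^g = 1` for `g ∉ M*` -/
theorem K_inf_map_cj (I : Inp G) (c : Cfg M K U Mstar) {g : G} (hg : g ∉ Mstar) :
    K ⊓ Mstar.map (cj g) = ⊥ := by
  have h0 := (I.h.h1431 Mstar c.hMstar _ c.hKstH (c.Kstar_ne_bot I)).1 g hg
  rw [← c.hKst] at h0
  exact h0

theorem mem_Mstar_of_K_le (I : Inp G) (c : Cfg M K U Mstar) {g : G}
    (h : K ≤ Mstar.map (cj g)) : g ∈ Mstar := by
  by_contra hg
  apply c.hK1
  rw [eq_bot_iff, ← K_inf_map_cj I c hg]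
  exact le_inf le_rfl h

theorem U_nilpotent' (I : Inp G) (c : Cfg M K U Mstar) : Group.IsNilpotent U :=
  Cfsg.Agent.Helper1.BG16C.U_nilpotent c.hKU c.hK1 (I.h1353 M c.hM K U c.hKU)

/-- a maximal subgroup containing `N_G(R)`, `R` a nontrivial Sylow subgroup of `U`, is not
conjugate to `M` or `M*` and contains `U K` -/
theorem hc_of_normalizer (I : Inp G) (c : Cfg M K U Mstar) {r : ℕ} [Fact r.Prime]
    (hrd : r ∣ Nat.card U) {R : Subgroup G} (hR : IsSylowIn r R U) (hH : IsCoatom H)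
    (hNR : normalizer (R : Set G) ≤ H) : HC M K Mstar H ∧ U ≤ H := by
  have hr : r.Prime := Fact.out
  have hUnil := U_nilpotent' I c
  have hUN : U ≤ normalizer (R : Set G) :=
    Cfsg.Agent.H9.BG12.le_normalizer_sylow_of_nilpotent hUnil le_normalizer hR
  have hKN : K ≤ normalizer (R : Set G) :=
    Cfsg.Agent.H9.BG12.le_normalizer_sylow_of_nilpotent hUnil c.hKU.normal hR
  have hUH : U ≤ H := hUN.trans hNR
  have hKH : K ≤ H := hKN.trans hNR
  have hRM := c.isSylowIn_of_U I hrd hR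
  have hrσ := Cfsg.Agent.Helper18.BG16B.not_mem_sigma_of_dvd_card_U c.hKU (st1350' I) c.hM hr hrd
  have hR1 : R ≠ ⊥ := ne_bot_of_isSylowIn_of_dvd hR hrd
  refine ⟨⟨hH, ?_, ?_, hKH⟩, hUH⟩
  · intro g hg
    have hle : R ≤ M.map (cj g) := by rw [← hg]; exact le_normalizer.trans hNR
    have hS := isSylowIn_of_le_map_cj hRM hle
    have hmem : r ∈ Cfsg.sigma (M.map (cj g)) :=
      Cfsg.Agent.Helper16.BG11.mem_sigma_of_isSylowIn hS hR1 (hg ▸ hNR)
    have h2 := Cfsg.Agent.Helper16.BG11.mem_sigma_map_cj g⁻¹ hmem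
    rw [Cfsg.Agent.Helper14.map_cj_map_cj_inv] at h2
    exact hrσ h2
  · intro g hg
    have hgM : g ∈ Mstar := mem_Mstar_of_K_le I c (hg ▸ hKH)
    have hHM : H = Mstar := by rw [hg, map_cj_eq_self_of_mem hgM]
    have h68 := (I.h1368 M c.hM K U c.hKU c.hK1 Mstar c.hMstar c.hKst c.hKstH).1
    have hU2 : U ≤ K ⊔ Cfsg.sigmaCore M := by
      have h1 : U ≤ M ⊓ Mstar := le_inf c.U_le (hHM ▸ hUH)
      rw [h68] at h1
      exact h1.trans (sup_le_sup_left inf_le_left K)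
    apply c.hU1
    rw [eq_bot_iff, ← c.hKU.compl.2.2.1]
    exact le_inf le_rfl hU2

/-- clause (5): `K ≤ F(H ∩ M*)` -/
theorem K_le_fittingOf (I : Inp G) (h1352 : St1352 G) (c : Cfg M K U Mstar) (hKH : K ≤ H) :
    K ≤ Cfsg.fittingOf (H ⊓ Mstar) := by
  set Ks : Subgroup G := Cfsg.sigmaCore M ⊓ centralizer (K : Set G) with hKs
  have hKs1 : Ks ≠ ⊥ := c.Kstar_ne_bot I
  have h68 := (I.h1368 M c.hM K U c.hKU c.hK1 Mstar c.hMstar c.hKst c.hKstH).2
  have hKsc : IsCyclic Ks := by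
    have hle : Ks ≤ K ⊔ Ks := le_sup_right
    haveI := h68
    exact isCyclic_of_surjective (Subgroup.subgroupOfEquivOfLe hle)
      (Subgroup.subgroupOfEquivOfLe hle).surjective
  obtain ⟨⟨Us, hUs⟩, -⟩ := h1352 Mstar c.hMstar Ks hKsc c.hKstH
  have h64 := (I.h1364 Mstar c.hMstar Ks Us hUs hKs1).2.2.1
  rw [← c.hKst] at h64
  have hFH : Cfsg.fittingHallOf Mstar ≤ Cfsg.fittingOf Mstar := by
    unfold Cfsg.fittingHallOf Cfsg.fittingOf
    apply Subgroup.map_mono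
    apply sSup_le
    intro N hN
    exact le_sSup ⟨hN.1, hN.2.1⟩
  have hKF : K ≤ Cfsg.fittingOf Mstar := h64.trans hFH
  set N : Subgroup G := Cfsg.fittingOf Mstar ⊓ (H ⊓ Mstar) with hN
  have hKN : K ≤ N := le_inf hKF (le_inf hKH c.K_le_Mstar)
  have hNnil : Group.IsNilpotent N :=
    isNilpotent_of_le' (inf_le_left : N ≤ Cfsg.fittingOf Mstar) (fittingOf_isNilpotent Mstar)
  have hnorm : H ⊓ Mstar ≤ normalizer (N : Set G) := by
    intro x hx
    rw [mem_normalizer_iff_map_cj, hN, Cfsg.Agent.Helper14.map_cj_inf,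
      mem_normalizer_iff_map_cj.mp (le_normalizer_fittingOf Mstar hx.2),
      map_cj_eq_self_of_mem hx]
  exact hKN.trans (le_fittingOf inf_le_right hnorm hNnil)

/-- clause (2): `U ≤ H_σ`, from clauses (5) and (6) -/
theorem U_le_sigmaCore (I : Inp G) (c : Cfg M K U Mstar) (hc : HC M K Mstar H) (hUH : U ≤ H)
    (hKF : K ≤ Cfsg.fittingOf (H ⊓ Mstar))
    (hD : Cfsg.IsComplIn (H ⊓ Mstar) (Cfsg.sigmaCore H) H) : U ≤ Cfsg.sigmaCore H := by
  apply Cfsg.Agent.Helper10.BG16.le_sigmaCore_of_pi (st1350' I) hc.hH hUH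
  intro r' hr' hrd
  by_contra hrσ
  haveI : Fact r'.Prime := ⟨hr'⟩
  have hp := card_K_prime I c
  obtain ⟨R', hR'⟩ := Cfsg.Agent.Helper14.exists_isSylowIn (p := r') U
  have hR1 : R' ≠ ⊥ := ne_bot_of_isSylowIn_of_dvd hR' hrd
  have hUnil := U_nilpotent' I c
  have hKR : K ≤ normalizer (R' : Set G) :=
    Cfsg.Agent.H9.BG12.le_normalizer_sylow_of_nilpotent hUnil c.hKU.normal hR'
  have hRU : R' ≤ U := hR'.1
  have hYH : R' ⊔ K ≤ H := sup_le (hRU.trans hUH) hc.hKH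
  have hpσ : Nat.card K ∉ Cfsg.sigma H := hc.card_K_not_mem_sigma I c
  have hnum : Cfsg.Agent.Lead.IsPiNum (Cfsg.sigma H)ᶜ (Nat.card (R' ⊔ K : Subgroup G)) := by
    intro q hq hqd
    have h2 := Cfsg.Agent.Helper17.card_sup_mul_card_inf R' K hKR
    have hd2 : q ∣ Nat.card R' * Nat.card K := by
      rw [← h2]; exact Dvd.dvd.mul_right hqd _
    rcases (Nat.Prime.dvd_mul hq).mp hd2 with h3 | h3
    · obtain ⟨n, hn⟩ := IsPGroup.iff_card.mp hR'.2.1
      rw [hn] at h3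
      rw [(Nat.prime_dvd_prime_iff_eq hq hr').mp (hq.dvd_of_dvd_pow h3)]
      exact hrσ
    · rw [(Nat.prime_dvd_prime_iff_eq hq hp).mp h3]
      exact hpσ
  have hDhall := Cfsg.Agent.H9.BG12.isPiHallOf_compl (st1350' I) hc.hH hD
  have hsolv : Group.IsSolvable H := I.hG.2.2.2 H hc.hH.1
  obtain ⟨h, hh, hle⟩ := Cfsg.Agent.H9.BG12.exists_conj_le_of_hall hsolv hDhall hYH hnum
  have hKh : K ≤ Mstar.map (cj h⁻¹) := by
    rw [← map_cj_le_iff]
    exact ((Subgroup.map_mono le_sup_right).trans hle).trans inf_le_right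
  have hhM : h ∈ Mstar := by
    have := mem_Mstar_of_K_le I c hKh
    simpa using Mstar.inv_mem this
  have hhD : h ∈ H ⊓ Mstar := ⟨hh, hhM⟩
  have hYD : R' ⊔ K ≤ H ⊓ Mstar := by
    have h1 : R' ⊔ K ≤ (H ⊓ Mstar).map (cj h⁻¹) := by
      rw [← map_cj_le_iff]; exact hle
    rwa [map_cj_eq_self_of_mem ((H ⊓ Mstar).inv_mem hhD)] at h1
  have hRD : R' ≤ H ⊓ Mstar := le_sup_left.trans hYD
  -- `R' = [R', K]`
  have hsolvK : Group.IsSolvable K :=
    Group.isSolvable_of_comm (fun a b => Subtype.ext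
      (Cfsg.Agent.Helper1.BG16C.K_comm c.hKU a a.2 b b.2))
  have hcopKR : (Nat.card K).Coprime (Nat.card R') :=
    Nat.Coprime.coprime_dvd_right (Subgroup.card_dvd_of_le hRU)
      (Cfsg.Agent.Helper1.BG16C.coprime_K_U c.hKU)
  have hUK0 := Cfsg.Agent.Helper1.BG16C.U_inf_centralizer_K c.hKU c.hK1
    (I.h1353 M c.hM K U c.hKU)
  have hRK0 : R' ⊓ centralizer (K : Set G) = ⊥ := by
    rw [eq_bot_iff, ← hUK0]
    exact inf_le_inf_right _ hRU
  have hcomm : ⁅R', K⁆ = R' := by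
    have h1 := Cfsg.Agent.Lead.coprime_commutator_sup_centralizer K R' hKR hcopKR
      (Or.inl hsolvK)
    rwa [hRK0, sup_bot_eq] at h1
  -- `[R', K] ≤ F(D)`
  have hDn := le_normalizer_fittingOf (H ⊓ Mstar)
  have hRF : R' ≤ Cfsg.fittingOf (H ⊓ Mstar) := by
    rw [← hcomm, Subgroup.commutator_le]
    intro a ha k hk
    rw [commutatorElement_def]
    exact (Cfsg.fittingOf (H ⊓ Mstar)).mul_mem
      ((mem_normalizer_iff.mp (hDn (hRD ha)) k).mp (hKF hk))
      ((Cfsg.fittingOf (H ⊓ Mstar)).inv_mem (hKF hk))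
  have hcopr : (Nat.card K).Coprime r' := by
    obtain ⟨n, hn⟩ := IsPGroup.iff_card.mp hR'.2.1
    have hn0 : n ≠ 0 := by
      intro h0
      rw [h0, pow_zero] at hn
      exact hR1 (Subgroup.card_eq_one.mp hn)
    rw [hn] at hcopKR
    exact (Nat.coprime_pow_right_iff (Nat.pos_of_ne_zero hn0) _ _).mp hcopKR
  have hcommute := Cfsg.Agent.Helper29.commute_of_le_nilpotent_of_coprime
    (fittingOf_isNilpotent (H ⊓ Mstar)) hRF hKF hR'.2.1 hcopr
  apply hR1
  rw [eq_bot_iff, ← hRK0]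
  intro a ha
  refine Subgroup.mem_inf.mpr ⟨ha, ?_⟩
  rw [mem_centralizer_iff]
  intro k hk
  exact (hcommute a ha k hk).symm

end Cfsg.Agent.Helper13.BG158
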