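import Mathlib
import Cfsg.Prelude.Def_OddOrderLocal
import Cfsg.Agent.Helper13.BG158B
import Cfsg.Agent.Helper27.BG15P

/-!
# B&G Theorem 15.8 (S1435): assembly

Clause (6) is helper27's `PartnerData.isComplIn_inf_partner`; clauses (3), (4) are passed as a
hypothesis `hCD` (helper1's `inter_and_normalizer`).
-/

set_option autoImplicit false
set_option linter.unusedSectionVars false
set_option linter.unusedVariables false
set_option linter.style.haveILetI false

namespace Cfsg.Agent.Helper13.BG158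

open Subgroup Cfsg
open Cfsg.Agent.Helper14 (IsSylowIn cj)
open Cfsg.Agent.Helper27.BG15

universe u

variable {G : Type u} [Group G] [Finite G]

/-- clauses (3) and (4) of S1435 -/
def CD (G : Type u) [Group G] [Finite G] : Prop :=
  ∀ (M K U Mstar H : Subgroup G), Cfg M K U Mstar → HC M K Mstar H → U ≤ Cfsg.sigmaCore H →
    M ⊓ H = U ⊔ K ∧ ¬ H ⊓ normalizer (U : Set G) ≤ M

/-- **S1435**, conditionally on the frozen statements in `Inp`, S1352, and clauses (3), (4). -/
theorem s1435_of (I : Inp G) (h1352 : St1352 G) (hCD : CD G) : St1435 G := by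
  intro M hM K U hKU hK1 hU1 Mstar hMstar hKst hKstH r _ hr R H hH hNR
  have c : Cfg M K U Mstar := ⟨hM, hKU, hK1, hU1, hMstar, hKst, hKstH⟩
  have hR := Cfsg.Agent.Helper14.isSylowIn_of_sylow R
  obtain ⟨hc, hUH⟩ := hc_of_normalizer I c hr hR hH hNR
  have hκ := hc.kappa_eq_empty I c
  have hp := card_K_prime I c
  haveI : Fact (Nat.card K).Prime := ⟨hp⟩
  have P : PartnerData M K U Mstar := ⟨hM, hKU, hK1, hMstar, hKst, hKstH⟩
  have hD := P.isComplIn_inf_partner I.hG I.h1367 I.h1369 I.h1375 I.h.h1432 hH hc.hncMs hκ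
    hc.hKH rfl (normalizer_K_le I c)
    (fun g x x₂ h1 h2 h3 h4 h5 h6 h7 => hc.kl_false I c h1 h2 h3 h4 h5 h6 h7)
  have hKF := K_le_fittingOf I h1352 c hc.hKH
  have hUσ := U_le_sigmaCore I c hc hUH hKF hD
  obtain ⟨h3, h4⟩ := hCD M K U Mstar H c hc hUσ
  exact ⟨hκ, hUσ, h3, h4, hKF, hD⟩

end Cfsg.Agent.Helper13.BG158
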