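import Mathlib
import Cfsg.Agent.Helper13.BG15A
import Cfsg.Agent.Lead.Coprime2

/-!
# B&G 15.2, abstract part: sections of `Q` centralized by `D`
-/

set_option autoImplicit false
open Cfsg

namespace Cfsg.Agent.Helper13.BG15

open Subgroup

variable {M : Type*} [Group M]

/-- The configuration of B&G 15.2 inside `M = Q D K`. -/
structure Cfg (q : ℕ) (Q D K : Subgroup M) : Prop where
  hodd : Odd (Nat.card M)
  hQn : Q.Normal
  hQ : IsPGroup q Q
  hKD : K ≤ normalizer (D : Set M)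
  htop : Q ⊔ D ⊔ K = ⊤
  hcopQD : (Nat.card Q).Coprime (Nat.card D)
  hcopQK : (Nat.card Q).Coprime (Nat.card K)
  hcopDK : (Nat.card D).Coprime (Nat.card K)
  hK1 : K ≠ ⊥
  hfpfD : ∀ k ∈ K, k ≠ 1 → ∀ d ∈ D, k * d = d * k → d = 1
  hprime : ∀ k ∈ K, k ≠ 1 → Q ⊓ centralizer ({k} : Set M) = Q ⊓ centralizer (K : Set M)
  hq : Nat.card ↥(Q ⊓ centralizer (K : Set M)) = q
  hne : ¬ D ≤ centralizer (Q : Set M)

/-- the elements `g` with `g x g⁻¹ x⁻¹ ∈ A` form a subgroup when `A` is normal -/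
def commStab (A : Subgroup M) [hA : A.Normal] (x : M) : Subgroup M where
  carrier := {g | g * x * g⁻¹ * x⁻¹ ∈ A}
  one_mem' := by simp
  mul_mem' := by
    intro g h hg hh
    simp only [Set.mem_ofPred_eq] at hg hh ⊢
    have e : g * h * x * (g * h)⁻¹ * x⁻¹ = g * (h * x * h⁻¹ * x⁻¹) * g⁻¹ * (g * x * g⁻¹ * x⁻¹) := by
      group
    rw [e]
    exact A.mul_mem (hA.conj_mem _ hh g) hg
  inv_mem' := by
    intro g hg
    simp only [Set.mem_ofPred_eq] at hg ⊢
    have e : g⁻¹ * x * g⁻¹⁻¹ * x⁻¹ = g⁻¹ * (g * x * g⁻¹ * x⁻¹)⁻¹ * g⁻¹⁻¹ := by group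
    rw [e]
    exact hA.conj_mem _ (A.inv_mem hg) g⁻¹

theorem mem_commStab {A : Subgroup M} [A.Normal] {x g : M} :
    g ∈ commStab A x ↔ g * x * g⁻¹ * x⁻¹ ∈ A := Iff.rfl

variable [Finite M] [Group.IsSolvable M] {q : ℕ} [hq : Fact q.Prime] {Q D K : Subgroup M}

/-- If `k ≠ 1` in `K` fixes the coset `x A` (`x ∈ Q`, `A ≤ Q` normal in `M`), then `x ∈ C_Q(K) A`. -/
theorem Cfg.mem_of_fixed (h : Cfg q Q D K) (A : Subgroup M) [hA : A.Normal] (hAQ : A ≤ Q)
    (hC : Q ⊓ centralizer (K : Set M) ≤ A) {k : M} (hk : k ∈ K) (hk1 : k ≠ 1) {x : M} (hx : x ∈ Q)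
    (hfix : k * x * k⁻¹ * x⁻¹ ∈ A) : x ∈ A := by
  have hQn := h.hQn
  have hzk : zpowers k ≤ commStab A x := by
    rw [zpowers_le]; exact hfix
  have hzkK : zpowers k ≤ K := by rw [zpowers_le]; exact hk
  have hcop : (Nat.card (zpowers k)).Coprime (Nat.card Q) :=
    Nat.Coprime.coprime_dvd_left (Subgroup.card_dvd_of_le hzkK) h.hcopQK.symm
  obtain ⟨c, hc, hxc⟩ := Cfsg.Agent.Lead.coprime_fixed_points_quotient (zpowers k) Q
    (le_normalizer_of_normal) hcop (Or.inr inferInstance) A hAQ le_normalizer_of_normal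
    le_normalizer_of_normal x hx (fun a ha => hzk ha)
  have hcC : c ∈ Q ⊓ centralizer ({k} : Set M) := by
    refine mem_inf.mpr ⟨hc.1, ?_⟩
    rw [mem_centralizer_iff]
    intro y hy
    rw [Set.mem_singleton_iff] at hy
    subst hy
    exact (mem_centralizer_iff.mp hc.2) y (mem_zpowers y)
  rw [h.hprime k hk hk1] at hcC
  have hcA : c ∈ A := hC hcC
  have : x = c * (x⁻¹ * c)⁻¹ := by group
  rw [this]
  exact A.mul_mem hcA (A.inv_mem hxc)


omit [Finite M] [Group.IsSolvable M] hq in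
theorem mk_eq_one_iff' (B : Subgroup M) [B.Normal] (x : M) :
    (QuotientGroup.mk' B x = 1) ↔ x ∈ B := by
  rw [QuotientGroup.mk'_apply, QuotientGroup.eq_one_iff]

omit [Finite M] [Group.IsSolvable M] hq in
/-- commuting images in `M ⧸ B` -/
theorem comm_mk_iff (B : Subgroup M) [hB : B.Normal] (x y : M) :
    (QuotientGroup.mk' B x * QuotientGroup.mk' B y = QuotientGroup.mk' B y * QuotientGroup.mk' B x)
      ↔ x * y * x⁻¹ * y⁻¹ ∈ B := by
  rw [← map_mul, ← map_mul]
  constructor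
  · intro h
    have h2 : QuotientGroup.mk' B (x * y * (y * x)⁻¹) = 1 := by
      rw [map_mul, map_inv, h, mul_inv_cancel]
    rw [mk_eq_one_iff'] at h2
    have e : x * y * x⁻¹ * y⁻¹ = x * y * (y * x)⁻¹ := by group
    rw [e]; exact h2
  · intro h
    have e : x * y * x⁻¹ * y⁻¹ = x * y * (y * x)⁻¹ := by group
    rw [e, ← mk_eq_one_iff', map_mul, map_inv] at h
    exact mul_inv_eq_one.mp h

/-- **Relative Frobenius lemma**: if `B ≤ A ≤ Q` are normal in `M` and `C_A(K) ≤ B`, then `D`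
centralizes `A / B`. -/
theorem Cfg.section_centralized (h : Cfg q Q D K) (A B : Subgroup M) [hA : A.Normal]
    [hB : B.Normal] (hBA : B ≤ A) (hAQ : A ≤ Q)
    (hC : A ⊓ centralizer (K : Set M) ≤ B) :
    ∀ a ∈ A, ∀ d ∈ D, a * d * a⁻¹ * d⁻¹ ∈ B := by
  classical
  have hQn := h.hQn
  set π := QuotientGroup.mk' B with hπ
  have hπs : Function.Surjective π := QuotientGroup.mk'_surjective B
  have hoddX : Odd (Nat.card (M ⧸ B)) :=
    Odd.of_dvd_nat h.hodd (Subgroup.card_quotient_dvd_card B)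
  have hBQ : B ≤ Q := hBA.trans hAQ
  have hBD : B ⊓ D = ⊥ := (Subgroup.disjoint_of_coprime_natCard
    (Nat.Coprime.coprime_dvd_left (Subgroup.card_dvd_of_le hBQ) h.hcopQD)).eq_bot
  have hBK : B ⊓ K = ⊥ := (Subgroup.disjoint_of_coprime_natCard
    (Nat.Coprime.coprime_dvd_left (Subgroup.card_dvd_of_le hBQ) h.hcopQK)).eq_bot
  -- the fixed point property on `A / B`
  have hfixA : ∀ k ∈ K, k ≠ 1 → ∀ a ∈ A, k * a * k⁻¹ * a⁻¹ ∈ B → a ∈ B := by
    intro k hk hk1 a ha hfix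
    -- first `a ∈ C_A(k) B`
    have hzk : zpowers k ≤ commStab B a := by rw [zpowers_le]; exact hfix
    have hzkK : zpowers k ≤ K := by rw [zpowers_le]; exact hk
    have hcop : (Nat.card (zpowers k)).Coprime (Nat.card A) :=
      Nat.Coprime.coprime_dvd_left (Subgroup.card_dvd_of_le hzkK)
        (Nat.Coprime.coprime_dvd_right (Subgroup.card_dvd_of_le hAQ) h.hcopQK.symm)
    obtain ⟨c, hc, hxc⟩ := Cfsg.Agent.Lead.coprime_fixed_points_quotient (zpowers k) A
      (le_normalizer_of_normal) hcop (Or.inr inferInstance) B hBA le_normalizer_of_normal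
      le_normalizer_of_normal a ha (fun g hg => hzk hg)
    have hcC : c ∈ Q ⊓ centralizer ({k} : Set M) := by
      refine mem_inf.mpr ⟨hAQ hc.1, ?_⟩
      rw [mem_centralizer_iff]
      intro y hy
      rw [Set.mem_singleton_iff] at hy
      subst hy
      exact (mem_centralizer_iff.mp hc.2) y (mem_zpowers y)
    rw [h.hprime k hk hk1] at hcC
    have hcB : c ∈ B := hC (mem_inf.mpr ⟨hc.1, (mem_inf.mp hcC).2⟩)
    have : a = c * (a⁻¹ * c)⁻¹ := by group
    rw [this]
    exact B.mul_mem hcB (B.inv_mem hxc)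
  have key := frob_centralizes (X := M ⧸ B) hoddX (A.map π) (D.map π) (K.map π)
    ((Subgroup.map_mono (le_normalizer_of_normal (H := A))).trans (le_normalizer_map π))
    ((Subgroup.map_mono (le_normalizer_of_normal (H := A))).trans (le_normalizer_map π))
    ((Subgroup.map_mono h.hKD).trans (le_normalizer_map π))
    (Nat.Coprime.coprime_dvd_left (Subgroup.card_map_dvd _ π)
      (Nat.Coprime.coprime_dvd_right (Subgroup.card_map_dvd _ π)
        (Nat.Coprime.coprime_dvd_left (Subgroup.card_dvd_of_le hAQ) h.hcopQD)))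
    (Nat.Coprime.coprime_dvd_left (Subgroup.card_map_dvd _ π)
      (Nat.Coprime.coprime_dvd_right (Subgroup.card_map_dvd _ π)
        (Nat.Coprime.coprime_dvd_left (Subgroup.card_dvd_of_le hAQ) h.hcopQK)))
    (Nat.Coprime.coprime_dvd_left (Subgroup.card_map_dvd _ π)
      (Nat.Coprime.coprime_dvd_right (Subgroup.card_map_dvd _ π) h.hcopDK))
    (by
      intro hbot
      apply h.hK1
      rw [eq_bot_iff]
      intro k hk
      have : π k ∈ K.map π := Subgroup.mem_map_of_mem π hk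
      rw [hbot, mem_bot, hπ, mk_eq_one_iff'] at this
      have : k ∈ B ⊓ K := mem_inf.mpr ⟨this, hk⟩
      rw [hBK] at this; exact this)
    (by
      rintro _ ⟨k, hk, rfl⟩ hk1 _ ⟨a, ha, rfl⟩ hcomm
      have hk1' : k ≠ 1 := by rintro rfl; exact hk1 (map_one π)
      rw [hπ, comm_mk_iff] at hcomm
      have := hfixA k hk hk1' a ha hcomm
      rw [hπ, mk_eq_one_iff']; exact this)
    (by
      rintro _ ⟨k, hk, rfl⟩ hk1 _ ⟨d, hd, rfl⟩ hcomm
      have hk1' : k ≠ 1 := by rintro rfl; exact hk1 (map_one π)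
      rw [hπ, comm_mk_iff] at hcomm
      have hmemD : k * d * k⁻¹ * d⁻¹ ∈ D :=
        D.mul_mem (conj_mem_of_le_nzr h.hKD hk hd) (D.inv_mem hd)
      have : k * d * k⁻¹ * d⁻¹ ∈ B ⊓ D := mem_inf.mpr ⟨hcomm, hmemD⟩
      rw [hBD, mem_bot] at this
      have hkd : k * d = d * k := by
        calc k * d = (k * d * k⁻¹ * d⁻¹) * (d * k) := by group
          _ = d * k := by rw [this, one_mul]
      rw [h.hfpfD k hk hk1' d hd hkd, map_one])
  intro a ha d hd
  have := key (π a) (Subgroup.mem_map_of_mem π ha) (π d) (Subgroup.mem_map_of_mem π hd)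
  rw [hπ, comm_mk_iff] at this
  exact this

end Cfsg.Agent.Helper13.BG15
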