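import Mathlib
import Cfsg.Agent.Helper13.BG15B
import Cfsg.Agent.Helper1.MinNormal
import Cfsg.Agent.Helper8.NilpotentSection
import Cfsg.Agent.S1446

/-!
# B&G 15.2, abstract part: the structure of `Q / C_Q(D)`
-/

set_option autoImplicit false
open Cfsg

namespace Cfsg.Agent.Helper13.BG15

open Subgroup
open scoped commutatorElement

section maps

variable {M : Type*} [Group M]

/-- the image of `S` under the quotient map by `B` has the same order when `S ∩ B = 1` -/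
theorem card_map_mk_of_inf_eq_bot (B : Subgroup M) [B.Normal] (S : Subgroup M) (h : B ⊓ S = ⊥) :
    Nat.card (S.map (QuotientGroup.mk' B)) = Nat.card S := by
  symm
  apply Nat.card_congr
  refine Equiv.ofBijective (fun s : S => (⟨QuotientGroup.mk' B s, Subgroup.mem_map_of_mem _ s.2⟩ :
    S.map (QuotientGroup.mk' B))) ⟨?_, ?_⟩
  · intro s t hst
    have h1 : QuotientGroup.mk' B (s : M) = QuotientGroup.mk' B (t : M) := congrArg Subtype.val hst
    have h2 : QuotientGroup.mk' B ((s : M)⁻¹ * (t : M)) = 1 := by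
      rw [map_mul, map_inv, h1, inv_mul_cancel]
    rw [mk_eq_one_iff'] at h2
    have h3 : (s : M)⁻¹ * (t : M) ∈ B ⊓ S := mem_inf.mpr ⟨h2, S.mul_mem (S.inv_mem s.2) t.2⟩
    rw [h, mem_bot] at h3
    exact Subtype.ext (inv_mul_eq_one.mp h3)
  · rintro ⟨_, s, hs, rfl⟩
    exact ⟨⟨s, hs⟩, rfl⟩

/-- `|A / B| · |B| = |A|` for `B ≤ A`. -/
theorem card_map_mk_mul_card (B : Subgroup M) [B.Normal] (A : Subgroup M) (hBA : B ≤ A) :
    Nat.card (A.map (QuotientGroup.mk' B)) * Nat.card B = Nat.card A := by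
  have h1 := Subgroup.relIndex_map_map (QuotientGroup.mk' B) ⊥ A
  rw [Subgroup.map_bot, Subgroup.relIndex_bot_left, QuotientGroup.ker_mk', bot_sup_eq,
    sup_of_le_left hBA] at h1
  rw [h1, mul_comm]
  exact Cfsg.Agent.Helper26.card_mul_relIndex_of_le hBA

/-- an element of `M` whose image lies in `A / B` lies in `A` (`B ≤ A`) -/
theorem mem_of_mk_mem_map (B : Subgroup M) [B.Normal] (A : Subgroup M) (hBA : B ≤ A) {x : M}
    (hx : QuotientGroup.mk' B x ∈ A.map (QuotientGroup.mk' B)) : x ∈ A := by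
  obtain ⟨a, ha, hax⟩ := hx
  have h2 : QuotientGroup.mk' B (a⁻¹ * x) = 1 := by
    rw [map_mul, map_inv, hax, inv_mul_cancel]
  rw [mk_eq_one_iff'] at h2
  have : x = a * (a⁻¹ * x) := by group
  rw [this]
  exact A.mul_mem ha (hBA h2)

/-- conjugating a centralizing element by a normalizing element -/
theorem conj_mem_centralizer_of_nzr {X : Type*} [Group X] {D : Subgroup X} {g w : X}
    (hg : ∀ d ∈ D, g⁻¹ * d * g ∈ D) (hw : w ∈ centralizer (D : Set X)) :
    g * w * g⁻¹ ∈ centralizer (D : Set X) := by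
  rw [mem_centralizer_iff] at hw ⊢
  intro d hd
  have h1 := hw (g⁻¹ * d * g) (hg d hd)
  calc d * (g * w * g⁻¹) = g * ((g⁻¹ * d * g) * w) * g⁻¹ := by group
    _ = g * (w * (g⁻¹ * d * g)) * g⁻¹ := by rw [h1]
    _ = g * w * g⁻¹ * d := by group

end maps


section main

variable {M : Type*} [Group M] [Finite M] [Group.IsSolvable M] {q : ℕ} [hq : Fact q.Prime]
  {Q D K : Subgroup M}

/-- the `M`-normal subgroups of `Q` on which `K` has no fixed points -/
def NSet (Q K : Subgroup M) : Set (Subgroup M) :=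
  {N | N.Normal ∧ N ≤ Q ∧ N ⊓ centralizer (K : Set M) = ⊥}

omit [Group.IsSolvable M] in
theorem Cfg.nset_sup (h : Cfg q Q D K) {N₁ N₂ : Subgroup M} (h1 : N₁ ∈ NSet Q K)
    (h2 : N₂ ∈ NSet Q K) : N₁ ⊔ N₂ ∈ NSet Q K := by
  obtain ⟨hn1, hq1, hc1⟩ := h1
  obtain ⟨hn2, hq2, hc2⟩ := h2
  refine ⟨inferInstance, sup_le hq1 hq2, ?_⟩
  rw [eq_bot_iff]
  intro k hk
  have hcop : (Nat.card K).Coprime (Nat.card ↥(N₁ ⊔ N₂)) :=
    Nat.Coprime.coprime_dvd_right (Subgroup.card_dvd_of_le (sup_le hq1 hq2)) h.hcopQK.symm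
  have hQsolv : Group.IsSolvable ↥(N₁ ⊔ N₂) := by
    have : IsPGroup q ↥(N₁ ⊔ N₂) := h.hQ.to_le (sup_le hq1 hq2)
    have := this.isNilpotent
    infer_instance
  obtain ⟨x, hx, y, hy, hkxy⟩ := Cfsg.Agent.Lead.coprime_centralizer_product K (N₁ ⊔ N₂) hcop
    (Or.inr hQsolv) N₁ N₂ le_sup_left le_normalizer_of_normal le_normalizer_of_normal
    (fun k hk => mem_sup_of_le_nzr le_normalizer_of_normal hk) k hk
  rw [hc1, mem_bot] at hx
  rw [hc2, mem_bot] at hy
  rw [mem_bot, hkxy, hx, hy, one_mul]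


/-- The maximal member `N₀` of `NSet`, and a minimal normal `A` above it.  -/
theorem Cfg.exists_N0_A (h : Cfg q Q D K) :
    ∃ N₀ A : Subgroup M, N₀.Normal ∧ A.Normal ∧ N₀ < A ∧ A ≤ Q ∧
      N₀ ⊓ centralizer (K : Set M) = ⊥ ∧
      (∀ N ∈ NSet Q K, N ≤ N₀) ∧
      (∀ X : Subgroup M, X.Normal → N₀ ≤ X → X ≤ A → X = N₀ ∨ X = A) ∧
      Q ⊓ centralizer (K : Set M) ≤ A := by
  classical
  have hQn := h.hQn
  have hbot : (⊥ : Subgroup M) ∈ NSet Q K := ⟨inferInstance, bot_le, bot_inf_eq _⟩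
  obtain ⟨N₀, -, hN₀, hmax⟩ := (Set.toFinite (NSet Q K)).exists_le_maximal hbot
  have hN₀n : N₀.Normal := hN₀.1
  have hall : ∀ N ∈ NSet Q K, N ≤ N₀ := by
    intro N hN
    have h1 := h.nset_sup hN hN₀
    exact le_sup_left.trans (hmax h1 le_sup_right)
  have hCne : Q ⊓ centralizer (K : Set M) ≠ ⊥ := by
    intro hc
    have := h.hq
    rw [hc, Subgroup.card_bot] at this
    exact hq.out.one_lt.ne this
  have hN₀Q : N₀ < Q := by
    refine lt_of_le_of_ne hN₀.2.1 ?_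
    intro he
    apply hCne
    rw [← he]; exact hN₀.2.2
  let 𝒴 : Set (Subgroup M) := {A | A.Normal ∧ N₀ < A ∧ A ≤ Q}
  have hQ𝒴 : Q ∈ 𝒴 := ⟨hQn, hN₀Q, le_rfl⟩
  obtain ⟨A, hA𝒴, hAmin⟩ := (Set.toFinite 𝒴).exists_minimal ⟨Q, hQ𝒴⟩
  obtain ⟨hAn, hN₀A, hAQ⟩ := hA𝒴
  have hmaxA : ∀ X : Subgroup M, X.Normal → N₀ ≤ X → X ≤ A → X = N₀ ∨ X = A := by
    intro X hXn hN₀X hXA
    by_cases hX : X = N₀
    · exact Or.inl hX
    · right
      have hX𝒴 : X ∈ 𝒴 := ⟨hXn, lt_of_le_of_ne hN₀X (Ne.symm hX), hXA.trans hAQ⟩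
      exact le_antisymm hXA (hAmin hX𝒴 hXA)
  refine ⟨N₀, A, hN₀n, hAn, hN₀A, hAQ, hN₀.2.2, hall, hmaxA, ?_⟩
  -- `C_Q(K) ≤ A`
  have hAC : A ⊓ centralizer (K : Set M) ≠ ⊥ := by
    intro hc
    have : A ∈ NSet Q K := ⟨hAn, hAQ, hc⟩
    exact (not_le_of_gt hN₀A) (hall A this)
  have hle : A ⊓ centralizer (K : Set M) ≤ Q ⊓ centralizer (K : Set M) :=
    inf_le_inf_right _ hAQ
  have hcard : Nat.card ↥(A ⊓ centralizer (K : Set M)) = q := by
    have hdvd := Subgroup.card_dvd_of_le hle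
    rw [h.hq] at hdvd
    rcases (Nat.dvd_prime hq.out).mp hdvd with h1 | h1
    · exact absurd (Subgroup.card_eq_one.mp h1) hAC
    · exact h1
  have heq : A ⊓ centralizer (K : Set M) = Q ⊓ centralizer (K : Set M) := by
    apply Subgroup.eq_of_le_of_card_ge hle
    rw [hcard, h.hq]
  rw [← heq]; exact inf_le_left


set_option maxHeartbeats 1600000 in
/-- **B&G 15.2, abstract core.**  In the configuration `Cfg`, `Q₀ = C_Q(D)` is normal in `M`,
`Q / Q₀` is an elementary abelian chief factor of order `q ^ |K|`, and `|K|` is prime. -/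
theorem Cfg.main (h : Cfg q Q D K) :
    (Q ⊓ centralizer (D : Set M)).Normal ∧ Q ⊓ centralizer (D : Set M) < Q ∧ (Nat.card K).Prime ∧
      Nat.card Q = Nat.card ↥(Q ⊓ centralizer (D : Set M)) * q ^ Nat.card K ∧
      (∀ a ∈ Q, ∀ b ∈ Q, a ^ q ∈ Q ⊓ centralizer (D : Set M) ∧
        a * b * a⁻¹ * b⁻¹ ∈ Q ⊓ centralizer (D : Set M)) ∧
      ∀ N : Subgroup M, N.Normal → Q ⊓ centralizer (D : Set M) < N → N < Q → False := by
  classical
  have hQn := h.hQn
  obtain ⟨N₀, A, hN₀n, hAn, hN₀A, hAQ, hN₀C, hall, hmaxA, hCA⟩ := h.exists_N0_A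
  have hN₀Q : N₀ ≤ Q := hN₀A.le.trans hAQ
  -- Step C: `D` centralizes `N₀`
  have hN₀D : ∀ a ∈ N₀, ∀ d ∈ D, a * d = d * a := by
    intro a ha d hd
    have := h.section_centralized N₀ ⊥ bot_le hN₀Q (by rw [hN₀C]) a ha d hd
    rw [mem_bot] at this
    calc a * d = (a * d * a⁻¹ * d⁻¹) * (d * a) := by group
      _ = d * a := by rw [this, one_mul]
  -- Step E: `[Q, D] ≤ A`
  have hQDA : ∀ x ∈ Q, ∀ d ∈ D, x * d * x⁻¹ * d⁻¹ ∈ A :=
    h.section_centralized Q A hAQ le_rfl (by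
      intro x hx; exact hCA hx)
  have hcomQD : ⁅Q, D⁆ ≤ A := by
    rw [commutator_le]
    intro x hx d hd
    rw [commutatorElement_def]; exact hQDA x hx d hd
  have hDQ : D ≤ normalizer (Q : Set M) := le_normalizer_of_normal
  have hQsolv : Group.IsSolvable Q := by
    have := h.hQ.isNilpotent
    infer_instance
  have hcc := Cfsg.Agent.Lead.coprime_commutator_commutator D Q hDQ h.hcopQD.symm (Or.inr hQsolv)
  -- Step F: `[A, D] ≰ N₀`
  have hAD : ¬ ∀ a ∈ A, ∀ d ∈ D, a * d * a⁻¹ * d⁻¹ ∈ N₀ := by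
    intro hcon
    apply h.hne
    have h1 : ⁅A, D⁆ ≤ N₀ := by
      rw [commutator_le]
      intro a ha d hd
      rw [commutatorElement_def]; exact hcon a ha d hd
    have h2 : ⁅N₀, D⁆ = ⊥ := by
      rw [eq_bot_iff, commutator_le]
      intro a ha d hd
      rw [mem_bot, commutatorElement_def, hN₀D a ha d hd]; group
    have h3 : ⁅Q, D⁆ ≤ N₀ := by
      calc ⁅Q, D⁆ = ⁅⁅Q, D⁆, D⁆ := hcc.symm
        _ ≤ ⁅A, D⁆ := commutator_mono hcomQD le_rfl
        _ ≤ N₀ := h1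
    have h4 : ⁅Q, D⁆ = ⊥ := by
      rw [eq_bot_iff]
      calc ⁅Q, D⁆ = ⁅⁅Q, D⁆, D⁆ := hcc.symm
        _ ≤ ⁅N₀, D⁆ := commutator_mono h3 le_rfl
        _ = ⊥ := h2
    rw [commutator_comm, commutator_eq_bot_iff_le_centralizer] at h4
    exact h4
  -- Step G: `[A, Q] ≤ N₀`
  have hnilQ : ∃ n, Q.lowerCentralSeries n ≤ (⊥ : Subgroup M) := by
    obtain ⟨n, hn⟩ := (Subgroup.isNilpotent_iff_lowerCentralSeries Q).mp h.hQ.isNilpotent
    exact ⟨n, hn.le⟩
  have hAQc : ⁅A, Q⁆ ≤ N₀ :=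
    Cfsg.Agent.Helper8.commutator_le_of_chief hN₀A.le hAQ bot_le hnilQ hmaxA hN₀A.ne
  -- the quotient `X = M / N₀`
  set π := QuotientGroup.mk' N₀ with hπ
  have hπs : Function.Surjective π := QuotientGroup.mk'_surjective N₀
  have hkerπ : π.ker = N₀ := QuotientGroup.ker_mk' N₀
  set V : Subgroup (M ⧸ N₀) := A.map π with hV
  have hVn : V.Normal := hAn.map π hπs
  have hV1 : V ≠ ⊥ := by
    intro hc
    have : A ≤ N₀ := by
      intro a ha
      have : π a ∈ V := Subgroup.mem_map_of_mem π ha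
      rw [hc, mem_bot, hπ, mk_eq_one_iff'] at this
      exact this
    exact (not_le_of_gt hN₀A) this
  have hminV : ∀ W : Subgroup (M ⧸ N₀), W.Normal → W ≤ V → W = ⊥ ∨ W = V := by
    intro W hWn hWV
    have hWc : (W.comap π).Normal := hWn.comap π
    have h1 : N₀ ≤ W.comap π := by
      intro x hx
      rw [mem_comap, hπ, (mk_eq_one_iff' N₀ x).mpr hx]; exact W.one_mem
    have h2 : W.comap π ≤ A := by
      intro x hx
      exact mem_of_mk_mem_map N₀ A hN₀A.le (hWV hx)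
    rcases hmaxA _ hWc h1 h2 with h3 | h3
    · left
      rw [← Subgroup.map_comap_eq_self_of_surjective hπs W, h3, eq_bot_iff]
      rintro _ ⟨x, hx, rfl⟩
      rw [mem_bot, hπ, mk_eq_one_iff']; exact hx
    · right
      rw [← Subgroup.map_comap_eq_self_of_surjective hπs W, h3]
  have hVq : IsPGroup q V := (h.hQ.to_le hAQ).map π
  have hVsolv : Group.IsSolvable V := by
    have := hVq.isNilpotent
    infer_instance
  obtain ⟨hVcomm, p, hp, hVp⟩ := Cfsg.Agent.Helper1.minNormal_elementary V hV1 hVsolv hminV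
  have hpq : p = q := by
    obtain ⟨v, hv, hv1⟩ : ∃ v ∈ V, v ≠ 1 := by
      by_contra hcon
      apply hV1
      rw [eq_bot_iff_forall]
      intro v hv
      by_contra hv1
      exact hcon ⟨v, hv, hv1⟩
    have h1 : orderOf v ∣ p := orderOf_dvd_of_pow_eq_one (hVp v hv)
    have h2 : orderOf v = p := by
      rcases (Nat.dvd_prime hp).mp h1 with h3 | h3
      · exact absurd (orderOf_eq_one_iff.mp h3) hv1
      · exact h3
    obtain ⟨k, hk⟩ := (IsPGroup.iff_orderOf.mp hVq) ⟨v, hv⟩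
    rw [Subgroup.orderOf_mk, h2] at hk
    have : q ∣ p := by
      rcases Nat.eq_zero_or_pos k with hk0 | hk0
      · rw [hk0, pow_zero] at hk; exact absurd hk hp.one_lt.ne'
      · rw [hk]; exact dvd_pow_self q hk0.ne'
    exact ((Nat.prime_dvd_prime_iff_eq hq.out hp).mp this).symm
  rw [hpq] at hVp
  set Db : Subgroup (M ⧸ N₀) := D.map π with hDb
  set Kb : Subgroup (M ⧸ N₀) := K.map π with hKb
  set Qb : Subgroup (M ⧸ N₀) := Q.map π with hQb
  have htopX : Qb ⊔ Db ⊔ Kb = ⊤ := by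
    rw [hQb, hDb, hKb, ← Subgroup.map_sup, ← Subgroup.map_sup, h.htop, ← MonoidHom.range_eq_map,
      MonoidHom.range_eq_top.mpr hπs]
  -- `Qb` centralizes `V`
  have hQbV : ∀ g ∈ Qb, ∀ v ∈ V, g * v = v * g := by
    rintro _ ⟨x, hx, rfl⟩ _ ⟨a, ha, rfl⟩
    rw [hπ, comm_mk_iff]
    have : ⁅x, a⁆ ∈ ⁅A, Q⁆ := by
      rw [commutator_comm]; exact commutator_mem_commutator hx ha
    rw [commutatorElement_def] at this
    exact hAQc this
  have hKbDb : Kb ≤ normalizer (Db : Set (M ⧸ N₀)) :=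
    (Subgroup.map_mono h.hKD).trans (le_normalizer_map π)
  -- Step H: `C_V(Db) = 1`
  have hCVD : V ⊓ centralizer (Db : Set (M ⧸ N₀)) = ⊥ := by
    set W := V ⊓ centralizer (Db : Set (M ⧸ N₀)) with hW
    have hWnzr : (⊤ : Subgroup (M ⧸ N₀)) ≤ normalizer (W : Set (M ⧸ N₀)) := by
      rw [← htopX]
      refine sup_le (sup_le ?_ ?_) ?_
      · apply le_nzr_of_conj_mem
        intro g hg w hw
        have hwV : w ∈ V := (mem_inf.mp hw).1
        have : g * w * g⁻¹ = w := by rw [hQbV g hg w hwV]; group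
        rw [this]; exact hw
      · apply le_nzr_of_conj_mem
        intro g hg w hw
        refine mem_inf.mpr ⟨hVn.conj_mem _ (mem_inf.mp hw).1 g, ?_⟩
        exact conj_mem_centralizer_of_nzr
          (fun d hd => Db.mul_mem (Db.mul_mem (Db.inv_mem hg) hd) hg) (mem_inf.mp hw).2
      · apply le_nzr_of_conj_mem
        intro g hg w hw
        refine mem_inf.mpr ⟨hVn.conj_mem _ (mem_inf.mp hw).1 g, ?_⟩
        exact conj_mem_centralizer_of_nzr
          (fun d hd => conj_mem_of_le_nzr' hKbDb hg hd) (mem_inf.mp hw).2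
    have hWn : W.Normal := by
      rw [← normalizer_eq_top_iff]; exact top_le_iff.mp hWnzr
    rcases hminV W hWn inf_le_left with h1 | h1
    · exact h1
    · exfalso
      apply hAD
      intro a ha d hd
      have hv : π a ∈ W := by rw [h1]; exact Subgroup.mem_map_of_mem π ha
      have hc := (mem_centralizer_iff.mp (mem_inf.mp hv).2) (π d) (Subgroup.mem_map_of_mem π hd)
      rw [← comm_mk_iff N₀]
      exact hc.symm
  -- Step I: apply B&G 3.11 (= S1446) to `Db Kb` acting on `V`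
  have hN₀Dd : N₀ ⊓ D = ⊥ := (Subgroup.disjoint_of_coprime_natCard
    (Nat.Coprime.coprime_dvd_left (Subgroup.card_dvd_of_le hN₀Q) h.hcopQD)).eq_bot
  have hN₀K : N₀ ⊓ K = ⊥ := (Subgroup.disjoint_of_coprime_natCard
    (Nat.Coprime.coprime_dvd_left (Subgroup.card_dvd_of_le hN₀Q) h.hcopQK)).eq_bot
  have hDb1 : Db ≠ ⊥ := by
    intro hc
    apply h.hne
    have h1 : D ≤ N₀ := fun d hd => by
      have : π d ∈ Db := Subgroup.mem_map_of_mem π hd
      rw [hc, mem_bot, hπ, mk_eq_one_iff'] at this; exact this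
    have h2 : D = ⊥ := by rw [eq_bot_iff, ← hN₀Dd]; exact le_inf h1 le_rfl
    rw [h2]; exact bot_le
  have hKb1 : Kb ≠ ⊥ := by
    intro hc
    apply h.hK1
    have h1 : K ≤ N₀ := fun d hd => by
      have : π d ∈ Kb := Subgroup.mem_map_of_mem π hd
      rw [hc, mem_bot, hπ, mk_eq_one_iff'] at this; exact this
    rw [eq_bot_iff, ← hN₀K]; exact le_inf h1 le_rfl
  have hcardKb : Nat.card Kb = Nat.card K := card_map_mk_of_inf_eq_bot N₀ K hN₀K
  have hcardDb : Nat.card Db = Nat.card D := card_map_mk_of_inf_eq_bot N₀ D hN₀Dd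
  have hDbKb : Db ⊓ Kb = ⊥ := (Subgroup.disjoint_of_coprime_natCard
    (by rw [hcardDb, hcardKb]; exact h.hcopDK)).eq_bot
  have hfrob : ∀ r ∈ Kb, r ≠ 1 → Db ⊓ centralizer ({r} : Set (M ⧸ N₀)) = ⊥ := by
    rintro _ ⟨k, hk, rfl⟩ hk1
    have hk1' : k ≠ 1 := by rintro rfl; exact hk1 (map_one π)
    rw [eq_bot_iff]
    intro x hx
    obtain ⟨hxD, hxC⟩ := mem_inf.mp hx
    obtain ⟨d, hd, rfl⟩ := hxD
    have hc := (mem_centralizer_iff.mp hxC) (π k) rfl
    rw [hπ, comm_mk_iff] at hc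
    have hmemD : k * d * k⁻¹ * d⁻¹ ∈ D :=
      D.mul_mem (conj_mem_of_le_nzr h.hKD hk hd) (D.inv_mem hd)
    have : k * d * k⁻¹ * d⁻¹ ∈ N₀ ⊓ D := mem_inf.mpr ⟨hc, hmemD⟩
    rw [hN₀Dd, mem_bot] at this
    have hkd : k * d = d * k := by
      calc k * d = (k * d * k⁻¹ * d⁻¹) * (d * k) := by group
        _ = d * k := by rw [this, one_mul]
    rw [mem_bot, h.hfpfD k hk hk1' d hd hkd, map_one]
  have hoddX : Odd (Nat.card (M ⧸ N₀)) :=
    Odd.of_dvd_nat h.hodd (Subgroup.card_quotient_dvd_card N₀)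
  have hoddDK : Odd (Nat.card ↥(Db ⊔ Kb)) :=
    Odd.of_dvd_nat hoddX (Subgroup.card_subgroup_dvd_card _)
  have hcardDK : Nat.card ↥(Db ⊔ Kb) = Nat.card D * Nat.card K := by
    rw [card_sup_of_le_nzr hKbDb (by rw [hcardDb, hcardKb]; exact h.hcopDK), hcardDb, hcardKb]
  have hcardVdvd : Nat.card V ∣ Nat.card Q :=
    (Subgroup.card_map_dvd _ π).trans (Subgroup.card_dvd_of_le hAQ)
  have hcopDKV : (Nat.card ↥(Db ⊔ Kb)).Coprime (Nat.card V) := by
    rw [hcardDK]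
    exact Nat.Coprime.coprime_dvd_right hcardVdvd
      (Nat.Coprime.mul_left h.hcopQD.symm h.hcopQK.symm)
  -- fixed points of `k ≠ 1` on `A / N₀` come from `C_Q(K)`
  have hfixV : ∀ k ∈ K, k ≠ 1 → ∀ a ∈ A, k * a * k⁻¹ * a⁻¹ ∈ N₀ →
      ∃ c ∈ Q ⊓ centralizer (K : Set M), π a = π c := by
    intro k hk hk1 a ha hfix
    have hzk : zpowers k ≤ commStab N₀ a := by rw [zpowers_le]; exact hfix
    have hzkK : zpowers k ≤ K := by rw [zpowers_le]; exact hk
    have hcop : (Nat.card (zpowers k)).Coprime (Nat.card A) :=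
      Nat.Coprime.coprime_dvd_left (Subgroup.card_dvd_of_le hzkK)
        (Nat.Coprime.coprime_dvd_right (Subgroup.card_dvd_of_le hAQ) h.hcopQK.symm)
    have hAsolv : Group.IsSolvable A := by
      have := (h.hQ.to_le hAQ).isNilpotent
      infer_instance
    obtain ⟨c, hc, hxc⟩ := Cfsg.Agent.Lead.coprime_fixed_points_quotient (zpowers k) A
      (le_normalizer_of_normal) hcop (Or.inr hAsolv) N₀ hN₀A.le le_normalizer_of_normal
      le_normalizer_of_normal a ha (fun g hg => hzk hg)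
    have hcC : c ∈ Q ⊓ centralizer ({k} : Set M) := by
      refine mem_inf.mpr ⟨hAQ hc.1, ?_⟩
      rw [mem_centralizer_iff]
      intro y hy
      rw [Set.mem_singleton_iff] at hy
      subst hy
      exact (mem_centralizer_iff.mp hc.2) y (mem_zpowers y)
    rw [h.hprime k hk hk1] at hcC
    refine ⟨c, hcC, ?_⟩
    have h2 : π (a⁻¹ * c) = 1 := by rw [hπ, mk_eq_one_iff']; exact hxc
    rw [map_mul, map_inv] at h2
    exact (inv_mul_eq_one.mp h2)
  have hmapC : ∀ c ∈ Q ⊓ centralizer (K : Set M), π c ∈ V ⊓ centralizer (Kb : Set (M ⧸ N₀)) := by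
    intro c hc
    refine mem_inf.mpr ⟨Subgroup.mem_map_of_mem π (hCA hc), ?_⟩
    rw [mem_centralizer_iff]
    rintro _ ⟨k, hk, rfl⟩
    have := (mem_centralizer_iff.mp (mem_inf.mp hc).2) k hk
    rw [← map_mul, ← map_mul, this]
  have hpr : ∀ x ∈ Kb, x ≠ 1 → V ⊓ centralizer ({x} : Set (M ⧸ N₀)) =
      V ⊓ centralizer (Kb : Set (M ⧸ N₀)) := by
    rintro _ ⟨k, hk, rfl⟩ hk1
    have hk1' : k ≠ 1 := by rintro rfl; exact hk1 (map_one π)
    apply le_antisymm
    · intro v hv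
      obtain ⟨hvV, hvC⟩ := mem_inf.mp hv
      obtain ⟨a, ha, rfl⟩ := hvV
      have hc := (mem_centralizer_iff.mp hvC) (π k) rfl
      rw [hπ, comm_mk_iff] at hc
      obtain ⟨c, hcC, hac⟩ := hfixV k hk hk1' a ha hc
      rw [hac]; exact hmapC c hcC
    · exact inf_le_inf_left _ (centralizer_le (Set.singleton_subset_iff.mpr
        (Subgroup.mem_map_of_mem π hk)))
  obtain ⟨hKbprime, hcardV, -⟩ := Cfsg.Agent.S1446.result Db Kb V hDb1 hKb1 hDbKb hKbDb hfrob
    inferInstance hoddDK hV1 hVq.isNilpotent le_normalizer_of_normal le_normalizer_of_normal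
    hcopDKV hCVD hpr
  have hVCeq : V ⊓ centralizer (Kb : Set (M ⧸ N₀)) = (Q ⊓ centralizer (K : Set M)).map π := by
    apply le_antisymm
    · intro v hv
      obtain ⟨hvV, hvC⟩ := mem_inf.mp hv
      obtain ⟨a, ha, rfl⟩ := hvV
      obtain ⟨k0, hk0, hk01⟩ : ∃ k ∈ K, k ≠ 1 := by
        by_contra hcon
        apply h.hK1
        rw [eq_bot_iff_forall]
        intro k hk
        by_contra hk1
        exact hcon ⟨k, hk, hk1⟩
      have hc := (mem_centralizer_iff.mp hvC) (π k0) (Subgroup.mem_map_of_mem π hk0)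
      rw [hπ, comm_mk_iff] at hc
      obtain ⟨c, hcC, hac⟩ := hfixV k0 hk0 hk01 a ha hc
      rw [hac]; exact Subgroup.mem_map_of_mem π hcC
    · rintro _ ⟨c, hc, rfl⟩
      exact hmapC c hc
  have hcardVC : Nat.card ↥(V ⊓ centralizer (Kb : Set (M ⧸ N₀))) = q := by
    rw [hVCeq, card_map_mk_of_inf_eq_bot N₀ _ (by
      rw [eq_bot_iff, ← hN₀C]
      exact inf_le_inf_left _ inf_le_right), h.hq]
  -- Step J: `Q₀ = C_Q(D)`
  set Q₀ : Subgroup M := Q ⊓ centralizer (D : Set M) with hQ₀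
  have hN₀Q₀ : N₀ ≤ Q₀ := fun a ha => mem_inf.mpr ⟨hN₀Q ha,
    mem_centralizer_iff.mpr (fun d hd => (hN₀D a ha d hd).symm)⟩
  have hQ₀A : Q₀ ⊓ A ≤ N₀ := by
    intro a ha
    obtain ⟨ha0, haA⟩ := mem_inf.mp ha
    have : π a ∈ V ⊓ centralizer (Db : Set (M ⧸ N₀)) := by
      refine mem_inf.mpr ⟨Subgroup.mem_map_of_mem π haA, ?_⟩
      rw [mem_centralizer_iff]
      rintro _ ⟨d, hd, rfl⟩
      have := (mem_centralizer_iff.mp (mem_inf.mp ha0).2) d hd
      rw [← map_mul, ← map_mul, this]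
    rw [hCVD, mem_bot, hπ, mk_eq_one_iff'] at this; exact this
  have hQsup : Q ≤ A ⊔ Q₀ := by
    have := Cfsg.Agent.Lead.coprime_commutator_sup_centralizer D Q hDQ h.hcopQD.symm
      (Or.inr hQsolv)
    calc Q = ⁅Q, D⁆ ⊔ Q₀ := this.symm
      _ ≤ A ⊔ Q₀ := sup_le_sup_right hcomQD _
  have hQ₀nzr : (⊤ : Subgroup M) ≤ normalizer (Q₀ : Set M) := by
    rw [← h.htop]
    refine sup_le (sup_le ?_ ?_) ?_
    · apply le_nzr_of_conj_mem
      intro x hx c hc
      obtain ⟨a, ha, c', hc', rfl⟩ := mem_sup_of_le_nzr (N := A) (D := Q₀)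
        le_normalizer_of_normal (hQsup hx)
      have hc'' : c' * c * c'⁻¹ ∈ Q₀ := Q₀.mul_mem (Q₀.mul_mem hc' hc) (Q₀.inv_mem hc')
      have e : a * c' * c * (a * c')⁻¹ =
          (a * (c' * c * c'⁻¹) * a⁻¹ * (c' * c * c'⁻¹)⁻¹) * (c' * c * c'⁻¹) := by group
      rw [e]
      refine Q₀.mul_mem (hN₀Q₀ (hAQc ?_)) hc''
      have := commutator_mem_commutator ha (mem_inf.mp hc'').1
      rwa [commutatorElement_def] at this
    · apply le_nzr_of_conj_mem
      intro d hd c hc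
      have : d * c * d⁻¹ = c := by
        have := (mem_centralizer_iff.mp (mem_inf.mp hc).2) d hd
        rw [this]; group
      rw [this]; exact hc
    · apply le_nzr_of_conj_mem
      intro k hk c hc
      exact mem_inf.mpr ⟨hQn.conj_mem _ (mem_inf.mp hc).1 k,
        conj_mem_centralizer_of_nzr (fun d hd => conj_mem_of_le_nzr' h.hKD hk hd)
          (mem_inf.mp hc).2⟩
  have hQ₀n : Q₀.Normal := by
    rw [← normalizer_eq_top_iff]; exact top_le_iff.mp hQ₀nzr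
  have hQ₀C : Q₀ ⊓ centralizer (K : Set M) = ⊥ := by
    rw [eq_bot_iff]
    intro c hc
    obtain ⟨hc0, hcK⟩ := mem_inf.mp hc
    have hcA : c ∈ A := hCA (mem_inf.mpr ⟨(mem_inf.mp hc0).1, hcK⟩)
    have hcN : c ∈ N₀ := hQ₀A (mem_inf.mpr ⟨hc0, hcA⟩)
    rw [← hN₀C]; exact mem_inf.mpr ⟨hcN, hcK⟩
  have hQ₀le : Q₀ ≤ N₀ := hall Q₀ ⟨hQ₀n, inf_le_left, hQ₀C⟩
  have hQ₀eq : Q₀ = N₀ := le_antisymm hQ₀le hN₀Q₀
  have hAeq : A = Q := le_antisymm hAQ (hQsup.trans (sup_le le_rfl (hQ₀le.trans hN₀A.le)))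
  -- Step K
  refine ⟨hQ₀n, ?_, ?_, ?_, ?_, ?_⟩
  · rw [hQ₀eq, ← hAeq]; exact hN₀A
  · rw [← hcardKb]; exact hKbprime
  · have h1 := card_map_mk_mul_card N₀ A hN₀A.le
    rw [← hAeq, hQ₀eq, ← h1, hcardV, hcardVC, hcardKb, mul_comm]
  · intro a ha b hb
    rw [hQ₀eq]
    have haA : a ∈ A := by rw [hAeq]; exact ha
    constructor
    · have := hVp (π a) (Subgroup.mem_map_of_mem π haA)
      rw [← map_pow, hπ, mk_eq_one_iff'] at this; exact this
    · have := commutator_mem_commutator haA hb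
      rw [commutatorElement_def] at this; exact hAQc this
  · intro N hNn h1 h2
    rw [hQ₀eq] at h1
    rw [← hAeq] at h2
    rcases hmaxA N hNn h1.le h2.le with h3 | h3
    · exact h1.ne h3.symm
    · exact h2.ne h3

end main

end Cfsg.Agent.Helper13.BG15
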