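import Mathlib
import Cfsg.Agent.Helper13.BG15C
import Cfsg.Agent.Helper14.PCore
import Cfsg.Agent.Helper14.Large2
import Cfsg.Agent.Lead.BG95b
import Cfsg.Agent.Lead.PiHall
import Cfsg.Agent.Lead.Coprime
import Cfsg.Agent.Lead.Carter0
import Cfsg.Agent.S4242

/-!
# B&G 15.2, abstract part II: from `M = S ⋊ K` to the configuration `Cfg`
-/

set_option autoImplicit false
open Cfsg
open Pointwise

namespace Cfsg.Agent.Helper13.BG15

open Subgroup

variable {M : Type*} [Group M]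

/-- The setting of B&G 15.2 inside `M = S ⋊ K` (`S = M_σ`, prime action of `K`, `|C_S(K)| = q`,
`[S, K] = S`, `S` not nilpotent). -/
structure Pre (q : ℕ) (S K : Subgroup M) : Prop where
  hodd : Odd (Nat.card M)
  hSn : S.Normal
  htop : S ⊔ K = ⊤
  hcop : (Nat.card S).Coprime (Nat.card K)
  hK1 : K ≠ ⊥
  hprime : ∀ k ∈ K, k ≠ 1 → S ⊓ centralizer ({k} : Set M) = S ⊓ centralizer (K : Set M)
  hq : Nat.card ↥(S ⊓ centralizer (K : Set M)) = q
  hcomm : ⁅S, K⁆ = S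
  hnn : ¬ Group.IsNilpotent S

variable [Finite M] [Group.IsSolvable M] {q : ℕ} [hq : Fact q.Prime] {S K : Subgroup M}

/-- `K* ≤ F(S)` -/
theorem Pre.kstar_le_fitting (h : Pre q S K) :
    S ⊓ centralizer (K : Set M) ≤ Cfsg.fittingOf S := by
  haveI := h.hSn
  by_contra hle
  have hFS : Cfsg.fittingOf S ≤ S := Cfsg.Agent.Lead.BG8.fittingOf_le S
  have hXle : Cfsg.fittingOf S ⊓ centralizer (K : Set M) ≤ S ⊓ centralizer (K : Set M) :=
    inf_le_inf_right _ hFS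
  have hF : Cfsg.fittingOf S ⊓ centralizer (K : Set M) = ⊥ := by
    have hd := Subgroup.card_dvd_of_le hXle
    rw [h.hq] at hd
    rcases (Nat.dvd_prime hq.out).mp hd with h1 | h1
    · exact Subgroup.card_eq_one.mp h1
    · exfalso
      apply hle
      have := Subgroup.eq_of_le_of_card_ge hXle (by rw [h.hq, h1])
      rw [← this]
      exact inf_le_left
  have h1 := Cfsg.Agent.S1445.result h.hodd S K h.htop h.hcop h.hprime hF
  rw [h.hcomm] at h1
  have h2 : Cfsg.fittingOf S = S := le_antisymm hFS h1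
  apply h.hnn
  have := Cfsg.Agent.Lead.BG8.fittingOf_isNilpotent S
  rwa [h2] at this

/-- `K* ≤ Q := O_q(S)` -/
theorem Pre.kstar_le_Q (h : Pre q S K) :
    S ⊓ centralizer (K : Set M) ≤ Cfsg.pCoreOf q S := by
  apply Cfsg.Agent.Lead.BG95.le_pCoreOf_of_le_fittingOf _ h.kstar_le_fitting
  apply IsPGroup.of_card (n := 1)
  rw [h.hq, pow_one]

theorem Pre.Q_normal (h : Pre q S K) : (Cfsg.pCoreOf q S).Normal := by
  have h1 := Cfsg.Agent.Helper14.normalizer_le_normalizer_pCoreOf (p := q) S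
  rw [normalizer_eq_top_iff.mpr h.hSn] at h1
  exact normalizer_eq_top_iff.mp (top_le_iff.mp h1)

theorem Pre.Q_le (h : Pre q S K) : Cfsg.pCoreOf q S ≤ S := Cfsg.Agent.Helper14.pCoreOf_le q S

theorem Pre.Q_isPGroup (h : Pre q S K) : IsPGroup q ↥(Cfsg.pCoreOf q S) :=
  Cfsg.Agent.Helper14.pCoreOf_isPGroup q S

theorem Pre.coprime_Q_K (h : Pre q S K) :
    (Nat.card ↥(Cfsg.pCoreOf q S)).Coprime (Nat.card K) :=
  Nat.Coprime.coprime_dvd_left (Subgroup.card_dvd_of_le h.Q_le) h.hcop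

theorem Pre.Q_inf_K (h : Pre q S K) : Cfsg.pCoreOf q S ⊓ K = ⊥ :=
  (Subgroup.disjoint_of_coprime_natCard h.coprime_Q_K).eq_bot

/-- fixed points of `k ∈ K#` on `S / Q` are trivial -/
theorem Pre.mem_Q_of_fixed (h : Pre q S K) {k : M} (hk : k ∈ K) (hk1 : k ≠ 1) {s : M}
    (hs : s ∈ S) (hfix : k * s * k⁻¹ * s⁻¹ ∈ Cfsg.pCoreOf q S) : s ∈ Cfsg.pCoreOf q S := by
  haveI hQn := h.Q_normal
  haveI hSn := h.hSn
  have hzk : zpowers k ≤ commStab (Cfsg.pCoreOf q S) s := by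
    rw [zpowers_le]; exact hfix
  have hzkK : zpowers k ≤ K := by rw [zpowers_le]; exact hk
  have hcop : (Nat.card (zpowers k)).Coprime (Nat.card S) :=
    Nat.Coprime.coprime_dvd_left (Subgroup.card_dvd_of_le hzkK) h.hcop.symm
  obtain ⟨c, hc, hxc⟩ := Cfsg.Agent.Lead.coprime_fixed_points_quotient (zpowers k) S
    (le_normalizer_of_normal) hcop (Or.inr inferInstance) (Cfsg.pCoreOf q S) h.Q_le
    le_normalizer_of_normal le_normalizer_of_normal s hs (fun a ha => hzk ha)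
  have hcC : c ∈ S ⊓ centralizer ({k} : Set M) := by
    refine mem_inf.mpr ⟨hc.1, ?_⟩
    rw [mem_centralizer_iff]
    intro y hy
    rw [Set.mem_singleton_iff] at hy
    subst hy
    exact (mem_centralizer_iff.mp hc.2) y (mem_zpowers y)
  rw [h.hprime k hk hk1] at hcC
  have hcQ : c ∈ Cfsg.pCoreOf q S := h.kstar_le_Q hcC
  have : s = c * (s⁻¹ * c)⁻¹ := by group
  rw [this]
  exact (Cfsg.pCoreOf q S).mul_mem hcQ ((Cfsg.pCoreOf q S).inv_mem hxc)

/-- `S / Q` is nilpotent -/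
theorem Pre.quot_nilpotent (h : Pre q S K) [hQn : (Cfsg.pCoreOf q S).Normal] :
    Group.IsNilpotent ↥(S.map (QuotientGroup.mk' (Cfsg.pCoreOf q S))) := by
  classical
  set Q := Cfsg.pCoreOf q S with hQdef
  set π := QuotientGroup.mk' Q with hπ
  have hπs : Function.Surjective π := QuotientGroup.mk'_surjective Q
  have hoddX : Odd (Nat.card (M ⧸ Q)) :=
    Odd.of_dvd_nat h.hodd (Subgroup.card_quotient_dvd_card Q)
  haveI hSbn : (S.map π).Normal := Subgroup.Normal.map h.hSn π hπs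
  have htop : S.map π ⊔ K.map π = ⊤ := by
    rw [← Subgroup.map_sup, h.htop, ← MonoidHom.range_eq_map, MonoidHom.range_eq_top]
    exact hπs
  have hcop : (Nat.card (S.map π)).Coprime (Nat.card (K.map π)) :=
    Nat.Coprime.coprime_dvd_left (Subgroup.card_map_dvd _ π)
      (Nat.Coprime.coprime_dvd_right (Subgroup.card_map_dvd _ π) h.hcop)
  -- fixed points
  have hfp : ∀ x ∈ K.map π, x ≠ 1 → S.map π ⊓ centralizer ({x} : Set (M ⧸ Q)) = ⊥ := by
    rintro _ ⟨k, hk, rfl⟩ hk1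
    have hk1' : k ≠ 1 := by rintro rfl; exact hk1 (map_one π)
    rw [eq_bot_iff]
    rintro _ ⟨⟨s, hs, rfl⟩, hcs⟩
    have hcs' : π s ∈ centralizer ({π k} : Set (M ⧸ Q)) := hcs
    rw [mem_centralizer_iff] at hcs'
    have hcomm := hcs' (π k) (Set.mem_singleton _)
    rw [hπ, comm_mk_iff] at hcomm
    have := h.mem_Q_of_fixed hk hk1' hs hcomm
    rw [mem_bot, hπ, mk_eq_one_iff']
    exact this
  -- `K̄ ≠ 1`
  obtain ⟨k₀, hk₀, hk₀1⟩ : ∃ k ∈ K, k ≠ 1 := by
    by_contra hcon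
    push Not at hcon
    exact h.hK1 (eq_bot_iff.mpr fun k hk => mem_bot.mpr (hcon k hk))
  have hπk₀ : π k₀ ≠ 1 := by
    intro h1
    rw [hπ, mk_eq_one_iff'] at h1
    have : k₀ ∈ Q ⊓ K := mem_inf.mpr ⟨h1, hk₀⟩
    rw [h.Q_inf_K, mem_bot] at this
    exact hk₀1 this
  have hCK : S.map π ⊓ centralizer ((K.map π : Subgroup (M ⧸ Q)) : Set (M ⧸ Q)) = ⊥ := by
    rw [eq_bot_iff, ← hfp (π k₀) (Subgroup.mem_map_of_mem π hk₀) hπk₀]
    apply inf_le_inf_left
    apply Subgroup.centralizer_le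
    intro x hx
    rw [Set.mem_singleton_iff] at hx
    subst hx
    exact Subgroup.mem_map_of_mem π hk₀
  have hprime : ∀ x ∈ K.map π, x ≠ 1 → S.map π ⊓ centralizer ({x} : Set (M ⧸ Q)) =
      S.map π ⊓ centralizer ((K.map π : Subgroup (M ⧸ Q)) : Set (M ⧸ Q)) := by
    intro x hx hx1
    rw [hfp x hx hx1, hCK]
  have hFS : Cfsg.fittingOf (S.map π) ≤ S.map π := Cfsg.Agent.Lead.BG8.fittingOf_le _
  have hF : Cfsg.fittingOf (S.map π) ⊓
      centralizer ((K.map π : Subgroup (M ⧸ Q)) : Set (M ⧸ Q)) = ⊥ := by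
    rw [eq_bot_iff, ← hCK]
    exact inf_le_inf_right _ hFS
  have h1 := Cfsg.Agent.S1445.result hoddX (S.map π) (K.map π) htop hcop hprime hF
  rw [← Subgroup.map_commutator, h.hcomm] at h1
  have h2 : Cfsg.fittingOf (S.map π) = S.map π := le_antisymm hFS h1
  have := Cfsg.Agent.Lead.BG8.fittingOf_isNilpotent (S.map π)
  rwa [h2] at this

/-- `Q` is a Sylow `q`-subgroup of `S` -/
theorem Pre.not_dvd_relIndex (h : Pre q S K) : ¬ q ∣ (Cfsg.pCoreOf q S).relIndex S := by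
  classical
  haveI hQn := h.Q_normal
  haveI hSn := h.hSn
  set Q := Cfsg.pCoreOf q S with hQdef
  set π := QuotientGroup.mk' Q with hπ
  have hπs : Function.Surjective π := QuotientGroup.mk'_surjective Q
  haveI hnil : Group.IsNilpotent ↥(S.map π) := h.quot_nilpotent
  intro hdvd
  have hcard : Nat.card (S.map π) = Q.relIndex S := by
    have h1 := card_map_mk_mul_card Q S h.Q_le
    have h2 := Cfsg.Agent.Lead.relIndex_mul_card' h.Q_le
    exact Nat.eq_of_mul_eq_mul_right Nat.card_pos (h1.trans h2.symm)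
  obtain ⟨P⟩ : Nonempty (Sylow q ↥(S.map π)) := inferInstance
  have hP1 : (P : Subgroup ↥(S.map π)) ≠ ⊥ := P.ne_bot_of_dvd_card (hcard ▸ hdvd)
  have hPn : (P : Subgroup ↥(S.map π)).Normal := inferInstance
  set Tb : Subgroup (M ⧸ Q) := (P : Subgroup ↥(S.map π)).map (S.map π).subtype with hTb
  set T : Subgroup M := Tb.comap π with hT
  have hTS : T ≤ S := by
    intro x hx
    rw [hT, mem_comap] at hx
    obtain ⟨y, hy, hyx⟩ := hx
    apply mem_of_mk_mem_map Q S h.Q_le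
    rw [← hπ, ← hyx]; exact y.2
  have hTn : S ≤ normalizer (T : Set M) := by
    apply le_nzr_of_conj_mem
    intro s hs x hx
    rw [hT, mem_comap] at hx ⊢
    obtain ⟨y, hy, hyx⟩ := hx
    have hsb : π s ∈ S.map π := mem_map_of_mem π hs
    have := hPn.conj_mem y hy ⟨π s, hsb⟩
    refine ⟨_, this, ?_⟩
    simp only [subtype_apply, Subgroup.coe_mul, Subgroup.coe_inv, map_mul, map_inv]
    rw [← hyx]; rfl
  have hTp : IsPGroup q T := by
    rw [hT]
    apply IsPGroup.comap_of_ker_isPGroup (P.2.map _) π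
    rw [hπ, QuotientGroup.ker_mk']
    exact h.Q_isPGroup
  have hTQ : T ≤ Q := Cfsg.Agent.Helper14.le_pCoreOf q hTS hTn hTp
  apply hP1
  rw [eq_bot_iff]
  intro y hy
  obtain ⟨x, hx⟩ := hπs y.1
  have hxT : x ∈ T := by
    rw [hT, mem_comap]; exact ⟨y, hy, hx.symm⟩
  have hxQ := hTQ hxT
  rw [← mk_eq_one_iff', ← hπ, hx] at hxQ
  rw [mem_bot]; exact Subtype.ext hxQ

/-- a subgroup of `S` meeting `Q` trivially is nilpotent -/
theorem Pre.nilpotent_of_inf_eq_bot (h : Pre q S K) {D : Subgroup M} (hDS : D ≤ S)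
    (hQD : Cfsg.pCoreOf q S ⊓ D = ⊥) : Group.IsNilpotent D := by
  haveI hQn := h.Q_normal
  set Q := Cfsg.pCoreOf q S with hQdef
  set π := QuotientGroup.mk' Q with hπ
  haveI hnil : Group.IsNilpotent ↥(S.map π) := h.quot_nilpotent
  let f : D →* ↥(S.map π) := (π.comp D.subtype).codRestrict (S.map π)
    (fun d => mem_map_of_mem π (hDS d.2))
  have hf : Function.Injective f := by
    rw [injective_iff_map_eq_one]
    intro d hd
    have h1 : π (d : M) = 1 := congrArg Subtype.val hd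
    rw [hπ, mk_eq_one_iff'] at h1
    have : (d : M) ∈ Q ⊓ D := mem_inf.mpr ⟨h1, d.2⟩
    rw [hQD, mem_bot] at this
    exact Subtype.ext this
  exact Cfsg.Agent.Lead.isNilpotent_of_injective f hf

/-- facts on a complement `D` of `Q` in `S` (given by cardinality) -/
theorem Pre.compl_facts (h : Pre q S K) {D : Subgroup M} (hDS : D ≤ S)
    (hcard : Nat.card ↥(Cfsg.pCoreOf q S) * Nat.card D = Nat.card S) :
    (Nat.card ↥(Cfsg.pCoreOf q S)).Coprime (Nat.card D) ∧ Cfsg.pCoreOf q S ⊓ D = ⊥ ∧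
      Cfsg.pCoreOf q S ⊔ D = S := by
  haveI hQn := h.Q_normal
  have h2 := Cfsg.Agent.Lead.relIndex_mul_card' h.Q_le
  have hD : Nat.card D = (Cfsg.pCoreOf q S).relIndex S := by
    apply Nat.eq_of_mul_eq_mul_left (Nat.card_pos (α := ↥(Cfsg.pCoreOf q S)))
    rw [hcard, ← h2, mul_comm]
  have hnd : ¬ q ∣ Nat.card D := hD ▸ h.not_dvd_relIndex
  have hcop : (Nat.card ↥(Cfsg.pCoreOf q S)).Coprime (Nat.card D) := by
    obtain ⟨n, hn⟩ := IsPGroup.iff_card.mp h.Q_isPGroup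
    rw [hn]
    exact Nat.Coprime.pow_left n ((Nat.Prime.coprime_iff_not_dvd hq.out).mpr hnd)
  refine ⟨hcop, (Subgroup.disjoint_of_coprime_natCard hcop).eq_bot, ?_⟩
  have hle : Cfsg.pCoreOf q S ⊔ D ≤ S := sup_le h.Q_le hDS
  apply Subgroup.eq_of_le_of_card_ge hle
  rw [card_sup_of_le_nzr (le_normalizer_of_normal) hcop, hcard]

/-- a complement of `Q` in `S` does not centralize `Q` -/
theorem Pre.not_le_centralizer (h : Pre q S K) {D : Subgroup M} (hDS : D ≤ S)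
    (hcard : Nat.card ↥(Cfsg.pCoreOf q S) * Nat.card D = Nat.card S) :
    ¬ D ≤ centralizer (Cfsg.pCoreOf q S : Set M) := by
  obtain ⟨hcop, hQD, hsup⟩ := h.compl_facts hDS hcard
  intro hc
  apply h.hnn
  have hDn := h.nilpotent_of_inf_eq_bot hDS hQD
  have hQnil : Group.IsNilpotent ↥(Cfsg.pCoreOf q S) := h.Q_isPGroup.isNilpotent
  have := Cfsg.Agent.S4242.isNilpotent_sup_of_commute (A := Cfsg.pCoreOf q S) (B := D)
    (fun a ha b hb => (mem_centralizer_iff.mp (hc hb)) a ha) hQnil hDn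
  rwa [hsup] at this

/-- the configuration `Cfg` for a `K`-invariant complement -/
theorem Pre.cfg (h : Pre q S K) {D : Subgroup M} (hDS : D ≤ S)
    (hcard : Nat.card ↥(Cfsg.pCoreOf q S) * Nat.card D = Nat.card S)
    (hKD : K ≤ normalizer (D : Set M)) : Cfg q (Cfsg.pCoreOf q S) D K := by
  obtain ⟨hcop, hQD, hsup⟩ := h.compl_facts hDS hcard
  have hKsQ : Cfsg.pCoreOf q S ⊓ centralizer (K : Set M) = S ⊓ centralizer (K : Set M) :=
    le_antisymm (inf_le_inf_right _ h.Q_le) (le_inf h.kstar_le_Q inf_le_right)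
  refine ⟨h.hodd, h.Q_normal, h.Q_isPGroup, hKD, by rw [hsup, h.htop], hcop, h.coprime_Q_K, ?_,
    h.hK1, ?_, ?_, ?_, h.not_le_centralizer hDS hcard⟩
  · exact Nat.Coprime.coprime_dvd_left (card_dvd_of_le hDS) h.hcop
  · intro k hk hk1 d hd hkd
    have hdC : d ∈ S ⊓ centralizer ({k} : Set M) := by
      refine mem_inf.mpr ⟨hDS hd, ?_⟩
      rw [mem_centralizer_iff]
      intro y hy
      rw [Set.mem_singleton_iff] at hy
      subst hy
      exact hkd
    rw [h.hprime k hk hk1] at hdC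
    have : d ∈ Cfsg.pCoreOf q S ⊓ D := mem_inf.mpr ⟨h.kstar_le_Q hdC, hd⟩
    rwa [hQD, mem_bot] at this
  · intro k hk hk1
    have e1 : Cfsg.pCoreOf q S ⊓ centralizer ({k} : Set M) =
        Cfsg.pCoreOf q S ⊓ (S ⊓ centralizer ({k} : Set M)) := by
      rw [← inf_assoc, inf_of_le_left h.Q_le]
    have e2 : Cfsg.pCoreOf q S ⊓ centralizer (K : Set M) =
        Cfsg.pCoreOf q S ⊓ (S ⊓ centralizer (K : Set M)) := by
      rw [← inf_assoc, inf_of_le_left h.Q_le]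
    rw [e1, e2, h.hprime k hk hk1]
  · rw [hKsQ, h.hq]

/-- a `K`-invariant complement of `Q` in `S` -/
theorem Pre.exists_invariant_compl (h : Pre q S K) :
    ∃ D : Subgroup M, D ≤ S ∧ Nat.card ↥(Cfsg.pCoreOf q S) * Nat.card D = Nat.card S ∧
      K ≤ normalizer (D : Set M) := by
  haveI := h.hSn
  have hKS : K ≤ normalizer (S : Set M) := le_normalizer_of_normal
  obtain ⟨D, hDH, hKD⟩ := Cfsg.Agent.Lead.coprime_exists_invariant_hall K S hKS h.hcop.symm
    inferInstance {p | p ≠ q}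
  have hcardS : Nat.card S = (Cfsg.pCoreOf q S).relIndex S * Nat.card ↥(Cfsg.pCoreOf q S) :=
    (Cfsg.Agent.Lead.relIndex_mul_card' h.Q_le).symm
  have hm : Cfsg.Agent.Lead.IsPiNum {p | p ≠ q} ((Cfsg.pCoreOf q S).relIndex S) := by
    intro p hp hpd
    show p ≠ q
    rintro rfl
    exact h.not_dvd_relIndex hpd
  have hn : Cfsg.Agent.Lead.IsPiNum {p | p ≠ q}ᶜ (Nat.card ↥(Cfsg.pCoreOf q S)) := by
    intro p hp hpd hpq
    apply hpq
    obtain ⟨n, hn⟩ := IsPGroup.iff_card.mp h.Q_isPGroup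
    rw [hn] at hpd
    exact (Nat.prime_dvd_prime_iff_eq hp hq.out).mp (hp.dvd_of_dvd_pow hpd)
  obtain ⟨hDS, hDc⟩ := (Cfsg.Agent.Lead.isPiHallOf_iff_card hcardS hm hn).mp hDH
  exact ⟨D, hDS, by rw [hDc, mul_comm, ← hcardS], hKD⟩

omit [Finite M] [Group.IsSolvable M] hq in
/-- `Q ∩ C(D)` for conjugate `D` -/
theorem inf_centralizer_conj {Q D₀ D : Subgroup M} {k : M} (hk : k ∈ Q)
    (hD : MulAut.conj k • D₀ = D) [hn : (Q ⊓ centralizer (D₀ : Set M)).Normal] :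
    Q ⊓ centralizer (D : Set M) = Q ⊓ centralizer (D₀ : Set M) := by
  have hmem : ∀ d, d ∈ D ↔ k⁻¹ * d * k ∈ D₀ := by
    intro d
    rw [← hD, Cfsg.Agent.Lead.mem_conj_smul_iff]
  ext x
  constructor
  · intro hx
    obtain ⟨hxQ, hxC⟩ := mem_inf.mp hx
    have h1 : k⁻¹ * x * k ∈ Q ⊓ centralizer (D₀ : Set M) := by
      refine mem_inf.mpr ⟨Q.mul_mem (Q.mul_mem (Q.inv_mem hk) hxQ) hk, ?_⟩
      rw [mem_centralizer_iff]
      intro d hd
      have hd' : k * d * k⁻¹ ∈ D := by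
        rw [hmem]
        have : k⁻¹ * (k * d * k⁻¹) * k = d := by group
        rw [this]; exact hd
      have hc := (mem_centralizer_iff.mp hxC) _ hd'
      calc d * (k⁻¹ * x * k) = k⁻¹ * ((k * d * k⁻¹) * x) * k := by group
        _ = k⁻¹ * (x * (k * d * k⁻¹)) * k := by rw [hc]
        _ = k⁻¹ * x * k * d := by group
    have h2 := hn.conj_mem _ h1 k
    have e : k * (k⁻¹ * x * k) * k⁻¹ = x := by group
    rwa [e] at h2
  · intro hx
    have h1 := hn.conj_mem _ hx k⁻¹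
    rw [inv_inv] at h1
    obtain ⟨hxQ, -⟩ := mem_inf.mp hx
    refine mem_inf.mpr ⟨hxQ, ?_⟩
    rw [mem_centralizer_iff]
    intro d hd
    have hd' := (hmem d).mp hd
    have hc := (mem_centralizer_iff.mp (mem_inf.mp h1).2) _ hd'
    calc d * x = k * ((k⁻¹ * d * k) * (k⁻¹ * x * k)) * k⁻¹ := by group
      _ = k * ((k⁻¹ * x * k) * (k⁻¹ * d * k)) * k⁻¹ := by rw [hc]
      _ = x * d := by group

/-- **B&G 15.2, abstract form.** -/
theorem Pre.main (h : Pre q S K) :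
    (Cfsg.pCoreOf q S).Normal ∧ S ⊓ centralizer (K : Set M) ≤ Cfsg.pCoreOf q S ∧
    ¬ q ∣ (Cfsg.pCoreOf q S).relIndex S ∧ (Nat.card K).Prime ∧
    ∀ D : Subgroup M, D ≤ S → Nat.card ↥(Cfsg.pCoreOf q S) * Nat.card D = Nat.card S →
      Group.IsNilpotent D ∧
      (Cfsg.pCoreOf q S ⊓ centralizer (D : Set M)).Normal ∧
      Cfsg.pCoreOf q S ⊓ centralizer (D : Set M) < Cfsg.pCoreOf q S ∧
      Nat.card ↥(Cfsg.pCoreOf q S) =
        Nat.card ↥(Cfsg.pCoreOf q S ⊓ centralizer (D : Set M)) * q ^ Nat.card K ∧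
      (∀ a ∈ Cfsg.pCoreOf q S, ∀ b ∈ Cfsg.pCoreOf q S,
        a ^ q ∈ Cfsg.pCoreOf q S ⊓ centralizer (D : Set M) ∧
        a * b * a⁻¹ * b⁻¹ ∈ Cfsg.pCoreOf q S ⊓ centralizer (D : Set M)) ∧
      ∀ N : Subgroup M, N.Normal → Cfsg.pCoreOf q S ⊓ centralizer (D : Set M) < N →
        N < Cfsg.pCoreOf q S → False := by
  obtain ⟨D₀, hD₀S, hD₀c, hKD₀⟩ := h.exists_invariant_compl
  have hcfg := h.cfg hD₀S hD₀c hKD₀
  obtain ⟨m1, m2, m3, m4, m5, m6⟩ := hcfg.main
  refine ⟨h.Q_normal, h.kstar_le_Q, h.not_dvd_relIndex, m3, ?_⟩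
  intro D hDS hDc
  obtain ⟨hcop, hQD, hsup⟩ := h.compl_facts hDS hDc
  obtain ⟨hcop₀, hQD₀, hsup₀⟩ := h.compl_facts hD₀S hD₀c
  have hcardD : Nat.card D = Nat.card D₀ := by
    apply Nat.eq_of_mul_eq_mul_left (Nat.card_pos (α := ↥(Cfsg.pCoreOf q S)))
    rw [hDc, hD₀c]
  haveI := h.Q_normal
  obtain ⟨k, hk, hkD⟩ := Cfsg.Agent.Lead.sz_conj_rel (K := Cfsg.pCoreOf q S) (A := D₀) (B := D)
    le_normalizer_of_normal hcop₀.symm (Or.inr inferInstance) (by rw [hsup₀]; exact hDS) hcardD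
  haveI := m1
  have e := inf_centralizer_conj (Q := Cfsg.pCoreOf q S) (D₀ := D₀) (D := D) hk hkD
  rw [e]
  exact ⟨h.nilpotent_of_inf_eq_bot hDS hQD, m1, m2, m4, m5, m6⟩

end Cfsg.Agent.Helper13.BG15
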