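import Mathlib
import Cfsg.Agent.Helper13.BG15A
import Cfsg.Agent.Helper14.SylowIn

/-!
# Transfer between subgroups of `G` inside `M` and subgroups of the type `↥M`
-/

set_option autoImplicit false

namespace Cfsg.Agent.Helper13.BG15

open Subgroup

variable {G : Type*} [Group G]

/-- `(A ⊓ C_M(D ∩ M)).map = A.map ⊓ C_G(D)` for `D ≤ M` -/
theorem map_subtype_inf_centralizer (M : Subgroup G) (A : Subgroup ↥M) {D : Subgroup G}
    (hDM : D ≤ M) :
    (A ⊓ centralizer ((D.subgroupOf M : Subgroup ↥M) : Set ↥M)).map M.subtype =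
      A.map M.subtype ⊓ centralizer (D : Set G) := by
  ext x
  constructor
  · rintro ⟨y, hy, rfl⟩
    obtain ⟨hyA, hyC⟩ := mem_inf.mp hy
    refine mem_inf.mpr ⟨mem_map_of_mem _ hyA, ?_⟩
    rw [mem_centralizer_iff] at hyC ⊢
    intro d hd
    have := hyC ⟨d, hDM hd⟩ (by rw [SetLike.mem_coe, mem_subgroupOf]; exact hd)
    exact congrArg Subtype.val this
  · intro hx
    obtain ⟨⟨y, hyA, rfl⟩, hxC⟩ := mem_inf.mp hx
    refine ⟨y, mem_inf.mpr ⟨hyA, ?_⟩, rfl⟩
    rw [mem_centralizer_iff] at hxC ⊢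
    intro d hd
    rw [SetLike.mem_coe, mem_subgroupOf] at hd
    exact Subtype.ext (hxC d hd)

/-- `(S ∩ C_G(K)) ∩ M = (S ∩ M) ∩ C_M(K ∩ M)` for `K ≤ M` -/
theorem subgroupOf_inf_centralizer (M S : Subgroup G) {K : Subgroup G} (hKM : K ≤ M) :
    (S ⊓ centralizer (K : Set G)).subgroupOf M =
      S.subgroupOf M ⊓ centralizer ((K.subgroupOf M : Subgroup ↥M) : Set ↥M) := by
  ext x
  rw [mem_subgroupOf, mem_inf, mem_inf, mem_subgroupOf, mem_centralizer_iff, mem_centralizer_iff]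
  constructor
  · rintro ⟨h1, h2⟩
    refine ⟨h1, fun d hd => ?_⟩
    rw [SetLike.mem_coe, mem_subgroupOf] at hd
    exact Subtype.ext (h2 d hd)
  · rintro ⟨h1, h2⟩
    refine ⟨h1, fun d hd => ?_⟩
    have := h2 ⟨d, hKM hd⟩ (by rw [SetLike.mem_coe, mem_subgroupOf]; exact hd)
    exact congrArg Subtype.val this

theorem subgroupOf_inf_centralizer_singleton (M S : Subgroup G) (k : ↥M) :
    (S ⊓ centralizer ({(k : G)} : Set G)).subgroupOf M =
      S.subgroupOf M ⊓ centralizer ({k} : Set ↥M) := by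
  ext x
  rw [mem_subgroupOf, mem_inf, mem_inf, mem_subgroupOf, mem_centralizer_iff, mem_centralizer_iff]
  constructor
  · rintro ⟨h1, h2⟩
    refine ⟨h1, fun d hd => ?_⟩
    rw [Set.mem_singleton_iff] at hd
    subst hd
    exact Subtype.ext (h2 _ (Set.mem_singleton _))
  · rintro ⟨h1, h2⟩
    refine ⟨h1, fun d hd => ?_⟩
    rw [Set.mem_singleton_iff] at hd
    subst hd
    exact congrArg Subtype.val (h2 k (Set.mem_singleton _))

/-- a normal subgroup of `↥M` maps to a subgroup of `G` normalized by `M` -/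
theorem le_normalizer_map_subtype [Finite G] (M : Subgroup G) (N : Subgroup ↥M) [hN : N.Normal] :
    M ≤ normalizer ((N.map M.subtype : Subgroup G) : Set G) := by
  apply le_nzr_of_conj_mem
  rintro m hm _ ⟨y, hy, rfl⟩
  exact ⟨⟨m, hm⟩ * y * ⟨m, hm⟩⁻¹, hN.conj_mem y hy ⟨m, hm⟩, rfl⟩

theorem map_subtype_lt_map_subtype (M : Subgroup G) {A B : Subgroup ↥M} :
    A.map M.subtype < B.map M.subtype ↔ A < B := by
  rw [lt_iff_le_and_ne, lt_iff_le_and_ne, map_le_map_iff_of_injective M.subtype_injective]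
  refine and_congr Iff.rfl (not_congr ?_)
  exact (map_injective M.subtype_injective).eq_iff

theorem isComplIn_card {A B S : Subgroup G} (h : Cfsg.IsComplIn A B S) :
    Nat.card A * Nat.card B = Nat.card S := by
  obtain ⟨hA, hB, hdisj, hprod⟩ := h
  rw [← Nat.card_prod]
  apply Nat.card_congr
  refine Equiv.ofBijective (fun x : A × B => (⟨x.1 * x.2, S.mul_mem (hA x.1.2) (hB x.2.2)⟩ : S))
    ⟨?_, ?_⟩
  · rintro ⟨a, b⟩ ⟨a', b'⟩ hab
    have h1 : (a : G) * b = a' * b' := congrArg Subtype.val hab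
    have h2 : (a' : G)⁻¹ * a = b' * (b : G)⁻¹ := by
      calc (a' : G)⁻¹ * a = (a' : G)⁻¹ * (a * b) * (b : G)⁻¹ := by group
        _ = (a' : G)⁻¹ * (a' * b') * (b : G)⁻¹ := by rw [h1]
        _ = b' * (b : G)⁻¹ := by group
    have h3 : (a' : G)⁻¹ * a ∈ A ⊓ B := by
      refine mem_inf.mpr ⟨A.mul_mem (A.inv_mem a'.2) a.2, ?_⟩
      rw [h2]; exact B.mul_mem b'.2 (B.inv_mem b.2)
    rw [hdisj, mem_bot] at h3
    have ha : (a : G) = a' := by
      rw [inv_mul_eq_one] at h3; exact h3.symm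
    have hb : (b : G) = b' := by
      rw [ha] at h1; exact mul_left_cancel h1
    exact Prod.ext (Subtype.ext ha) (Subtype.ext hb)
  · rintro ⟨s, hs⟩
    obtain ⟨a, ha, b, hb, rfl⟩ := hprod s hs
    exact ⟨(⟨a, ha⟩, ⟨b, hb⟩), rfl⟩

end Cfsg.Agent.Helper13.BG15
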