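import Mathlib
import Cfsg.Prelude.Def_OddOrderLocal
import Cfsg.Agent.Helper13.BG15D
import Cfsg.Agent.Helper13.BG15E
import Cfsg.Agent.Helper10.BG16G
import Cfsg.Agent.Helper4.BG12SD
import Cfsg.Agent.Helper16.BG11a
import Cfsg.Agent.Helper16.BG12a
import Cfsg.Agent.Lead.CN8
import Cfsg.Agent.S1350
import Cfsg.Agent.S1404
import Cfsg.Agent.S1414

/-!
# B&G Theorem 15.2 (S1437), relative to the statements S1373, S1426, S1429, S1430
-/

set_option autoImplicit false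
set_option linter.unusedSectionVars false
set_option linter.unusedVariables false
set_option linter.style.haveILetI false

namespace Cfsg.Agent.Helper13.BG15

open Subgroup Cfsg
open Cfsg.Agent.H9.BG12 (St1350 sigmaCore_le le_normalizer_sigmaCore)
open Cfsg.Agent.Helper14 (IsSylowIn exists_isSylowIn)
open Cfsg.Agent.Helper10.BG16 (St1430)

universe u

/-- frozen statement S1373 (B&G 14.7(f) consequence) without the standing hypothesis -/
def St1373 (G : Type u) [Group G] : Prop :=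
  ∀ (M : Subgroup G), IsCoatom M → ∀ (K U : Subgroup G), Cfsg.IsSigmaDecomposition M K U →
    K ≠ ⊥ → U = ⊥ →
    (Nat.card ↥(Cfsg.sigmaCore M ⊓ Subgroup.centralizer (K : Set G))).Prime

/-- frozen statement S1426 (B&G 12.17-12.18) without the standing hypothesis -/
def St1426 (G : Type u) [Group G] : Prop :=
  ∀ (M : Subgroup G), IsCoatom M → ∀ (E : Subgroup G), Cfsg.IsComplIn E (Cfsg.sigmaCore M) M →
    Cfsg.sigmaCore M ⊓ Subgroup.centralizer (E : Set G) ≤ ⁅Cfsg.sigmaCore M, Cfsg.sigmaCore M⁆ ∧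
      ⁅Cfsg.sigmaCore M, E⁆ = Cfsg.sigmaCore M ∧
      ∀ g : G, g ∉ M → IsCyclic ↥(Cfsg.sigmaCore M ⊓ M.map (MulAut.conj g).toMonoidHom) ∧
        (∀ p : ℕ, p.Prime → p ∣ Nat.card ↥(Cfsg.sigmaCore M ⊓ M.map (MulAut.conj g).toMonoidHom) → p ∉ Cfsg.beta M) ∧
        Cfsg.sigmaCore M ⊓ M.map (MulAut.conj g).toMonoidHom ⊓ ⁅Cfsg.sigmaCore M, Cfsg.sigmaCore M⁆ = ⊥

/-- frozen statement S1429 (B&G 13.10-13.12) without the standing hypothesis -/
def St1429 (G : Type u) [Group G] : Prop :=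
  ∀ (M : Subgroup G), IsCoatom M →
    ¬ (∀ q : ℕ, q.Prime → q ∣ Nat.card M → q ∉ Cfsg.sigma M → q ∈ Cfsg.kappa M) →
    ∀ (p : ℕ) [Fact p.Prime], p ∣ Nat.card M → p ∉ Cfsg.sigma M ∪ Cfsg.kappa M → ∀ (S : Sylow p M),
    Nat.card ↥(Subgroup.closure {x : G | x ∈ (S : Subgroup M).map M.subtype ∧ x ^ p = 1}) ≤ p ^ 2 ∧
      Cfsg.sigmaCore M ⊓ Subgroup.centralizer ((Subgroup.closure {x : G | x ∈ (S : Subgroup M).map M.subtype ∧ x ^ p = 1} : Subgroup G) : Set G) = ⊥ ∧
      Group.IsNilpotent (Cfsg.sigmaCore M)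

variable {G : Type u} [Group G] [Finite G]

/-- `M_F ≤ M_σ` (part of B&G 15.1 / S1355) -/
theorem fittingHallOf_le_sigmaCore (hG : Cfsg.IsMinSimpleOddOrder G) {M : Subgroup G}
    (hM : IsCoatom M) : Cfsg.fittingHallOf M ≤ Cfsg.sigmaCore M := by
  have h1350 : St1350 G := fun M hM => Cfsg.Agent.S1350.result hG M hM
  apply Cfsg.Agent.Helper10.BG16.le_sigmaCore_of_pi h1350 hM
    (Cfsg.Agent.Helper23.fittingHallOf_le M)
  intro p hp hpF
  haveI : Fact p.Prime := ⟨hp⟩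
  set F := Cfsg.fittingHallOf M with hF
  have hFM : F ≤ M := Cfsg.Agent.Helper23.fittingHallOf_le M
  obtain ⟨P, hP⟩ := exists_isSylowIn (p := p) F
  have hFnil : Group.IsNilpotent F := Cfsg.Agent.Helper10.BG16.fittingHallOf_isNilpotent M
  have hMP : M ≤ normalizer (P : Set G) :=
    (Cfsg.Agent.Helper23.le_normalizer_fittingHallOf M).trans
      (Cfsg.Agent.Helper4.BG12SD.normalizer_le_normalizer_of_nilpotent_sylow hFnil hP)
  have hcop := Cfsg.Agent.Helper10.BG16.fittingHallOf_coprime_relIndex M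
  have hnd : ¬ p ∣ F.relIndex M := fun hd =>
    hp.one_lt.ne' (Nat.eq_one_of_dvd_coprimes hcop hpF hd)
  have hPM : IsSylowIn p P M :=
    Cfsg.Agent.Helper10.BG16.isSylowIn_of_not_dvd_relIndex' hP hFM hnd
  have hP1 : P ≠ ⊥ := by
    intro hbot
    have h1 := Sylow.ne_bot_of_dvd_card hP.toSylow hpF
    apply h1
    have h2 := hP.toSylow_map
    exact (Subgroup.map_eq_bot_iff_of_injective _ F.subtype_injective).mp (h2.trans hbot)
  have hN : normalizer (P : Set G) = M :=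
    Cfsg.Agent.Lead.CN.normalizer_eq_of_coatom hG hM hP1 (hP.1.trans hFM) hMP
  exact Cfsg.Agent.Helper16.BG11.mem_sigma_of_isSylowIn hPM hP1 hN.le

/-- if `M_F ≠ M_σ` then `M_σ` is not nilpotent -/
theorem sigmaCore_not_nilpotent (hG : Cfsg.IsMinSimpleOddOrder G) {M : Subgroup G}
    (hM : IsCoatom M) (hne : Cfsg.fittingHallOf M ≠ Cfsg.sigmaCore M) :
    ¬ Group.IsNilpotent (Cfsg.sigmaCore M) := by
  intro hnil
  apply hne
  apply le_antisymm (fittingHallOf_le_sigmaCore hG hM)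
  apply Cfsg.Agent.Helper10.BG16.le_fittingHallOf (sigmaCore_le M) (le_normalizer_sigmaCore M) hnil
  obtain ⟨⟨-, hπ, hidx⟩, -, -⟩ := Cfsg.Agent.S1350.result hG M hM
  exact Nat.coprime_of_dvd fun p hp h1 h2 => hidx p hp (hπ p hp h1) h2

/-- The structure behind B&G Theorem 15.2: `U = 1`, `M_σ = M'`, `K ≠ 1`, `q = |K*|` prime, the
configuration `Pre` inside `↥M`, and `K* ≤ Q ≤ M_F` for `Q = O_q(M_σ)`. -/
theorem struct_of (hG : Cfsg.IsMinSimpleOddOrder G) (h1373 : St1373 G) (h1426 : St1426 G)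
    (h1429 : St1429 G) (h1430 : St1430 G)
    (M : Subgroup G) (hM : IsCoatom M) (K U : Subgroup G)
    (hKU : Cfsg.IsSigmaDecomposition M K U)
    (hne : Cfsg.fittingHallOf M ≠ Cfsg.sigmaCore M) :
    U = ⊥ ∧ Cfsg.sigmaCore M = ⁅M, M⁆ ∧ K ≠ ⊥ ∧
      (Nat.card ↥(Cfsg.sigmaCore M ⊓ Subgroup.centralizer (K : Set G))).Prime ∧
      Pre (Nat.card ↥(Cfsg.sigmaCore M ⊓ Subgroup.centralizer (K : Set G)))
        ((Cfsg.sigmaCore M).subgroupOf M) (K.subgroupOf M) ∧
      (Cfsg.pCoreOf (Nat.card ↥(Cfsg.sigmaCore M ⊓ Subgroup.centralizer (K : Set G)))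
        ((Cfsg.sigmaCore M).subgroupOf M)).map M.subtype ≤ Cfsg.fittingHallOf M ∧
      Cfsg.sigmaCore M ⊓ Subgroup.centralizer (K : Set G) ≤
        (Cfsg.pCoreOf (Nat.card ↥(Cfsg.sigmaCore M ⊓ Subgroup.centralizer (K : Set G)))
          ((Cfsg.sigmaCore M).subgroupOf M)).map M.subtype := by
  classical
  have h1350 : St1350 G := fun M hM => Cfsg.Agent.S1350.result hG M hM
  haveI hsolvM : Group.IsSolvable ↥M := Cfsg.Agent.Helper10.BG16.isSolvable_coatom hG hM
  have hSM : Cfsg.sigmaCore M ≤ M := sigmaCore_le M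
  have hMS : M ≤ normalizer (Cfsg.sigmaCore M : Set G) := le_normalizer_sigmaCore M
  have hKM : K ≤ M := hKU.hall.1
  have hFS := fittingHallOf_le_sigmaCore hG hM
  have hnn := sigmaCore_not_nilpotent hG hM hne
  -- every prime of `M` outside `σ(M)` is in `κ(M)`
  have hP1 : ∀ r : ℕ, r.Prime → r ∣ Nat.card M → r ∉ Cfsg.sigma M → r ∈ Cfsg.kappa M := by
    by_contra hcon
    have hcon' := hcon
    push Not at hcon'
    obtain ⟨p, hp, hpM, hpσ, hpκ⟩ := hcon'
    haveI : Fact p.Prime := ⟨hp⟩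
    obtain ⟨P⟩ : Nonempty (Sylow p ↥M) := inferInstance
    refine hnn (h1429 M hM hcon p hpM ?_ P).2.2
    rintro (h | h)
    · exact hpσ h
    · exact hpκ h
  -- `U = 1`
  have hU : U = ⊥ := by
    rw [← Subgroup.card_eq_one]
    by_contra hc
    obtain ⟨p, hp, hpU⟩ := Nat.exists_prime_and_dvd hc
    have hUM : U ≤ M := hKU.compl.1
    have hpM : p ∣ Nat.card M := hpU.trans (Subgroup.card_dvd_of_le hUM)
    by_cases hpσ : p ∈ Cfsg.sigma M
    · have hcop := Cfsg.Agent.Helper10.BG16.sd_coprime_U_sigma h1350 hM hKU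
      have hpS : p ∣ Nat.card (Cfsg.sigmaCore M) := by
        have h := Cfsg.Agent.Lead.relIndex_mul_card' hSM
        have hnd := (h1350 M hM).1.2.2 p hp hpσ
        rw [← h] at hpM
        exact (hp.dvd_mul.mp hpM).resolve_left hnd
      exact hp.one_lt.ne' (Nat.eq_one_of_dvd_coprimes hcop hpU hpS)
    · have hpκ := hP1 p hp hpM hpσ
      have hnd := hKU.hall.2.2 p hp hpκ
      rw [Cfsg.Agent.Helper10.BG16.sd_relIndex_K h1350 hM hKU] at hnd
      exact hnd (Dvd.dvd.mul_right hpU _)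
  have hcardM : Nat.card K * Nat.card (Cfsg.sigmaCore M) = Nat.card M := by
    have := Cfsg.Agent.Helper10.BG16.sd_card h1350 hM hKU
    rw [hU, Subgroup.card_bot, one_mul] at this
    exact this.symm
  have hKS : K ⊓ Cfsg.sigmaCore M = ⊥ := Cfsg.Agent.Helper10.BG16.sd_K_inf_sigma h1350 hM hKU
  have hcompl : Cfsg.IsComplIn K (Cfsg.sigmaCore M) M :=
    Cfsg.Agent.Helper10.BG16.isComplIn_of_card hKM hSM hKS hcardM
  have h101 : Cfsg.Agent.Helper21.BG10.Ctl101 G :=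
    Cfsg.Agent.H9.BG12.ctl101_of
      (fun M hM p _ hp X hXp hX1 hXM => Cfsg.Agent.S1404.result hG M hM p hp X hXp hX1 hXM)
  have hSM' : Cfsg.sigmaCore M ≤ ⁅M, M⁆ :=
    Cfsg.Agent.Helper21.BG10.sigmaCore_le_commutator hG h101 hM
  have hM'S : ⁅M, M⁆ ≤ Cfsg.sigmaCore M := by
    have h := Cfsg.Agent.Helper16.BG12.commutator_le_sup hcompl
    have hKK : ⁅K, K⁆ = ⊥ := by
      rw [Subgroup.commutator_eq_bot_iff_le_centralizer]
      intro a ha
      rw [mem_centralizer_iff]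
      intro b hb
      obtain ⟨g, hg⟩ := hKU.cyclic.exists_generator
      obtain ⟨i, hi⟩ := Subgroup.mem_zpowers_iff.mp (hg ⟨a, ha⟩)
      obtain ⟨j, hj⟩ := Subgroup.mem_zpowers_iff.mp (hg ⟨b, hb⟩)
      have ha' : a = (g : G) ^ i := by
        have := congrArg Subtype.val hi; simpa using this.symm
      have hb' : b = (g : G) ^ j := by
        have := congrArg Subtype.val hj; simpa using this.symm
      rw [ha', hb', ← zpow_add, ← zpow_add, add_comm]
    rwa [hKK, bot_sup_eq] at h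
  have hSeq : Cfsg.sigmaCore M = ⁅M, M⁆ := le_antisymm hSM' hM'S
  -- `K ≠ 1`
  have hK1 : K ≠ ⊥ := by
    intro hK
    have hcard : Nat.card M = Nat.card (Cfsg.sigmaCore M) := by
      rw [← hcardM, hK, Subgroup.card_bot, one_mul]
    have hS_eq : Cfsg.sigmaCore M = M := Subgroup.eq_of_le_of_card_ge hSM hcard.le
    have hMM : ⁅M, M⁆ = M := by rw [← hSeq, hS_eq]
    haveI : Nontrivial ↥M := by
      by_contra hnt
      rw [not_nontrivial_iff_subsingleton] at hnt
      apply hnn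
      haveI : Subsingleton ↥(Cfsg.sigmaCore M) :=
        ⟨fun a b => Subtype.ext (congrArg (fun x : ↥M => (x : G))
          (Subsingleton.elim (⟨a.1, hSM a.2⟩ : ↥M) ⟨b.1, hSM b.2⟩))⟩
      infer_instance
    have hlt := Group.IsSolvable.commutator_lt_top_of_nontrivial ↥M
    have hmap := Cfsg.Agent.Helper10.BG16.map_subtype_commutator_eq M
    rw [hMM] at hmap
    have : commutator ↥M = ⊤ := by
      apply Subgroup.map_injective M.subtype_injective
      rw [hmap, ← MonoidHom.range_eq_map, Subgroup.range_subtype]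
    exact hlt.ne this
  -- the prime `q = |K*|`
  have hqp := h1373 M hM K U hKU hK1 hU
  obtain ⟨hprimeG, -, -⟩ := h1430 M hM K hKU.hall hK1
  obtain ⟨-, hcommG, -⟩ := h1426 M hM K hcompl
  have hKsM : Cfsg.sigmaCore M ⊓ centralizer (K : Set G) ≤ M := inf_le_left.trans hSM
  set q := Nat.card ↥(Cfsg.sigmaCore M ⊓ Subgroup.centralizer (K : Set G)) with hqdef
  haveI : Fact q.Prime := ⟨hqp⟩
  -- the configuration in `↥M`
  set S' : Subgroup ↥M := (Cfsg.sigmaCore M).subgroupOf M with hS'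
  set K' : Subgroup ↥M := K.subgroupOf M with hK'
  have hcS : Nat.card S' = Nat.card (Cfsg.sigmaCore M) := card_subgroupOf_le hSM
  have hcK : Nat.card K' = Nat.card K := card_subgroupOf_le hKM
  have hpre : Pre q S' K' := by
    refine ⟨?_, ?_, ?_, ?_, ?_, ?_, ?_, ?_, ?_⟩
    · exact Odd.of_dvd_nat hG.1 (Subgroup.card_subgroup_dvd_card M)
    · exact Subgroup.normal_subgroupOf_of_le_normalizer hMS
    · rw [hS', hK', ← Subgroup.subgroupOf_sup hSM hKM]
      have : Cfsg.sigmaCore M ⊔ K = M := by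
        apply le_antisymm (sup_le hSM hKM)
        intro m hm
        obtain ⟨a, ha, b, hb, rfl⟩ := hcompl.2.2.2 m hm
        exact mul_mem (mem_sup_right ha) (mem_sup_left hb)
      rw [this, Subgroup.subgroupOf_self]
    · rw [hcS, hcK]
      exact (Cfsg.Agent.Helper10.BG16.sd_coprime_K_sigma h1350 hM hKU).symm
    · exact Cfsg.Agent.Helper10.BG16.subgroupOf_ne_bot hKM hK1
    · intro k hk hk1
      rw [hK', mem_subgroupOf] at hk
      have hk1' : (k : G) ≠ 1 := fun h => hk1 (Subtype.ext h)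
      rw [hS', hK', ← subgroupOf_inf_centralizer_singleton, ← subgroupOf_inf_centralizer M _ hKM,
        hprimeG k hk hk1']
    · rw [hS', hK', ← subgroupOf_inf_centralizer M _ hKM]
      exact card_subgroupOf_le hKsM
    · apply Subgroup.map_injective M.subtype_injective
      rw [Subgroup.map_commutator, hS', hK', Cfsg.Agent.Helper14.map_subtype_subgroupOf hSM,
        Cfsg.Agent.Helper14.map_subtype_subgroupOf hKM, hcommG]
    · intro hnil
      apply hnn
      haveI := hnil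
      exact Group.nilpotent_of_mulEquiv (Subgroup.subgroupOfEquivOfLe hSM)
  obtain ⟨p1, p2, p3, p4, p5⟩ := hpre.main
  set Q' : Subgroup ↥M := Cfsg.pCoreOf q S' with hQ'
  set Q : Subgroup G := Q'.map M.subtype with hQ
  have hQ'S' : Q' ≤ S' := Cfsg.Agent.Helper14.pCoreOf_le q S'
  have hQS : Q ≤ Cfsg.sigmaCore M := by
    calc Q'.map M.subtype ≤ S'.map M.subtype := Subgroup.map_mono hQ'S'
      _ = Cfsg.sigmaCore M := Cfsg.Agent.Helper14.map_subtype_subgroupOf hSM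
  have hQM : Q ≤ M := hQS.trans hSM
  have hcQ : Nat.card Q = Nat.card Q' := Cfsg.Agent.Helper14.card_map_subtype Q'
  haveI := p1
  have hMQ : M ≤ normalizer (Q : Set G) := le_normalizer_map_subtype M Q'
  have hQp : IsPGroup q Q := (Cfsg.Agent.Helper14.pCoreOf_isPGroup q S').map _
  have hKsQ : Cfsg.sigmaCore M ⊓ centralizer (K : Set G) ≤ Q := by
    intro x hx
    have hxM : x ∈ M := hKsM hx
    have hx' : (⟨x, hxM⟩ : ↥M) ∈ S' ⊓ centralizer (K' : Set ↥M) := by
      rw [hS', hK', ← subgroupOf_inf_centralizer M _ hKM, mem_subgroupOf]; exact hx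
    exact ⟨⟨x, hxM⟩, p2 hx', rfl⟩
  have hrel : Q.relIndex (Cfsg.sigmaCore M) = Q'.relIndex S' := by
    have h1 := Cfsg.Agent.Lead.relIndex_mul_card' hQS
    have h2 := Cfsg.Agent.Lead.relIndex_mul_card' hQ'S'
    rw [hcS, ← hcQ, ← h1] at h2
    exact (Nat.eq_of_mul_eq_mul_right Nat.card_pos h2).symm
  have hndQ : ¬ q ∣ Q.relIndex (Cfsg.sigmaCore M) := by rw [hrel]; exact p3
  have hqKs : q ∣ Nat.card (Cfsg.sigmaCore M) :=
    Subgroup.card_dvd_of_le (inf_le_left : Cfsg.sigmaCore M ⊓ centralizer (K : Set G) ≤ _)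
  have hqσ : q ∈ Cfsg.sigma M := (h1350 M hM).1.2.1 q hqp hqKs
  have hqM : q ∣ Nat.card M := hqKs.trans (Subgroup.card_dvd_of_le hSM)
  have hQF : Q ≤ Cfsg.fittingHallOf M := by
    apply Cfsg.Agent.Helper10.BG16.le_fittingHallOf hQM hMQ hQp.isNilpotent
    rw [← Subgroup.relIndex_mul_relIndex Q (Cfsg.sigmaCore M) M hQS hSM]
    obtain ⟨n, hn⟩ := IsPGroup.iff_card.mp hQp
    rw [hn]
    apply Nat.Coprime.pow_left
    rw [Nat.Prime.coprime_iff_not_dvd hqp]
    intro hd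
    rcases hqp.dvd_mul.mp hd with h | h
    · exact hndQ h
    · exact (h1350 M hM).1.2.2 q hqp hqσ h
  exact ⟨hU, hSeq, hK1, hqp, hpre, hQF, hKsQ⟩

/-- **B&G Theorem 15.2** (the statement of S1437), relative to the statements of S1373, S1426,
S1429 and S1430. -/
theorem s1437_of (hG : Cfsg.IsMinSimpleOddOrder G) (h1373 : St1373 G) (h1426 : St1426 G)
    (h1429 : St1429 G) (h1430 : St1430 G)
    (M : Subgroup G) (hM : IsCoatom M) (K U : Subgroup G)
    (hKU : Cfsg.IsSigmaDecomposition M K U)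
    (hne : Cfsg.fittingHallOf M ≠ Cfsg.sigmaCore M) :
    U = ⊥ ∧ Cfsg.sigmaCore M = ⁅M, M⁆ ∧ (Nat.card K).Prime ∧ (Nat.card ↥(Cfsg.sigmaCore M ⊓ Subgroup.centralizer (K : Set G))).Prime ∧
      Nat.card ↥(Cfsg.sigmaCore M ⊓ Subgroup.centralizer (K : Set G)) ∣ Nat.card (Cfsg.fittingHallOf M) ∧ Nat.card ↥(Cfsg.sigmaCore M ⊓ Subgroup.centralizer (K : Set G)) ∈ Cfsg.beta M ∧
      ∃ Q : Subgroup G, Q ≤ Cfsg.fittingHallOf M ∧ M ≤ Subgroup.normalizer (Q : Set G) ∧ IsPGroup (Nat.card ↥(Cfsg.sigmaCore M ⊓ Subgroup.centralizer (K : Set G))) Q ∧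
        ¬ Nat.card ↥(Cfsg.sigmaCore M ⊓ Subgroup.centralizer (K : Set G)) ∣ Q.relIndex (Cfsg.sigmaCore M) ∧
        ∀ D : Subgroup G, Cfsg.IsComplIn Q D (Cfsg.sigmaCore M) →
          Group.IsNilpotent D ∧ M ≤ Subgroup.normalizer ((Q ⊓ Subgroup.centralizer (D : Set G) : Subgroup G) : Set G) ∧
          Q ⊓ Subgroup.centralizer (D : Set G) < Q ∧
          Nat.card Q = Nat.card ↥(Q ⊓ Subgroup.centralizer (D : Set G)) * Nat.card ↥(Cfsg.sigmaCore M ⊓ Subgroup.centralizer (K : Set G)) ^ Nat.card K ∧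
          (∀ a ∈ Q, ∀ b ∈ Q, a ^ Nat.card ↥(Cfsg.sigmaCore M ⊓ Subgroup.centralizer (K : Set G)) ∈ Q ⊓ Subgroup.centralizer (D : Set G) ∧
            a * b * a⁻¹ * b⁻¹ ∈ Q ⊓ Subgroup.centralizer (D : Set G)) ∧
          ∀ N : Subgroup G, Q ⊓ Subgroup.centralizer (D : Set G) < N → N < Q → ¬ M ≤ Subgroup.normalizer (N : Set G) := by
  classical
  obtain ⟨hU, hSeq, hK1, hqp, hpre, hQF, hKsQ⟩ :=
    struct_of hG h1373 h1426 h1429 h1430 M hM K U hKU hne
  have h1350 : St1350 G := fun M hM => Cfsg.Agent.S1350.result hG M hM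
  haveI hsolvM : Group.IsSolvable ↥M := Cfsg.Agent.Helper10.BG16.isSolvable_coatom hG hM
  have hSM : Cfsg.sigmaCore M ≤ M := sigmaCore_le M
  have hKM : K ≤ M := hKU.hall.1
  have hKsM : Cfsg.sigmaCore M ⊓ centralizer (K : Set G) ≤ M := inf_le_left.trans hSM
  set q := Nat.card ↥(Cfsg.sigmaCore M ⊓ Subgroup.centralizer (K : Set G)) with hqdef
  haveI : Fact q.Prime := ⟨hqp⟩
  set S' : Subgroup ↥M := (Cfsg.sigmaCore M).subgroupOf M with hS'
  set K' : Subgroup ↥M := K.subgroupOf M with hK'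
  have hcS : Nat.card S' = Nat.card (Cfsg.sigmaCore M) := card_subgroupOf_le hSM
  have hcK : Nat.card K' = Nat.card K := card_subgroupOf_le hKM
  obtain ⟨p1, p2, p3, p4, p5⟩ := hpre.main
  set Q' : Subgroup ↥M := Cfsg.pCoreOf q S' with hQ'
  set Q : Subgroup G := Q'.map M.subtype with hQ
  have hQ'S' : Q' ≤ S' := Cfsg.Agent.Helper14.pCoreOf_le q S'
  have hQS : Q ≤ Cfsg.sigmaCore M := by
    calc Q'.map M.subtype ≤ S'.map M.subtype := Subgroup.map_mono hQ'S'
      _ = Cfsg.sigmaCore M := Cfsg.Agent.Helper14.map_subtype_subgroupOf hSM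
  have hQM : Q ≤ M := hQS.trans hSM
  have hcQ : Nat.card Q = Nat.card Q' := Cfsg.Agent.Helper14.card_map_subtype Q'
  haveI := p1
  have hMQ : M ≤ normalizer (Q : Set G) := le_normalizer_map_subtype M Q'
  have hQp : IsPGroup q Q := (Cfsg.Agent.Helper14.pCoreOf_isPGroup q S').map _
  have hrel : Q.relIndex (Cfsg.sigmaCore M) = Q'.relIndex S' := by
    have h1 := Cfsg.Agent.Lead.relIndex_mul_card' hQS
    have h2 := Cfsg.Agent.Lead.relIndex_mul_card' hQ'S'
    rw [hcS, ← hcQ, ← h1] at h2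
    exact (Nat.eq_of_mul_eq_mul_right Nat.card_pos h2).symm
  have hndQ : ¬ q ∣ Q.relIndex (Cfsg.sigmaCore M) := by rw [hrel]; exact p3
  have hqKs : q ∣ Nat.card (Cfsg.sigmaCore M) :=
    Subgroup.card_dvd_of_le (inf_le_left : Cfsg.sigmaCore M ⊓ centralizer (K : Set G) ≤ _)
  have hqM : q ∣ Nat.card M := hqKs.trans (Subgroup.card_dvd_of_le hSM)
  -- complements
  have hD : ∀ D : Subgroup G, Cfsg.IsComplIn Q D (Cfsg.sigmaCore M) →
      Group.IsNilpotent D ∧ M ≤ Subgroup.normalizer ((Q ⊓ Subgroup.centralizer (D : Set G) : Subgroup G) : Set G) ∧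
      Q ⊓ Subgroup.centralizer (D : Set G) < Q ∧
      Nat.card Q = Nat.card ↥(Q ⊓ Subgroup.centralizer (D : Set G)) * q ^ Nat.card K ∧
      (∀ a ∈ Q, ∀ b ∈ Q, a ^ q ∈ Q ⊓ Subgroup.centralizer (D : Set G) ∧
        a * b * a⁻¹ * b⁻¹ ∈ Q ⊓ Subgroup.centralizer (D : Set G)) ∧
      ∀ N : Subgroup G, Q ⊓ Subgroup.centralizer (D : Set G) < N → N < Q →
        ¬ M ≤ Subgroup.normalizer (N : Set G) := by
    intro D hDc
    have hDS : D ≤ Cfsg.sigmaCore M := hDc.2.1
    have hDM : D ≤ M := hDS.trans hSM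
    set D' : Subgroup ↥M := D.subgroupOf M with hD'
    have hcD : Nat.card D' = Nat.card D := card_subgroupOf_le hDM
    have hD'S' : D' ≤ S' := by
      intro x hx
      rw [hD', mem_subgroupOf] at hx
      rw [hS', mem_subgroupOf]
      exact hDS hx
    have hcard' : Nat.card Q' * Nat.card D' = Nat.card S' := by
      rw [← hcQ, hcD, hcS]; exact isComplIn_card hDc
    obtain ⟨d1, d2, d3, d4, d5, d6⟩ := p5 D' hD'S' hcard'
    have hX : (Q' ⊓ centralizer (D' : Set ↥M)).map M.subtype = Q ⊓ centralizer (D : Set G) :=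
      map_subtype_inf_centralizer M Q' hDM
    refine ⟨?_, ?_, ?_, ?_, ?_, ?_⟩
    · haveI := d1
      exact Group.nilpotent_of_mulEquiv (Subgroup.subgroupOfEquivOfLe hDM)
    · haveI := d2
      rw [← hX]
      exact le_normalizer_map_subtype M _
    · rw [← hX, hQ]
      exact (map_subtype_lt_map_subtype M).mpr d3
    · rw [← hX, hcQ, Cfsg.Agent.Helper14.card_map_subtype, ← hcK]
      exact d4
    · intro a ha b hb
      obtain ⟨a', ha', rfl⟩ := ha
      obtain ⟨b', hb', rfl⟩ := hb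
      obtain ⟨e1, e2⟩ := d5 a' ha' b' hb'
      rw [← hX]
      exact ⟨⟨a' ^ q, e1, by simp⟩, ⟨a' * b' * a'⁻¹ * b'⁻¹, e2, by simp⟩⟩
    · intro N hXN hNQ hMN
      have hNM : N ≤ M := hNQ.le.trans hQM
      haveI hN'n : (N.subgroupOf M).Normal := Subgroup.normal_subgroupOf_of_le_normalizer hMN
      have hN'map : (N.subgroupOf M).map M.subtype = N :=
        Cfsg.Agent.Helper14.map_subtype_subgroupOf hNM
      apply d6 (N.subgroupOf M) hN'n
      · rw [← map_subtype_lt_map_subtype M, hX, hN'map]; exact hXN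
      · rw [← map_subtype_lt_map_subtype M, hN'map]; exact hNQ
  -- `q ∈ β(M)`
  have hqβ : q ∈ Cfsg.beta M := by
    by_contra hqβ
    obtain ⟨-, ⟨P, N, hNn, hNP⟩, -⟩ := (Cfsg.Agent.S1414.result hG M hM).2.2.2.2 q hqp hqM hqβ
    set D : Subgroup G := N.map (Cfsg.sigmaCore M).subtype with hDdef
    have hDS : D ≤ Cfsg.sigmaCore M := Cfsg.Agent.Helper14.map_subtype_le N
    have hcD : Nat.card D = Nat.card N := Cfsg.Agent.Helper14.card_map_subtype N
    have hSD : Cfsg.sigmaCore M ≤ normalizer (D : Set G) := by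
      haveI := hNn
      exact le_normalizer_map_subtype (Cfsg.sigmaCore M) N
    have hNPcard : Nat.card N * Nat.card P = Nat.card ↥(Cfsg.sigmaCore M) := hNP.card_mul_card
    have hcardP : Nat.card P = Nat.card Q := by
      have hQ''p : IsPGroup q (Q.subgroupOf (Cfsg.sigmaCore M)) := hQp.comap_subtype
      have hidx : ¬ q ∣ (Q.subgroupOf (Cfsg.sigmaCore M)).index := hndQ
      have h1 : Nat.card ↥(Q.subgroupOf (Cfsg.sigmaCore M)) =
          q ^ (Nat.card ↥(Cfsg.sigmaCore M)).factorization q :=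
        (hQ''p.toSylow hidx).card_eq_multiplicity
      have h2 := P.card_eq_multiplicity
      rw [h2, ← h1]
      exact card_subgroupOf_le hQS
    have hcard : Nat.card Q * Nat.card D = Nat.card (Cfsg.sigmaCore M) := by
      rw [hcD, ← hcardP, mul_comm]; exact hNPcard
    have hQD : Q ⊓ D = ⊥ := by
      have hDrel : Nat.card D = Q.relIndex (Cfsg.sigmaCore M) := by
        have h1 := Cfsg.Agent.Lead.relIndex_mul_card' hQS
        apply Nat.eq_of_mul_eq_mul_left (Nat.card_pos (α := ↥Q))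
        rw [hcard, ← h1, mul_comm]
      have hcop : (Nat.card Q).Coprime (Nat.card D) := by
        obtain ⟨n, hn⟩ := IsPGroup.iff_card.mp hQp
        rw [hn, hDrel]
        exact Nat.Coprime.pow_left n ((Nat.Prime.coprime_iff_not_dvd hqp).mpr hndQ)
      exact (Subgroup.disjoint_of_coprime_natCard hcop).eq_bot
    have hDc : Cfsg.IsComplIn Q D (Cfsg.sigmaCore M) :=
      Cfsg.Agent.Helper10.BG16.isComplIn_of_card hQS hDS hQD hcard
    obtain ⟨-, -, hlt, -⟩ := hD D hDc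
    apply hlt.ne
    apply inf_of_le_left
    intro a ha
    rw [mem_centralizer_iff]
    intro d hd
    have h1 : d * a * d⁻¹ * a⁻¹ ∈ Q ⊓ D := by
      refine mem_inf.mpr ⟨?_, ?_⟩
      · exact Q.mul_mem (conj_mem_of_le_nzr hMQ (hSM (hDS hd)) ha) (Q.inv_mem ha)
      · have e : d * a * d⁻¹ * a⁻¹ = d * (a * d⁻¹ * a⁻¹) := by group
        rw [e]
        exact D.mul_mem hd (conj_mem_of_le_nzr hSD (hQS ha) (D.inv_mem hd))
    rw [hQD, mem_bot] at h1
    calc d * a = (d * a * d⁻¹ * a⁻¹) * (a * d) := by group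
      _ = a * d := by rw [h1, one_mul]
  refine ⟨hU, hSeq, hcK ▸ p4, hqp, ?_, hqβ, Q, hQF, hMQ, hQp, hndQ, hD⟩
  exact Subgroup.card_dvd_of_le (hKsQ.trans hQF)

end Cfsg.Agent.Helper13.BG15
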