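import Mathlib
import Cfsg.Prelude.Def_OddOrderLocal
import Cfsg.Agent.Helper13.BG15F
import Cfsg.Agent.S1403
import Cfsg.Agent.S1405

/-!
# B&G Theorem 15.2(a) (S1355), relative to the statements S1351, S1373, S1426, S1429, S1430
-/

set_option autoImplicit false
set_option linter.unusedSectionVars false
set_option linter.unusedVariables false
set_option linter.style.haveILetI false

namespace Cfsg.Agent.Helper13.BG15

open Subgroup Cfsg
open Cfsg.Agent.H9.BG12 (St1350 sigmaCore_le le_normalizer_sigmaCore)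
open Cfsg.Agent.Helper10.BG16 (St1430)

universe u

/-- frozen statement S1351 without the standing hypothesis -/
def St1351 (G : Type u) [Group G] : Prop :=
  ∀ M : Subgroup G, IsCoatom M →
    (∃ K : Subgroup G, Cfsg.IsPiHallOf (Cfsg.kappa M) K M) ∧
      ∀ K : Subgroup G, Cfsg.IsPiHallOf (Cfsg.kappa M) K M → IsCyclic K

/-- nilpotency of the image of `H` passes to a bigger quotient -/
theorem nilpotent_map_mk_of_le {X : Type*} [Group X] (H N₁ N₂ : Subgroup X) [N₁.Normal]
    [N₂.Normal] (hle : N₁ ≤ N₂) (h : Group.IsNilpotent ↥(H.map (QuotientGroup.mk' N₁))) :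
    Group.IsNilpotent ↥(H.map (QuotientGroup.mk' N₂)) := by
  let f : X ⧸ N₁ →* X ⧸ N₂ := QuotientGroup.map N₁ N₂ (MonoidHom.id _) (by simpa using hle)
  have hf : f.comp (QuotientGroup.mk' N₁) = QuotientGroup.mk' N₂ := by
    ext x; rfl
  have hD : H.map (QuotientGroup.mk' N₂) = (H.map (QuotientGroup.mk' N₁)).map f := by
    rw [Subgroup.map_map, hf]
  rw [hD]
  haveI := h
  exact Group.nilpotent_of_surjective (f.subgroupMap (H.map (QuotientGroup.mk' N₁)))
    (f.subgroupMap_surjective _)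

variable {G : Type u} [Group G] [Finite G]

/-- **S1355** (B&G 15.2(a)) relative to the statements of S1351, S1373, S1426, S1429, S1430. -/
theorem s1355_of (hG : Cfsg.IsMinSimpleOddOrder G) (h1351 : St1351 G) (h1373 : St1373 G)
    (h1426 : St1426 G) (h1429 : St1429 G) (h1430 : St1430 G)
    (M : Subgroup G) (hM : IsCoatom M) :
    Cfsg.fittingHallOf M ≠ ⊥ ∧ Cfsg.fittingHallOf M ≤ Cfsg.sigmaCore M ∧ Cfsg.sigmaCore M ≤ ⁅M, M⁆ ∧ ⁅M, M⁆ < M ∧
      Group.IsNilpotent ↥((commutator ↥M).map (QuotientGroup.mk' (Cfsg.fittingHall ↥M))) := by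
  classical
  have h1350 : St1350 G := fun M hM => Cfsg.Agent.S1350.result hG M hM
  haveI hsolvM : Group.IsSolvable ↥M := Cfsg.Agent.Helper10.BG16.isSolvable_coatom hG hM
  have h96 : Cfsg.Agent.Helper21.BG10.Uniq96 G :=
    fun K h1 h2 h3 => Cfsg.Agent.S1403.result hG K h1 h2 h3
  have hS1 : Cfsg.sigmaCore M ≠ ⊥ := Cfsg.Agent.Helper10.BG16.sigmaCore_ne_bot hG h1350 h96 hM
  have hSM : Cfsg.sigmaCore M ≤ M := sigmaCore_le M
  have hFS := fittingHallOf_le_sigmaCore hG hM
  have h101 : Cfsg.Agent.Helper21.BG10.Ctl101 G :=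
    Cfsg.Agent.H9.BG12.ctl101_of
      (fun M hM p _ hp X hXp hX1 hXM => Cfsg.Agent.S1404.result hG M hM p hp X hXp hX1 hXM)
  have hSM' : Cfsg.sigmaCore M ≤ ⁅M, M⁆ :=
    Cfsg.Agent.Helper21.BG10.sigmaCore_le_commutator hG h101 hM
  have hmapc := Cfsg.Agent.Helper10.BG16.map_subtype_commutator_eq M
  have hM'lt : ⁅M, M⁆ < M := by
    haveI : Nontrivial ↥M := by
      by_contra hnt
      rw [not_nontrivial_iff_subsingleton] at hnt
      apply hS1
      rw [eq_bot_iff]
      intro x hx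
      have := congrArg (fun y : ↥M => (y : G)) (Subsingleton.elim (⟨x, hSM hx⟩ : ↥M) 1)
      simpa using this
    have hlt := Group.IsSolvable.commutator_lt_top_of_nontrivial ↥M
    have h2 : (commutator ↥M).map M.subtype < (⊤ : Subgroup ↥M).map M.subtype :=
      (map_subtype_lt_map_subtype M).mpr hlt
    rwa [hmapc, ← MonoidHom.range_eq_map, Subgroup.range_subtype] at h2
  by_cases heq : Cfsg.fittingHallOf M = Cfsg.sigmaCore M
  · refine ⟨by rw [heq]; exact hS1, hFS, hSM', hM'lt, ?_⟩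
    obtain ⟨-, -, hασ, -, hnilα⟩ := Cfsg.Agent.S1405.result hG M hM
    apply nilpotent_map_mk_of_le (commutator ↥M) (Cfsg.piCore (Cfsg.alpha M) ↥M)
      (Cfsg.fittingHall ↥M) _ hnilα
    intro y hy
    have h1 : (y : G) ∈ Cfsg.alphaCore M := ⟨y, hy, rfl⟩
    have h2 : (y : G) ∈ Cfsg.fittingHallOf M := heq ▸ hασ h1
    obtain ⟨z, hz, hzy⟩ := h2
    have : z = y := Subtype.ext hzy
    rwa [← this]
  · obtain ⟨⟨K, hK⟩, hcyc⟩ := h1351 M hM
    have hKc := hcyc K hK
    obtain ⟨⟨U, hKU⟩, -⟩ := Cfsg.Agent.Helper10.BG16.s1352_of h1350 h1430 hM hKc hK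
    obtain ⟨hU, hSeq, hK1, hqp, hpre, hQF, hKsQ⟩ :=
      struct_of hG h1373 h1426 h1429 h1430 M hM K U hKU heq
    set q := Nat.card ↥(Cfsg.sigmaCore M ⊓ Subgroup.centralizer (K : Set G)) with hqdef
    haveI : Fact q.Prime := ⟨hqp⟩
    set S' : Subgroup ↥M := (Cfsg.sigmaCore M).subgroupOf M with hS'
    refine ⟨?_, hFS, hSM', hM'lt, ?_⟩
    · intro hF
      have h1 : Cfsg.sigmaCore M ⊓ Subgroup.centralizer (K : Set G) = ⊥ := by
        rw [eq_bot_iff, ← hF]; exact hKsQ.trans hQF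
      have h2 : q = 1 := by rw [hqdef, h1, Subgroup.card_bot]
      exact hqp.one_lt.ne' h2
    · haveI := hpre.Q_normal
      have hnil := hpre.quot_nilpotent
      have hcomm : commutator ↥M = S' := by
        apply Subgroup.map_injective M.subtype_injective
        rw [hmapc, hS', Cfsg.Agent.Helper14.map_subtype_subgroupOf hSM, hSeq]
      have hle : Cfsg.pCoreOf q S' ≤ Cfsg.fittingHall ↥M :=
        (Subgroup.map_le_map_iff_of_injective M.subtype_injective).mp hQF
      rw [hcomm]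
      exact nilpotent_map_mk_of_le S' (Cfsg.pCoreOf q S') (Cfsg.fittingHall ↥M) hle hnil

end Cfsg.Agent.Helper13.BG15
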