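import Mathlib
import Cfsg.Agent.Helper12.SteinC

/-!
The upper triangular subgroup `B` of `GL_n(2)`: it is a 2-group, it is self-normalising, and `B` permutes
transitively the conjugates of `B` meeting `B` trivially.
-/

set_option autoImplicit false

namespace Cfsg.Agent.Helper13.BorelF2

open Cfsg Matrix Cfsg.Agent.Helper12.Stein
open scoped MatrixGroups

variable {F : Type*} [Field F] {n : ℕ}

/-- conjugation by a permutation matrix permutes the entries -/
theorem conj_Pm_apply (σ : Equiv.Perm (Fin n)) (M : Matrix (Fin n) (Fin n) F) (i j : Fin n) :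
    (((Pm F n σ : GL (Fin n) F) : Matrix (Fin n) (Fin n) F) * M *
      ((Pm F n σ⁻¹ : GL (Fin n) F) : Matrix (Fin n) (Fin n) F)) i j = M (σ⁻¹ i) (σ⁻¹ j) := by
  rw [mul_Pm_apply, Pm_mul_apply]

theorem conj_Pm_val (σ : Equiv.Perm (Fin n)) (g : GL (Fin n) F) :
    ((Pm F n σ * g * (Pm F n σ)⁻¹ : GL (Fin n) F) : Matrix (Fin n) (Fin n) F) =
      ((Pm F n σ : GL (Fin n) F) : Matrix (Fin n) (Fin n) F) * (g : Matrix (Fin n) (Fin n) F) *
      ((Pm F n σ⁻¹ : GL (Fin n) F) : Matrix (Fin n) (Fin n) F) := by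
  rw [← map_inv]
  rfl

theorem mem_B_iff (g : GL (Fin n) F) :
    g ∈ upperTriangularGL n F ↔ ∀ i j : Fin n, j < i → (g : Matrix (Fin n) (Fin n) F) i j = 0 :=
  Iff.rfl

/-- the transvections in `B` -/
theorem exists_tv (a b : Fin n) (hab : a < b) :
    ∃ t : GL (Fin n) F, t ∈ upperTriangularGL n F ∧ t ≠ 1 ∧
      ∀ i j, (t : Matrix (Fin n) (Fin n) F) i j = if i = j then 1 else if i = a ∧ j = b then 1 else 0 := by
  obtain ⟨t, ht, hval⟩ := exists_transvection_mem (F := F) a b hab 1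
  have hentry : ∀ i j, (t : Matrix (Fin n) (Fin n) F) i j =
      if i = j then 1 else if i = a ∧ j = b then 1 else 0 := by
    intro i j
    rw [hval]
    unfold Matrix.transvection
    rw [Matrix.add_apply, Matrix.single_apply, Matrix.one_apply]
    by_cases hij : i = j
    · subst hij
      rw [if_pos rfl, if_pos rfl, if_neg, add_zero]
      rintro ⟨h1, h2⟩
      rw [← h1] at h2
      exact (ne_of_lt hab) h2.symm
    · rw [if_neg hij, if_neg hij, zero_add]
      by_cases h : a = i ∧ b = j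
      · rw [if_pos h, if_pos ⟨h.1.symm, h.2.symm⟩]
      · rw [if_neg h, if_neg]
        rintro ⟨h1, h2⟩
        exact h ⟨h1.symm, h2.symm⟩
  refine ⟨t, ht, ?_, hentry⟩
  intro h1
  have := hentry a b
  rw [h1, if_neg (ne_of_lt hab), if_pos ⟨rfl, rfl⟩] at this
  have h2 : ((1 : GL (Fin n) F) : Matrix (Fin n) (Fin n) F) a b = 0 := by
    rw [Units.val_one, Matrix.one_apply_ne (ne_of_lt hab)]
  rw [h2] at this
  exact zero_ne_one this

/-- the entries of a conjugate of a transvection by a permutation matrix -/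
theorem conj_tv_apply (σ : Equiv.Perm (Fin n)) {a b : Fin n} {t : GL (Fin n) F}
    (ht : ∀ i j, (t : Matrix (Fin n) (Fin n) F) i j = if i = j then 1 else if i = a ∧ j = b then 1 else 0)
    (i j : Fin n) :
    ((Pm F n σ * t * (Pm F n σ)⁻¹ : GL (Fin n) F) : Matrix (Fin n) (Fin n) F) i j =
      if i = j then 1 else if i = σ a ∧ j = σ b then 1 else 0 := by
  rw [conj_Pm_val, conj_Pm_apply, ht]
  by_cases hij : i = j
  · subst hij
    rw [if_pos rfl, if_pos rfl]
  · have h1 : σ⁻¹ i ≠ σ⁻¹ j := fun h => hij (σ⁻¹.injective h)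
    rw [if_neg h1, if_neg hij]
    by_cases h : i = σ a ∧ j = σ b
    · rw [if_pos h, if_pos]
      rw [h.1, h.2]
      simp
    · rw [if_neg h, if_neg]
      rintro ⟨h2, h3⟩
      apply h
      rw [← h2, ← h3]
      simp

theorem conj_tv_mem (σ : Equiv.Perm (Fin n)) {a b : Fin n} (hσ : σ a < σ b) {t : GL (Fin n) F}
    (ht : ∀ i j, (t : Matrix (Fin n) (Fin n) F) i j = if i = j then 1 else if i = a ∧ j = b then 1 else 0) :
    Pm F n σ * t * (Pm F n σ)⁻¹ ∈ upperTriangularGL n F := by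
  rw [mem_B_iff]
  intro i j hji
  rw [conj_tv_apply σ ht, if_neg (ne_of_gt hji), if_neg]
  rintro ⟨rfl, rfl⟩
  exact lt_asymm hσ hji

theorem conj_tv_not_mem (σ : Equiv.Perm (Fin n)) {a b : Fin n} (hσ : σ b < σ a) {t : GL (Fin n) F}
    (ht : ∀ i j, (t : Matrix (Fin n) (Fin n) F) i j = if i = j then 1 else if i = a ∧ j = b then 1 else 0) :
    Pm F n σ * t * (Pm F n σ)⁻¹ ∉ upperTriangularGL n F := by
  rw [mem_B_iff]
  intro h
  have h1 := h (σ a) (σ b) hσ
  rw [conj_tv_apply σ ht, if_neg (ne_of_gt hσ), if_pos ⟨rfl, rfl⟩] at h1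
  exact one_ne_zero h1

/-- a strictly monotone permutation of `Fin n` is the identity -/
theorem perm_eq_one_of_strictMono (σ : Equiv.Perm (Fin n)) (h : StrictMono σ) : σ = 1 := by
  have he : StrictMono.orderIsoOfSurjective σ h σ.surjective = OrderIso.refl (Fin n) := Subsingleton.elim _ _
  ext i
  have h1 := congrArg (fun e : Fin n ≃o Fin n => e i) he
  simp only [StrictMono.coe_orderIsoOfSurjective, OrderIso.refl_apply] at h1
  rw [h1]
  rfl

/-- two strictly antitone permutations of `Fin n` agree -/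
theorem perm_eq_of_strictAnti (σ τ : Equiv.Perm (Fin n)) (hσ : StrictAnti σ) (hτ : StrictAnti τ) : σ = τ := by
  have hinv : StrictAnti (σ⁻¹ : Equiv.Perm (Fin n)) := by
    intro i j hij
    by_contra hcon
    push Not at hcon
    rcases lt_or_eq_of_le hcon with h | h
    · have := hσ h
      simp at this
      exact lt_asymm hij this
    · have := σ⁻¹.injective h
      exact (ne_of_lt hij) this
  have hm : StrictMono (σ⁻¹ * τ : Equiv.Perm (Fin n)) := by
    intro i j hij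
    exact hinv (hτ hij)
  have := perm_eq_one_of_strictMono _ hm
  rw [inv_mul_eq_one] at this
  exact this

section Two

/-- upper triangular invertible matrices over the field with two elements are unitriangular -/
theorem diag_eq_one {g : GL (Fin n) (ZMod 2)} (hg : g ∈ upperTriangularGL n (ZMod 2)) (i : Fin n) :
    (g : Matrix (Fin n) (Fin n) (ZMod 2)) i i = 1 := by
  have hdet : (g : Matrix (Fin n) (Fin n) (ZMod 2)).det = ∏ i, (g : Matrix (Fin n) (Fin n) (ZMod 2)) i i :=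
    Matrix.det_of_isUpperTriangular hg
  have hu : IsUnit (g : Matrix (Fin n) (Fin n) (ZMod 2)).det :=
    (Matrix.isUnit_iff_isUnit_det _).mp g.isUnit
  have hne : (g : Matrix (Fin n) (Fin n) (ZMod 2)) i i ≠ 0 := by
    intro h0
    rw [hdet, Finset.prod_eq_zero (f := fun k => (g : Matrix (Fin n) (Fin n) (ZMod 2)) k k) (Finset.mem_univ i) h0] at hu
    exact not_isUnit_zero hu
  have key : ∀ x : ZMod 2, x ≠ 0 → x = 1 := by decide
  exact key _ hne

/-- powers of a strictly upper triangular matrix move away from the diagonal -/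
theorem pow_strict_apply {R : Type*} [CommRing R] (N : Matrix (Fin n) (Fin n) R)
    (hN : ∀ i j : Fin n, j ≤ i → N i j = 0) (k : ℕ) :
    ∀ i j : Fin n, j.val < i.val + k → (N ^ k) i j = 0 := by
  induction k with
  | zero =>
    intro i j hij
    rw [pow_zero, Matrix.one_apply_ne]
    intro h
    rw [h] at hij
    omega
  | succ k ih =>
    intro i j hij
    rw [pow_succ, Matrix.mul_apply]
    apply Finset.sum_eq_zero
    intro l _
    by_cases hl : l.val < i.val + k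
    · rw [ih i l hl, zero_mul]
    · rw [hN l j (by rw [Fin.le_def]; omega), mul_zero]

theorem pow_two_pow_eq_one [Nonempty (Fin n)] (M : Matrix (Fin n) (Fin n) (ZMod 2))
    (hN : ∀ i j : Fin n, j ≤ i → (M - 1) i j = 0) : M ^ 2 ^ n = 1 := by
  have h2 : Fact (Nat.Prime 2) := ⟨Nat.prime_two⟩
  have hMN : M = 1 + (M - 1) := by abel
  have hpow : (M - 1) ^ 2 ^ n = 0 := by
    ext i j
    rw [pow_strict_apply (M - 1) hN (2 ^ n) i j (by
      have := j.2
      have : n < 2 ^ n := Nat.lt_two_pow_self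
      omega)]
    rfl
  rw [hMN, add_pow_char_pow_of_commute 2 n (Commute.one_left _), one_pow, hpow, add_zero]

theorem isPGroup_B : IsPGroup 2 (upperTriangularGL n (ZMod 2)) := by
  intro g
  rcases Nat.eq_zero_or_pos n with hn | hn
  · subst hn
    exact ⟨0, Subsingleton.elim _ _⟩
  have : Nonempty (Fin n) := ⟨⟨0, hn⟩⟩
  refine ⟨n, ?_⟩
  apply Subtype.ext
  apply Units.ext
  show (((g : GL (Fin n) (ZMod 2)) ^ 2 ^ n : GL (Fin n) (ZMod 2)) : Matrix (Fin n) (Fin n) (ZMod 2)) = 1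
  rw [Units.val_pow_eq_pow_val]
  apply pow_two_pow_eq_one
  intro i j hji
  rw [Matrix.sub_apply]
  rcases lt_or_eq_of_le hji with h | h
  · rw [(mem_B_iff _).mp g.2 i j h, Matrix.one_apply_ne (ne_of_gt h), sub_zero]
  · rw [h, diag_eq_one g.2, Matrix.one_apply_eq, sub_self]

/-- the upper triangular group of `GL_n(2)` is self-normalising -/
theorem normalizer_B (y : GL (Fin n) (ZMod 2))
    (hy : ∀ u, u ∈ upperTriangularGL n (ZMod 2) ↔ y * u * y⁻¹ ∈ upperTriangularGL n (ZMod 2)) :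
    y ∈ upperTriangularGL n (ZMod 2) := by
  obtain ⟨b, hb, σ, q, hq, rfl⟩ := exists_bruhat y
  have hσ : StrictMono σ := by
    intro a c hac
    by_contra hcon
    push Not at hcon
    have hlt : σ c < σ a := lt_of_le_of_ne hcon (fun h => (ne_of_lt hac) (σ.injective h).symm)
    obtain ⟨t, ht, -, hte⟩ := exists_tv (F := ZMod 2) a c hac
    apply conj_tv_not_mem σ hlt hte
    have h1 := (hy (q⁻¹ * t * q)).mp (Subgroup.mul_mem _ (Subgroup.mul_mem _ (Subgroup.inv_mem _ hq) ht) hq)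
    have h2 : Pm (ZMod 2) n σ * t * (Pm (ZMod 2) n σ)⁻¹ =
        b⁻¹ * (b * Pm (ZMod 2) n σ * q * (q⁻¹ * t * q) * (b * Pm (ZMod 2) n σ * q)⁻¹) * b := by group
    rw [h2]
    exact Subgroup.mul_mem _ (Subgroup.mul_mem _ (Subgroup.inv_mem _ hb) h1) hb
  rw [perm_eq_one_of_strictMono σ hσ, map_one, mul_one]
  exact Subgroup.mul_mem _ hb hq

/-- `B` permutes transitively the conjugates of `B` that meet it trivially -/
theorem opposite_B (g h : GL (Fin n) (ZMod 2))
    (hg : ∀ u ∈ upperTriangularGL n (ZMod 2), g⁻¹ * u * g ∈ upperTriangularGL n (ZMod 2) → u = 1)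
    (hh : ∀ u ∈ upperTriangularGL n (ZMod 2), h⁻¹ * u * h ∈ upperTriangularGL n (ZMod 2) → u = 1) :
    ∃ b ∈ upperTriangularGL n (ZMod 2), ∀ u, g⁻¹ * u * g ∈ upperTriangularGL n (ZMod 2) ↔
      h⁻¹ * (b * u * b⁻¹) * h ∈ upperTriangularGL n (ZMod 2) := by
  have anti : ∀ (b : GL (Fin n) (ZMod 2)) (σ : Equiv.Perm (Fin n)) (q : GL (Fin n) (ZMod 2)),
      b ∈ upperTriangularGL n (ZMod 2) → q ∈ upperTriangularGL n (ZMod 2) →
      (∀ u ∈ upperTriangularGL n (ZMod 2), (b * Pm (ZMod 2) n σ * q)⁻¹ * u * (b * Pm (ZMod 2) n σ * q) ∈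
        upperTriangularGL n (ZMod 2) → u = 1) → StrictAnti σ := by
    intro b σ q hb hq hg a c hac
    by_contra hcon
    push Not at hcon
    have hlt : σ a < σ c := lt_of_le_of_ne hcon (fun h => (ne_of_lt hac) (σ.injective h))
    obtain ⟨t, ht, ht1, hte⟩ := exists_tv (F := ZMod 2) a c hac
    have hmem := conj_tv_mem σ hlt hte
    have hu := hg (b * (Pm (ZMod 2) n σ * t * (Pm (ZMod 2) n σ)⁻¹) * b⁻¹)
      (Subgroup.mul_mem _ (Subgroup.mul_mem _ hb hmem) (Subgroup.inv_mem _ hb)) (by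
        have h2 : (b * Pm (ZMod 2) n σ * q)⁻¹ * (b * (Pm (ZMod 2) n σ * t * (Pm (ZMod 2) n σ)⁻¹) * b⁻¹) *
            (b * Pm (ZMod 2) n σ * q) = q⁻¹ * t * q := by group
        rw [h2]
        exact Subgroup.mul_mem _ (Subgroup.mul_mem _ (Subgroup.inv_mem _ hq) ht) hq)
    apply ht1
    have h3 : t = (Pm (ZMod 2) n σ)⁻¹ * b⁻¹ * (b * (Pm (ZMod 2) n σ * t * (Pm (ZMod 2) n σ)⁻¹) * b⁻¹) * b *
        Pm (ZMod 2) n σ := by group
    rw [h3, hu]
    group
  obtain ⟨b1, hb1, σ, q1, hq1, rfl⟩ := exists_bruhat g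
  obtain ⟨b2, hb2, τ, q2, hq2, rfl⟩ := exists_bruhat h
  have hστ : σ = τ := perm_eq_of_strictAnti σ τ (anti b1 σ q1 hb1 hq1 hg) (anti b2 τ q2 hb2 hq2 hh)
  subst hστ
  refine ⟨b2 * b1⁻¹, Subgroup.mul_mem _ hb2 (Subgroup.inv_mem _ hb1), ?_⟩
  intro u
  have h1 : (b1 * Pm (ZMod 2) n σ * q1)⁻¹ * u * (b1 * Pm (ZMod 2) n σ * q1) =
      q1⁻¹ * ((Pm (ZMod 2) n σ)⁻¹ * b1⁻¹ * u * b1 * Pm (ZMod 2) n σ) * q1 := by group
  have h2 : (b2 * Pm (ZMod 2) n σ * q2)⁻¹ * (b2 * b1⁻¹ * u * (b2 * b1⁻¹)⁻¹) * (b2 * Pm (ZMod 2) n σ * q2) =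
      q2⁻¹ * ((Pm (ZMod 2) n σ)⁻¹ * b1⁻¹ * u * b1 * Pm (ZMod 2) n σ) * q2 := by group
  rw [h1, h2]
  have conj_iff : ∀ (q w : GL (Fin n) (ZMod 2)), q ∈ upperTriangularGL n (ZMod 2) →
      (q⁻¹ * w * q ∈ upperTriangularGL n (ZMod 2) ↔ w ∈ upperTriangularGL n (ZMod 2)) := by
    intro q w hq
    constructor
    · intro hw
      have : w = q * (q⁻¹ * w * q) * q⁻¹ := by group
      rw [this]
      exact Subgroup.mul_mem _ (Subgroup.mul_mem _ hq hw) (Subgroup.inv_mem _ hq)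
    · intro hw
      exact Subgroup.mul_mem _ (Subgroup.mul_mem _ (Subgroup.inv_mem _ hq) hw) hq
  rw [conj_iff q1 _ hq1, conj_iff q2 _ hq2]

end Two

end Cfsg.Agent.Helper13.BorelF2
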