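import Mathlib
import Cfsg.Prelude.Def_CaseTheorems
import Cfsg.Agent.S0514
import Cfsg.Agent.Helper7.PPrimeCore
import Cfsg.Agent.Helper19.Cores

set_option autoImplicit false

/-! # BSW setup piece ZA-A: structure of the centralizer of a central involution of a dihedral
Sylow 2-subgroup: `C(t) = O(C(t)) S`. -/

namespace Cfsg.Agent.Helper21.Bsw.Setup

theorem cent_struct {G : Type*} [Group G] [Finite G] (S : Sylow 2 G) (n : ℕ) (hn : 2 ≤ n)
    (hS : Nonempty ((S : Subgroup G) ≃* DihedralGroup n)) (t : G) (ht : orderOf t = 2)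
    (htZ : ∀ s ∈ (S : Subgroup G), s * t = t * s) (O : Subgroup G)
    (hO : O = (Cfsg.oddCore (Subgroup.centralizer ({t} : Set G))).map
      (Subgroup.centralizer ({t} : Set G)).subtype) :
    O ≤ Subgroup.centralizer ({t} : Set G) ∧ Odd (Nat.card O) ∧
    (∀ c ∈ Subgroup.centralizer ({t} : Set G), ∀ o ∈ O, c * o * c⁻¹ ∈ O) ∧
    (∀ c ∈ Subgroup.centralizer ({t} : Set G), ∃ o ∈ O, ∃ a ∈ (S : Subgroup G), c = o * a) := by
  classical
  haveI : Fact (Nat.Prime 2) := ⟨Nat.prime_two⟩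
  set C : Subgroup G := Subgroup.centralizer ({t} : Set G) with hC
  set O' : Subgroup ↥C := Cfsg.oddCore ↥C with hO'
  have hSC : (S : Subgroup G) ≤ C := by
    intro s hs
    rw [hC, Subgroup.mem_centralizer_singleton_iff]
    exact htZ s hs
  have hO'cop : (Nat.card O').Coprime 2 := Cfsg.Agent.Helper19.pPrimeCore_coprime (G := ↥C) 2
  have hcardO : Nat.card O = Nat.card O' := by
    rw [hO]
    exact Nat.card_congr (O'.equivMapOfInjective C.subtype C.subtype_injective).toEquiv.symm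
  have hO'normal : O'.Normal := Cfsg.pPrimeCore_normal 2 ↥C
  refine ⟨?_, ?_, ?_, ?_⟩
  · rw [hO]
    exact Subgroup.map_subtype_le _
  · rw [hcardO]
    exact Nat.Coprime.odd_of_right hO'cop
  · intro c hc o ho
    rw [hO] at ho ⊢
    obtain ⟨o', ho', rfl⟩ := ho
    refine ⟨(⟨c, hc⟩ : ↥C) * o' * (⟨c, hc⟩ : ↥C)⁻¹, hO'normal.conj_mem o' ho' ⟨c, hc⟩, ?_⟩
    simp
  · -- the factorization
    obtain ⟨N, hNn, hNodd, k, hk⟩ := Cfsg.Agent.S0514.result S n hn hS t ht
    have hNle : N ≤ O' := by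
      apply Cfsg.Agent.Helper7.le_pPrimeCore hNn
      exact (Nat.coprime_comm.mp (Nat.coprime_two_left.mpr hNodd))
    have hidx : O'.index ∣ 2 ^ k := by
      rw [← hk]
      exact Subgroup.index_dvd_of_le hNle
    obtain ⟨j, -, hj⟩ := (Nat.dvd_prime_pow Nat.prime_two).mp hidx
    set S' : Subgroup ↥C := (S : Subgroup G).subgroupOf C with hS'
    have hcardS' : Nat.card S' = Nat.card (S : Subgroup G) :=
      Nat.card_congr (Subgroup.subgroupOfEquivOfLe hSC).toEquiv
    have hcardC : Nat.card O' * 2 ^ j = Nat.card ↥C := by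
      rw [← hj]; exact Subgroup.card_mul_index O'
    obtain ⟨m, hm⟩ := (IsPGroup.iff_card.mp S.isPGroup')
    have hS'dvd : Nat.card S' ∣ 2 ^ j := by
      have h1 : Nat.card S' ∣ Nat.card ↥C := Subgroup.card_subgroup_dvd_card S'
      rw [← hcardC] at h1
      have h2 : (Nat.card S').Coprime (Nat.card O') := by
        rw [hcardS', hm]
        exact Nat.Coprime.pow_left m hO'cop.symm
      exact h2.dvd_of_dvd_mul_left h1
    have hdvdS : 2 ^ j ∣ Nat.card S' := by
      rw [hcardS']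
      apply S.pow_dvd_card_of_pow_dvd_card
      have h1 : 2 ^ j ∣ Nat.card ↥C := ⟨Nat.card O', by rw [← hcardC, mul_comm]⟩
      exact h1.trans (Subgroup.card_subgroup_dvd_card C)
    have hS'eq : Nat.card S' = 2 ^ j := Nat.dvd_antisymm hS'dvd hdvdS
    have hcompl : O'.IsComplement' S' := by
      apply Subgroup.isComplement'_of_coprime
      · rw [hS'eq, hcardC]
      · rw [hS'eq]
        exact Nat.Coprime.pow_right j hO'cop
    intro c hc
    have hbij := hcompl
    unfold Subgroup.IsComplement' Subgroup.IsComplement at hbij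
    obtain ⟨⟨o', a'⟩, hoa⟩ := hbij.2 (⟨c, hc⟩ : ↥C)
    refine ⟨((o' : ↥C) : G), ?_, ((a' : ↥C) : G), ?_, ?_⟩
    · rw [hO]
      exact ⟨(o' : ↥C), o'.2, rfl⟩
    · have h3 : (a' : ↥C) ∈ (S : Subgroup G).subgroupOf C := a'.2
      exact Subgroup.mem_subgroupOf.mp h3
    · have := congrArg (fun x : ↥C => (x : G)) hoa
      simpa using this.symm

end Cfsg.Agent.Helper21.Bsw.Setup
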