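import Mathlib
import Cfsg.Agent.Helper21.BswSetupDefs

set_option autoImplicit false

/-! # BSW setup piece ZA-B: dihedral facts (`DihPair`). -/

namespace Cfsg.Agent.Helper13.BswSetupB

open DihedralGroup

/-- In `D_2` every element squares to one. -/
theorem d2_sq (x : DihedralGroup 2) : x * x = 1 := by
  revert x; decide

theorem d2_comm (x y : DihedralGroup 2) : x * y = y * x := by
  revert x y; decide

/-- Key lemma: a cyclic subgroup of index two of a group isomorphic to `D_n`, `n ≥ 2`:
everything outside is an involution inverting it. -/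
theorem out_of_cyclic {H : Type*} [Group H] (n : ℕ) (hn : 2 ≤ n) (e : H ≃* DihedralGroup n)
    (T0 : Subgroup H) (hcyc : IsCyclic T0) (hidx : T0.index = 2) (s : H) (hs : s ∉ T0) :
    s * s = 1 ∧ ∀ x ∈ T0, s * x * s⁻¹ = x⁻¹ := by
  rcases Nat.lt_or_ge n 3 with h3 | h3
  · have h2 : n = 2 := by omega
    subst h2
    have hsq : ∀ y : H, y * y = 1 := fun y => e.injective (by rw [map_mul, map_one]; exact d2_sq _)
    have hcomm : ∀ x y : H, x * y = y * x := fun x y =>
      e.injective (by rw [map_mul, map_mul]; exact d2_comm _ _)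
    refine ⟨hsq s, fun x _ => ?_⟩
    rw [hcomm s x, mul_assoc, mul_inv_cancel, mul_one]
    exact eq_inv_of_mul_eq_one_left (hsq x)
  · haveI : NeZero n := ⟨by omega⟩
    haveI : Finite H := Finite.of_equiv _ e.symm.toEquiv
    obtain ⟨g, hg⟩ := hcyc.exists_generator
    have hcardT : Nat.card T0 = n := by
      have h1 := Subgroup.card_mul_index T0
      rw [hidx, Nat.card_congr e.toEquiv, DihedralGroup.nat_card] at h1
      omega
    have hordg : orderOf (g : H) = n := by
      rw [Subgroup.orderOf_coe, orderOf_eq_card_of_forall_mem_zpowers hg, hcardT]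
    -- e g is a rotation
    have heg : ∃ i, e (g : H) = r i := by
      rcases hgi : e (g : H) with i | i
      · exact ⟨i, rfl⟩
      · exfalso
        have h1 : orderOf (e (g : H)) = n := by rw [MulEquiv.orderOf_eq, hordg]
        rw [hgi, orderOf_sr] at h1
        omega
    obtain ⟨i, hi⟩ := heg
    have hrot : ∀ x ∈ T0, ∃ j, e x = r j := by
      intro x hx
      obtain ⟨k, hk⟩ := Subgroup.mem_zpowers_iff.mp (hg ⟨x, hx⟩)
      have hk' : (g : H) ^ k = x := by
        have := congrArg (fun y : T0 => (y : H)) hk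
        simpa using this
      refine ⟨i * (k : ZMod n), ?_⟩
      rw [← hk', map_zpow, hi, r_zpow]
    -- e s is a reflection
    have hes : ∃ j, e s = sr j := by
      rcases hsj : e s with j | j
      · exfalso
        have hs0 : e.symm (sr 0) ∉ T0 := by
          intro hmem
          obtain ⟨j', hj'⟩ := hrot _ hmem
          rw [MulEquiv.apply_symm_apply] at hj'
          cases hj'
        have hmem : s * e.symm (sr 0) ∈ T0 :=
          (Subgroup.mul_mem_iff_of_index_two hidx).mpr ⟨fun h => absurd h hs, fun h => absurd h hs0⟩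
        obtain ⟨j', hj'⟩ := hrot _ hmem
        rw [map_mul, MulEquiv.apply_symm_apply, hsj, r_mul_sr] at hj'
        cases hj'
      · exact ⟨j, rfl⟩
    obtain ⟨j, hj⟩ := hes
    refine ⟨e.injective (by rw [map_mul, map_one, hj, sr_mul_self]), fun x hx => ?_⟩
    obtain ⟨k, hk⟩ := hrot x hx
    apply e.injective
    rw [map_mul, map_mul, map_inv, map_inv, hj, hk, inv_sr, inv_r, sr_mul_r, sr_mul_sr]
    congr 1
    ring

end Cfsg.Agent.Helper13.BswSetupB

namespace Cfsg.Agent.Helper21.Bsw.Setup

open Cfsg.Agent.Helper13.BswSetupB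

variable {G : Type*} [Group G]

/-- B2 : a cyclic subgroup of index 2 containing a central involution of a dihedral group -/
theorem dihPair_of_cyclic (S : Subgroup G) (n : ℕ) (hn : 2 ≤ n)
    (hS : Nonempty (S ≃* DihedralGroup n)) (t : G) (ht : orderOf t = 2) (htS : t ∈ S)
    (htZ : ∀ s ∈ S, s * t = t * s) (S0 : Subgroup G) (hS0 : S0 ≤ S) (hcyc : IsCyclic S0)
    (hidx : S0.relIndex S = 2) (ht0 : t ∈ S0) : DihPair S S0 t := by
  classical
  obtain ⟨e⟩ := hS
  haveI : NeZero n := ⟨by omega⟩
  haveI : Finite S := Finite.of_equiv _ e.symm.toEquiv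
  haveI : Finite S0 := Finite.of_injective (Subgroup.inclusion hS0) (Subgroup.inclusion_injective hS0)
  set T0 : Subgroup S := S0.subgroupOf S with hT0
  have hT0idx : T0.index = 2 := hidx
  have hT0cyc : IsCyclic T0 :=
    (Subgroup.subgroupOfEquivOfLe hS0).isCyclic.mpr hcyc
  have hne1 : t ≠ 1 := by
    intro h; rw [h, orderOf_one] at ht; omega
  have htt : t * t = 1 := by
    have := pow_orderOf_eq_one t
    rwa [ht, pow_two] at this
  refine ⟨hS0, ht0, ?_, ?_, ?_, ?_⟩
  · -- commutativity
    obtain ⟨g, hg⟩ := hcyc.exists_generator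
    intro a ha b hb
    obtain ⟨i, hi⟩ := Subgroup.mem_zpowers_iff.mp (hg ⟨a, ha⟩)
    obtain ⟨j, hj⟩ := Subgroup.mem_zpowers_iff.mp (hg ⟨b, hb⟩)
    have h1 : (⟨a, ha⟩ : S0) * ⟨b, hb⟩ = ⟨b, hb⟩ * ⟨a, ha⟩ := by
      rw [← hi, ← hj, ← zpow_add, ← zpow_add, add_comm]
    exact congrArg (fun y : S0 => (y : G)) h1
  · -- involutions
    intro x hx hxx
    by_contra hcon
    have hx1 : x ≠ 1 := fun h => hcon (Or.inl h)
    have hxt : x ≠ t := fun h => hcon (Or.inr h)
    haveI : Fintype S0 := Fintype.ofFinite _
    have hle := IsCyclic.card_pow_eq_one_le (α := S0) (n := 2) (by norm_num)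
    have hsub : ({(1 : S0), ⟨t, ht0⟩, ⟨x, hx⟩} : Finset S0) ⊆
        Finset.univ.filter fun a : S0 => a ^ 2 = 1 := by
      intro y hy
      simp only [Finset.mem_insert, Finset.mem_singleton] at hy
      simp only [Finset.mem_filter, Finset.mem_univ, true_and]
      rcases hy with rfl | rfl | rfl
      · simp
      · apply Subtype.ext; simp [pow_two, htt]
      · apply Subtype.ext; simp [pow_two, hxx]
    have hcard : ({(1 : S0), ⟨t, ht0⟩, ⟨x, hx⟩} : Finset S0).card = 3 := by
      rw [Finset.card_insert_of_notMem, Finset.card_insert_of_notMem, Finset.card_singleton]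
      · simp only [Finset.mem_singleton]
        intro h; exact hxt (congrArg Subtype.val h).symm
      · simp only [Finset.mem_insert, Finset.mem_singleton]
        rintro (h | h)
        · exact hne1 (congrArg Subtype.val h).symm
        · exact hx1 (congrArg Subtype.val h).symm
    have := Finset.card_le_card hsub
    omega
  · -- outside elements
    intro s hs hs0
    have hsT : (⟨s, hs⟩ : S) ∉ T0 := fun h => hs0 (Subgroup.mem_subgroupOf.mp h)
    obtain ⟨h1, h2⟩ := out_of_cyclic n hn e T0 hT0cyc hT0idx ⟨s, hs⟩ hsT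
    refine ⟨?_, ?_, ?_⟩
    · have hss : s * s = 1 := congrArg (fun y : S => (y : G)) h1
      have hs1 : s ≠ 1 := fun h => hs0 (h ▸ S0.one_mem)
      exact orderOf_eq_prime (by rw [pow_two]; exact hss) hs1
    · intro x hx
      have hxT : (⟨x, hS0 hx⟩ : S) ∈ T0 := Subgroup.mem_subgroupOf.mpr hx
      exact congrArg (fun y : S => (y : G)) (h2 _ hxT)
    · intro a ha
      by_cases ha0 : a ∈ S0
      · exact Or.inl ha0
      · right
        have haT : (⟨a, ha⟩ : S) ∉ T0 := fun h => ha0 (Subgroup.mem_subgroupOf.mp h)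
        have hmem : (⟨a, ha⟩ : S) * ⟨s, hs⟩ ∈ T0 :=
          (Subgroup.mul_mem_iff_of_index_two hT0idx).mpr
            ⟨fun h => absurd h haT, fun h => absurd h hsT⟩
        exact Subgroup.mem_subgroupOf.mp hmem
  · -- nonempty complement
    by_contra hcon
    have hall : ∀ s ∈ S, s ∈ S0 := by
      intro s hs
      by_contra h
      exact hcon ⟨s, hs, h⟩
    have htop : T0 = ⊤ := by
      rw [eq_top_iff]
      intro y _
      exact Subgroup.mem_subgroupOf.mpr (hall _ y.2)
    rw [htop, Subgroup.index_top] at hT0idx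
    omega

/-- B1 : existence -/
theorem exists_dihPair (S : Subgroup G) (n : ℕ) (hn : 2 ≤ n)
    (hS : Nonempty (S ≃* DihedralGroup n)) (t : G) (ht : orderOf t = 2) (htS : t ∈ S)
    (htZ : ∀ s ∈ S, s * t = t * s) : ∃ S0 : Subgroup G, DihPair S S0 t := by
  classical
  obtain ⟨e⟩ := hS
  haveI : NeZero n := ⟨by omega⟩
  haveI : Finite S := Finite.of_equiv _ e.symm.toEquiv
  have hcardS : Nat.card S = 2 * n := by
    rw [Nat.card_congr e.toEquiv, DihedralGroup.nat_card]
  rcases Nat.lt_or_ge n 3 with h3 | h3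
  · -- n = 2 : S0 = ⟨t⟩
    have h2 : n = 2 := by omega
    have hle : Subgroup.zpowers t ≤ S := (Subgroup.zpowers_le).mpr htS
    refine ⟨Subgroup.zpowers t, dihPair_of_cyclic S n hn ⟨e⟩ t ht htS htZ _ hle inferInstance ?_
      (Subgroup.mem_zpowers t)⟩
    have h1 := Subgroup.card_mul_index ((Subgroup.zpowers t).subgroupOf S)
    rw [Nat.card_congr (Subgroup.subgroupOfEquivOfLe hle).toEquiv, Nat.card_zpowers, ht, hcardS,
      h2] at h1
    show ((Subgroup.zpowers t).subgroupOf S).index = 2
    omega
  · -- n ≥ 3 : S0 = preimage of the rotations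
    set R : Subgroup (DihedralGroup n) := Subgroup.zpowers (DihedralGroup.r 1) with hR
    have hRmem : ∀ i : ZMod n, DihedralGroup.r i ∈ R := by
      intro i
      rw [hR, Subgroup.mem_zpowers_iff]
      refine ⟨(i.val : ℤ), ?_⟩
      rw [DihedralGroup.r_one_zpow]
      simp
    have hRidx : R.index = 2 := by
      have h1 := Subgroup.card_mul_index R
      rw [hR, Nat.card_zpowers, DihedralGroup.orderOf_r_one, DihedralGroup.nat_card] at h1
      have hn0 : 0 < n := by omega
      have : n * (Subgroup.zpowers (DihedralGroup.r (1 : ZMod n))).index = n * 2 := by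
        rw [h1]; ring
      exact Nat.eq_of_mul_eq_mul_left hn0 this
    set T0 : Subgroup S := R.comap e.toMonoidHom with hT0
    have hT0idx : T0.index = 2 := by
      rw [hT0, Subgroup.index_comap_of_surjective _ e.surjective, hRidx]
    have hT0cyc : IsCyclic T0 := by
      have hT0eq : T0 = R.map e.symm.toMonoidHom := Subgroup.comap_equiv_eq_map_symm e R
      rw [hT0eq]
      exact (R.equivMapOfInjective _ e.symm.injective).isCyclic.mp inferInstance
    have hS0le : T0.map S.subtype ≤ S := Subgroup.map_subtype_le T0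
    have hS0cyc : IsCyclic (T0.map S.subtype) :=
      (T0.equivMapOfInjective _ S.subtype_injective).isCyclic.mp hT0cyc
    have hS0idx : (T0.map S.subtype).relIndex S = 2 := by
      show ((T0.map S.subtype).subgroupOf S).index = 2
      have : (T0.map S.subtype).subgroupOf S = T0 :=
        Subgroup.comap_map_eq_self_of_injective S.subtype_injective T0
      rw [this, hT0idx]
    have htT0 : (⟨t, htS⟩ : S) ∈ T0 := by
      rw [hT0, Subgroup.mem_comap]
      show e ⟨t, htS⟩ ∈ R
      rcases hti : e ⟨t, htS⟩ with i | i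
      · exact hRmem i
      · exfalso
        -- a reflection is not central for n ≥ 3
        have hcomm : (e.symm (DihedralGroup.r 1) : S) * ⟨t, htS⟩ = ⟨t, htS⟩ * e.symm (DihedralGroup.r 1) :=
          Subtype.ext (htZ _ (e.symm (DihedralGroup.r 1)).2)
        have h1 := congrArg e hcomm
        rw [map_mul, map_mul, MulEquiv.apply_symm_apply, hti, DihedralGroup.r_mul_sr,
          DihedralGroup.sr_mul_r] at h1
        have h2 : i - 1 = i + 1 := by
          injection h1
        have h3 : (2 : ZMod n) = 0 := by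
          have : (i + 1) - (i - 1) = 0 := by rw [h2]; ring
          have h4 : (i + 1) - (i - 1) = (2 : ZMod n) := by ring
          rw [← h4, this]
        have h5 : (n : ℕ) ∣ 2 := by
          have := (ZMod.natCast_eq_zero_iff 2 n).mp (by exact_mod_cast h3)
          exact this
        have := Nat.le_of_dvd (by norm_num) h5
        omega
    refine ⟨T0.map S.subtype, dihPair_of_cyclic S n hn ⟨e⟩ t ht htS htZ _ hS0le hS0cyc hS0idx ?_⟩
    exact ⟨⟨t, htS⟩, htT0, rfl⟩

end Cfsg.Agent.Helper21.Bsw.Setup
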