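import Mathlib
import Cfsg.Agent.Helper23.CMDefs
import Cfsg.Agent.Helper24.Abelian

set_option autoImplicit false

namespace Cfsg.Agent.Helper13.CMNOTP

open scoped Pointwise

variable {G : Type*} [Group G] [Finite G]

/-- an element whose order is a power of `p` lies in a normal Sylow `p`-subgroup -/
theorem mem_of_orderOf_eq_pow (p : ℕ) [Fact p.Prime] (P : Sylow p G)
    (hPn : (P : Subgroup G).Normal) (g : G) (k : ℕ) (hk : orderOf g = p ^ k) :
    g ∈ (P : Subgroup G) := by
  have hz : IsPGroup p ↥(Subgroup.zpowers g) := by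
    apply IsPGroup.of_card (n := k)
    rw [Nat.card_zpowers, hk]
  obtain ⟨Q, hQ⟩ := hz.exists_le_sylow
  have hsub : Subsingleton (Sylow p G) := by
    exact (Sylow.unique_of_normal P hPn).instSubsingleton
  have : Q = P := Subsingleton.elim _ _
  rw [← this]
  exact hQ (Subgroup.mem_zpowers g)

/-- a complement of a normal Sylow `p`-subgroup contains a conjugate of every element of prime
order `r ≠ p` -/
theorem exists_conj_mem (p : ℕ) [Fact p.Prime] (P : Sylow p G) (hPn : (P : Subgroup G).Normal)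
    (A : Subgroup G) (hcop : (Nat.card ↥A).Coprime p) (hAP : A ⊔ (P : Subgroup G) = ⊤)
    (r : ℕ) (hr : r.Prime) (hrp : r ≠ p) (h : G) (hh : orderOf h = r) :
    ∃ c : G, c * h * c⁻¹ ∈ A := by
  have : Fact r.Prime := ⟨hr⟩
  have hp : p.Prime := Fact.out
  have hpP : IsPGroup p ↥(P : Subgroup G) := P.isPGroup'
  obtain ⟨n, hn⟩ := IsPGroup.iff_card.mp hpP
  have hdisj : Disjoint A (P : Subgroup G) := by
    apply Subgroup.disjoint_of_coprime_natCard
    rw [hn]
    exact Nat.Coprime.pow_right n hcop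
  have hmul : ((A : Set G) * ((P : Subgroup G) : Set G)) = Set.univ := by
    have := hPn
    rw [← Subgroup.mul_normal, hAP]
    rfl
  have hcompl : Subgroup.IsComplement' A (P : Subgroup G) :=
    Subgroup.isComplement'_of_disjoint_and_mul_eq_univ hdisj hmul
  have hcard : Nat.card ↥A * Nat.card ↥(P : Subgroup G) = Nat.card G := hcompl.card_mul_card
  have hA0 : Nat.card ↥A ≠ 0 := Nat.card_pos.ne'
  have hP0 : Nat.card ↥(P : Subgroup G) ≠ 0 := Nat.card_pos.ne'
  have hfac : (Nat.card G).factorization r = (Nat.card ↥A).factorization r := by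
    rw [← hcard, Nat.factorization_mul hA0 hP0]
    have : (Nat.card ↥(P : Subgroup G)).factorization r = 0 := by
      apply Nat.factorization_eq_zero_of_not_dvd
      rw [hn]
      intro hd
      exact hrp ((Nat.prime_dvd_prime_iff_eq hr hp).mp (hr.dvd_of_dvd_pow hd))
    simp [this]
  obtain ⟨R⟩ : Nonempty (Sylow r ↥A) := inferInstance
  have hH : Nat.card ↥((R : Subgroup ↥A).map A.subtype) = r ^ (Nat.card G).factorization r := by
    rw [Subgroup.card_map_of_injective (Subgroup.subtype_injective A), hfac]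
    exact R.card_eq_multiplicity
  let S : Sylow r G := Sylow.ofCard ((R : Subgroup ↥A).map A.subtype) hH
  have hS : (S : Subgroup G) = (R : Subgroup ↥A).map A.subtype := rfl
  have hz : IsPGroup r ↥(Subgroup.zpowers h) := by
    apply IsPGroup.of_card (n := 1)
    rw [Nat.card_zpowers, hh, pow_one]
  obtain ⟨Q, hQ⟩ := hz.exists_le_sylow
  obtain ⟨c, hc⟩ := MulAction.exists_smul_eq G Q S
  refine ⟨c, ?_⟩
  have h1 : c * h * c⁻¹ ∈ (S : Subgroup G) := by
    rw [← hc, Sylow.coe_subgroup_smul, Subgroup.mem_pointwise_smul_iff_inv_smul_mem]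
    rw [MulAut.smul_def, ← map_inv, MulAut.conj_apply, inv_inv]
    have : c⁻¹ * (c * h * c⁻¹) * c = h := by group
    rw [this]
    exact hQ (Subgroup.mem_zpowers h)
  rw [hS] at h1
  obtain ⟨a, _, ha⟩ := Subgroup.mem_map.mp h1
  rw [← ha]
  exact a.2

end Cfsg.Agent.Helper13.CMNOTP

namespace Cfsg.Agent.Helper23.CM

open Cfsg Cfsg.Agent.Helper24

universe u

variable {G : Type u} [Group G] [Finite G]

/-- BW3b -/
theorem fpf_of_not_mem (p : ℕ) [Fact p.Prime] (P : Sylow p G) (hPn : (P : Subgroup G).Normal)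
    (A : Subgroup G) (hcop : (Nat.card ↥A).Coprime p) (hAP : A ⊔ (P : Subgroup G) = ⊤)
    (D : Subgroup G) (hD : D.Normal)
    (hfpf : ∀ a ∈ A, a ≠ 1 → ∀ d ∈ D, a * d = d * a → d = 1) :
    ∀ g : G, g ∉ (P : Subgroup G) → ∀ d ∈ D, g * d = d * g → d = 1 := by
  intro g hg d hd hgd
  have hp : p.Prime := Fact.out
  have hg0 : orderOf g ≠ 0 := (orderOf_pos g).ne'
  -- a prime divisor `r ≠ p` of the order of `g`
  obtain ⟨r, hr, hrg, hrp⟩ : ∃ r : ℕ, r.Prime ∧ r ∣ orderOf g ∧ r ≠ p := by
    by_contra hcon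
    apply hg
    have hall : ∀ r : ℕ, r.Prime → r ∣ orderOf g → r = p := by
      intro r hr hrg
      by_contra hne
      exact hcon ⟨r, hr, hrg, hne⟩
    by_cases h1 : orderOf g = 1
    · rw [orderOf_eq_one_iff] at h1
      rw [h1]
      exact Subgroup.one_mem _
    · have hpd : p ∣ orderOf g := by
        obtain ⟨q, hq, hqd⟩ := Nat.exists_prime_and_dvd h1
        rw [← hall q hq hqd]
        exact hqd
      have := Nat.eq_prime_pow_of_unique_prime_dvd hg0 (fun {d} hd hdd => hall d hd hdd)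
      exact Cfsg.Agent.Helper13.CMNOTP.mem_of_orderOf_eq_pow p P hPn g _ this
  set h : G := g ^ (orderOf g / r) with hh
  have hho : orderOf h = r := orderOf_pow_orderOf_div hg0 hrg
  have hcomm : Commute h d := by
    have : Commute g d := hgd
    exact this.pow_left _
  obtain ⟨c, hc⟩ := Cfsg.Agent.Helper13.CMNOTP.exists_conj_mem p P hPn A hcop hAP r hr hrp h hho
  have hne : c * h * c⁻¹ ≠ 1 := by
    intro h1
    have : h = 1 := by
      have : h = c⁻¹ * (c * h * c⁻¹) * c := by group
      rw [this, h1]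
      group
    rw [this, orderOf_one] at hho
    exact hr.one_lt.ne hho
  have hd' : c * d * c⁻¹ ∈ D := hD.conj_mem d hd c
  have hcomm' : c * h * c⁻¹ * (c * d * c⁻¹) = c * d * c⁻¹ * (c * h * c⁻¹) := by
    have e1 : c * h * c⁻¹ * (c * d * c⁻¹) = c * (h * d) * c⁻¹ := by group
    have e2 : c * d * c⁻¹ * (c * h * c⁻¹) = c * (d * h) * c⁻¹ := by group
    rw [e1, e2, hcomm.eq]
  have := hfpf _ hc hne _ hd' hcomm'
  have e : d = c⁻¹ * (c * d * c⁻¹) * c := by group
  rw [e, this]
  group

end Cfsg.Agent.Helper23.CM
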