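import Mathlib
import Cfsg.Agent.Helper29.EsnDefs
import Cfsg.Agent.Helper6.EsnLINC
import Cfsg.Agent.Helper23.EsnF1
import Cfsg.Agent.Helper23.EsnSKEL

set_option autoImplicit false

/-! S5877 piece CNT1: the commuting case `r² d + n ≤ 2 r n`. -/

namespace Cfsg.Agent.S5877P

open Matrix Module

variable {n : ℕ} {F : Type*} [Field F] {r : ℕ} {Q : Subgroup (GLn n F)} {ζ : Fˣ}

namespace CNT1

theorem pow_mul_injOn (hr : r.Prime) (ζ : Fˣ) (hζ : ζ ^ r = 1) (hζ1 : ζ ≠ 1) (l : ℕ)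
    (hl0 : l ≠ 0) (hlr : l < r) {a b : ℕ} (ha : a < r) (hb : b < r)
    (hab : ζ ^ (l * a) = ζ ^ (l * b)) : a = b := by
  have : Fact r.Prime := ⟨hr⟩
  have hord : orderOf ζ = r := orderOf_eq_prime hζ hζ1
  have hl1 : ζ ^ l ≠ 1 := by
    intro h
    have hd : orderOf ζ ∣ l := orderOf_dvd_of_pow_eq_one h
    rw [hord] at hd
    have := Nat.le_of_dvd (Nat.pos_of_ne_zero hl0) hd
    omega
  have hlr' : (ζ ^ l) ^ r = 1 := by rw [← pow_mul, mul_comm, pow_mul, hζ, one_pow]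
  have hord' : orderOf (ζ ^ l) = r := orderOf_eq_prime hlr' hl1
  have hinj := pow_injOn_Iio_orderOf (x := ζ ^ l)
  rw [hord'] at hinj
  rw [pow_mul, pow_mul] at hab
  exact hinj (by simpa using ha) (by simpa using hb) hab

end CNT1

theorem cnt_comm (hC : Cfg n F r Q ζ) (g h c₁ : GLn n F) (hh : h ∈ Q) (hc₁Q : c₁ ∈ Q)
    (hc₁ : c₁ ∉ Zs n F) (hrel : g * h * g⁻¹ = h * c₁) (hgc : g * c₁ = c₁ * g)
    (hhc : h * c₁ = c₁ * h) (hpow : c₁ ^ r = 1) (c : F) :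
    r ^ 2 * finrank F (Eig g c) + n ≤ 2 * r * n := by
  classical
  have hr := hC.prime
  have hr2 := hr.two_le
  by_cases hc : c = 0
  · rw [hc, Eig_zero, finrank_bot, mul_zero, zero_add]
    nlinarith
  have hk : c₁ * h = sc n (ζ ^ 0) * (h * c₁) := by rw [pow_zero, map_one, one_mul, hhc]
  have hskel := skel hC g h c₁ hrel hgc 0 hk hpow c
  have hF1 : ∀ μ : F, r * finrank F (Eig c₁ μ) ≤ n :=
    fun μ => finrank_Eig_le_of_not_scalar hC c₁ hc₁Q hc₁ μ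
  -- the inner sums
  have h0 : ∀ l : ℕ, ∑ j ∈ Finset.range r,
      finrank F (Eig g (c * (((ζ ^ (0 * (j * (j - 1) / 2) + l * j))⁻¹ : Fˣ) : F)) ⊓
        Eig c₁ ((ζ ^ l : Fˣ) : F) : Submodule F (Fin n → F))
      ≤ r * finrank F (Eig c₁ ((ζ ^ l : Fˣ) : F)) := by
    intro l
    have h1 : ∀ j ∈ Finset.range r,
        finrank F (Eig g (c * (((ζ ^ (0 * (j * (j - 1) / 2) + l * j))⁻¹ : Fˣ) : F)) ⊓
          Eig c₁ ((ζ ^ l : Fˣ) : F) : Submodule F (Fin n → F))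
        ≤ finrank F (Eig c₁ ((ζ ^ l : Fˣ) : F)) :=
      fun j _ => Submodule.finrank_mono inf_le_right
    have h2 := Finset.sum_le_sum h1
    rw [Finset.sum_const, Finset.card_range, smul_eq_mul] at h2
    exact h2
  have hl : ∀ l ∈ Finset.range r, l ≠ 0 → ∑ j ∈ Finset.range r,
      finrank F (Eig g (c * (((ζ ^ (0 * (j * (j - 1) / 2) + l * j))⁻¹ : Fˣ) : F)) ⊓
        Eig c₁ ((ζ ^ l : Fˣ) : F) : Submodule F (Fin n → F))
      ≤ 1 * finrank F (Eig c₁ ((ζ ^ l : Fˣ) : F)) := by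
    intro l hlr hl0
    refine sum_finrank_fiber_le (Finset.range r)
      (fun j => c * (((ζ ^ (0 * (j * (j - 1) / 2) + l * j))⁻¹ : Fˣ) : F)) 1 ?_ g _
    intro x
    rw [Finset.card_le_one]
    intro a ha b hb
    rw [Finset.mem_filter] at ha hb
    have hab : c * (((ζ ^ (0 * (a * (a - 1) / 2) + l * a))⁻¹ : Fˣ) : F)
        = c * (((ζ ^ (0 * (b * (b - 1) / 2) + l * b))⁻¹ : Fˣ) : F) := ha.2.trans hb.2.symm
    have hab2 := mul_left_cancel₀ hc hab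
    have hab3 : (ζ ^ (0 * (a * (a - 1) / 2) + l * a))⁻¹ = (ζ ^ (0 * (b * (b - 1) / 2) + l * b))⁻¹ :=
      Units.ext hab2
    rw [_root_.inv_inj, zero_mul, zero_add, zero_mul, zero_add] at hab3
    exact CNT1.pow_mul_injOn hr ζ hC.zeta_pow hC.zeta_ne l hl0 (Finset.mem_range.mp hlr)
      (Finset.mem_range.mp ha.1) (Finset.mem_range.mp hb.1) hab3
  -- split off `l = 0`
  obtain ⟨r', hr'⟩ : ∃ r', r = r' + 1 := ⟨r - 1, by omega⟩
  have hsplit : ∑ l ∈ Finset.range r, ∑ j ∈ Finset.range r,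
      finrank F (Eig g (c * (((ζ ^ (0 * (j * (j - 1) / 2) + l * j))⁻¹ : Fˣ) : F)) ⊓
        Eig c₁ ((ζ ^ l : Fˣ) : F) : Submodule F (Fin n → F))
      ≤ ∑ l ∈ Finset.range r', finrank F (Eig c₁ ((ζ ^ (l + 1) : Fˣ) : F))
        + r * finrank F (Eig c₁ ((ζ ^ 0 : Fˣ) : F)) := by
    conv_lhs => rw [hr', Finset.sum_range_succ', ← hr']
    refine Nat.add_le_add (Finset.sum_le_sum ?_) (h0 0)
    intro l hl'
    have h3 := hl (l + 1) (by rw [Finset.mem_range] at hl' ⊢; omega) (Nat.succ_ne_zero l)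
    rw [one_mul] at h3
    exact h3
  have hd := hskel.trans hsplit
  -- multiply by `r`
  have hsum : r * ∑ l ∈ Finset.range r', finrank F (Eig c₁ ((ζ ^ (l + 1) : Fˣ) : F)) ≤ r' * n := by
    rw [Finset.mul_sum]
    have h4 : ∀ l ∈ Finset.range r', r * finrank F (Eig c₁ ((ζ ^ (l + 1) : Fˣ) : F)) ≤ n :=
      fun l _ => hF1 _
    have h5 := Finset.sum_le_sum h4
    rw [Finset.sum_const, Finset.card_range, smul_eq_mul] at h5
    exact h5
  have h00 := hF1 ((ζ ^ 0 : Fˣ) : F)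
  have hfin : r * (r * finrank F (Eig g c)) ≤ r' * n + r * n := by
    calc r * (r * finrank F (Eig g c))
        ≤ r * (∑ l ∈ Finset.range r', finrank F (Eig c₁ ((ζ ^ (l + 1) : Fˣ) : F))
            + r * finrank F (Eig c₁ ((ζ ^ 0 : Fˣ) : F))) := Nat.mul_le_mul_left r hd
      _ = r * ∑ l ∈ Finset.range r', finrank F (Eig c₁ ((ζ ^ (l + 1) : Fˣ) : F))
            + r * (r * finrank F (Eig c₁ ((ζ ^ 0 : Fˣ) : F))) := by ring
      _ ≤ r' * n + r * n := Nat.add_le_add hsum (Nat.mul_le_mul_left r h00)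
  have e1 : r ^ 2 * finrank F (Eig g c) = r * (r * finrank F (Eig g c)) := by ring
  rw [e1]
  have e2 : 2 * r * n = r' * n + r * n + n := by rw [hr']; ring
  rw [e2]
  omega

end Cfsg.Agent.S5877P
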