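import Mathlib
import Cfsg.Agent.Helper29.EsnDefs
import Cfsg.Agent.Helper6.EsnLINA2
import Cfsg.Agent.Helper6.EsnLINC
import Cfsg.Agent.Helper5.EsnQUAD
import Cfsg.Agent.Helper23.EsnSKEL

set_option autoImplicit false

/-! S5877 piece CNT2: the noncommuting case `r d ≤ 2 n`. -/

namespace Cfsg.Agent.S5877P

open Matrix Module

variable {n : ℕ} {F : Type*} [Field F] {r : ℕ} {Q : Subgroup (GLn n F)} {ζ : Fˣ}

namespace CNT2

theorem zeta_pow_injOn (hr : r.Prime) (ζ : Fˣ) (hζ : ζ ^ r = 1) (hζ1 : ζ ≠ 1) :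
    Set.InjOn (fun l : ℕ => ((ζ ^ l : Fˣ) : F)) (Finset.range r : Set ℕ) := by
  have : Fact r.Prime := ⟨hr⟩
  have hord : orderOf ζ = r := orderOf_eq_prime hζ hζ1
  intro a ha b hb hab
  have hab' : ζ ^ a = ζ ^ b := Units.ext hab
  have hinj := pow_injOn_Iio_orderOf (x := ζ)
  rw [hord] at hinj
  exact hinj (by simpa using ha) (by simpa using hb) hab'

theorem sum_Eig_zeta_le (hr : r.Prime) (ζ : Fˣ) (hζ : ζ ^ r = 1) (hζ1 : ζ ≠ 1) (c₁ : GLn n F) :
    ∑ l ∈ Finset.range r, finrank F (Eig c₁ ((ζ ^ l : Fˣ) : F)) ≤ n := by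
  classical
  have hinj := zeta_pow_injOn hr ζ hζ hζ1
  have h := Finset.sum_image (f := fun x : F => finrank F (Eig c₁ x)) hinj
  rw [← h]
  exact sum_finrank_Eig_le c₁ _

end CNT2

theorem cnt_noncomm (hC : Cfg n F r Q ζ) (hr2 : r ≠ 2) (g h c₁ : GLn n F) (hh : h ∈ Q)
    (hc₁Q : c₁ ∈ Q) (hrel : g * h * g⁻¹ = h * c₁) (hgc : g * c₁ = c₁ * g)
    (hhc : h * c₁ ≠ c₁ * h) (hpow : c₁ ^ r = 1) (c : F) :
    r * finrank F (Eig g c) ≤ 2 * n := by
  classical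
  by_cases hc : c = 0
  · rw [hc, Eig_zero, finrank_bot, mul_zero]
    exact Nat.zero_le _
  obtain ⟨k, hk⟩ := hC.comm c₁ hc₁Q h hh
  have hζk : ζ ^ k ≠ 1 := by
    intro h1
    rw [h1, map_one, one_mul] at hk
    exact hhc hk.symm
  have hskel := skel hC g h c₁ hrel hgc k hk hpow c
  have hinner : ∀ l ∈ Finset.range r, ∑ j ∈ Finset.range r,
      finrank F (Eig g (c * (((ζ ^ (k * (j * (j - 1) / 2) + l * j))⁻¹ : Fˣ) : F)) ⊓
        Eig c₁ ((ζ ^ l : Fˣ) : F) : Submodule F (Fin n → F))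
      ≤ 2 * finrank F (Eig c₁ ((ζ ^ l : Fˣ) : F)) := by
    intro l _
    refine sum_finrank_fiber_le (Finset.range r)
      (fun j => c * (((ζ ^ (k * (j * (j - 1) / 2) + l * j))⁻¹ : Fˣ) : F)) 2 ?_ g _
    intro x
    by_cases hx : x = 0
    · have hempty : (Finset.range r).filter
          (fun j => c * (((ζ ^ (k * (j * (j - 1) / 2) + l * j))⁻¹ : Fˣ) : F) = x) = ∅ := by
        rw [Finset.filter_eq_empty_iff]
        intro j _ hj
        rw [hx] at hj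
        exact (mul_ne_zero hc (Units.ne_zero _)) hj
      rw [hempty, Finset.card_empty]
      exact Nat.zero_le _
    · refine le_trans (Finset.card_le_card ?_)
        (card_quad_fiber_le r hC.prime hr2 ζ hC.zeta_pow k l hζk
          ((Units.mk0 x hx)⁻¹ * Units.mk0 c hc))
      intro j hj
      rw [Finset.mem_filter] at hj ⊢
      refine ⟨hj.1, ?_⟩
      apply Units.ext
      rw [Units.val_mul, Units.val_inv_eq_inv_val, Units.val_mk0, Units.val_mk0]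
      have h2 := hj.2
      rw [Units.val_inv_eq_inv_val] at h2
      have hu : ((ζ ^ (k * (j * (j - 1) / 2) + l * j) : Fˣ) : F) ≠ 0 := Units.ne_zero _
      have h3 : c = x * ((ζ ^ (k * (j * (j - 1) / 2) + l * j) : Fˣ) : F) :=
        (mul_inv_eq_iff_eq_mul₀ hu).mp h2
      rw [h3, inv_mul_cancel_left₀ hx]
  calc r * finrank F (Eig g c)
      ≤ ∑ l ∈ Finset.range r, ∑ j ∈ Finset.range r,
          finrank F (Eig g (c * (((ζ ^ (k * (j * (j - 1) / 2) + l * j))⁻¹ : Fˣ) : F)) ⊓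
            Eig c₁ ((ζ ^ l : Fˣ) : F) : Submodule F (Fin n → F)) := hskel
    _ ≤ ∑ l ∈ Finset.range r, 2 * finrank F (Eig c₁ ((ζ ^ l : Fˣ) : F)) :=
        Finset.sum_le_sum hinner
    _ = 2 * ∑ l ∈ Finset.range r, finrank F (Eig c₁ ((ζ ^ l : Fˣ) : F)) := by
        rw [Finset.mul_sum]
    _ ≤ 2 * n :=
        Nat.mul_le_mul_left 2 (CNT2.sum_Eig_zeta_le hC.prime ζ hC.zeta_pow hC.zeta_ne c₁)

end Cfsg.Agent.S5877P
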