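import Mathlib
import Cfsg.Agent.Helper13.ArfSum
import Cfsg.Prelude.Def_Classical

set_option autoImplicit false

namespace Cfsg.Agent.Helper13

/-- twice the number of zeros of a `ZMod 2`-valued function is the cardinality plus the
character sum -/
theorem two_mul_card_zeros {V : Type*} [Fintype V] (q : V → ZMod 2) :
    (2 : ℤ) * (Finset.univ.filter (fun v => q v = 0)).card =
      (Fintype.card V : ℤ) + ∑ v : V, chi2 (q v) := by
  classical
  have h1 : ∑ v : V, chi2 (q v) =
      ((Finset.univ.filter (fun v => q v = 0)).card : ℤ) -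
        ((Finset.univ.filter (fun v => ¬ q v = 0)).card : ℤ) := by
    simp only [chi2]
    rw [Finset.sum_ite]
    simp
    ring
  have h2 : (Finset.univ.filter (fun v => q v = 0)).card +
      (Finset.univ.filter (fun v => ¬ q v = 0)).card = Fintype.card V := by
    rw [Finset.card_filter_add_card_filter_not]
    rfl
  have h3 : ((Finset.univ.filter (fun v => q v = 0)).card : ℤ) +
      ((Finset.univ.filter (fun v => ¬ q v = 0)).card : ℤ) = (Fintype.card V : ℤ) := by
    exact_mod_cast h2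
  rw [h1]
  linarith

theorem sum_chi2_plus (m : ℕ) :
    ∑ v : Fin m ⊕ Fin m → ZMod 2, chi2 (Cfsg.quadFormPlus m (ZMod 2) v) = 2 ^ m := by
  classical
  have h1 : ∑ v : Fin m ⊕ Fin m → ZMod 2, chi2 (Cfsg.quadFormPlus m (ZMod 2) v) =
      ∑ p : (Fin m → ZMod 2) × (Fin m → ZMod 2), chi2 (∑ i, p.1 i * p.2 i) :=
    Fintype.sum_equiv (Equiv.sumArrowEquivProdArrow (Fin m) (Fin m) (ZMod 2)) _ _ (fun v => rfl)
  rw [h1, Fintype.sum_prod_type]
  have inner : ∀ x : Fin m → ZMod 2, ∑ y : Fin m → ZMod 2, chi2 (∑ i, x i * y i) =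
      if x = 0 then (2 : ℤ) ^ m else 0 := by
    intro x
    by_cases hx : x = 0
    · subst hx
      simp [chi2_zero]
    · rw [if_neg hx]
      obtain ⟨i, hi⟩ : ∃ i, x i ≠ 0 := by
        by_contra hcon
        push Not at hcon
        exact hx (funext hcon)
      apply sum_chi2_eq_zero (fun y : Fin m → ZMod 2 => ∑ i, x i * y i) _ (Pi.single i 1)
      · simpa [Pi.single_apply] using hi
      · intro u v
        simp only [Pi.add_apply, mul_add, Finset.sum_add_distrib]
  simp_rw [inner]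
  simp

theorem card_zeros_plus (m : ℕ) (hm : 1 ≤ m) :
    Nat.card {w : Fin m ⊕ Fin m → ZMod 2 // Cfsg.quadFormPlus m (ZMod 2) w = 0} =
      2 ^ (2 * m - 1) + 2 ^ (m - 1) := by
  classical
  rw [Nat.card_eq_fintype_card, Fintype.card_subtype]
  have h := two_mul_card_zeros (Cfsg.quadFormPlus m (ZMod 2))
  rw [sum_chi2_plus] at h
  have hc : Fintype.card (Fin m ⊕ Fin m → ZMod 2) = 2 ^ (2 * m) := by
    simp [ZMod.card, two_mul]
  rw [hc] at h
  obtain ⟨k, rfl⟩ : ∃ k, m = k + 1 := ⟨m - 1, by omega⟩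
  have e1 : 2 * (k + 1) - 1 = 2 * k + 1 := by omega
  have e2 : 2 * (k + 1) = (2 * k + 1) + 1 := by omega
  rw [e1, Nat.add_sub_cancel]
  rw [e2] at h
  have h' : (2 : ℤ) * ((Finset.univ.filter
      (fun v => Cfsg.quadFormPlus (k + 1) (ZMod 2) v = 0)).card : ℤ) =
      2 * ((2 : ℤ) ^ (2 * k + 1) + 2 ^ k) := by
    rw [h]; push_cast; ring
  have h'' := mul_left_cancel₀ (by norm_num : (2 : ℤ) ≠ 0) h'
  exact_mod_cast h''

end Cfsg.Agent.Helper13
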