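import Mathlib
import Cfsg.Agent.S2616
import Cfsg.Agent.Helper13.StdForms
import Cfsg.Agent.Helper13.F2Plus

set_option autoImplicit false

namespace Cfsg.Agent.Helper13

open Module Cfsg.Agent.S2617 Cfsg.Agent.S2562

theorem two_eq_zero_K2 : (2 : ZMod 2) = 0 := by decide

/-- Over the field of two elements, a nondegenerate quadratic form in dimension `2m` is the plus
form or the minus form in suitable coordinates. -/
theorem plus_or_minus_gen {V : Type*} [AddCommGroup V] [Module (ZMod 2) V]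
    [FiniteDimensional (ZMod 2) V] {m : ℕ} (hm : 1 ≤ m) (hV : finrank (ZMod 2) V = 2 * m)
    (Q : QuadraticForm (ZMod 2) V) (hQ : (QuadraticMap.polarBilin Q).Nondegenerate) :
    (∃ g : V ≃ₗ[ZMod 2] (Fin m ⊕ Fin m → ZMod 2),
      ∀ v, Cfsg.quadFormPlus m (ZMod 2) (g v) = Q v) ∨
    (∃ g : V ≃ₗ[ZMod 2] ((Fin (m - 1) ⊕ Fin (m - 1)) ⊕ Fin 2 → ZMod 2),
      ∀ v, Cfsg.quadFormMinus (m - 1) (ZMod 2) 1 1 (g v) = Q v) := by
  classical
  rcases Cfsg.Agent.S2616.result hm hV Q hQ with ⟨b, h1, h2, h3⟩ |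
    ⟨b, ζ, hζ, h1, h2, h3, h4, hx, hxy, hy⟩
  · left
    refine ⟨b.equivFun, ?_⟩
    intro v
    rw [← Qp_apply]
    symm
    apply eq_comp_equivFun b Q (Qp m (ZMod 2))
    · intro k
      rw [Qp_single]
      rcases k with k | k
      · exact (h1 k).1
      · exact (h1 k).2
    · intro k l
      rw [Qp_polar_single]
      rcases k with k | k <;> rcases l with l | l
      · simpa using (h3 k l).1
      · rw [h2 k l]; simp [Matrix.one_apply]
      · rw [QuadraticMap.polar_comm, h2 l k]; simp [Matrix.one_apply, eq_comm]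
      · simpa using (h3 k l).2
  · right
    have hζ1 : ζ = 1 := by
      rcases zmod2_cases ζ with h0 | h1
      · exfalso
        have := hζ 0
        rw [h0] at this
        simp at this
      · exact h1
    subst hζ1
    refine ⟨b.equivFun, ?_⟩
    intro v
    rw [← Qm_apply]
    symm
    apply eq_comp_equivFun b Q (Qm (m - 1) (ZMod 2) 1 1)
    · intro k
      rw [Qm_single]
      rcases k with (k | k) | k
      · exact (h1 k).1
      · exact (h1 k).2
      · fin_cases k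
        · exact hx
        · exact hy
    · intro k l
      rw [Qm_polar_single]
      have hbb : ∀ k : Fin 2, QuadraticMap.polar Q (b (Sum.inr k)) (b (Sum.inr k)) = 0 := by
        intro k
        rw [QuadraticMap.polar_self]
        simp [two_eq_zero_K2]
      rcases k with (k | k) | k <;> rcases l with (l | l) | l
      · simpa using (h3 k l).1
      · rw [h2 k l]; simp [Matrix.one_apply]
      · simpa using (h4 k l).1
      · rw [QuadraticMap.polar_comm, h2 l k]; simp [Matrix.one_apply, eq_comm]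
      · simpa using (h3 k l).2
      · simpa using (h4 k l).2
      · rw [QuadraticMap.polar_comm]; simpa using (h4 l k).1
      · rw [QuadraticMap.polar_comm]; simpa using (h4 l k).2
      · fin_cases k <;> fin_cases l
        · simpa [two_eq_zero_K2] using hbb 0
        · simpa using hxy
        · rw [QuadraticMap.polar_comm]; simpa using hxy
        · simpa [two_eq_zero_K2] using hbb 1

theorem sum_chi2_binary :
    ∑ z : Fin 2 → ZMod 2, chi2 (z 0 ^ 2 + 1 * z 0 * z 1 + 1 * z 1 ^ 2) = -2 := by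
  rw [← Equiv.sum_comp (finTwoArrowEquiv (ZMod 2)).symm, Fintype.sum_prod_type]
  simp only [finTwoArrowEquiv_symm_apply, Matrix.cons_val_zero, Matrix.cons_val_one]
  have hK : ∀ g : ZMod 2 → ℤ, ∑ t : ZMod 2, g t = g 0 + g 1 := fun g => Fin.sum_univ_two g
  simp only [hK]
  decide

theorem sum_chi2_minus (n : ℕ) :
    ∑ v : (Fin n ⊕ Fin n) ⊕ Fin 2 → ZMod 2, chi2 (Cfsg.quadFormMinus n (ZMod 2) 1 1 v) =
      -2 ^ (n + 1) := by
  classical
  have h1 : ∑ v : (Fin n ⊕ Fin n) ⊕ Fin 2 → ZMod 2, chi2 (Cfsg.quadFormMinus n (ZMod 2) 1 1 v) =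
      ∑ p : (Fin n ⊕ Fin n → ZMod 2) × (Fin 2 → ZMod 2),
        chi2 (Cfsg.quadFormPlus n (ZMod 2) p.1) *
          chi2 (p.2 0 ^ 2 + 1 * p.2 0 * p.2 1 + 1 * p.2 1 ^ 2) := by
    refine Fintype.sum_equiv (Equiv.sumArrowEquivProdArrow (Fin n ⊕ Fin n) (Fin 2) (ZMod 2)) _ _ ?_
    intro v
    rw [← chi2_add]
    rfl
  rw [h1, Fintype.sum_prod_type]
  simp_rw [← Finset.mul_sum, sum_chi2_binary, ← Finset.sum_mul, sum_chi2_plus]
  ring

/-- The sign of the character sum decides the type. -/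
theorem type_of_sum {V : Type*} [AddCommGroup V] [Module (ZMod 2) V]
    [FiniteDimensional (ZMod 2) V] [Fintype V] {m : ℕ} (hm : 1 ≤ m)
    (hV : finrank (ZMod 2) V = 2 * m)
    (Q : QuadraticForm (ZMod 2) V) (hQ : (QuadraticMap.polarBilin Q).Nondegenerate) :
    (0 < ∑ v : V, chi2 (Q v) → ∃ g : V ≃ₗ[ZMod 2] (Fin m ⊕ Fin m → ZMod 2),
      ∀ v, Cfsg.quadFormPlus m (ZMod 2) (g v) = Q v) ∧
    (∑ v : V, chi2 (Q v) < 0 →
      ∃ g : V ≃ₗ[ZMod 2] ((Fin (m - 1) ⊕ Fin (m - 1)) ⊕ Fin 2 → ZMod 2),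
      ∀ v, Cfsg.quadFormMinus (m - 1) (ZMod 2) 1 1 (g v) = Q v) := by
  classical
  rcases plus_or_minus_gen hm hV Q hQ with ⟨g, hg⟩ | ⟨g, hg⟩
  · have hs : ∑ v : V, chi2 (Q v) = 2 ^ m := by
      rw [← sum_chi2_plus m]
      refine Fintype.sum_equiv g.toEquiv _ _ ?_
      intro v
      rw [← hg v]
      rfl
    refine ⟨fun _ => ⟨g, hg⟩, ?_⟩
    intro hneg
    rw [hs] at hneg
    have : (0 : ℤ) < 2 ^ m := by positivity
    omega
  · have hs : ∑ v : V, chi2 (Q v) = -2 ^ (m - 1 + 1) := by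
      rw [← sum_chi2_minus (m - 1)]
      refine Fintype.sum_equiv g.toEquiv _ _ ?_
      intro v
      rw [← hg v]
      rfl
    refine ⟨?_, fun _ => ⟨g, hg⟩⟩
    intro hpos
    rw [hs] at hpos
    have : (0 : ℤ) < 2 ^ (m - 1 + 1) := by positivity
    omega

end Cfsg.Agent.Helper13
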