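import Mathlib
import Cfsg.Agent.Helper16.FHDefs

set_option autoImplicit false

/-! # Feit–Higman piece D: the arithmetic endgame (`fh_arith`), via Niven's theorem. -/

namespace Cfsg.Agent.Helper13.FHD

open Real Cfsg.Agent.Helper16.FH

/-- `x_j ^ 2 < s t` for `0 < 2 j < n`. -/
theorem xj_sq_lt (n : ℕ) (s t : ℝ) (hst : 0 < s * t) (j : ℕ) (hj : 1 ≤ j) (hj2 : 2 * j < n) :
    xj n s t j ^ 2 < s * t := by
  unfold xj
  have hn0 : (0 : ℝ) < n := by
    have : 0 < n := by omega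
    exact_mod_cast this
  have hj0 : (0 : ℝ) < j := by exact_mod_cast hj
  have hθ0 : 0 < 2 * π * j / n := by positivity
  have hθ1 : 2 * π * j / n < π := by
    rw [div_lt_iff₀ hn0]
    have : (2 * (j : ℝ)) < n := by exact_mod_cast hj2
    nlinarith [pi_pos]
  have hsin := sin_pos_of_pos_of_lt_pi hθ0 hθ1
  have h1 := sin_sq_add_cos_sq (2 * π * j / n)
  have hcos : cos (2 * π * j / n) ^ 2 < 1 := by nlinarith
  rw [mul_pow, sq_sqrt hst.le]
  nlinarith

/-- The key inequality `Q < P`. -/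
theorem Q_lt_P (s t x : ℝ) (hs : 2 ≤ s) (ht : 2 ≤ t) (hx : x ^ 2 < s * t) :
    4 * (s * t - x ^ 2) < (s * t + 1 - 2 * x) * (s + t + 2 * x) := by
  have hB : 0 < (s - 1) * (t - 1) := mul_pos (by linarith) (by linarith)
  have hst : 0 < s * t := by positivity
  have hA : 0 < (s * t + 1) * (s + t) - 4 * (s * t) := by
    nlinarith [mul_nonneg (by linarith : (0:ℝ) ≤ s * t + 1) (by linarith : (0:ℝ) ≤ s + t - 4)]
  have hid : ((s * t + 1) * (s + t) - 4 * (s * t)) ^ 2 =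
      (s - t) ^ 2 * (s * t - 1) ^ 2 + 4 * (s * t) * ((s - 1) * (t - 1)) ^ 2 := by ring
  have hgoal : 0 < (s * t + 1) * (s + t) - 4 * (s * t) + 2 * x * ((s - 1) * (t - 1)) := by
    by_contra hcon
    rw [not_lt] at hcon
    have h1 : (s * t + 1) * (s + t) - 4 * (s * t) ≤ -(2 * x * ((s - 1) * (t - 1))) := by linarith
    have h2 : ((s * t + 1) * (s + t) - 4 * (s * t)) ^ 2 ≤ (-(2 * x * ((s - 1) * (t - 1)))) ^ 2 :=
      pow_le_pow_left₀ hA.le h1 2
    have h3 : (-(2 * x * ((s - 1) * (t - 1)))) ^ 2 = 4 * x ^ 2 * ((s - 1) * (t - 1)) ^ 2 := by ring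
    have h4 : 4 * x ^ 2 * ((s - 1) * (t - 1)) ^ 2 < 4 * (s * t) * ((s - 1) * (t - 1)) ^ 2 := by
      have : 0 < ((s - 1) * (t - 1)) ^ 2 := by positivity
      nlinarith
    nlinarith [mul_nonneg (sq_nonneg (s - t)) (sq_nonneg (s * t - 1))]
  nlinarith

/-- From the relation `D P = 2 N Q`: `0 < D < 2 N`. -/
theorem D_bounds (s t x D Nn : ℝ) (hs : 2 ≤ s) (ht : 2 ≤ t) (hx : x ^ 2 < s * t) (hN : 0 < Nn)
    (h : D * ((s * t + 1 - 2 * x) * (s + t + 2 * x)) = 8 * Nn * (s * t - x ^ 2)) :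
    0 < D ∧ D < 2 * Nn := by
  have hQP := Q_lt_P s t x hs ht hx
  have hQ : 0 < 4 * (s * t - x ^ 2) := by linarith
  have hP : 0 < (s * t + 1 - 2 * x) * (s + t + 2 * x) := by linarith
  constructor
  · by_contra hcon
    rw [not_lt] at hcon
    have : D * ((s * t + 1 - 2 * x) * (s + t + 2 * x)) ≤ 0 :=
      mul_nonpos_of_nonpos_of_nonneg hcon hP.le
    nlinarith
  · by_contra hcon
    rw [not_lt] at hcon
    have h1 : 2 * Nn * ((s * t + 1 - 2 * x) * (s + t + 2 * x)) ≤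
        D * ((s * t + 1 - 2 * x) * (s + t + 2 * x)) :=
      mul_le_mul_of_nonneg_right hcon hP.le
    nlinarith

/-- Elimination of `x ^ 2` between the relations for `x` and `-x`. -/
theorem elim (s t x D D' Nn : ℝ) (hs : 2 ≤ s) (ht : 2 ≤ t) (hx : x ^ 2 < s * t) (hN : 0 < Nn)
    (h : D * ((s * t + 1 - 2 * x) * (s + t + 2 * x)) = 8 * Nn * (s * t - x ^ 2))
    (h' : D' * ((s * t + 1 - 2 * (-x)) * (s + t + 2 * (-x))) = 8 * Nn * (s * t - (-x) ^ 2)) :
    0 < (8 * Nn - 4 * D') * (2 * D * ((s - 1) * (t - 1))) +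
        (8 * Nn - 4 * D) * (2 * D' * ((s - 1) * (t - 1))) ∧
    x * ((8 * Nn - 4 * D') * (2 * D * ((s - 1) * (t - 1))) +
        (8 * Nn - 4 * D) * (2 * D' * ((s - 1) * (t - 1)))) =
      (8 * Nn - 4 * D) * (D' * ((s * t + 1) * (s + t)) - 8 * Nn * (s * t)) -
        (8 * Nn - 4 * D') * (D * ((s * t + 1) * (s + t)) - 8 * Nn * (s * t)) := by
  obtain ⟨hD0, hD1⟩ := D_bounds s t x D Nn hs ht hx hN h
  have hx' : (-x) ^ 2 < s * t := by rw [neg_sq]; exact hx
  obtain ⟨hD0', hD1'⟩ := D_bounds s t (-x) D' Nn hs ht hx' hN h'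
  have hB : 0 < (s - 1) * (t - 1) := mul_pos (by linarith) (by linarith)
  constructor
  · have h1 : 0 < (8 * Nn - 4 * D') * (2 * D * ((s - 1) * (t - 1))) :=
      mul_pos (by linarith) (by positivity)
    have h2 : 0 < (8 * Nn - 4 * D) * (2 * D' * ((s - 1) * (t - 1))) :=
      mul_pos (by linarith) (by positivity)
    linarith
  · linear_combination (8 * Nn - 4 * D') * h - (8 * Nn - 4 * D) * h'

/-- Niven: `cos (2π/m)` rational with `m ≥ 3` forces `m ∈ {3, 4, 6}`. -/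
theorem niven_nat (m : ℕ) (hm : 3 ≤ m) (hq : ∃ q : ℚ, cos (2 * π / m) = q) :
    m = 3 ∨ m = 4 ∨ m = 6 := by
  have hm0 : (0 : ℝ) < m := by
    have : 0 < m := by omega
    exact_mod_cast this
  have hm3 : (3 : ℝ) ≤ m := by exact_mod_cast hm
  have hθ : ∃ r : ℚ, 2 * π / m = r * π := ⟨2 / m, by push_cast; ring⟩
  have hbnd : 2 * π / m ∈ Set.Icc 0 π := by
    constructor
    · positivity
    · rw [div_le_iff₀ hm0]
      nlinarith [pi_pos]
  have key := niven_angle_eq hθ hq hbnd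
  simp only [Set.mem_insert_iff, Set.mem_singleton_iff] at key
  have hne : (m : ℝ) ≠ 0 := hm0.ne'
  rcases key with h | h | h | h | h
  · exfalso
    rw [div_eq_iff hne, zero_mul] at h
    nlinarith [pi_pos]
  · right; right
    rw [div_eq_iff hne] at h
    have h1 : π * (m : ℝ) = π * 6 := by linarith
    have h2 := mul_left_cancel₀ pi_ne_zero h1
    exact_mod_cast h2
  · right; left
    rw [div_eq_iff hne] at h
    have h1 : π * (m : ℝ) = π * 4 := by linarith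
    have h2 := mul_left_cancel₀ pi_ne_zero h1
    exact_mod_cast h2
  · left
    rw [div_eq_iff hne] at h
    have h1 : π * (m : ℝ) = π * 3 := by linarith
    have h2 := mul_left_cancel₀ pi_ne_zero h1
    exact_mod_cast h2
  · exfalso
    rw [div_eq_iff hne] at h
    have h1 : π * (m : ℝ) = π * 2 := by linarith
    have h2 := mul_left_cancel₀ pi_ne_zero h1
    linarith


/-- `x_{n/2 - j} = - x_j` for even `n = m + m`. -/
theorem xj_reflect (m : ℕ) (s t : ℝ) (j : ℕ) (hj : j ≤ m) (hm : 0 < m) :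
    xj (m + m) s t (m - j) = - xj (m + m) s t j := by
  unfold xj
  have hm0 : (m : ℝ) ≠ 0 := by
    have : m ≠ 0 := by omega
    exact_mod_cast this
  have h1 : 2 * π * ((m - j : ℕ) : ℝ) / ((m + m : ℕ) : ℝ) = π - 2 * π * (j : ℝ) / ((m + m : ℕ) : ℝ) := by
    rw [Nat.cast_sub hj]
    push_cast
    field_simp
    ring
  rw [h1, cos_pi_sub]
  ring

/-- For even `n`, all the `x_j` are rational. -/
theorem even_rat (m : ℕ) (s t N : ℕ) (hs : 2 ≤ s) (ht : 2 ≤ t) (hN : 0 < N)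
    (h : ∀ j : ℕ, 1 ≤ j → 2 * j < m + m → ∃ d : ℕ,
      (d : ℝ) * (((m + m : ℕ) : ℝ) * ((s : ℝ) * t + 1 - 2 * xj (m + m) s t j) *
        ((s : ℝ) + t + 2 * xj (m + m) s t j)) =
        8 * (N : ℝ) * ((s : ℝ) * t - xj (m + m) s t j ^ 2))
    (j : ℕ) (hj : 1 ≤ j) (hj2 : 2 * j < m + m) : ∃ q : ℚ, xj (m + m) s t j = q := by
  have hjm : j < m := by omega
  obtain ⟨d, hd⟩ := h j hj hj2
  obtain ⟨d', hd'⟩ := h (m - j) (by omega) (by omega)
  rw [xj_reflect m s t j hjm.le (by omega)] at hd'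
  have hs' : (2 : ℝ) ≤ s := by exact_mod_cast hs
  have ht' : (2 : ℝ) ≤ t := by exact_mod_cast ht
  have hN' : (0 : ℝ) < N := by exact_mod_cast hN
  have hst : (0 : ℝ) < (s : ℝ) * t := by positivity
  have hx := xj_sq_lt (m + m) s t hst j hj hj2
  set x := xj (m + m) s t j with hxdef
  have e1 : ((d : ℝ) * ((m + m : ℕ) : ℝ)) * (((s : ℝ) * t + 1 - 2 * x) * ((s : ℝ) + t + 2 * x)) =
      8 * (N : ℝ) * ((s : ℝ) * t - x ^ 2) := by rw [← hd]; ring
  have e2 : ((d' : ℝ) * ((m + m : ℕ) : ℝ)) *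
      (((s : ℝ) * t + 1 - 2 * (-x)) * ((s : ℝ) + t + 2 * (-x))) =
      8 * (N : ℝ) * ((s : ℝ) * t - (-x) ^ 2) := by rw [← hd']; ring
  obtain ⟨hpos, heq⟩ := elim s t x _ _ N hs' ht' hx hN' e1 e2
  refine ⟨(((8 * (N : ℚ) - 4 * ((d : ℚ) * ((m + m : ℕ) : ℚ))) *
        (((d' : ℚ) * ((m + m : ℕ) : ℚ)) * (((s : ℚ) * t + 1) * ((s : ℚ) + t)) - 8 * (N : ℚ) * ((s : ℚ) * t)) -
      (8 * (N : ℚ) - 4 * ((d' : ℚ) * ((m + m : ℕ) : ℚ))) *
        (((d : ℚ) * ((m + m : ℕ) : ℚ)) * (((s : ℚ) * t + 1) * ((s : ℚ) + t)) - 8 * (N : ℚ) * ((s : ℚ) * t)))) /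
      ((8 * (N : ℚ) - 4 * ((d' : ℚ) * ((m + m : ℕ) : ℚ))) *
          (2 * ((d : ℚ) * ((m + m : ℕ) : ℚ)) * (((s : ℚ) - 1) * ((t : ℚ) - 1))) +
        (8 * (N : ℚ) - 4 * ((d : ℚ) * ((m + m : ℕ) : ℚ))) *
          (2 * ((d' : ℚ) * ((m + m : ℕ) : ℚ)) * (((s : ℚ) - 1) * ((t : ℚ) - 1)))), ?_⟩
  have hpos' := hpos.ne'
  push_cast at hpos' heq
  rw [Rat.cast_div, eq_div_iff (by push_cast; exact hpos')]
  push_cast
  linarith

/-- The odd case: `s = t`, and `x_1` is rational. -/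
theorem odd_rat (n : ℕ) (s N d : ℕ) (hn : 3 ≤ n) (hs : 2 ≤ s) (hN : 0 < N)
    (hd : (d : ℝ) * ((n : ℝ) * ((s : ℝ) * s + 1 - 2 * xj n s s 1) * ((s : ℝ) + s + 2 * xj n s s 1)) =
        8 * (N : ℝ) * ((s : ℝ) * s - xj n s s 1 ^ 2)) :
    ∃ q : ℚ, xj n s s 1 = q := by
  have hs' : (2 : ℝ) ≤ s := by exact_mod_cast hs
  have hN' : (0 : ℝ) < N := by exact_mod_cast hN
  have hst : (0 : ℝ) < (s : ℝ) * s := by positivity
  have hx := xj_sq_lt n s s hst 1 le_rfl (by omega)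
  set x := xj n s s 1 with hxdef
  -- s + x > 0
  have hsx : 0 < (s : ℝ) + x := by nlinarith
  have e1 : ((s : ℝ) + x) * ((d : ℝ) * n * ((s : ℝ) * s + 1 - 2 * x)) =
      ((s : ℝ) + x) * (4 * (N : ℝ) * ((s : ℝ) - x)) := by linear_combination (1 / 2 : ℝ) * hd
  have e2 := mul_left_cancel₀ hsx.ne' e1
  have hne : 4 * (N : ℝ) - 2 * ((d : ℝ) * n) ≠ 0 := by
    intro h0
    have h1 : (d : ℝ) * n = 2 * N := by linarith
    rw [h1] at e2
    have h2 : (N : ℝ) * (((s : ℝ) - 1) ^ 2) = 0 := by linear_combination (1 / 2 : ℝ) * e2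
    rcases mul_eq_zero.mp h2 with h3 | h3
    · linarith
    · have : (s : ℝ) - 1 = 0 := by
        exact pow_eq_zero_iff (two_ne_zero) |>.mp h3
      linarith
  refine ⟨(4 * (N : ℚ) * s - (d : ℚ) * n * ((s : ℚ) * s + 1)) / (4 * (N : ℚ) - 2 * ((d : ℚ) * n)), ?_⟩
  rw [Rat.cast_div, eq_div_iff (by push_cast; exact hne)]
  push_cast
  linear_combination e2

end Cfsg.Agent.Helper13.FHD

namespace Cfsg.Agent.Helper16.FH

open Real Cfsg.Agent.Helper13.FHD

theorem fh_arith (n : ℕ) (hn : 2 ≤ n) (s t N : ℕ) (hs : 2 ≤ s) (ht : 2 ≤ t) (hN : 0 < N)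
    (hodd : Odd n → s = t)
    (h : ∀ j : ℕ, 1 ≤ j → 2 * j < n → ∃ d : ℕ,
      (d : ℝ) * ((n : ℝ) * ((s : ℝ) * t + 1 - 2 * xj n s t j) * ((s : ℝ) + t + 2 * xj n s t j)) =
        8 * (N : ℝ) * ((s : ℝ) * t - xj n s t j ^ 2)) :
    n ∈ ({2, 3, 4, 6, 8} : Set ℕ) := by
  simp only [Set.mem_insert_iff, Set.mem_singleton_iff]
  have hs' : (2 : ℝ) ≤ s := by exact_mod_cast hs
  have ht' : (2 : ℝ) ≤ t := by exact_mod_cast ht
  have hst : (0 : ℝ) < (s : ℝ) * t := by positivity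
  rcases Nat.even_or_odd n with he | ho
  · obtain ⟨m, rfl⟩ := he
    rcases Nat.lt_or_ge m 3 with hm3 | hm3
    · have : m = 1 ∨ m = 2 := by omega
      rcases this with rfl | rfl
      · left; rfl
      · right; right; left; rfl
    · have hrat := even_rat m s t N hs ht hN h
      -- cos (2π / m) is rational
      obtain ⟨q1, hq1⟩ := hrat 1 le_rfl (by omega)
      have hm0 : (m : ℝ) ≠ 0 := by
        have : m ≠ 0 := by omega
        exact_mod_cast this
      have hcos : cos (2 * π / m) = 2 * cos (2 * π * ((1 : ℕ) : ℝ) / ((m + m : ℕ) : ℝ)) ^ 2 - 1 := by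
        have h2 : 2 * π / m = 2 * (2 * π * ((1 : ℕ) : ℝ) / ((m + m : ℕ) : ℝ)) := by
          push_cast
          field_simp
          ring
        rw [h2, cos_two_mul]
      have hx1 : xj (m + m) s t 1 ^ 2 = (s : ℝ) * t * cos (2 * π * ((1 : ℕ) : ℝ) / ((m + m : ℕ) : ℝ)) ^ 2 := by
        unfold xj
        rw [mul_pow, sq_sqrt hst.le]
      have hq : ∃ q : ℚ, cos (2 * π / m) = q := by
        refine ⟨2 * (q1 ^ 2 / ((s : ℚ) * t)) - 1, ?_⟩
        have h3 : cos (2 * π * ((1 : ℕ) : ℝ) / ((m + m : ℕ) : ℝ)) ^ 2 =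
            (q1 : ℝ) ^ 2 / ((s : ℝ) * t) := by
          rw [eq_div_iff hst.ne', ← hq1, hx1]; ring
        rw [hcos, h3]
        push_cast
        ring
      rcases niven_nat m hm3 hq with rfl | rfl | rfl
      · right; right; right; left; rfl
      · right; right; right; right; rfl
      · exfalso
        -- n = 12 : x₁ = √(st) √3 / 2, x₂ = √(st) / 2
        obtain ⟨q2, hq2⟩ := hrat 2 (by norm_num) (by norm_num)
        have hsq : 0 < Real.sqrt ((s : ℝ) * t) := Real.sqrt_pos.mpr hst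
        have h1 : xj (6 + 6) s t 1 = Real.sqrt ((s : ℝ) * t) * (Real.sqrt 3 / 2) := by
          unfold xj
          rw [← cos_pi_div_six]
          congr 2
          push_cast
          ring
        have h2 : xj (6 + 6) s t 2 = Real.sqrt ((s : ℝ) * t) * (1 / 2) := by
          unfold xj
          rw [← cos_pi_div_three]
          congr 2
          push_cast
          ring
        have hq2ne : (q2 : ℝ) ≠ 0 := by
          rw [← hq2, h2]; positivity
        have h3 : Real.sqrt 3 = (q1 / q2 : ℚ) := by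
          push_cast
          rw [eq_div_iff hq2ne, ← hq1, ← hq2, h1, h2]
          ring
        have hirr : Irrational (Real.sqrt (3 : ℕ)) := Nat.Prime.irrational_sqrt Nat.prime_three
        have h4 : Real.sqrt ((3 : ℕ) : ℝ) = (q1 / q2 : ℚ) := by
          rw [← h3]; norm_num
        exact hirr ⟨_, h4.symm⟩
  · have hst' : s = t := hodd ho
    subst hst'
    have hn3 : 3 ≤ n := by
      rcases ho with ⟨k, rfl⟩
      omega
    obtain ⟨d, hd⟩ := h 1 le_rfl (by omega)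
    obtain ⟨q, hq⟩ := odd_rat n s N d hn3 hs hN hd
    have hsq : Real.sqrt ((s : ℝ) * s) = s := Real.sqrt_mul_self (by positivity)
    have hs0 : (s : ℝ) ≠ 0 := by positivity
    have hcosq : ∃ q' : ℚ, cos (2 * π / n) = q' := by
      refine ⟨q / s, ?_⟩
      push_cast
      rw [eq_div_iff hs0, ← hq]
      unfold xj
      rw [hsq]
      push_cast
      ring_nf
    rcases niven_nat n hn3 hcosq with rfl | rfl | rfl
    · right; left; rfl
    · exfalso; revert ho; decide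
    · exfalso; revert ho; decide

end Cfsg.Agent.Helper16.FH
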