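import Mathlib

set_option autoImplicit false

namespace Cfsg.Agent.Helper13

theorem two_adic_decomp (N : ℕ) (hN : N ≠ 0) : ∃ N', Odd N' ∧ N = 2 ^ padicValNat 2 N * N' := by
  refine ⟨N / 2 ^ padicValNat 2 N, ?_, ?_⟩
  · have := Nat.not_dvd_ordCompl Nat.prime_two hN
    rw [Nat.factorization_def N Nat.prime_two] at this
    exact Nat.odd_iff.mpr (Nat.two_dvd_ne_zero.mp this)
  · have := Nat.ordProj_mul_ordCompl_eq_self N 2
    rw [Nat.factorization_def N Nat.prime_two] at this
    exact this.symm

theorem ff_neg_one_ne_one {F : Type*} [Field F] [Fintype F] (hq : Odd (Fintype.card F)) : (-1 : F) ≠ 1 := by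
  intro h
  have h2 : ringChar F = 2 := by
    have : (2 : F) = 0 := by
      have : (1 : F) + 1 = 0 := by
        nth_rewrite 1 [← h]; ring
      rw [← this]; norm_num
    have hdvd : ringChar F ∣ 2 := by
      apply ringChar.dvd
      exact_mod_cast this
    rcases (Nat.dvd_prime Nat.prime_two).mp hdvd with h1 | h1
    · exfalso
      have := CharP.ringChar_ne_one (R := F)
      exact this h1
    · exact h1
  have := FiniteField.even_card_of_char_two h2
  rcases hq with ⟨k, hk⟩
  omega

/-- `-1` is an `n`-th power in a finite field of odd order iff the 2-part of `n` is smaller than that of `q-1`. -/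
theorem exists_pow_eq_neg_one_iff {F : Type*} [Field F] [Fintype F] (hq : Odd (Fintype.card F)) {n : ℕ} (hn : 1 ≤ n) :
    (∃ c : F, c ^ n = -1) ↔ padicValNat 2 n < padicValNat 2 (Fintype.card F - 1) := by
  classical
  have hNpos : Fintype.card F - 1 ≠ 0 := by
    have := Fintype.one_lt_card (α := F)
    omega
  have hne := ff_neg_one_ne_one hq
  obtain ⟨N', hN'odd, hNdecomp⟩ := two_adic_decomp _ hNpos
  constructor
  · rintro ⟨c, hc⟩
    by_contra hlt
    rw [not_lt] at hlt
    have hc0 : c ≠ 0 := by
      rintro rfl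
      rw [zero_pow (by omega)] at hc
      have : (1 : F) = 0 := by
        have := congrArg (fun x => -x) hc
        simpa using this.symm
      exact one_ne_zero this
    have hdvd : 2 ^ padicValNat 2 (Fintype.card F - 1) ∣ n := by
      have h1 : 2 ^ padicValNat 2 n ∣ n := pow_padicValNat_dvd
      exact dvd_trans (pow_dvd_pow 2 hlt) h1
    obtain ⟨t, ht⟩ := hdvd
    have h1 : c ^ (n * N') = -1 := by
      rw [pow_mul, hc, hN'odd.neg_one_pow]
    have h2 : c ^ (n * N') = 1 := by
      have : n * N' = (Fintype.card F - 1) * t := by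
        conv_rhs => rw [hNdecomp]
        rw [ht]; ring
      rw [this, pow_mul, FiniteField.pow_card_sub_one_eq_one c hc0, one_pow]
    rw [h1] at h2
    exact hne h2
  · intro hlt
    set b := padicValNat 2 n with hb
    obtain ⟨g, hg⟩ := IsCyclic.exists_ofOrder_eq_natCard (α := Fˣ)
    have hcard : Nat.card Fˣ = Fintype.card F - 1 := by
      rw [Nat.card_eq_fintype_card, Fintype.card_units]
    rw [hcard] at hg
    have hdvdN : 2 ^ (b + 1) ∣ Fintype.card F - 1 := by
      have h1 : 2 ^ padicValNat 2 (Fintype.card F - 1) ∣ Fintype.card F - 1 := pow_padicValNat_dvd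
      exact dvd_trans (pow_dvd_pow 2 hlt) h1
    obtain ⟨s, hs⟩ := hdvdN
    have hs0 : s ≠ 0 := by
      rintro rfl
      rw [mul_zero] at hs
      exact hNpos hs
    have hωord : orderOf (g ^ s) = 2 ^ (b + 1) := by
      rw [orderOf_pow_of_dvd hs0 (by rw [hg, hs]; exact dvd_mul_left _ _), hg, hs]
      exact Nat.mul_div_cancel _ (Nat.pos_of_ne_zero hs0)
    set ω := g ^ s with hω
    have ht2 : ((ω : F) ^ (2 ^ b)) ^ 2 = 1 := by
      rw [← pow_mul, ← pow_succ, ← Units.val_pow_eq_pow_val, ← hωord, pow_orderOf_eq_one]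
      rfl
    have htne : (ω : F) ^ (2 ^ b) ≠ 1 := by
      intro h
      have h' : ω ^ (2 ^ b) = 1 := by
        apply Units.ext
        rw [Units.val_pow_eq_pow_val, h]; rfl
      have := orderOf_dvd_of_pow_eq_one h'
      rw [hωord] at this
      have := Nat.le_of_dvd (by positivity) this
      have h3 : 2 ^ b < 2 ^ (b + 1) := Nat.pow_lt_pow_right (by norm_num) (by omega)
      omega
    have ht : (ω : F) ^ (2 ^ b) = -1 := by
      rcases sq_eq_one_iff.mp ht2 with h | h
      · exact absurd h htne
      · exact h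
    obtain ⟨n', hn'odd, hndecomp⟩ := two_adic_decomp n (by omega)
    refine ⟨(ω : F), ?_⟩
    rw [hndecomp, pow_mul, ← hb, ht, hn'odd.neg_one_pow]

end Cfsg.Agent.Helper13
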