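import Mathlib

set_option autoImplicit false
set_option linter.style.haveILetI false

/-!
# The binary octahedral group as `4 × 4` matrices over `𝔽₁₃`, acting fixed point freely
-/

namespace Cfsg.Agent.Helper13.Frob2O

abbrev M4 := Matrix (Fin 4) (Fin 4) (ZMod 13)

def Lf : Fin 48 → M4 := ![
  !![0, 0, 0, 1; 0, 0, 8, 0; 0, 8, 0, 0; 12, 0, 0, 0],
  !![0, 0, 0, 5; 0, 0, 1, 0; 0, 12, 0, 0; 5, 0, 0, 0],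
  !![0, 0, 0, 8; 0, 0, 12, 0; 0, 1, 0, 0; 8, 0, 0, 0],
  !![0, 0, 0, 12; 0, 0, 5, 0; 0, 5, 0, 0; 1, 0, 0, 0],
  !![0, 0, 1, 0; 0, 0, 0, 1; 12, 0, 0, 0; 0, 12, 0, 0],
  !![0, 0, 5, 0; 0, 0, 0, 5; 5, 0, 0, 0; 0, 5, 0, 0],
  !![0, 0, 8, 0; 0, 0, 0, 8; 8, 0, 0, 0; 0, 8, 0, 0],
  !![0, 0, 12, 0; 0, 0, 0, 12; 1, 0, 0, 0; 0, 1, 0, 0],
  !![0, 1, 0, 0; 8, 0, 0, 0; 0, 0, 0, 5; 0, 0, 1, 0],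
  !![0, 2, 0, 2; 3, 0, 3, 0; 0, 2, 0, 11; 3, 0, 10, 0],
  !![0, 2, 0, 3; 3, 0, 11, 0; 0, 10, 0, 11; 2, 0, 10, 0],
  !![0, 2, 0, 10; 3, 0, 2, 0; 0, 3, 0, 11; 11, 0, 10, 0],
  !![0, 2, 0, 11; 3, 0, 10, 0; 0, 11, 0, 11; 10, 0, 10, 0],
  !![0, 3, 0, 2; 11, 0, 3, 0; 0, 2, 0, 3; 3, 0, 11, 0],
  !![0, 3, 0, 3; 11, 0, 11, 0; 0, 10, 0, 3; 2, 0, 11, 0],
  !![0, 3, 0, 10; 11, 0, 2, 0; 0, 3, 0, 3; 11, 0, 11, 0],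
  !![0, 3, 0, 11; 11, 0, 10, 0; 0, 11, 0, 3; 10, 0, 11, 0],
  !![0, 5, 0, 0; 1, 0, 0, 0; 0, 0, 0, 1; 0, 0, 8, 0],
  !![0, 8, 0, 0; 12, 0, 0, 0; 0, 0, 0, 12; 0, 0, 5, 0],
  !![0, 10, 0, 2; 2, 0, 3, 0; 0, 2, 0, 10; 3, 0, 2, 0],
  !![0, 10, 0, 3; 2, 0, 11, 0; 0, 10, 0, 10; 2, 0, 2, 0],
  !![0, 10, 0, 10; 2, 0, 2, 0; 0, 3, 0, 10; 11, 0, 2, 0],
  !![0, 10, 0, 11; 2, 0, 10, 0; 0, 11, 0, 10; 10, 0, 2, 0],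
  !![0, 11, 0, 2; 10, 0, 3, 0; 0, 2, 0, 2; 3, 0, 3, 0],
  !![0, 11, 0, 3; 10, 0, 11, 0; 0, 10, 0, 2; 2, 0, 3, 0],
  !![0, 11, 0, 10; 10, 0, 2, 0; 0, 3, 0, 2; 11, 0, 3, 0],
  !![0, 11, 0, 11; 10, 0, 10, 0; 0, 11, 0, 2; 10, 0, 3, 0],
  !![0, 12, 0, 0; 5, 0, 0, 0; 0, 0, 0, 8; 0, 0, 12, 0],
  !![1, 0, 0, 0; 0, 1, 0, 0; 0, 0, 1, 0; 0, 0, 0, 1],
  !![2, 0, 2, 0; 0, 2, 0, 2; 3, 0, 10, 0; 0, 3, 0, 10],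
  !![2, 0, 3, 0; 0, 2, 0, 3; 2, 0, 10, 0; 0, 2, 0, 10],
  !![2, 0, 10, 0; 0, 2, 0, 10; 11, 0, 10, 0; 0, 11, 0, 10],
  !![2, 0, 11, 0; 0, 2, 0, 11; 10, 0, 10, 0; 0, 10, 0, 10],
  !![3, 0, 2, 0; 0, 3, 0, 2; 3, 0, 11, 0; 0, 3, 0, 11],
  !![3, 0, 3, 0; 0, 3, 0, 3; 2, 0, 11, 0; 0, 2, 0, 11],
  !![3, 0, 10, 0; 0, 3, 0, 10; 11, 0, 11, 0; 0, 11, 0, 11],
  !![3, 0, 11, 0; 0, 3, 0, 11; 10, 0, 11, 0; 0, 10, 0, 11],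
  !![5, 0, 0, 0; 0, 5, 0, 0; 0, 0, 8, 0; 0, 0, 0, 8],
  !![8, 0, 0, 0; 0, 8, 0, 0; 0, 0, 5, 0; 0, 0, 0, 5],
  !![10, 0, 2, 0; 0, 10, 0, 2; 3, 0, 2, 0; 0, 3, 0, 2],
  !![10, 0, 3, 0; 0, 10, 0, 3; 2, 0, 2, 0; 0, 2, 0, 2],
  !![10, 0, 10, 0; 0, 10, 0, 10; 11, 0, 2, 0; 0, 11, 0, 2],
  !![10, 0, 11, 0; 0, 10, 0, 11; 10, 0, 2, 0; 0, 10, 0, 2],
  !![11, 0, 2, 0; 0, 11, 0, 2; 3, 0, 3, 0; 0, 3, 0, 3],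
  !![11, 0, 3, 0; 0, 11, 0, 3; 2, 0, 3, 0; 0, 2, 0, 3],
  !![11, 0, 10, 0; 0, 11, 0, 10; 11, 0, 3, 0; 0, 11, 0, 3],
  !![11, 0, 11, 0; 0, 11, 0, 11; 10, 0, 3, 0; 0, 10, 0, 3],
  !![12, 0, 0, 0; 0, 12, 0, 0; 0, 0, 12, 0; 0, 0, 0, 12]
]

def gA : M4 := !![0, 5, 0, 0; 1, 0, 0, 0; 0, 0, 0, 1; 0, 0, 8, 0]
def gB : M4 := !![0, 0, 1, 0; 0, 0, 0, 1; 12, 0, 0, 0; 0, 12, 0, 0]
def gC : M4 := !![2, 0, 3, 0; 0, 2, 0, 3; 2, 0, 10, 0; 0, 2, 0, 10]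
def gAi : M4 := !![0, 1, 0, 0; 8, 0, 0, 0; 0, 0, 0, 5; 0, 0, 1, 0]
def gBi : M4 := !![0, 0, 12, 0; 0, 0, 0, 12; 1, 0, 0, 0; 0, 1, 0, 0]
def gCi : M4 := !![10, 0, 10, 0; 0, 10, 0, 10; 11, 0, 2, 0; 0, 11, 0, 2]

def sA : Fin 48 → Fin 48 := ![4, 5, 6, 7, 1, 3, 0, 2, 28, 29, 30, 31, 32, 33, 34, 35, 36, 37, 38, 39, 40, 41, 42, 43, 44, 45, 46, 47, 17, 21, 19, 22, 20, 11, 9, 12, 10, 27, 8, 25, 23, 26, 24, 15, 13, 16, 14, 18]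
def sB : Fin 48 → Fin 48 := ![18, 27, 8, 17, 47, 37, 38, 28, 1, 12, 22, 16, 26, 10, 20, 14, 24, 0, 3, 11, 21, 15, 25, 9, 19, 13, 23, 2, 4, 35, 31, 45, 41, 36, 32, 46, 42, 6, 5, 33, 29, 43, 39, 34, 30, 44, 40, 7]
def sC : Fin 48 → Fin 48 := ![23, 21, 14, 12, 39, 31, 44, 36, 9, 22, 18, 0, 24, 27, 19, 10, 1, 20, 15, 2, 25, 16, 8, 11, 3, 17, 13, 26, 30, 6, 41, 46, 38, 32, 47, 4, 40, 42, 33, 35, 7, 28, 43, 37, 29, 34, 5, 45]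
def sAi : Fin 48 → Fin 48 := ![6, 4, 7, 5, 0, 1, 2, 3, 38, 34, 36, 33, 35, 44, 46, 43, 45, 28, 47, 30, 32, 29, 31, 40, 42, 39, 41, 37, 8, 9, 10, 11, 12, 13, 14, 15, 16, 17, 18, 19, 20, 21, 22, 23, 24, 25, 26, 27]
def sBi : Fin 48 → Fin 48 := ![17, 8, 27, 18, 28, 38, 37, 47, 2, 23, 13, 19, 9, 25, 15, 21, 11, 3, 0, 24, 14, 20, 10, 26, 16, 22, 12, 1, 7, 40, 44, 30, 34, 39, 43, 29, 33, 5, 6, 42, 46, 32, 36, 41, 45, 31, 35, 4]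
def sCi : Fin 48 → Fin 48 := ![11, 16, 19, 24, 35, 46, 29, 40, 22, 8, 15, 23, 3, 26, 2, 18, 21, 25, 10, 14, 17, 1, 9, 0, 12, 20, 27, 13, 41, 44, 28, 5, 33, 38, 45, 39, 7, 43, 32, 4, 36, 30, 37, 42, 6, 47, 31, 34]

-- identity index: 28

set_option maxRecDepth 100000 in
theorem hA : ∀ k : Fin 48, gA * Lf k = Lf (sA k) := by decide +kernel
set_option maxRecDepth 100000 in
theorem hB : ∀ k : Fin 48, gB * Lf k = Lf (sB k) := by decide +kernel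
set_option maxRecDepth 100000 in
theorem hC : ∀ k : Fin 48, gC * Lf k = Lf (sC k) := by decide +kernel
set_option maxRecDepth 100000 in
theorem hAi : ∀ k : Fin 48, gAi * Lf k = Lf (sAi k) := by decide +kernel
set_option maxRecDepth 100000 in
theorem hBi : ∀ k : Fin 48, gBi * Lf k = Lf (sBi k) := by decide +kernel
set_option maxRecDepth 100000 in
theorem hCi : ∀ k : Fin 48, gCi * Lf k = Lf (sCi k) := by decide +kernel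

theorem Lf_one : Lf 28 = 1 := by decide +kernel

theorem gA_inv : gA * gAi = 1 ∧ gAi * gA = 1 := by decide +kernel
theorem gB_inv : gB * gBi = 1 ∧ gBi * gB = 1 := by decide +kernel
theorem gC_inv : gC * gCi = 1 ∧ gCi * gC = 1 := by decide +kernel

/-- the property guaranteeing fixed-point-freeness and the order bound. -/
def Ok (a : M4) : Prop :=
  a = 1 ∨ a = -1 ∨ a * a = -1 ∨ (a * a) * (a * a) = -1 ∨ a * a * a = -1 ∨ a * a + a + 1 = 0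

instance : DecidablePred Ok := fun a => by unfold Ok; infer_instance

set_option maxRecDepth 100000 in
theorem ok_all : ∀ k : Fin 48, Ok (Lf k) := by decide +kernel

end Cfsg.Agent.Helper13.Frob2O
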