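import Mathlib

set_option autoImplicit false
set_option linter.style.haveILetI false

/-!
# The group `C₃ ⋊ Q₁₆` of order 48 as `4 × 4` matrices over `𝔽₇`, acting fixed point freely
-/

namespace Cfsg.Agent.Helper13.FrobK7

abbrev M4 := Matrix (Fin 4) (Fin 4) (ZMod 7)

def Lf : Fin 48 → M4 := ![
  !![0, 0, 0, 1; 0, 0, 1, 0; 0, 6, 0, 4; 6, 0, 4, 0],
  !![0, 0, 0, 2; 0, 0, 4, 0; 0, 5, 0, 1; 3, 0, 2, 0],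
  !![0, 0, 0, 3; 0, 0, 5, 0; 0, 4, 0, 5; 2, 0, 6, 0],
  !![0, 0, 0, 4; 0, 0, 2, 0; 0, 3, 0, 2; 5, 0, 1, 0],
  !![0, 0, 0, 5; 0, 0, 3, 0; 0, 2, 0, 6; 4, 0, 5, 0],
  !![0, 0, 0, 6; 0, 0, 6, 0; 0, 1, 0, 3; 1, 0, 3, 0],
  !![0, 1, 0, 2; 1, 0, 2, 0; 0, 6, 0, 6; 6, 0, 6, 0],
  !![0, 1, 0, 4; 4, 0, 2, 0; 0, 1, 0, 6; 4, 0, 3, 0],
  !![0, 1, 0, 5; 2, 0, 3, 0; 0, 2, 0, 0; 4, 0, 0, 0],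
  !![0, 2, 0, 1; 2, 0, 1, 0; 0, 2, 0, 5; 2, 0, 5, 0],
  !![0, 2, 0, 3; 1, 0, 5, 0; 0, 4, 0, 0; 2, 0, 0, 0],
  !![0, 2, 0, 4; 4, 0, 1, 0; 0, 5, 0, 5; 3, 0, 3, 0],
  !![0, 3, 0, 1; 3, 0, 1, 0; 0, 6, 0, 0; 6, 0, 0, 0],
  !![0, 3, 0, 5; 6, 0, 3, 0; 0, 3, 0, 4; 6, 0, 1, 0],
  !![0, 3, 0, 6; 5, 0, 3, 0; 0, 4, 0, 4; 2, 0, 2, 0],
  !![0, 4, 0, 1; 2, 0, 4, 0; 0, 3, 0, 3; 5, 0, 5, 0],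
  !![0, 4, 0, 2; 1, 0, 4, 0; 0, 4, 0, 3; 1, 0, 6, 0],
  !![0, 4, 0, 6; 4, 0, 6, 0; 0, 1, 0, 0; 1, 0, 0, 0],
  !![0, 5, 0, 3; 3, 0, 6, 0; 0, 2, 0, 2; 4, 0, 4, 0],
  !![0, 5, 0, 4; 6, 0, 2, 0; 0, 3, 0, 0; 5, 0, 0, 0],
  !![0, 5, 0, 6; 5, 0, 6, 0; 0, 5, 0, 2; 5, 0, 2, 0],
  !![0, 6, 0, 2; 5, 0, 4, 0; 0, 5, 0, 0; 3, 0, 0, 0],
  !![0, 6, 0, 3; 3, 0, 5, 0; 0, 6, 0, 1; 3, 0, 4, 0],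
  !![0, 6, 0, 5; 6, 0, 5, 0; 0, 1, 0, 1; 1, 0, 1, 0],
  !![1, 0, 0, 0; 0, 1, 0, 0; 0, 0, 1, 0; 0, 0, 0, 1],
  !![1, 0, 1, 0; 0, 1, 0, 1; 5, 0, 6, 0; 0, 5, 0, 6],
  !![1, 0, 3, 0; 0, 1, 0, 3; 4, 0, 6, 0; 0, 4, 0, 6],
  !![1, 0, 6, 0; 0, 4, 0, 3; 3, 0, 6, 0; 0, 5, 0, 3],
  !![2, 0, 0, 0; 0, 4, 0, 0; 0, 0, 2, 0; 0, 0, 0, 4],
  !![2, 0, 2, 0; 0, 4, 0, 4; 3, 0, 5, 0; 0, 6, 0, 3],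
  !![2, 0, 5, 0; 0, 2, 0, 5; 6, 0, 5, 0; 0, 6, 0, 5],
  !![2, 0, 6, 0; 0, 4, 0, 5; 1, 0, 5, 0; 0, 2, 0, 3],
  !![3, 0, 0, 0; 0, 5, 0, 0; 0, 0, 3, 0; 0, 0, 0, 5],
  !![3, 0, 2, 0; 0, 5, 0, 1; 5, 0, 4, 0; 0, 6, 0, 2],
  !![3, 0, 3, 0; 0, 5, 0, 5; 1, 0, 4, 0; 0, 4, 0, 2],
  !![3, 0, 4, 0; 0, 6, 0, 1; 2, 0, 4, 0; 0, 4, 0, 1],
  !![4, 0, 0, 0; 0, 2, 0, 0; 0, 0, 4, 0; 0, 0, 0, 2],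
  !![4, 0, 3, 0; 0, 1, 0, 6; 5, 0, 3, 0; 0, 3, 0, 6],
  !![4, 0, 4, 0; 0, 2, 0, 2; 6, 0, 3, 0; 0, 3, 0, 5],
  !![4, 0, 5, 0; 0, 2, 0, 6; 2, 0, 3, 0; 0, 1, 0, 5],
  !![5, 0, 0, 0; 0, 3, 0, 0; 0, 0, 5, 0; 0, 0, 0, 3],
  !![5, 0, 1, 0; 0, 3, 0, 2; 6, 0, 2, 0; 0, 5, 0, 4],
  !![5, 0, 2, 0; 0, 5, 0, 2; 1, 0, 2, 0; 0, 1, 0, 2],
  !![5, 0, 5, 0; 0, 3, 0, 3; 4, 0, 2, 0; 0, 1, 0, 4],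
  !![6, 0, 0, 0; 0, 6, 0, 0; 0, 0, 6, 0; 0, 0, 0, 6],
  !![6, 0, 1, 0; 0, 3, 0, 4; 4, 0, 1, 0; 0, 2, 0, 4],
  !![6, 0, 4, 0; 0, 6, 0, 4; 3, 0, 1, 0; 0, 3, 0, 1],
  !![6, 0, 6, 0; 0, 6, 0, 6; 2, 0, 1, 0; 0, 2, 0, 1]
]

def gA : M4 := !![0, 0, 0, 6; 0, 0, 6, 0; 0, 1, 0, 3; 1, 0, 3, 0]
def gB : M4 := !![1, 0, 1, 0; 0, 1, 0, 1; 5, 0, 6, 0; 0, 5, 0, 6]
def gC : M4 := !![2, 0, 0, 0; 0, 4, 0, 0; 0, 0, 2, 0; 0, 0, 0, 4]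
def gAi : M4 := !![0, 3, 0, 1; 3, 0, 1, 0; 0, 6, 0, 0; 6, 0, 0, 0]
def gBi : M4 := !![6, 0, 6, 0; 0, 6, 0, 6; 2, 0, 1, 0; 0, 2, 0, 1]
def gCi : M4 := !![4, 0, 0, 0; 0, 2, 0, 0; 0, 0, 4, 0; 0, 0, 0, 2]

def sA : Fin 48 → Fin 48 := ![26, 39, 41, 31, 33, 46, 25, 35, 32, 42, 40, 38, 24, 27, 43, 29, 45, 44, 34, 28, 30, 36, 37, 47, 5, 9, 12, 11, 2, 7, 6, 19, 1, 8, 13, 14, 4, 15, 16, 21, 3, 10, 23, 22, 0, 18, 17, 20]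
def sB : Fin 48 → Fin 48 := ![23, 18, 15, 14, 11, 6, 0, 10, 13, 17, 22, 1, 9, 21, 2, 3, 8, 20, 4, 7, 12, 16, 19, 5, 25, 44, 42, 39, 29, 40, 26, 35, 34, 27, 36, 41, 38, 31, 32, 45, 43, 37, 46, 28, 47, 33, 30, 24]
def sC : Fin 48 → Fin 48 := ![1, 3, 5, 0, 2, 4, 11, 9, 10, 16, 17, 15, 21, 22, 23, 6, 7, 8, 14, 12, 13, 19, 20, 18, 28, 29, 31, 30, 36, 38, 37, 39, 44, 46, 47, 45, 24, 27, 25, 26, 32, 33, 35, 34, 40, 42, 41, 43]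
def sAi : Fin 48 → Fin 48 := ![44, 32, 28, 40, 36, 24, 30, 29, 33, 25, 41, 27, 26, 34, 35, 37, 38, 46, 45, 31, 47, 39, 43, 42, 12, 6, 0, 13, 19, 15, 20, 3, 8, 4, 18, 7, 21, 22, 11, 1, 10, 2, 9, 14, 17, 16, 5, 23]
def sBi : Fin 48 → Fin 48 := ![6, 11, 14, 15, 18, 23, 5, 19, 16, 12, 7, 4, 20, 8, 3, 2, 21, 9, 1, 22, 17, 13, 10, 0, 47, 24, 30, 33, 43, 28, 46, 37, 38, 45, 32, 31, 34, 41, 36, 27, 29, 35, 26, 40, 25, 39, 42, 44]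
def sCi : Fin 48 → Fin 48 := ![3, 0, 4, 1, 5, 2, 15, 16, 17, 7, 8, 6, 19, 20, 18, 11, 9, 10, 23, 21, 22, 12, 13, 14, 36, 38, 39, 37, 24, 25, 27, 26, 40, 41, 43, 42, 28, 30, 29, 31, 44, 46, 45, 47, 32, 35, 33, 34]

-- identity index: 24

set_option maxRecDepth 100000 in
theorem hA : ∀ k : Fin 48, gA * Lf k = Lf (sA k) := by decide +kernel
set_option maxRecDepth 100000 in
theorem hB : ∀ k : Fin 48, gB * Lf k = Lf (sB k) := by decide +kernel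
set_option maxRecDepth 100000 in
theorem hC : ∀ k : Fin 48, gC * Lf k = Lf (sC k) := by decide +kernel
set_option maxRecDepth 100000 in
theorem hAi : ∀ k : Fin 48, gAi * Lf k = Lf (sAi k) := by decide +kernel
set_option maxRecDepth 100000 in
theorem hBi : ∀ k : Fin 48, gBi * Lf k = Lf (sBi k) := by decide +kernel
set_option maxRecDepth 100000 in
theorem hCi : ∀ k : Fin 48, gCi * Lf k = Lf (sCi k) := by decide +kernel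

theorem Lf_one : Lf 24 = 1 := by decide +kernel

theorem gA_inv : gA * gAi = 1 ∧ gAi * gA = 1 := by decide +kernel
theorem gB_inv : gB * gBi = 1 ∧ gBi * gB = 1 := by decide +kernel
theorem gC_inv : gC * gCi = 1 ∧ gCi * gC = 1 := by decide +kernel

/-- the property guaranteeing fixed-point-freeness and the order bound. -/
def Ok (a : M4) : Prop :=
  a = 1 ∨ a = -1 ∨ a * a = -1 ∨ (a * a) * (a * a) = -1 ∨ a * a * a = -1 ∨ a * a + a + 1 = 0 ∨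
    (a * a * a) * (a * a * a) = -1

instance : DecidablePred Ok := fun a => by unfold Ok; infer_instance

set_option maxRecDepth 100000 in
theorem ok_all : ∀ k : Fin 48, Ok (Lf k) := by decide +kernel

end Cfsg.Agent.Helper13.FrobK7
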