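import Mathlib
import Cfsg.Agent.Helper13.FrobK7Data
import Cfsg.Agent.S3532
import Cfsg.Agent.Helper24.Burnside

set_option autoImplicit false
set_option linter.style.haveILetI false

/-!
# The Frobenius group `7⁴ : (C₃ ⋊ Q₁₆)`: solvable with element orders `1,2,3,4,6,7,8,12`.
-/

namespace Cfsg.Agent.Helper13.FrobK7

section ok

instance fact7' : Fact (Nat.Prime 7) := ⟨by norm_num⟩

theorem pow_of_ok (a : M4) (h : Ok a) : a ^ 8 = 1 ∨ a ^ 12 = 1 := by
  rcases h with h | h | h | h | h | h | h
  · left; rw [h, one_pow]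
  · left; rw [h]; exact Even.neg_one_pow (by decide)
  · left
    have : a ^ 8 = (a * a) ^ 4 := by rw [← pow_two, ← pow_mul]
    rw [this, h]; exact Even.neg_one_pow (by decide)
  · left
    have : a ^ 8 = ((a * a) * (a * a)) ^ 2 := by
      rw [← pow_two, ← pow_two, ← pow_mul, ← pow_mul]
    rw [this, h]; exact Even.neg_one_pow (by decide)
  · right
    have : a ^ 12 = (a * a * a) ^ 4 := by
      rw [← pow_two, ← pow_succ, ← pow_mul]
    rw [this, h]; exact Even.neg_one_pow (by decide)
  · right
    have h3 : a ^ 3 = 1 := by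
      have : a ^ 3 - 1 = (a - 1) * (a * a + a + 1) := by noncomm_ring
      rw [h, mul_zero, sub_eq_zero] at this
      exact this
    have : a ^ 12 = (a ^ 3) ^ 4 := by rw [← pow_mul]
    rw [this, h3, one_pow]
  · right
    have e3 : a * a * a = a ^ 3 := by rw [pow_succ, pow_two]
    rw [e3] at h
    have : a ^ 12 = (a ^ 3 * a ^ 3) ^ 2 := by rw [← pow_add, ← pow_mul]
    rw [this, h]; exact Even.neg_one_pow (by decide)

theorem smul_eq_zero_7 (c : ZMod 7) (hc : c ≠ 0) (v : Fin 4 → ZMod 7) (h : c • v = 0) : v = 0 := by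
  rcases smul_eq_zero.mp h with h' | h'
  · exact absurd h' hc
  · exact h'

theorem fpf_of_ok (a : M4) (h : Ok a) (hne : a ≠ 1) (v : Fin 4 → ZMod 7)
    (hv : a.mulVec v = v) : v = 0 := by
  have hpow : ∀ n : ℕ, (a ^ n).mulVec v = v := by
    intro n
    induction n with
    | zero => simp
    | succ n ih => rw [pow_succ, ← Matrix.mulVec_mulVec, hv, ih]
  have hneg : ∀ n : ℕ, a ^ n = -1 → v = 0 := by
    intro n hn
    have := hpow n
    rw [hn, Matrix.neg_mulVec, Matrix.one_mulVec] at this
    apply smul_eq_zero_7 2 (by decide) v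
    rw [two_smul]
    nth_rewrite 1 [← this]
    exact neg_add_cancel v
  rcases h with h | h | h | h | h | h | h
  · exact absurd h hne
  · exact hneg 1 (by rw [pow_one, h])
  · exact hneg 2 (by rw [pow_two, h])
  · exact hneg 4 (by
      have : a ^ 4 = (a * a) * (a * a) := by rw [← pow_two, ← pow_two, ← pow_mul]
      rw [this, h])
  · exact hneg 3 (by
      have : a ^ 3 = a * a * a := by rw [← pow_two, ← pow_succ]
      rw [this, h])
  · have := congrArg (fun M : M4 => M.mulVec v) h
    simp only [Matrix.add_mulVec, Matrix.zero_mulVec, Matrix.one_mulVec] at this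
    rw [← Matrix.mulVec_mulVec, hv, hv] at this
    apply smul_eq_zero_7 3 (by decide) v
    rw [← this]
    module
  · exact hneg 6 (by
      have e3 : a * a * a = a ^ 3 := by rw [pow_succ, pow_two]
      rw [e3] at h
      have : a ^ 6 = a ^ 3 * a ^ 3 := by rw [← pow_add]
      rw [this, h])

end ok

section K

def uA : M4ˣ := ⟨gA, gAi, gA_inv.1, gA_inv.2⟩
def uB : M4ˣ := ⟨gB, gBi, gB_inv.1, gB_inv.2⟩
def uC : M4ˣ := ⟨gC, gCi, gC_inv.1, gC_inv.2⟩

/-- the group `C₃ ⋊ Q₁₆`. -/
def K : Subgroup M4ˣ := Subgroup.closure {uA, uB, uC}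

theorem mem_K (g : M4ˣ) (hg : g ∈ K) : ∃ k : Fin 48, (g : M4) = Lf k := by
  unfold K at hg
  induction hg using Subgroup.closure_induction_left with
  | one => exact ⟨24, Lf_one.symm⟩
  | mul_left x hx y hy ih =>
    obtain ⟨k, hk⟩ := ih
    simp only [Set.mem_insert_iff, Set.mem_singleton_iff] at hx
    rcases hx with rfl | rfl | rfl
    · exact ⟨sA k, by rw [Units.val_mul, hk]; exact hA k⟩
    · exact ⟨sB k, by rw [Units.val_mul, hk]; exact hB k⟩
    · exact ⟨sC k, by rw [Units.val_mul, hk]; exact hC k⟩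
  | inv_mul_cancel x hx y hy ih =>
    obtain ⟨k, hk⟩ := ih
    simp only [Set.mem_insert_iff, Set.mem_singleton_iff] at hx
    rcases hx with rfl | rfl | rfl
    · exact ⟨sAi k, by rw [Units.val_mul, hk]; exact hAi k⟩
    · exact ⟨sBi k, by rw [Units.val_mul, hk]; exact hBi k⟩
    · exact ⟨sCi k, by rw [Units.val_mul, hk]; exact hCi k⟩

theorem ok_K (g : M4ˣ) (hg : g ∈ K) : Ok (g : M4) := by
  obtain ⟨k, hk⟩ := mem_K g hg
  rw [hk]
  exact ok_all k

theorem pow_K (g : K) : g ^ 8 = 1 ∨ g ^ 12 = 1 := by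
  rcases pow_of_ok _ (ok_K g.1 g.2) with h | h
  · left
    apply Subtype.ext
    apply Units.ext
    rw [Subgroup.coe_pow, Units.val_pow_eq_pow_val, h]
    rfl
  · right
    apply Subtype.ext
    apply Units.ext
    rw [Subgroup.coe_pow, Units.val_pow_eq_pow_val, h]
    rfl

theorem fpf_K (g : K) (hne : g ≠ 1) (v : Fin 4 → ZMod 7)
    (hv : ((g : M4ˣ) : M4).mulVec v = v) : v = 0 := by
  apply fpf_of_ok _ (ok_K g.1 g.2) _ v hv
  intro h
  apply hne
  apply Subtype.ext
  apply Units.ext
  rw [h]
  rfl

end K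

section semidirect

abbrev V4 := Multiplicative (Fin 4 → ZMod 7)

/-- the action of a matrix unit on column vectors. -/
def matAct : M4ˣ →* MulAut V4 where
  toFun u :=
    { toFun := fun v => Multiplicative.ofAdd ((u : M4).mulVec (Multiplicative.toAdd v))
      invFun := fun v => Multiplicative.ofAdd ((u⁻¹ : M4ˣ).val.mulVec (Multiplicative.toAdd v))
      left_inv := fun v => by
        apply Multiplicative.toAdd.injective
        simp only [toAdd_ofAdd, Matrix.mulVec_mulVec]
        rw [← Units.val_mul, inv_mul_cancel]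
        simp
      right_inv := fun v => by
        apply Multiplicative.toAdd.injective
        simp only [toAdd_ofAdd, Matrix.mulVec_mulVec]
        rw [← Units.val_mul, mul_inv_cancel]
        simp
      map_mul' := fun v w => by
        apply Multiplicative.toAdd.injective
        simp only [toAdd_ofAdd, toAdd_mul, Matrix.mulVec_add] }
  map_one' := by
    apply MulEquiv.ext
    intro v
    apply Multiplicative.toAdd.injective
    change ((1 : M4ˣ) : M4).mulVec (Multiplicative.toAdd v) = Multiplicative.toAdd v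
    rw [Units.val_one, Matrix.one_mulVec]
  map_mul' a b := by
    apply MulEquiv.ext
    intro v
    apply Multiplicative.toAdd.injective
    change ((a * b : M4ˣ) : M4).mulVec (Multiplicative.toAdd v) =
      (a : M4).mulVec ((b : M4).mulVec (Multiplicative.toAdd v))
    rw [Matrix.mulVec_mulVec, Units.val_mul]

theorem matAct_apply (u : M4ˣ) (v : V4) :
    matAct u v = Multiplicative.ofAdd ((u : M4).mulVec (Multiplicative.toAdd v)) := rfl

/-- the Frobenius group `7⁴ : (C₃ ⋊ Q₁₆)`. -/
abbrev HG := V4 ⋊[matAct.comp K.subtype] K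

instance : Finite K := inferInstance

instance : Finite HG := Finite.of_equiv _ SemidirectProduct.equivProd.symm

theorem pow_seven (v : V4) : v ^ 7 = 1 := by
  apply Multiplicative.toAdd.injective
  rw [toAdd_pow, toAdd_one]
  ext i
  simp only [Pi.smul_apply, Pi.zero_apply, nsmul_eq_mul]
  have : ((7 : ℕ) : ZMod 7) = 0 := by decide
  rw [this, zero_mul]

theorem orderOf_K_mem (g : K) : orderOf g ∈ ({1, 2, 3, 4, 6, 8, 12} : Set ℕ) := by
  rcases pow_K g with h | h
  · have h1 : orderOf g ∈ Nat.divisors 8 := by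
      rw [Nat.mem_divisors]; exact ⟨orderOf_dvd_of_pow_eq_one h, by norm_num⟩
    have h2 : Nat.divisors 8 = {1, 2, 4, 8} := by decide
    rw [h2] at h1
    simp only [Finset.mem_insert, Finset.mem_singleton] at h1
    rcases h1 with h1 | h1 | h1 | h1 <;> rw [h1] <;> simp
  · have h1 : orderOf g ∈ Nat.divisors 12 := by
      rw [Nat.mem_divisors]; exact ⟨orderOf_dvd_of_pow_eq_one h, by norm_num⟩
    have h2 : Nat.divisors 12 = {1, 2, 3, 4, 6, 12} := by decide
    rw [h2] at h1
    simp only [Finset.mem_insert, Finset.mem_singleton] at h1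
    rcases h1 with h1 | h1 | h1 | h1 | h1 | h1 <;> rw [h1] <;> simp

theorem order_gA : orderOf gA = 8 :=
  orderOf_eq_prime_pow (p := 2) (n := 2) (by decide) (by decide)

theorem order_g12 : orderOf (gB * gC) = 12 := by
  apply orderOf_eq_of_pow_and_pow_div_prime (by norm_num)
  · decide
  · intro p hp hd
    have h12 : (12 : ℕ) = 2 ^ 2 * 3 := by norm_num
    rw [h12] at hd
    rcases (Nat.Prime.dvd_mul hp).mp hd with h | h
    · have := (Nat.prime_dvd_prime_iff_eq hp Nat.prime_two).mp (hp.dvd_of_dvd_pow h)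
      subst this
      decide
    · have := (Nat.prime_dvd_prime_iff_eq hp Nat.prime_three).mp h
      subst this
      decide

theorem uA_mem : uA ∈ K := Subgroup.subset_closure (by simp)
theorem uB_mem : uB ∈ K := Subgroup.subset_closure (by simp)
theorem uC_mem : uC ∈ K := Subgroup.subset_closure (by simp)

theorem orderOf_K_mk (g : M4ˣ) (hg : g ∈ K) :
    orderOf (⟨g, hg⟩ : K) = orderOf (g : M4) := by
  rw [← Subgroup.orderOf_coe, orderOf_units]

theorem range_orderOf_K : Set.range (orderOf : K → ℕ) = {1, 2, 3, 4, 6, 8, 12} := by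
  apply Set.Subset.antisymm
  · rintro _ ⟨g, rfl⟩
    exact orderOf_K_mem g
  · have h8 : ∀ n : ℕ, n ∣ 8 → n ∈ Set.range (orderOf : K → ℕ) := by
      intro n hn
      apply Cfsg.Agent.Helper13.PSL2Spec.mem_range_of_dvd (⟨uA, uA_mem⟩ : K) n
      rw [orderOf_K_mk]
      change n ∣ orderOf gA
      rw [order_gA]
      exact hn
    have h12 : ∀ n : ℕ, n ∣ 12 → n ∈ Set.range (orderOf : K → ℕ) := by
      intro n hn
      apply Cfsg.Agent.Helper13.PSL2Spec.mem_range_of_dvd
        (⟨uB * uC, K.mul_mem uB_mem uC_mem⟩ : K) n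
      rw [orderOf_K_mk, Units.val_mul]
      change n ∣ orderOf (gB * gC)
      rw [order_g12]
      exact hn
    intro n hn
    simp only [Set.mem_insert_iff, Set.mem_singleton_iff] at hn
    rcases hn with rfl | rfl | rfl | rfl | rfl | rfl | rfl
    · exact h8 1 (by norm_num)
    · exact h8 2 (by norm_num)
    · exact h12 3 (by norm_num)
    · exact h8 4 (by norm_num)
    · exact h12 6 (by norm_num)
    · exact h8 8 (by norm_num)
    · exact h12 12 (by norm_num)

theorem range_orderOf_HG : Set.range (orderOf : HG → ℕ) = {1, 2, 3, 4, 6, 7, 8, 12} := by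
  rw [Cfsg.Agent.S3532.range_orderOf_semidirect (matAct.comp K.subtype) 7 (by norm_num) pow_seven
    ⟨Multiplicative.ofAdd (Pi.single 0 1), by
      intro h
      have h2 := congrFun (congrArg Multiplicative.toAdd h) 0
      simp at h2⟩
    (by
      intro k hk v hv
      have hv' := fpf_K k hk (Multiplicative.toAdd v) (congrArg Multiplicative.toAdd hv)
      apply Multiplicative.toAdd.injective
      rw [hv']
      rfl), range_orderOf_K]
  ext n
  simp only [Set.mem_union, Set.mem_ofPred_eq, Set.mem_insert_iff, Set.mem_singleton_iff]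
  constructor
  · rintro (h | h)
    · rcases (Nat.dvd_prime (by norm_num : Nat.Prime 7)).mp h with h | h <;> simp [h]
    · rcases h with h | h | h | h | h | h | h <;> simp [h]
  · rintro (h | h | h | h | h | h | h | h)
    · right; simp [h]
    · right; simp [h]
    · right; simp [h]
    · right; simp [h]
    · right; simp [h]
    · left; rw [h]
    · right; simp [h]
    · right; simp [h]

end semidirect

section solvable

theorem two_three (n : ℕ) (hn : n ≠ 0) (h : ∀ p : ℕ, p.Prime → p ∣ n → p = 2 ∨ p = 3) :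
    ∃ a b : ℕ, n = 2 ^ a * 3 ^ b := by
  induction n using Nat.strong_induction_on with
  | _ n ih =>
    by_cases h1 : n = 1
    · exact ⟨0, 0, by rw [h1]; norm_num⟩
    · have hp := Nat.minFac_prime h1
      obtain ⟨m, hm⟩ := Nat.minFac_dvd n
      have hm0 : m ≠ 0 := by
        rintro rfl
        rw [mul_zero] at hm
        exact hn hm
      have hlt : m < n := by
        have := hp.two_le
        nlinarith [Nat.pos_of_ne_zero hm0]
      obtain ⟨a, b, hab⟩ := ih m hlt hm0 (fun p hp' hd => h p hp' (hm ▸ Dvd.dvd.mul_left hd _))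
      rcases h _ hp (Nat.minFac_dvd n) with h2 | h3
      · exact ⟨a + 1, b, by rw [hm, h2, hab]; ring⟩
      · exact ⟨a, b + 1, by rw [hm, h3, hab]; ring⟩

theorem K_solvable : Group.IsSolvable K := by
  have hexp : ∀ g : K, g ^ 24 = 1 := by
    intro g
    rcases pow_K g with h | h
    · have : g ^ 24 = (g ^ 8) ^ 3 := by rw [← pow_mul]
      rw [this, h, one_pow]
    · have : g ^ 24 = (g ^ 12) ^ 2 := by rw [← pow_mul]
      rw [this, h, one_pow]
  obtain ⟨a, b, hab⟩ := two_three (Nat.card K) Nat.card_pos.ne' (by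
    intro p hp hd
    haveI := Fact.mk hp
    obtain ⟨g, hg⟩ := exists_prime_orderOf_dvd_card' p hd
    have h24 : p ∣ 24 := by
      rw [← hg]
      exact orderOf_dvd_of_pow_eq_one (hexp g)
    have h24' : (24 : ℕ) = 2 ^ 3 * 3 := by norm_num
    rw [h24'] at h24
    rcases (Nat.Prime.dvd_mul hp).mp h24 with h | h
    · left
      exact (Nat.prime_dvd_prime_iff_eq hp Nat.prime_two).mp (hp.dvd_of_dvd_pow h)
    · right
      exact (Nat.prime_dvd_prime_iff_eq hp Nat.prime_three).mp h)
  exact Cfsg.Agent.Helper24.isSolvable_of_card_eq_prime_pow_mul 2 3 a b Nat.prime_two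
    Nat.prime_three hab

theorem HG_solvable : Group.IsSolvable HG := by
  haveI := K_solvable
  exact Cfsg.Agent.S3532.semidirect_solvable _

end solvable

end Cfsg.Agent.Helper13.FrobK7
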