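import Mathlib

/-!
Generic lemmas for the simplicity criterion of fusion systems of explicit groups: a self-normalising `p`-subgroup
is a Sylow subgroup, and the hypotheses of the criterion can be moved between Sylow subgroups.
-/

set_option autoImplicit false

namespace Cfsg.Agent.Helper13.FusionCrit

open Subgroup

section
variable {G : Type*} [Group G] [Finite G] {p : ℕ} [Fact p.Prime]

/-- a `p`-subgroup containing its normaliser is a Sylow subgroup -/
theorem exists_sylow_of_normalizer_le (P : Subgroup G) (hP : IsPGroup p P)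
    (hN : normalizer (P : Set G) ≤ P) : ∃ S : Sylow p G, (S : Subgroup G) = P := by
  obtain ⟨n, hn⟩ := IsPGroup.iff_card.mp hP
  have h1 := Sylow.card_quotient_normalizer_modEq_card_quotient (p := p) hn
  have h2 : Nat.card (normalizer (P : Set G) ⧸ P.comap (normalizer (P : Set G)).subtype) = 1 := by
    rw [Nat.card_eq_one_iff_unique]
    refine ⟨⟨?_⟩, ⟨QuotientGroup.mk 1⟩⟩
    intro a b
    obtain ⟨a, rfl⟩ := QuotientGroup.mk_surjective a
    obtain ⟨b, rfl⟩ := QuotientGroup.mk_surjective b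
    rw [QuotientGroup.eq, Subgroup.mem_comap]
    exact P.mul_mem (P.inv_mem (hN a.2)) (hN b.2)
  rw [h2] at h1
  have h3 : ¬ p ∣ P.index := by
    intro hd
    rw [Subgroup.index_eq_card] at hd
    have h4 : Nat.card (G ⧸ P) % p = 0 := Nat.mod_eq_zero_of_dvd hd
    have h5 : 1 % p = Nat.card (G ⧸ P) % p := h1
    rw [h4, Nat.mod_eq_of_lt (Fact.out : p.Prime).one_lt] at h5
    exact one_ne_zero h5
  exact ⟨hP.toSylow h3, rfl⟩

/-- moving the hypotheses of the simplicity criterion from one Sylow subgroup to another -/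
theorem transport (S0 S : Sylow p G) (h0 : (S0 : Subgroup G) ≠ ⊥)
    (ha0 : ∀ T : Subgroup G, T ≤ (S0 : Subgroup G) →
      (∀ t ∈ T, ∀ g : G, g * t * g⁻¹ ∈ (S0 : Subgroup G) → g * t * g⁻¹ ∈ T) → T = ⊥ ∨ T = (S0 : Subgroup G))
    (hb0 : normalizer ((S0 : Subgroup G) : Set G) ≤ (S0 : Subgroup G)) :
    (S : Subgroup G) ≠ ⊥ ∧
    (∀ T : Subgroup G, T ≤ (S : Subgroup G) →
      (∀ t ∈ T, ∀ g : G, g * t * g⁻¹ ∈ (S : Subgroup G) → g * t * g⁻¹ ∈ T) → T = ⊥ ∨ T = (S : Subgroup G)) ∧
    normalizer ((S : Subgroup G) : Set G) ≤ (S : Subgroup G) := by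
  obtain ⟨c, hc⟩ := MulAction.exists_smul_eq G S0 S
  have hmemS : ∀ x : G, x ∈ (S : Subgroup G) ↔ c⁻¹ * x * c ∈ (S0 : Subgroup G) := by
    intro x
    rw [← hc, Sylow.coe_subgroup_smul, Subgroup.mem_pointwise_smul_iff_inv_smul_mem, MulAut.smul_def,
      ← map_inv, MulAut.conj_apply, inv_inv]
  refine ⟨?_, ?_, ?_⟩
  · intro hS
    apply h0
    rw [Subgroup.eq_bot_iff_forall] at hS ⊢
    intro y hy
    have h3 : c⁻¹ * (c * y * c⁻¹) * c = y := by group
    have h4 : c * y * c⁻¹ ∈ (S : Subgroup G) := by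
      rw [hmemS, h3]
      exact hy
    have h5 := hS _ h4
    rw [← h3, h5]
    group
  · intro T hT hcl
    have hT'mem : ∀ x, x ∈ T.comap (MulAut.conj c).toMonoidHom ↔ c * x * c⁻¹ ∈ T := fun x => Iff.rfl
    have h1 := ha0 (T.comap (MulAut.conj c).toMonoidHom) ?_ ?_
    · rcases h1 with h1 | h1
      · left
        rw [Subgroup.eq_bot_iff_forall] at h1 ⊢
        intro t ht
        have h3 : c * (c⁻¹ * t * c) * c⁻¹ = t := by group
        have h4 : c⁻¹ * t * c ∈ T.comap (MulAut.conj c).toMonoidHom := by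
          rw [hT'mem, h3]
          exact ht
        have h5 := h1 _ h4
        rw [← h3, h5]
        group
      · right
        apply le_antisymm hT
        intro s hs
        have h4 : c⁻¹ * s * c ∈ T.comap (MulAut.conj c).toMonoidHom := by
          rw [h1]
          exact (hmemS s).mp hs
        rw [hT'mem] at h4
        have h3 : c * (c⁻¹ * s * c) * c⁻¹ = s := by group
        rwa [h3] at h4
    · intro x hx
      rw [hT'mem] at hx
      have h4 := (hmemS _).mp (hT hx)
      have h3 : c⁻¹ * (c * x * c⁻¹) * c = x := by group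
      rwa [h3] at h4
    · intro t ht g hg
      rw [hT'mem] at ht ⊢
      have h3 : c * (g * t * g⁻¹) * c⁻¹ = (c * g * c⁻¹) * (c * t * c⁻¹) * (c * g * c⁻¹)⁻¹ := by group
      rw [h3]
      apply hcl _ ht
      rw [← h3, hmemS]
      have h4 : c⁻¹ * (c * (g * t * g⁻¹) * c⁻¹) * c = g * t * g⁻¹ := by group
      rw [h4]
      exact hg
  · intro n hn
    rw [hmemS]
    apply hb0
    rw [Subgroup.mem_normalizer_iff] at hn ⊢
    intro h
    have h3 : c⁻¹ * n * c * h * (c⁻¹ * n * c)⁻¹ = c⁻¹ * (n * (c * h * c⁻¹) * n⁻¹) * c := by group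
    rw [h3]
    show h ∈ (S0 : Subgroup G) ↔ c⁻¹ * (n * (c * h * c⁻¹) * n⁻¹) * c ∈ (S0 : Subgroup G)
    rw [← hmemS]
    have h5 := hn (c * h * c⁻¹)
    have h6 : c * h * c⁻¹ ∈ ((S : Subgroup G) : Set G) ↔ h ∈ (S0 : Subgroup G) := by
      show c * h * c⁻¹ ∈ (S : Subgroup G) ↔ _
      rw [hmemS]
      have h4 : c⁻¹ * (c * h * c⁻¹) * c = h := by group
      rw [h4]
    rw [← h6]
    exact h5

/-- a finite subset of a group containing `1` and closed under products is closed under inverses -/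
theorem inv_mem_of_mul_closed (s : Set G) (h1 : (1 : G) ∈ s) (hm : ∀ a b, a ∈ s → b ∈ s → a * b ∈ s) :
    ∀ a ∈ s, a⁻¹ ∈ s := by
  intro a ha
  have hpow : ∀ k : ℕ, a ^ k ∈ s := by
    intro k
    induction k with
    | zero => rw [pow_zero]; exact h1
    | succ k ih => rw [pow_succ]; exact hm _ _ ih ha
  have hpos : 0 < orderOf a := orderOf_pos a
  have h2 : a * a ^ (orderOf a - 1) = 1 := by
    rw [← pow_succ', Nat.sub_add_cancel hpos, pow_orderOf_eq_one]
  rw [inv_eq_of_mul_eq_one_right h2]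
  exact hpow _

end

end Cfsg.Agent.Helper13.FusionCrit
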