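import Mathlib

set_option autoImplicit false

/-!
# Table machinery for `PSU₄(2) ≃* PSp₄(3)`

Matrices are packed into natural numbers (16 digits of 2 bits, row major); right multiplication by a fixed
matrix is a row-wise table lookup.  Soundness lemmas relate the packed arithmetic to matrices over a
field with four elements (`F`, with a root `ω` of `x² = x + 1`) and over a field of characteristic 3.
-/

namespace Cfsg.Agent.Helper13.U42

/-! ### packed arithmetic (kernel friendly: direct `Nat` primitives) -/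

/-- digit `p` (2 bits) -/
def dg (c p : ℕ) : ℕ := c / 4 ^ p % 4
/-- row `i` (8 bits) -/
def row (c i : ℕ) : ℕ := Nat.mod (Nat.shiftRight c (Nat.mul 8 i)) 256
/-- table lookup (8-bit entries) -/
def lk (V r : ℕ) : ℕ := Nat.mod (Nat.shiftRight V (Nat.mul 8 r)) 256
/-- row-wise table multiplication -/
def mulrow (V c : ℕ) : ℕ :=
  Nat.add (Nat.add (lk V (row c 0)) (Nat.mul 256 (lk V (row c 1))))
    (Nat.add (Nat.mul 65536 (lk V (row c 2))) (Nat.mul 16777216 (lk V (row c 3))))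

theorem row_eq (c i : ℕ) : row c i = c / 256 ^ i % 256 := by
  show (c >>> (8 * i)) % 256 = _
  rw [Nat.shiftRight_eq_div_pow, pow_mul]
  norm_num

theorem lk_eq (V r : ℕ) : lk V r = V / 256 ^ r % 256 := row_eq V r

theorem lk_lt (V r : ℕ) : lk V r < 256 := by
  rw [lk_eq]; exact Nat.mod_lt _ (by norm_num)

theorem row_lt (c i : ℕ) : row c i < 256 := lk_lt c i

theorem dg_lt (c p : ℕ) : dg c p < 4 := Nat.mod_lt _ (by norm_num)

theorem mulrow_eq (V c : ℕ) : mulrow V c =
    lk V (row c 0) + 256 * lk V (row c 1) + (65536 * lk V (row c 2) + 16777216 * lk V (row c 3)) := rfl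

/-- digits of a number assembled from four rows -/
theorem dg_assemble (a0 a1 a2 a3 : ℕ) (h0 : a0 < 256) (h1 : a1 < 256) (h2 : a2 < 256) (h3 : a3 < 256)
    (i j : Fin 4) :
    dg (a0 + 256 * a1 + (65536 * a2 + 16777216 * a3)) (4 * i.val + j.val) =
      dg (![a0, a1, a2, a3] i) j.val := by
  unfold dg
  fin_cases i <;> fin_cases j <;> simp <;> omega

/-- digits of a row -/
theorem dg_row (c : ℕ) (i j : Fin 4) : dg (row c i.val) j.val = dg c (4 * i.val + j.val) := by
  rw [row_eq]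
  unfold dg
  fin_cases i <;> fin_cases j <;> simp <;> omega

theorem dg_mulrow (V c : ℕ) (i j : Fin 4) :
    dg (mulrow V c) (4 * i.val + j.val) = dg (lk V (row c i.val)) j.val := by
  rw [mulrow_eq, dg_assemble _ _ _ _ (lk_lt _ _) (lk_lt _ _) (lk_lt _ _) (lk_lt _ _)]
  fin_cases i <;> rfl

/-! ### the field with four elements -/

section F4

variable {F : Type*} [Field F] (ω : F)

/-- `ω` generates a field with four elements inside `F` -/
structure IsF4 (ω : F) : Prop where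
  two : (2 : F) = 0
  sq : ω * ω = ω + 1

/-- decode a 2-bit code -/
def natToF (d : ℕ) : F := ((d % 2 : ℕ) : F) + ((d / 2 % 2 : ℕ) : F) * ω

/-- multiplication of codes -/
def f4mul (a b : ℕ) : ℕ := 0x9c78e400 / 4 ^ (4 * a + b) % 4

theorem f4mul_lt (a b : ℕ) : f4mul a b < 4 := Nat.mod_lt _ (by norm_num)

theorem xor_lt4 {a b : ℕ} (ha : a < 4) (hb : b < 4) : a ^^^ b < 4 :=
  Nat.xor_lt_two_pow (n := 2) ha hb

variable {ω}

theorem cast_mod_two (h : IsF4 ω) (m : ℕ) : ((m % 2 : ℕ) : F) = (m : F) := by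
  conv_rhs => rw [← Nat.div_add_mod m 2]
  push_cast
  rw [h.two]
  ring

theorem natToF_xor (h : IsF4 ω) {a b : ℕ} (ha : a < 4) (hb : b < 4) :
    natToF ω (a ^^^ b) = natToF ω a + natToF ω b := by
  have key : ∀ a < 4, ∀ b < 4, (a ^^^ b) % 2 = (a % 2 + b % 2) % 2 ∧
      (a ^^^ b) / 2 % 2 = (a / 2 % 2 + b / 2 % 2) % 2 := by decide
  obtain ⟨k1, k2⟩ := key a ha b hb
  unfold natToF
  rw [k1, k2, cast_mod_two h, cast_mod_two h]
  push_cast
  ring

theorem natToF_f4mul (h : IsF4 ω) {a b : ℕ} (ha : a < 4) (hb : b < 4) :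
    natToF ω (f4mul a b) = natToF ω a * natToF ω b := by
  have key : ∀ a < 4, ∀ b < 4,
      f4mul a b % 2 = ((a % 2) * (b % 2) + (a / 2 % 2) * (b / 2 % 2)) % 2 ∧
      f4mul a b / 2 % 2 =
        ((a % 2) * (b / 2 % 2) + (a / 2 % 2) * (b % 2) + (a / 2 % 2) * (b / 2 % 2)) % 2 := by
    decide
  obtain ⟨k1, k2⟩ := key a ha b hb
  unfold natToF
  rw [k1, k2, cast_mod_two h, cast_mod_two h]
  push_cast
  linear_combination (-(((a / 2 % 2 : ℕ) : F) * ((b / 2 % 2 : ℕ) : F))) * h.sq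

variable (ω)

/-- decode a packed matrix -/
def decM (c : ℕ) : Matrix (Fin 4) (Fin 4) F := fun i j => natToF ω (dg c (4 * i.val + j.val))

/-- correctness of a multiplication table for the fixed matrix with code `g` -/
def tabOK4 (V g : ℕ) : Prop :=
  ∀ r < 256, ∀ j < 4, dg (lk V r) j =
    f4mul (dg r 0) (dg g j) ^^^ f4mul (dg r 1) (dg g (4 + j)) ^^^ f4mul (dg r 2) (dg g (8 + j)) ^^^
      f4mul (dg r 3) (dg g (12 + j))

instance (V g : ℕ) : Decidable (tabOK4 V g) := by unfold tabOK4; infer_instance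

variable {ω}

theorem decM_mulrow (h : IsF4 ω) {V g : ℕ} (hV : tabOK4 V g) (c : ℕ) :
    decM ω c * decM ω g = decM ω (mulrow V c) := by
  ext i j
  rw [Matrix.mul_apply, Fin.sum_univ_four]
  simp only [decM]
  rw [dg_mulrow, hV (row c i.val) (row_lt _ _) j.val j.2]
  rw [natToF_xor h (xor_lt4 (xor_lt4 (f4mul_lt _ _) (f4mul_lt _ _)) (f4mul_lt _ _)) (f4mul_lt _ _),
    natToF_xor h (xor_lt4 (f4mul_lt _ _) (f4mul_lt _ _)) (f4mul_lt _ _),
    natToF_xor h (f4mul_lt _ _) (f4mul_lt _ _),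
    natToF_f4mul h (dg_lt _ _) (dg_lt _ _), natToF_f4mul h (dg_lt _ _) (dg_lt _ _),
    natToF_f4mul h (dg_lt _ _) (dg_lt _ _), natToF_f4mul h (dg_lt _ _) (dg_lt _ _)]
  have e0 := dg_row c i 0
  have e1 := dg_row c i 1
  have e2 := dg_row c i 2
  have e3 := dg_row c i 3
  simp only [Fin.val_zero, Fin.val_one, Fin.val_two, add_zero] at e0 e1 e2 e3
  have e3' : dg (row c i.val) 3 = dg c (4 * i.val + 3) := e3
  rw [e0, e1, e2, e3']
  simp only [Fin.val_zero, Fin.val_one, Fin.val_two, mul_zero, zero_add, mul_one, add_zero]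
  rfl

end F4

/-! ### characteristic 3 -/

section F3

variable {K : Type*} [Field K]

/-- numbering of `Fin 2 ⊕ Fin 2` -/
def ix : Fin 2 ⊕ Fin 2 → ℕ
  | .inl i => i.val
  | .inr i => 2 + i.val

theorem ix_lt (x : Fin 2 ⊕ Fin 2) : ix x < 4 := by
  rcases x with x | x <;> simp only [ix] <;> omega

variable (K) in
/-- decode a packed matrix over a field of characteristic 3 -/
def decK (c : ℕ) : Matrix (Fin 2 ⊕ Fin 2) (Fin 2 ⊕ Fin 2) K :=
  fun x y => ((dg c (4 * ix x + ix y) : ℕ) : K)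

/-- the row-times-matrix sum -/
def rsum (r g j : ℕ) : ℕ :=
  dg r 0 * dg g j + dg r 1 * dg g (4 + j) + dg r 2 * dg g (8 + j) + dg r 3 * dg g (12 + j)

/-- correctness of a multiplication table (mod 3) -/
def tabOK3 (V g : ℕ) : Prop := ∀ r < 256, ∀ j < 4, dg (lk V r) j % 3 = rsum r g j % 3

/-- correctness of a negated multiplication table (mod 3) -/
def tabOK3n (W g : ℕ) : Prop := ∀ r < 256, ∀ j < 4, (dg (lk W r) j + rsum r g j) % 3 = 0

instance (V g : ℕ) : Decidable (tabOK3 V g) := by unfold tabOK3; infer_instance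
instance (V g : ℕ) : Decidable (tabOK3n V g) := by unfold tabOK3n; infer_instance

theorem cast_mod_three [CharP K 3] (m : ℕ) : ((m % 3 : ℕ) : K) = (m : K) := by
  conv_rhs => rw [← Nat.div_add_mod m 3]
  push_cast
  have : (3 : K) = 0 := by exact_mod_cast CharP.cast_eq_zero K 3
  rw [this]
  ring

theorem decK_mul_apply (c g : ℕ) (x y : Fin 2 ⊕ Fin 2) :
    (decK K c * decK K g) x y = ((rsum (row c (ix x)) g (ix y) : ℕ) : K) := by
  rw [Matrix.mul_apply, Fintype.sum_sum_type, Fin.sum_univ_two, Fin.sum_univ_two]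
  have e0 := dg_row c ⟨ix x, ix_lt x⟩ 0
  have e1 := dg_row c ⟨ix x, ix_lt x⟩ 1
  have e2 := dg_row c ⟨ix x, ix_lt x⟩ 2
  have e3 := dg_row c ⟨ix x, ix_lt x⟩ 3
  simp only [Fin.val_zero, Fin.val_one, Fin.val_two, add_zero] at e0 e1 e2 e3
  have e3' : dg (row c (ix x)) 3 = dg c (4 * ix x + 3) := e3
  unfold rsum
  rw [e0, e1, e2, e3']
  simp only [decK, ix, Fin.val_zero, Fin.val_one, mul_zero, zero_add, mul_one, add_zero]
  push_cast
  ring

theorem decK_mulrow [CharP K 3] {V g : ℕ} (hV : tabOK3 V g) (c : ℕ) :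
    decK K c * decK K g = decK K (mulrow V c) := by
  ext x y
  rw [decK_mul_apply]
  show _ = ((dg (mulrow V c) (4 * ix x + ix y) : ℕ) : K)
  have h1 := dg_mulrow V c ⟨ix x, ix_lt x⟩ ⟨ix y, ix_lt y⟩
  simp only at h1
  rw [h1, ← cast_mod_three (K := K) (dg _ _), hV _ (row_lt _ _) _ (ix_lt y), cast_mod_three]

theorem decK_mulrow_neg [CharP K 3] {W g : ℕ} (hW : tabOK3n W g) (c : ℕ) :
    decK K c * decK K g = - decK K (mulrow W c) := by
  ext x y
  rw [decK_mul_apply, Matrix.neg_apply]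
  show _ = - ((dg (mulrow W c) (4 * ix x + ix y) : ℕ) : K)
  have h1 := dg_mulrow W c ⟨ix x, ix_lt x⟩ ⟨ix y, ix_lt y⟩
  simp only at h1
  rw [h1]
  have h2 := hW _ (row_lt c (ix x)) _ (ix_lt y)
  have h3 : ((((dg (lk W (row c (ix x))) (ix y) + rsum (row c (ix x)) g (ix y)) % 3 : ℕ)) : K) = 0 := by
    rw [h2]; simp
  rw [cast_mod_three] at h3
  push_cast at h3
  linear_combination h3

end F3

/-! ### loops, trees, tables -/

/-- check `f` on `[s, s + 2 ^ d)` by binary splitting -/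
def allRange (f : ℕ → Bool) : ℕ → ℕ → Bool
  | 0, s => f s
  | d + 1, s => allRange f d s && allRange f d (s + 2 ^ d)

theorem allRange_spec (f : ℕ → Bool) : ∀ (d s : ℕ), allRange f d s = true →
    ∀ k, s ≤ k → k < s + 2 ^ d → f k = true := by
  intro d
  induction d with
  | zero =>
    intro s h k hk1 hk2
    have : k = s := by simp at hk2; omega
    subst this
    exact h
  | succ d ih =>
    intro s h k hk1 hk2
    simp only [allRange, Bool.and_eq_true] at h
    by_cases hk : k < s + 2 ^ d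
    · exact ih s h.1 k hk1 hk
    · refine ih (s + 2 ^ d) h.2 k (by omega) ?_
      rw [pow_succ] at hk2
      omega

/-- induction along a spanning tree of the step graph; `pg k = 2 * parent + generator` -/
theorem tree_ind (N : ℕ) (s0 s1 pg : ℕ → ℕ)
    (htree : ∀ k, 0 < k → k < N → pg k / 2 < k ∧
      (if pg k % 2 = 0 then s0 (pg k / 2) else s1 (pg k / 2)) = k)
    (P : ℕ → Prop) (h0 : P 0) (hs : ∀ k < N, P k → P (s0 k) ∧ P (s1 k)) : ∀ k < N, P k := by
  intro k
  induction k using Nat.strong_induction_on with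
  | _ k ih =>
    intro hk
    rcases Nat.eq_zero_or_pos k with rfl | hpos
    · exact h0
    · obtain ⟨hlt, hstep⟩ := htree k hpos hk
      have hp := ih (pg k / 2) hlt (by omega)
      have := hs (pg k / 2) (by omega) hp
      split_ifs at hstep
      · rw [← hstep]; exact this.1
      · rw [← hstep]; exact this.2

/-- two enumerations realising the same step table are jointly closed under products -/
theorem joint_mul {M₁ M₂ : Type*} [Monoid M₁] [Monoid M₂] (N : ℕ) (s0 s1 pg : ℕ → ℕ)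
    (htree : ∀ k, 0 < k → k < N → pg k / 2 < k ∧
      (if pg k % 2 = 0 then s0 (pg k / 2) else s1 (pg k / 2)) = k)
    (hlt : ∀ k < N, s0 k < N ∧ s1 k < N)
    (e₁ : ℕ → M₁) (a₁ b₁ : M₁) (h10 : e₁ 0 = 1)
    (h1s : ∀ k < N, e₁ (s0 k) = e₁ k * a₁ ∧ e₁ (s1 k) = e₁ k * b₁)
    (e₂ : ℕ → M₂) (a₂ b₂ : M₂) (h20 : e₂ 0 = 1)
    (h2s : ∀ k < N, e₂ (s0 k) = e₂ k * a₂ ∧ e₂ (s1 k) = e₂ k * b₂) :
    ∀ j < N, ∀ i < N, ∃ k < N, e₁ i * e₁ j = e₁ k ∧ e₂ i * e₂ j = e₂ k := by
  refine tree_ind N s0 s1 pg htree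
    (fun j => ∀ i < N, ∃ k < N, e₁ i * e₁ j = e₁ k ∧ e₂ i * e₂ j = e₂ k) ?_ ?_
  · intro i hi
    exact ⟨i, hi, by rw [h10, mul_one], by rw [h20, mul_one]⟩
  · intro j hj ih
    constructor
    · intro i hi
      obtain ⟨m, hm, hm1, hm2⟩ := ih i hi
      refine ⟨s0 m, (hlt m hm).1, ?_, ?_⟩
      · rw [(h1s j hj).1, (h1s m hm).1, ← hm1, mul_assoc]
      · rw [(h2s j hj).1, (h2s m hm).1, ← hm2, mul_assoc]
    · intro i hi
      obtain ⟨m, hm, hm1, hm2⟩ := ih i hi
      refine ⟨s1 m, (hlt m hm).2, ?_, ?_⟩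
      · rw [(h1s j hj).2, (h1s m hm).2, ← hm1, mul_assoc]
      · rw [(h2s j hj).2, (h2s m hm).2, ← hm2, mul_assoc]

/-- a function on `[0, N)` which becomes strictly increasing after a reindexing is injective -/
theorem injOn_of_sorted (N : ℕ) (L π : ℕ → ℕ) (hπ : ∀ j < N, π j < N)
    (hs : ∀ j, j + 1 < N → L (π j) < L (π (j + 1))) :
    ∀ i < N, ∀ j < N, L i = L j → i = j := by
  have hmono : ∀ i j, i < j → j < N → L (π i) < L (π j) := by
    intro i j hij
    induction j, hij using Nat.le_induction with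
    | base => intro h; exact hs i h
    | succ j hij ih =>
      intro h
      exact (ih (by omega)).trans (hs j h)
  -- `π` is injective on `[0, N)`, hence surjective
  let σ : Fin N → Fin N := fun j => ⟨π j.val, hπ j.val j.2⟩
  have hσinj : Function.Injective σ := by
    intro i j hij
    have h1 : π i.val = π j.val := congrArg Fin.val hij
    by_contra hne
    rcases lt_or_gt_of_ne (fun h => hne (Fin.ext h)) with h | h
    · have := hmono i.val j.val h j.2
      rw [h1] at this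
      exact lt_irrefl _ this
    · have := hmono j.val i.val h i.2
      rw [h1] at this
      exact lt_irrefl _ this
  have hσsurj : Function.Surjective σ := Finite.injective_iff_surjective.mp hσinj
  intro i hi j hj hij
  obtain ⟨i', hi'⟩ := hσsurj ⟨i, hi⟩
  obtain ⟨j', hj'⟩ := hσsurj ⟨j, hj⟩
  have hi'' : π i'.val = i := congrArg Fin.val hi'
  have hj'' : π j'.val = j := congrArg Fin.val hj'
  rw [← hi'', ← hj''] at hij ⊢
  by_contra hne
  have hne' : i'.val ≠ j'.val := fun h => hne (by rw [h])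
  rcases lt_or_gt_of_ne hne' with h | h
  · have := hmono i'.val j'.val h j'.2
    rw [hij] at this
    exact lt_irrefl _ this
  · have := hmono j'.val i'.val h i'.2
    rw [hij] at this
    exact lt_irrefl _ this

/-! ### codes are determined by their digits -/

theorem eq_of_dg_eq {c d : ℕ} (hc : c < 4294967296) (hd : d < 4294967296)
    (h : ∀ p < 16, dg c p = dg d p) : c = d := by
  have r0 : c % 256 = d % 256 := by
    have h0 := h 0 (by norm_num)
    have h1 := h 1 (by norm_num)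
    have h2 := h 2 (by norm_num)
    have h3 := h 3 (by norm_num)
    unfold dg at h0 h1 h2 h3
    norm_num at h0 h1 h2 h3
    omega
  have r1 : c / 256 % 256 = d / 256 % 256 := by
    have h0 := h 4 (by norm_num)
    have h1 := h 5 (by norm_num)
    have h2 := h 6 (by norm_num)
    have h3 := h 7 (by norm_num)
    unfold dg at h0 h1 h2 h3
    norm_num at h0 h1 h2 h3
    omega
  have r2 : c / 65536 % 256 = d / 65536 % 256 := by
    have h0 := h 8 (by norm_num)
    have h1 := h 9 (by norm_num)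
    have h2 := h 10 (by norm_num)
    have h3 := h 11 (by norm_num)
    unfold dg at h0 h1 h2 h3
    norm_num at h0 h1 h2 h3
    omega
  have r3 : c / 16777216 % 256 = d / 16777216 % 256 := by
    have h0 := h 12 (by norm_num)
    have h1 := h 13 (by norm_num)
    have h2 := h 14 (by norm_num)
    have h3 := h 15 (by norm_num)
    unfold dg at h0 h1 h2 h3
    norm_num at h0 h1 h2 h3
    omega
  omega

section F4more

variable {F : Type*} [Field F] {ω : F}

theorem natToF_eq_zero (h : IsF4 ω) {a : ℕ} (ha : a < 4) (h0 : natToF ω a = 0) : a = 0 := by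
  have h2 := h.two
  have hs := h.sq
  have hω0 : ω ≠ 0 := by
    intro h0
    rw [h0] at hs
    simp at hs
  have hω1 : ω ≠ 1 := by
    intro h1
    rw [h1] at hs
    have : (1 : F) = 0 := by linear_combination (-1 : F) * hs
    exact one_ne_zero this
  interval_cases a
  · rfl
  · simp [natToF] at h0
  · simp [natToF] at h0
    exact absurd h0 hω0
  · simp [natToF] at h0
    exfalso
    apply hω1
    linear_combination h0 - h2

theorem natToF_inj (h : IsF4 ω) {a b : ℕ} (ha : a < 4) (hb : b < 4)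
    (hab : natToF ω a = natToF ω b) : a = b := by
  have h1 : natToF ω (a ^^^ b) = 0 := by
    rw [natToF_xor h ha hb, hab]
    have h2 := h.two
    linear_combination natToF ω b * h2
  have h2 := natToF_eq_zero h (xor_lt4 ha hb) h1
  exact Nat.xor_eq_zero_iff.mp h2

theorem decM_inj (h : IsF4 ω) {c d : ℕ} (hc : c < 4294967296) (hd : d < 4294967296)
    (hcd : decM ω c = decM ω d) : c = d := by
  apply eq_of_dg_eq hc hd
  intro p hp
  have h1 := congrFun (congrFun hcd ⟨p / 4, by omega⟩) ⟨p % 4, by omega⟩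
  simp only [decM] at h1
  have h2 : 4 * (p / 4) + p % 4 = p := by omega
  rw [h2] at h1
  exact natToF_inj h (dg_lt _ _) (dg_lt _ _) h1

theorem decM_one (ω : F) : decM ω 0x40100401 = 1 := by
  ext i j
  fin_cases i <;> fin_cases j <;> simp [decM, dg, natToF]

/-- the frame of columns of the matrix with code `g` is orthonormal (codes) -/
def unitOK (g : ℕ) : Prop :=
  ∀ i < 4, ∀ j < 4,
    f4mul (dg g i) (f4mul (dg g j) (dg g j)) ^^^ f4mul (dg g (4 + i)) (f4mul (dg g (4 + j)) (dg g (4 + j))) ^^^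
      f4mul (dg g (8 + i)) (f4mul (dg g (8 + j)) (dg g (8 + j))) ^^^
      f4mul (dg g (12 + i)) (f4mul (dg g (12 + j)) (dg g (12 + j))) = if i = j then 1 else 0

instance (g : ℕ) : Decidable (unitOK g) := by unfold unitOK; infer_instance

theorem unitOK_spec (h : IsF4 ω) {g : ℕ} (hg : unitOK g) (i j : Fin 4) :
    ∑ l : Fin 4, decM ω g l i * (decM ω g l j) ^ 2 = if i = j then 1 else 0 := by
  have h1 := hg i.val i.2 j.val j.2
  have h2 := congrArg (natToF ω) h1
  rw [natToF_xor h (xor_lt4 (xor_lt4 (f4mul_lt _ _) (f4mul_lt _ _)) (f4mul_lt _ _)) (f4mul_lt _ _),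
    natToF_xor h (xor_lt4 (f4mul_lt _ _) (f4mul_lt _ _)) (f4mul_lt _ _),
    natToF_xor h (f4mul_lt _ _) (f4mul_lt _ _),
    natToF_f4mul h (dg_lt _ _) (f4mul_lt _ _), natToF_f4mul h (dg_lt _ _) (f4mul_lt _ _),
    natToF_f4mul h (dg_lt _ _) (f4mul_lt _ _), natToF_f4mul h (dg_lt _ _) (f4mul_lt _ _),
    natToF_f4mul h (dg_lt _ _) (dg_lt _ _), natToF_f4mul h (dg_lt _ _) (dg_lt _ _),
    natToF_f4mul h (dg_lt _ _) (dg_lt _ _), natToF_f4mul h (dg_lt _ _) (dg_lt _ _)] at h2
  rw [Fin.sum_univ_four]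
  simp only [decM, Fin.val_zero, Fin.val_one, Fin.val_two, mul_zero, zero_add, mul_one]
  have e3 : ((3 : Fin 4) : ℕ) = 3 := rfl
  rw [e3]
  have hr : natToF ω (if i.val = j.val then 1 else 0) = if i = j then (1 : F) else 0 := by
    by_cases hij : i = j
    · subst hij; simp [natToF]
    · have : i.val ≠ j.val := fun h => hij (Fin.ext h)
      simp [natToF, hij, this]
  rw [hr] at h2
  rw [← h2]
  ring

end F4more

section F3more

variable {K : Type*} [Field K]

/-- the code decodes to the identity modulo 3 -/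
def isOne3b (c : ℕ) : Bool :=
  [0, 1, 2, 3, 4, 5, 6, 7, 8, 9, 10, 11, 12, 13, 14, 15].all fun p =>
    Nat.beq (Nat.mod (dg c p) 3) (bif Nat.beq (Nat.mod p 5) 0 then 1 else 0)

/-- the code decodes to minus the identity modulo 3 -/
def isNeg3b (c : ℕ) : Bool :=
  [0, 1, 2, 3, 4, 5, 6, 7, 8, 9, 10, 11, 12, 13, 14, 15].all fun p =>
    Nat.beq (Nat.mod (dg c p) 3) (bif Nat.beq (Nat.mod p 5) 0 then 2 else 0)

theorem ix_diag (x y : Fin 2 ⊕ Fin 2) : (4 * ix x + ix y) % 5 = 0 ↔ x = y := by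
  rcases x with x | x <;> rcases y with y | y <;> fin_cases x <;> fin_cases y <;> simp [ix]

theorem exists_ix (p : ℕ) (hp : p < 16) : ∃ x y : Fin 2 ⊕ Fin 2, 4 * ix x + ix y = p := by
  have hx : ∀ a < 4, ∃ x : Fin 2 ⊕ Fin 2, ix x = a := by
    intro a ha
    interval_cases a
    · exact ⟨.inl 0, rfl⟩
    · exact ⟨.inl 1, rfl⟩
    · exact ⟨.inr 0, rfl⟩
    · exact ⟨.inr 1, rfl⟩
  obtain ⟨x, hx'⟩ := hx (p / 4) (by omega)
  obtain ⟨y, hy'⟩ := hx (p % 4) (by omega)
  exact ⟨x, y, by rw [hx', hy']; omega⟩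

theorem isOne3b_of_decK [CharP K 3] {c : ℕ} (h : decK K c = 1) : isOne3b c = true := by
  unfold isOne3b
  rw [List.all_eq_true]
  intro p hp
  have hp16 : p < 16 := by
    simp only [List.mem_cons, List.mem_nil_iff, or_false] at hp
    omega
  obtain ⟨x, y, rfl⟩ := exists_ix p hp16
  have h1 := congrFun (congrFun h x) y
  simp only [decK, Matrix.one_apply] at h1
  show Nat.beq (dg c (4 * ix x + ix y) % 3) (bif Nat.beq ((4 * ix x + ix y) % 5) 0 then 1 else 0) = true
  rw [Nat.beq_eq]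
  by_cases hxy : x = y
  · have h5 : (4 * ix x + ix y) % 5 = 0 := (ix_diag x y).2 hxy
    rw [h5]
    simp only [Nat.beq_refl, cond_true]
    rw [if_pos hxy] at h1
    have h2 : ((dg c (4 * ix x + ix y) : ℕ) : K) = ((1 : ℕ) : K) := by rw [h1]; simp
    rw [CharP.natCast_eq_natCast K 3] at h2
    exact h2
  · have h5 : (4 * ix x + ix y) % 5 ≠ 0 := fun h => hxy ((ix_diag x y).1 h)
    have h6 : Nat.beq ((4 * ix x + ix y) % 5) 0 = false := by
      cases hb : Nat.beq ((4 * ix x + ix y) % 5) 0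
      · rfl
      · exact absurd (Nat.eq_of_beq_eq_true hb) h5
    rw [h6]
    simp only [cond_false]
    rw [if_neg hxy] at h1
    have h2 : ((dg c (4 * ix x + ix y) : ℕ) : K) = ((0 : ℕ) : K) := by rw [h1]; simp
    rw [CharP.natCast_eq_natCast K 3] at h2
    exact h2

theorem isNeg3b_of_decK [CharP K 3] {c : ℕ} (h : decK K c = -1) : isNeg3b c = true := by
  unfold isNeg3b
  rw [List.all_eq_true]
  intro p hp
  have hp16 : p < 16 := by
    simp only [List.mem_cons, List.mem_nil_iff, or_false] at hp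
    omega
  obtain ⟨x, y, rfl⟩ := exists_ix p hp16
  have h1 := congrFun (congrFun h x) y
  simp only [decK, Matrix.neg_apply, Matrix.one_apply] at h1
  show Nat.beq (dg c (4 * ix x + ix y) % 3) (bif Nat.beq ((4 * ix x + ix y) % 5) 0 then 2 else 0) = true
  rw [Nat.beq_eq]
  have h3 : ((3 : ℕ) : K) = 0 := CharP.cast_eq_zero K 3
  by_cases hxy : x = y
  · have h5 : (4 * ix x + ix y) % 5 = 0 := (ix_diag x y).2 hxy
    rw [h5]
    simp only [Nat.beq_refl, cond_true]
    rw [if_pos hxy] at h1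
    have h2 : ((dg c (4 * ix x + ix y) : ℕ) : K) = ((2 : ℕ) : K) := by
      rw [h1]; push_cast at h3 ⊢; linear_combination (-1 : K) * h3
    rw [CharP.natCast_eq_natCast K 3] at h2
    exact h2
  · have h5 : (4 * ix x + ix y) % 5 ≠ 0 := fun h => hxy ((ix_diag x y).1 h)
    have h6 : Nat.beq ((4 * ix x + ix y) % 5) 0 = false := by
      cases hb : Nat.beq ((4 * ix x + ix y) % 5) 0
      · rfl
      · exact absurd (Nat.eq_of_beq_eq_true hb) h5
    rw [h6]
    simp only [cond_false]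
    rw [if_neg hxy] at h1
    have h2 : ((dg c (4 * ix x + ix y) : ℕ) : K) = ((0 : ℕ) : K) := by rw [h1]; simp
    rw [CharP.natCast_eq_natCast K 3] at h2
    exact h2

theorem decK_one : decK K 0x40100401 = 1 := by
  ext x y
  rcases x with x | x <;> rcases y with y | y <;> fin_cases x <;> fin_cases y <;> simp [decK, ix, dg]

end F3more

/-! ### the per-index check -/

/-- accessors of the packed tables -/
structure Data where
  gL : ℕ → ℕ
  gLp : ℕ → ℕ
  gS0 : ℕ → ℕ
  gS1 : ℕ → ℕ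
  gPG : ℕ → ℕ
  gPI : ℕ → ℕ
  tVA : ℕ
  tVB : ℕ
  tVAp : ℕ
  tWAp : ℕ
  tVBp : ℕ
  tWBp : ℕ

/-- the check at index `k` -/
def chk (D : Data) (N k : ℕ) : Bool :=
  Nat.ble N k ||
  (Nat.blt (D.gS0 k) N && (Nat.blt (D.gS1 k) N &&
   (Nat.beq (mulrow D.tVA (D.gL k)) (D.gL (D.gS0 k)) &&
   (Nat.beq (mulrow D.tVB (D.gL k)) (D.gL (D.gS1 k)) &&
   ((Nat.beq (mulrow D.tVAp (D.gLp k)) (D.gLp (D.gS0 k)) ||
      Nat.beq (mulrow D.tWAp (D.gLp k)) (D.gLp (D.gS0 k))) &&
   ((Nat.beq (mulrow D.tVBp (D.gLp k)) (D.gLp (D.gS1 k)) ||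
      Nat.beq (mulrow D.tWBp (D.gLp k)) (D.gLp (D.gS1 k))) &&
   ((Nat.beq k 0 || (Nat.blt (Nat.div (D.gPG k) 2) k &&
      Nat.beq (bif Nat.beq (Nat.mod (D.gPG k) 2) 0 then D.gS0 (Nat.div (D.gPG k) 2)
        else D.gS1 (Nat.div (D.gPG k) 2)) k)) &&
   (Nat.blt (D.gPI k) N &&
   ((Nat.ble N (Nat.succ k) || Nat.blt (D.gL (D.gPI k)) (D.gL (D.gPI (Nat.succ k)))) &&
   (Nat.beq k 0 || !(isOne3b (D.gLp k) || isNeg3b (D.gLp k))))))))))))

/-- what the check establishes -/
structure ChkP (D : Data) (N k : ℕ) : Prop where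
  s0lt : D.gS0 k < N
  s1lt : D.gS1 k < N
  a4 : mulrow D.tVA (D.gL k) = D.gL (D.gS0 k)
  b4 : mulrow D.tVB (D.gL k) = D.gL (D.gS1 k)
  a3 : mulrow D.tVAp (D.gLp k) = D.gLp (D.gS0 k) ∨ mulrow D.tWAp (D.gLp k) = D.gLp (D.gS0 k)
  b3 : mulrow D.tVBp (D.gLp k) = D.gLp (D.gS1 k) ∨ mulrow D.tWBp (D.gLp k) = D.gLp (D.gS1 k)
  tree : k = 0 ∨ (D.gPG k / 2 < k ∧
    (if D.gPG k % 2 = 0 then D.gS0 (D.gPG k / 2) else D.gS1 (D.gPG k / 2)) = k)
  pilt : D.gPI k < N
  sorted : N ≤ k + 1 ∨ D.gL (D.gPI k) < D.gL (D.gPI (k + 1))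
  ker : k = 0 ∨ ¬ (isOne3b (D.gLp k) = true ∨ isNeg3b (D.gLp k) = true)

theorem blt_iff (a b : ℕ) : Nat.blt a b = true ↔ a < b := by
  unfold Nat.blt
  rw [Nat.ble_eq]
  exact Nat.succ_le_iff

theorem chk_spec (D : Data) (N k : ℕ) (hk : k < N) (h : chk D N k = true) : ChkP D N k := by
  unfold chk at h
  simp only [Bool.or_eq_true, Bool.and_eq_true, Nat.ble_eq, blt_iff, Nat.beq_eq, Bool.not_eq_true',
    Bool.or_eq_false_iff] at h
  rcases h with h | h
  · omega
  obtain ⟨h1, h2, h3, h4, h5, h6, h7, h8, h9, h10⟩ := h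
  refine ⟨h1, h2, h3, h4, h5, h6, ?_, h8, h9, ?_⟩
  · rcases h7 with h7 | ⟨h7, h7'⟩
    · exact Or.inl h7
    · right
      refine ⟨h7, ?_⟩
      by_cases hm : D.gPG k % 2 = 0
      · rw [if_pos hm]
        have : Nat.beq (Nat.mod (D.gPG k) 2) 0 = true := by rw [Nat.beq_eq]; exact hm
        rw [this] at h7'
        exact h7'
      · rw [if_neg hm]
        have : Nat.beq (Nat.mod (D.gPG k) 2) 0 = false := by
          cases hb : Nat.beq (Nat.mod (D.gPG k) 2) 0
          · rfl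
          · exact absurd (Nat.eq_of_beq_eq_true hb) hm
        rw [this] at h7'
        exact h7'
  · rcases h10 with h10 | ⟨h10, h10'⟩
    · exact Or.inl h10
    · right
      rintro (h | h)
      · rw [h] at h10; exact Bool.noConfusion h10
      · rw [h] at h10'; exact Bool.noConfusion h10'

end Cfsg.Agent.Helper13.U42
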