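import Mathlib
import Cfsg.Agent.Helper13.U42

set_option autoImplicit false

/-!
# Packed matrices of degree 2 over the field with eight elements

Entries are 3-bit codes `b₀ + 2 b₁ + 4 b₂` of `b₀ + b₁ ζ + b₂ ζ²`, where `ζ³ = ζ + 1`; a matrix is packed
as four codes (row major).  Right multiplication by a fixed matrix is a row-wise table lookup.
-/

namespace Cfsg.Agent.Helper13.G2F8

open Cfsg.Agent.Helper13.U42

/-- digit `p` (3 bits) -/
def dg8 (c p : ℕ) : ℕ := c / 8 ^ p % 8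
/-- row `i` (6 bits) -/
def row6 (c i : ℕ) : ℕ := Nat.mod (Nat.shiftRight c (Nat.mul 6 i)) 64
/-- table lookup (6-bit entries) -/
def lk6 (V r : ℕ) : ℕ := Nat.mod (Nat.shiftRight V (Nat.mul 6 r)) 64
/-- row-wise table multiplication -/
def mulrow8 (V c : ℕ) : ℕ := Nat.add (lk6 V (row6 c 0)) (Nat.mul 64 (lk6 V (row6 c 1)))

theorem row6_eq (c i : ℕ) : row6 c i = c / 64 ^ i % 64 := by
  show (c >>> (6 * i)) % 64 = _
  rw [Nat.shiftRight_eq_div_pow, pow_mul]
  norm_num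

theorem lk6_lt (V r : ℕ) : lk6 V r < 64 := Nat.mod_lt _ (by norm_num)
theorem row6_lt (c i : ℕ) : row6 c i < 64 := Nat.mod_lt _ (by norm_num)
theorem dg8_lt (c p : ℕ) : dg8 c p < 8 := Nat.mod_lt _ (by norm_num)

theorem row6_mulrow8 (V c : ℕ) (i : Fin 2) : row6 (mulrow8 V c) i.val = lk6 V (row6 c i.val) := by
  have h0 := lk6_lt V (row6 c 0)
  have h1 := lk6_lt V (row6 c 1)
  show row6 (lk6 V (row6 c 0) + 64 * lk6 V (row6 c 1)) i.val = _
  rw [row6_eq]
  fin_cases i <;> simp <;> omega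

section F8

variable {L : Type*} [Field L] (ζ : L)

/-- `ζ` generates a field with eight elements inside `L` -/
structure IsF8 (ζ : L) : Prop where
  two : (2 : L) = 0
  cube : ζ ^ 3 = ζ + 1

/-- decode a 3-bit code -/
def natToF8 (d : ℕ) : L := ((d % 2 : ℕ) : L) + ((d / 2 % 2 : ℕ) : L) * ζ + ((d / 4 % 2 : ℕ) : L) * ζ ^ 2

/-- multiplication of codes -/
def f8mul (a b : ℕ) : ℕ := 0x73157889d3f0cfa868356ee0467b98bcbd10fac688000000 / 8 ^ (8 * a + b) % 8

theorem f8mul_lt (a b : ℕ) : f8mul a b < 8 := Nat.mod_lt _ (by norm_num)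

theorem xor_lt8 {a b : ℕ} (ha : a < 8) (hb : b < 8) : a ^^^ b < 8 :=
  Nat.xor_lt_two_pow (n := 3) ha hb

variable {ζ}

theorem cast_mod_two8 (h : IsF8 ζ) (m : ℕ) : ((m % 2 : ℕ) : L) = (m : L) := by
  conv_rhs => rw [← Nat.div_add_mod m 2]
  push_cast
  rw [h.two]
  ring

theorem natToF8_xor (h : IsF8 ζ) {a b : ℕ} (ha : a < 8) (hb : b < 8) :
    natToF8 ζ (a ^^^ b) = natToF8 ζ a + natToF8 ζ b := by
  have key : ∀ a < 8, ∀ b < 8, (a ^^^ b) % 2 = (a % 2 + b % 2) % 2 ∧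
      (a ^^^ b) / 2 % 2 = (a / 2 % 2 + b / 2 % 2) % 2 ∧
      (a ^^^ b) / 4 % 2 = (a / 4 % 2 + b / 4 % 2) % 2 := by decide
  obtain ⟨k1, k2, k3⟩ := key a ha b hb
  unfold natToF8
  rw [k1, k2, k3, cast_mod_two8 h, cast_mod_two8 h, cast_mod_two8 h]
  push_cast
  ring

theorem natToF8_f8mul (h : IsF8 ζ) {a b : ℕ} (ha : a < 8) (hb : b < 8) :
    natToF8 ζ (f8mul a b) = natToF8 ζ a * natToF8 ζ b := by
  have key : ∀ a < 8, ∀ b < 8,
      f8mul a b % 2 = ((a % 2) * (b % 2) + ((a / 2 % 2) * (b / 4 % 2) + (a / 4 % 2) * (b / 2 % 2))) % 2 ∧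
      f8mul a b / 2 % 2 = ((a % 2) * (b / 2 % 2) + (a / 2 % 2) * (b % 2) +
        ((a / 2 % 2) * (b / 4 % 2) + (a / 4 % 2) * (b / 2 % 2)) + (a / 4 % 2) * (b / 4 % 2)) % 2 ∧
      f8mul a b / 4 % 2 = ((a % 2) * (b / 4 % 2) + (a / 2 % 2) * (b / 2 % 2) + (a / 4 % 2) * (b % 2) +
        (a / 4 % 2) * (b / 4 % 2)) % 2 := by
    decide
  obtain ⟨k1, k2, k3⟩ := key a ha b hb
  unfold natToF8
  rw [k1, k2, k3, cast_mod_two8 h, cast_mod_two8 h, cast_mod_two8 h]
  push_cast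
  linear_combination (-((((a / 2 % 2 : ℕ) : L) * ((b / 4 % 2 : ℕ) : L) +
    ((a / 4 % 2 : ℕ) : L) * ((b / 2 % 2 : ℕ) : L)) +
    (((a / 4 % 2 : ℕ) : L) * ((b / 4 % 2 : ℕ) : L)) * ζ)) * h.cube

variable (ζ)

/-- decode a packed matrix -/
def decM8 (c : ℕ) : Matrix (Fin 2) (Fin 2) L := fun i j => natToF8 ζ (dg8 (row6 c i.val) j.val)

/-- correctness of a multiplication table for the fixed matrix with code `g` -/
def tabOK8 (V g : ℕ) : Prop :=
  ∀ r < 64, ∀ j < 2, dg8 (lk6 V r) j =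
    f8mul (dg8 r 0) (dg8 (row6 g 0) j) ^^^ f8mul (dg8 r 1) (dg8 (row6 g 1) j)

instance (V g : ℕ) : Decidable (tabOK8 V g) := by unfold tabOK8; infer_instance

variable {ζ}

theorem decM8_mulrow (h : IsF8 ζ) {V g : ℕ} (hV : tabOK8 V g) (c : ℕ) :
    decM8 ζ c * decM8 ζ g = decM8 ζ (mulrow8 V c) := by
  ext i j
  rw [Matrix.mul_apply, Fin.sum_univ_two]
  simp only [decM8]
  rw [row6_mulrow8, hV (row6 c i.val) (row6_lt _ _) j.val j.2,
    natToF8_xor h (f8mul_lt _ _) (f8mul_lt _ _), natToF8_f8mul h (dg8_lt _ _) (dg8_lt _ _),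
    natToF8_f8mul h (dg8_lt _ _) (dg8_lt _ _)]
  rfl

/-- the determinant of the matrix with code `g` is one (codes) -/
def detOK8 (g : ℕ) : Prop :=
  f8mul (dg8 (row6 g 0) 0) (dg8 (row6 g 1) 1) ^^^ f8mul (dg8 (row6 g 0) 1) (dg8 (row6 g 1) 0) = 1

instance (g : ℕ) : Decidable (detOK8 g) := by unfold detOK8; infer_instance

theorem natToF8_one : natToF8 ζ 1 = 1 := by simp [natToF8]

theorem detOK8_spec (h : IsF8 ζ) {g : ℕ} (hg : detOK8 g) : (decM8 ζ g).det = 1 := by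
  rw [Matrix.det_fin_two]
  have h1 := congrArg (natToF8 ζ) hg
  rw [natToF8_xor h (f8mul_lt _ _) (f8mul_lt _ _), natToF8_f8mul h (dg8_lt _ _) (dg8_lt _ _),
    natToF8_f8mul h (dg8_lt _ _) (dg8_lt _ _), natToF8_one] at h1
  simp only [decM8, Fin.val_zero, Fin.val_one]
  have h2 := h.two
  linear_combination h1 - natToF8 ζ (dg8 (row6 g 0) 1) * natToF8 ζ (dg8 (row6 g 1) 0) * h2

theorem natToF8_eq_zero (h : IsF8 ζ) {a : ℕ} (ha : a < 8) (h0 : natToF8 ζ a = 0) : a = 0 := by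
  have h2 := h.two
  have hc := h.cube
  have h10 : (1 : L) ≠ 0 := one_ne_zero
  have hζ0 : ζ ≠ 0 := by
    intro hz
    rw [hz] at hc
    apply h10
    linear_combination -hc
  have hζ1 : ζ ≠ 1 := by
    intro hz
    rw [hz] at hc
    apply h10
    linear_combination -hc
  interval_cases a
  · rfl
  · exfalso
    simp [natToF8] at h0
  · exfalso
    simp [natToF8] at h0
    exact hζ0 h0
  · exfalso
    simp [natToF8] at h0
    apply hζ1
    linear_combination h0 - h2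
  · exfalso
    simp [natToF8] at h0
    exact hζ0 h0
  · exfalso
    simp [natToF8] at h0
    -- 1 + ζ² = 0
    apply h10
    linear_combination ζ * h0 - hc - ζ * h2
  · exfalso
    simp [natToF8] at h0
    -- ζ + ζ² = 0
    have : ζ * (1 + ζ) = 0 := by linear_combination h0
    rcases mul_eq_zero.mp this with h' | h'
    · exact hζ0 h'
    · apply hζ1
      linear_combination h' - h2
  · exfalso
    simp [natToF8] at h0
    -- 1 + ζ + ζ² = 0
    apply hζ0
    linear_combination (ζ - 1) * h0 - hc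

theorem natToF8_inj (h : IsF8 ζ) {a b : ℕ} (ha : a < 8) (hb : b < 8)
    (hab : natToF8 ζ a = natToF8 ζ b) : a = b := by
  have h1 : natToF8 ζ (a ^^^ b) = 0 := by
    rw [natToF8_xor h ha hb, hab]
    have h2 := h.two
    linear_combination natToF8 ζ b * h2
  have h2 := natToF8_eq_zero h (xor_lt8 ha hb) h1
  exact Nat.xor_eq_zero_iff.mp h2

theorem eq_of_dg8_eq {c d : ℕ} (hc : c < 4096) (hd : d < 4096)
    (h : ∀ i < 2, ∀ j < 2, dg8 (row6 c i) j = dg8 (row6 d i) j) : c = d := by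
  have h00 := h 0 (by norm_num) 0 (by norm_num)
  have h01 := h 0 (by norm_num) 1 (by norm_num)
  have h10 := h 1 (by norm_num) 0 (by norm_num)
  have h11 := h 1 (by norm_num) 1 (by norm_num)
  rw [row6_eq, row6_eq] at h00 h01 h10 h11
  unfold dg8 at h00 h01 h10 h11
  norm_num at h00 h01 h10 h11
  omega

theorem decM8_inj (h : IsF8 ζ) {c d : ℕ} (hc : c < 4096) (hd : d < 4096)
    (hcd : decM8 ζ c = decM8 ζ d) : c = d := by
  apply eq_of_dg8_eq hc hd
  intro i hi j hj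
  have h1 := congrFun (congrFun hcd ⟨i, hi⟩) ⟨j, hj⟩
  simp only [decM8] at h1
  exact natToF8_inj h (dg8_lt _ _) (dg8_lt _ _) h1

theorem decM8_one (ζ : L) : decM8 ζ 513 = 1 := by
  ext i j
  fin_cases i <;> fin_cases j <;> simp [decM8, row6_eq, dg8, natToF8]

end F8

section Exists

variable {L : Type*} [Field L] [Fintype L]

theorem exists_isF8 (hL : Fintype.card L = 8) : ∃ ζ : L, IsF8 ζ := by
  classical
  obtain ⟨p, hchar⟩ := CharP.exists L
  have := hchar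
  have hp : p.Prime :=
    (CharP.char_is_prime_or_zero L p).resolve_right (CharP.char_ne_zero_of_finite L p)
  have : Fact p.Prime := ⟨hp⟩
  obtain ⟨n, -, hn⟩ := FiniteField.card L p
  rw [hL] at hn
  have h2 : p ∣ 2 ^ 3 := by
    have : p ∣ p ^ (n : ℕ) := dvd_pow_self p n.ne_zero
    rw [← hn] at this
    exact this
  have hp2 : p = 2 := (Nat.prime_dvd_prime_iff_eq hp Nat.prime_two).mp (hp.dvd_of_dvd_pow h2)
  subst hp2
  have h20 : (2 : L) = 0 := by exact_mod_cast CharP.cast_eq_zero L 2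
  obtain ⟨z, hz⟩ := IsCyclic.exists_generator (α := Lˣ)
  have hord : orderOf z = 7 := by
    rw [orderOf_eq_card_of_forall_mem_zpowers hz, Nat.card_eq_fintype_card, Fintype.card_units, hL]
  have hz7 : (z : L) ^ 7 = 1 := by
    have : z ^ 7 = 1 := by rw [← hord]; exact pow_orderOf_eq_one z
    have h3 := congrArg Units.val this
    simpa using h3
  have hz1 : (z : L) ≠ 1 := by
    intro h
    have : z = 1 := Units.ext h
    rw [this, orderOf_one] at hord
    omega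
  have hz0 : (z : L) ≠ 0 := z.ne_zero
  have hfac : ((z : L) - 1) * (((z : L) ^ 3 + z + 1) * ((z : L) ^ 3 + z ^ 2 + 1)) = 0 := by
    linear_combination hz7 + ((z : L) ^ 4 - (z : L) ^ 3) * h20
  rcases mul_eq_zero.mp hfac with h | h
  · exact absurd (sub_eq_zero.mp h) hz1
  · rcases mul_eq_zero.mp h with h | h
    · exact ⟨(z : L), h20, by linear_combination h - ((z : L) + 1) * h20⟩
    · refine ⟨(z : L)⁻¹, h20, ?_⟩
      have hzi : (z : L) * (z : L)⁻¹ = 1 := mul_inv_cancel₀ hz0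
      have : (z : L)⁻¹ ^ 3 * ((z : L) ^ 3 + z ^ 2 + 1) = 0 := by rw [h, mul_zero]
      have e1 : (z : L)⁻¹ ^ 3 * (z : L) ^ 3 = 1 := by rw [← mul_pow, mul_comm, hzi, one_pow]
      have e2 : (z : L)⁻¹ ^ 3 * (z : L) ^ 2 = (z : L)⁻¹ := by
        calc (z : L)⁻¹ ^ 3 * (z : L) ^ 2 = (z : L)⁻¹ * ((z : L) * (z : L)⁻¹) ^ 2 := by ring
          _ = (z : L)⁻¹ := by rw [hzi, one_pow, mul_one]
      linear_combination this - e1 - e2 - ((z : L)⁻¹ + 1) * h20

end Exists

end Cfsg.Agent.Helper13.G2F8
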