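import Mathlib
import Cfsg.Prelude.Def_ChevG2
import Cfsg.Agent.Helper27.B2Bits

set_option autoImplicit false

/-!
# Packed matrices of degree 14 over the field with three elements

A matrix is packed as 196 bytes (row major, entries `0, 1, 2`).  A product `a * g = t` is verified from
a certificate `q` by the integer identities `Σ_l a(i,l) * row_l(g) = row_i(t) + 3 * row_i(q)`.
-/

namespace Cfsg.Agent.Helper13.G2T

open Cfsg.Agent.Helper27 Cfsg Cfsg.Lie

/-- row `i` (14 bytes) -/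
def rowT (c i : ℕ) : ℕ := Nat.mod (Nat.shiftRight c (Nat.mul 112 i)) 5192296858534827628530496329220096
/-- byte `j` -/
def byteT (r j : ℕ) : ℕ := Nat.mod (Nat.shiftRight r (Nat.mul 8 j)) 256

/-- the combination of the rows of `g` with the bytes of `r` as coefficients -/
def lin14 (r g : ℕ) : ℕ :=
  Nat.add (Nat.add (Nat.add (Nat.add (Nat.add (Nat.add (Nat.add (Nat.add (Nat.add (Nat.add (Nat.add (Nat.add (Nat.add (Nat.mul (byteT r 0) (rowT g 0)) (Nat.mul (byteT r 1) (rowT g 1))) (Nat.mul (byteT r 2) (rowT g 2))) (Nat.mul (byteT r 3) (rowT g 3))) (Nat.mul (byteT r 4) (rowT g 4))) (Nat.mul (byteT r 5) (rowT g 5))) (Nat.mul (byteT r 6) (rowT g 6))) (Nat.mul (byteT r 7) (rowT g 7))) (Nat.mul (byteT r 8) (rowT g 8))) (Nat.mul (byteT r 9) (rowT g 9))) (Nat.mul (byteT r 10) (rowT g 10))) (Nat.mul (byteT r 11) (rowT g 11))) (Nat.mul (byteT r 12) (rowT g 12))) (Nat.mul (byteT r 13) (rowT g 13))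

/-- the product check in row `i` -/
def rowOK (a g t q i : ℕ) : Bool :=
  Nat.beq (lin14 (rowT a i) g) (Nat.add (rowT t i) (Nat.mul 3 (rowT q i)))

/-- the product check -/
def mulOK (a g t q : ℕ) : Bool :=
  rowOK a g t q 0 && (rowOK a g t q 1 && (rowOK a g t q 2 && (rowOK a g t q 3 && (rowOK a g t q 4 && (rowOK a g t q 5 && (rowOK a g t q 6 && (rowOK a g t q 7 && (rowOK a g t q 8 && (rowOK a g t q 9 && (rowOK a g t q 10 && (rowOK a g t q 11 && (rowOK a g t q 12 && (rowOK a g t q 13)))))))))))))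

/-- the mask of the six high bits of each byte -/
def maskFC : ℕ := 0xfcfcfcfcfcfcfcfcfcfcfcfcfcfcfcfcfcfcfcfcfcfcfcfcfcfcfcfcfcfcfcfcfcfcfcfcfcfcfcfcfcfcfcfcfcfcfcfcfcfcfcfcfcfcfcfcfcfcfcfcfcfcfcfcfcfcfcfcfcfcfcfcfcfcfcfcfcfcfcfcfcfcfcfcfcfcfcfcfcfcfcfcfcfcfcfcfcfcfcfcfcfcfcfcfcfcfcfcfcfcfcfcfcfcfcfcfcfcfcfcfcfcfcfcfcfcfcfcfcfcfcfcfcfcfcfcfcfcfcfcfcfcfcfcfcfcfcfcfcfcfcfcfcfcfcfcfcfcfcfcfcfcfcfcfcfcfcfcfcfcfcfcfcfcfcfcfcfcfcfcfcfcfcfcfcfcfcfcfcfcfcfcfcfcfcfc
/-- the mask of the two high bits of each byte -/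
def maskC0 : ℕ := 0xc0c0c0c0c0c0c0c0c0c0c0c0c0c0c0c0c0c0c0c0c0c0c0c0c0c0c0c0c0c0c0c0c0c0c0c0c0c0c0c0c0c0c0c0c0c0c0c0c0c0c0c0c0c0c0c0c0c0c0c0c0c0c0c0c0c0c0c0c0c0c0c0c0c0c0c0c0c0c0c0c0c0c0c0c0c0c0c0c0c0c0c0c0c0c0c0c0c0c0c0c0c0c0c0c0c0c0c0c0c0c0c0c0c0c0c0c0c0c0c0c0c0c0c0c0c0c0c0c0c0c0c0c0c0c0c0c0c0c0c0c0c0c0c0c0c0c0c0c0c0c0c0c0c0c0c0c0c0c0c0c0c0c0c0c0c0c0c0c0c0c0c0c0c0c0c0c0c0c0c0c0c0c0c0c0c0c0c0c0c0c0c0c0c0c0c0

/-- all bytes are at most 3 -/
def canonT (c : ℕ) : Bool := Nat.beq (Nat.land c maskFC) 0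

/-- all bytes are less than 64 -/
def smallT (c : ℕ) : Bool := Nat.beq (Nat.land c maskC0) 0

/-- decode a packed matrix -/
def decT (c : ℕ) : Matrix chevG2.Idx chevG2.Idx (ZMod 3) :=
  fun x y => ((byteT (rowT c (idxS x)) (idxS y) : ℕ) : ZMod 3)

/-- a row is a unit vector modulo 3 -/
def rowUnit (r i : ℕ) : Bool :=
  Nat.beq (Nat.mod (byteT r 0) 3) (bif Nat.beq 0 i then 1 else 0) && (Nat.beq (Nat.mod (byteT r 1) 3) (bif Nat.beq 1 i then 1 else 0) && (Nat.beq (Nat.mod (byteT r 2) 3) (bif Nat.beq 2 i then 1 else 0) && (Nat.beq (Nat.mod (byteT r 3) 3) (bif Nat.beq 3 i then 1 else 0) && (Nat.beq (Nat.mod (byteT r 4) 3) (bif Nat.beq 4 i then 1 else 0) && (Nat.beq (Nat.mod (byteT r 5) 3) (bif Nat.beq 5 i then 1 else 0) && (Nat.beq (Nat.mod (byteT r 6) 3) (bif Nat.beq 6 i then 1 else 0) && (Nat.beq (Nat.mod (byteT r 7) 3) (bif Nat.beq 7 i then 1 else 0) && (Nat.beq (Nat.mod (byteT r 8) 3) (bif Nat.beq 8 i then 1 else 0) && (Nat.beq (Nat.mod (byteT r 9) 3) (bif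 Nat.beq 9 i then 1 else 0) && (Nat.beq (Nat.mod (byteT r 10) 3) (bif Nat.beq 10 i then 1 else 0) && (Nat.beq (Nat.mod (byteT r 11) 3) (bif Nat.beq 11 i then 1 else 0) && (Nat.beq (Nat.mod (byteT r 12) 3) (bif Nat.beq 12 i then 1 else 0) && (Nat.beq (Nat.mod (byteT r 13) 3) (bif Nat.beq 13 i then 1 else 0))))))))))))))

/-- the matrix is the identity modulo 3 -/
def isOneT (c : ℕ) : Bool :=
  rowUnit (rowT c 0) 0 && (rowUnit (rowT c 1) 1 && (rowUnit (rowT c 2) 2 && (rowUnit (rowT c 3) 3 && (rowUnit (rowT c 4) 4 && (rowUnit (rowT c 5) 5 && (rowUnit (rowT c 6) 6 && (rowUnit (rowT c 7) 7 && (rowUnit (rowT c 8) 8 && (rowUnit (rowT c 9) 9 && (rowUnit (rowT c 10) 10 && (rowUnit (rowT c 11) 11 && (rowUnit (rowT c 12) 12 && (rowUnit (rowT c 13) 13)))))))))))))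

/-! ### basic facts -/

theorem rowT_eq (c i : ℕ) : rowT c i = c / 2 ^ (112 * i) % 2 ^ 112 := by
  show (c >>> (112 * i)) % 5192296858534827628530496329220096 = _
  rw [Nat.shiftRight_eq_div_pow]
  norm_num

theorem byteT_eq (r j : ℕ) : byteT r j = r / 256 ^ j % 256 := by
  show (r >>> (8 * j)) % 256 = _
  rw [Nat.shiftRight_eq_div_pow, pow_mul]
  norm_num

theorem rowT_lt (c i : ℕ) : rowT c i < 256 ^ 14 := Nat.mod_lt _ (by norm_num)

theorem byteT_lt (r j : ℕ) : byteT r j < 256 := Nat.mod_lt _ (by norm_num)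

theorem byteT_zero (r : ℕ) : byteT r 0 = r % 256 := by rw [byteT_eq]; simp

theorem byteT_succ (r j : ℕ) : byteT r (j + 1) = byteT (r / 256) j := by
  rw [byteT_eq, byteT_eq, pow_succ', Nat.div_div_eq_div_mul]

/-! ### digit expansions -/

/-- the value of a digit sequence -/
def ev (n : ℕ) (x : ℕ → ℕ) : ℕ := ∑ j ∈ Finset.range n, x j * 256 ^ j

theorem ev_succ (n : ℕ) (x : ℕ → ℕ) : ev (n + 1) x = x 0 + 256 * ev n (fun j => x (j + 1)) := by
  unfold ev
  rw [Finset.sum_range_succ', Finset.mul_sum, pow_zero, mul_one, add_comm]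
  congr 1
  apply Finset.sum_congr rfl
  intro j _
  rw [pow_succ]
  ring

theorem ev_inj : ∀ (n : ℕ) (x y : ℕ → ℕ), (∀ j < n, x j < 256) → (∀ j < n, y j < 256) →
    ev n x = ev n y → ∀ j < n, x j = y j := by
  intro n
  induction n with
  | zero => intro x y _ _ _ j hj; omega
  | succ n ih =>
    intro x y hx hy h j hj
    rw [ev_succ, ev_succ] at h
    have hx0 := hx 0 (Nat.succ_pos n)
    have hy0 := hy 0 (Nat.succ_pos n)
    have h0 : x 0 = y 0 := by omega
    have h1 : ev n (fun j => x (j + 1)) = ev n (fun j => y (j + 1)) := by omega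
    cases j with
    | zero => exact h0
    | succ j =>
      exact ih (fun j => x (j + 1)) (fun j => y (j + 1)) (fun j hj => hx (j + 1) (by omega))
        (fun j hj => hy (j + 1) (by omega)) h1 j (by omega)

theorem ev_byte : ∀ (n r : ℕ), r < 256 ^ n → ev n (byteT r) = r := by
  intro n
  induction n with
  | zero => intro r hr; simp at hr; subst hr; rfl
  | succ n ih =>
    intro r hr
    rw [ev_succ, byteT_zero]
    have h1 : (fun j => byteT r (j + 1)) = byteT (r / 256) := by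
      funext j
      exact byteT_succ r j
    rw [h1, ih (r / 256) (by rw [pow_succ] at hr; omega)]
    omega

theorem ev_add (n : ℕ) (x y : ℕ → ℕ) : ev n (fun j => x j + y j) = ev n x + ev n y := by
  unfold ev
  rw [← Finset.sum_add_distrib]
  apply Finset.sum_congr rfl
  intro j _
  ring

theorem ev_smul (n c : ℕ) (x : ℕ → ℕ) : ev n (fun j => c * x j) = c * ev n x := by
  unfold ev
  rw [Finset.mul_sum]
  apply Finset.sum_congr rfl
  intro j _
  ring

theorem ev_sum (n m : ℕ) (x : ℕ → ℕ → ℕ) :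
    ev n (fun j => ∑ l ∈ Finset.range m, x l j) = ∑ l ∈ Finset.range m, ev n (x l) := by
  unfold ev
  rw [Finset.sum_comm]
  apply Finset.sum_congr rfl
  intro j _
  rw [Finset.sum_mul]

theorem lin14_eq (r g : ℕ) : lin14 r g = ∑ l ∈ Finset.range 14, byteT r l * rowT g l := by
  simp only [Finset.sum_range_succ, Finset.sum_range_zero, zero_add]
  rfl

/-! ### byte bounds from masks -/

theorem testBit_byteT_rowT (c i j k : ℕ) (hj : j < 14) (hk : k < 8) :
    (byteT (rowT c i) j).testBit k = c.testBit (8 * (14 * i + j) + k) := by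
  have h1 : byteT (rowT c i) j = (rowT c i / 2 ^ (8 * j)) % 2 ^ 8 := by
    rw [byteT_eq, pow_mul]
    norm_num
  rw [h1, Nat.testBit_mod_two_pow, Nat.testBit_div_two_pow, rowT_eq, Nat.testBit_mod_two_pow,
    Nat.testBit_div_two_pow]
  have e1 : decide (k < 8) = true := by rw [decide_eq_true_eq]; exact hk
  have e2 : decide (k + 8 * j < 112) = true := by rw [decide_eq_true_eq]; omega
  rw [e1, e2, Bool.true_and, Bool.true_and]
  congr 1
  ring

theorem byte_lt_of_mask (c M b : ℕ)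
    (hM : ∀ p < 196, ∀ k < 8, b ≤ k → Nat.testBit M (8 * p + k) = true)
    (h : Nat.land c M = 0) (i j : ℕ) (hi : i < 14) (hj : j < 14) : byteT (rowT c i) j < 2 ^ b := by
  apply Nat.lt_pow_two_of_testBit
  intro k hk
  by_cases hk8 : k < 8
  · rw [testBit_byteT_rowT c i j k hj hk8]
    have h1 : (c &&& M).testBit (8 * (14 * i + j) + k) = false := by
      have : c &&& M = 0 := h
      rw [this, Nat.zero_testBit]
    rw [Nat.testBit_and, hM (14 * i + j) (by omega) k hk8 hk, Bool.and_true] at h1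
    exact h1
  · have h1 : byteT (rowT c i) j < 2 ^ k :=
      lt_of_lt_of_le (byteT_lt _ _) (by
        calc 256 = 2 ^ 8 := by norm_num
          _ ≤ 2 ^ k := Nat.pow_le_pow_right (by norm_num) (by omega))
    exact Nat.testBit_lt_two_pow h1

set_option maxRecDepth 100000 in
theorem maskFC_spec : ∀ p < 196, ∀ k < 8, 2 ≤ k → Nat.testBit maskFC (8 * p + k) = true := by
  decide +kernel

set_option maxRecDepth 100000 in
theorem maskC0_spec : ∀ p < 196, ∀ k < 8, 6 ≤ k → Nat.testBit maskC0 (8 * p + k) = true := by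
  decide +kernel

theorem byte_le_of_canon {c : ℕ} (h : canonT c = true) (i j : ℕ) (hi : i < 14) (hj : j < 14) :
    byteT (rowT c i) j < 4 := by
  unfold canonT at h
  rw [Nat.beq_eq] at h
  exact byte_lt_of_mask c maskFC 2 maskFC_spec h i j hi hj

theorem byte_lt_of_small {c : ℕ} (h : smallT c = true) (i j : ℕ) (hi : i < 14) (hj : j < 14) :
    byteT (rowT c i) j < 64 := by
  unfold smallT at h
  rw [Nat.beq_eq] at h
  exact byte_lt_of_mask c maskC0 6 maskC0_spec h i j hi hj

/-! ### soundness of the product check -/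

theorem sum_idxS' {M : Type*} [AddCommMonoid M] (f : ℕ → M) :
    ∑ z : chevG2.Idx, f (idxS z) = ∑ k ∈ Finset.range 14, f k := by
  rw [Fintype.sum_sum_type]
  have h14 : Finset.range 14 = Finset.range (2 + 12) := rfl
  rw [h14, Finset.sum_range_add, ← Fin.sum_univ_eq_sum_range, ← Fin.sum_univ_eq_sum_range]
  rfl

theorem idxS_lt14 (x : chevG2.Idx) : idxS x < 14 := idxS_lt x

theorem rows_of_mulOK {a g t q : ℕ} (h : mulOK a g t q = true) (i : ℕ) (hi : i < 14) :
    lin14 (rowT a i) g = rowT t i + 3 * rowT q i := by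
  unfold mulOK at h
  simp only [Bool.and_eq_true, rowOK, Nat.beq_eq] at h
  obtain ⟨h0, h1, h2, h3, h4, h5, h6, h7, h8, h9, h10, h11, h12, h13⟩ := h
  interval_cases i
  · exact h0
  · exact h1
  · exact h2
  · exact h3
  · exact h4
  · exact h5
  · exact h6
  · exact h7
  · exact h8
  · exact h9
  · exact h10
  · exact h11
  · exact h12
  · exact h13

theorem entries_of_mulOK {a g t q : ℕ} (ha : canonT a = true) (hg : canonT g = true)
    (ht : canonT t = true) (hq : smallT q = true) (h : mulOK a g t q = true)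
    (i j : ℕ) (hi : i < 14) (hj : j < 14) :
    ∑ l ∈ Finset.range 14, byteT (rowT a i) l * byteT (rowT g l) j =
      byteT (rowT t i) j + 3 * byteT (rowT q i) j := by
  refine ev_inj 14 (fun j => ∑ l ∈ Finset.range 14, byteT (rowT a i) l * byteT (rowT g l) j)
    (fun j => byteT (rowT t i) j + 3 * byteT (rowT q i) j) ?_ ?_ ?_ j hj
  · intro j hj
    have hb : ∀ l ∈ Finset.range 14, byteT (rowT a i) l * byteT (rowT g l) j ≤ 9 := by
      intro l hl
      rw [Finset.mem_range] at hl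
      have h1 := byte_le_of_canon ha i l hi hl
      have h2 := byte_le_of_canon hg l j hl hj
      calc byteT (rowT a i) l * byteT (rowT g l) j ≤ 3 * 3 :=
            Nat.mul_le_mul (by omega) (by omega)
        _ = 9 := by norm_num
    have := Finset.sum_le_sum hb
    simp only [Finset.sum_const, Finset.card_range, smul_eq_mul] at this
    show ∑ l ∈ Finset.range 14, byteT (rowT a i) l * byteT (rowT g l) j < 256
    omega
  · intro j hj
    have h1 := byte_le_of_canon ht i j hi hj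
    have h2 := byte_lt_of_small hq i j hi hj
    show byteT (rowT t i) j + 3 * byteT (rowT q i) j < 256
    omega
  · have e1 : ev 14 (fun j => ∑ l ∈ Finset.range 14, byteT (rowT a i) l * byteT (rowT g l) j) =
        lin14 (rowT a i) g := by
      rw [ev_sum 14 14 (fun l j => byteT (rowT a i) l * byteT (rowT g l) j), lin14_eq]
      apply Finset.sum_congr rfl
      intro l _
      rw [ev_smul, ev_byte 14 _ (rowT_lt g l)]
    have e2 : ev 14 (fun j => byteT (rowT t i) j + 3 * byteT (rowT q i) j) =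
        rowT t i + 3 * rowT q i := by
      rw [ev_add 14 (byteT (rowT t i)) (fun j => 3 * byteT (rowT q i) j), ev_smul,
        ev_byte 14 _ (rowT_lt t i), ev_byte 14 _ (rowT_lt q i)]
    rw [e1, e2]
    exact rows_of_mulOK h i hi

theorem mulOK_sound {a g t q : ℕ} (ha : canonT a = true) (hg : canonT g = true)
    (ht : canonT t = true) (hq : smallT q = true) (h : mulOK a g t q = true) :
    decT a * decT g = decT t := by
  apply Matrix.ext
  intro x y
  rw [Matrix.mul_apply]
  simp only [decT]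
  rw [sum_idxS' (fun l => ((byteT (rowT a (idxS x)) l : ℕ) : ZMod 3) *
    ((byteT (rowT g l) (idxS y) : ℕ) : ZMod 3))]
  have key := entries_of_mulOK ha hg ht hq h (idxS x) (idxS y) (idxS_lt14 x) (idxS_lt14 y)
  have key' := congrArg (Nat.cast : ℕ → ZMod 3) key
  push_cast at key'
  rw [key']
  have h3 : (3 : ZMod 3) = 0 := by decide
  rw [h3, zero_mul, add_zero]

/-! ### detecting the identity -/

theorem exIdx (i : ℕ) (hi : i < 14) : ∃ x : chevG2.Idx, idxS x = i := by
  by_cases h : i < 2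
  · exact ⟨Sum.inl ⟨i, h⟩, rfl⟩
  · refine ⟨Sum.inr ⟨i - 2, ?_⟩, ?_⟩
    · show i - 2 < 12
      omega
    · show 2 + (i - 2) = i
      omega

theorem idxS_inj {x y : chevG2.Idx} (h : idxS x = idxS y) : x = y := by
  rcases x with x | x <;> rcases y with y | y
  · exact congrArg Sum.inl (Fin.ext h)
  · exfalso
    have h1 : x.val = 2 + y.val := h
    have h2 : x.val < 2 := x.2
    omega
  · exfalso
    have h1 : 2 + x.val = y.val := h
    have h2 : y.val < 2 := y.2
    omega
  · have h1 : 2 + x.val = 2 + y.val := h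
    exact congrArg Sum.inr (Fin.ext (by omega))

theorem byte_of_decT_one {c : ℕ} (h : decT c = 1) (i j : ℕ) (hi : i < 14) (hj : j < 14) :
    byteT (rowT c i) j % 3 = if j = i then 1 else 0 := by
  obtain ⟨x, hx⟩ := exIdx i hi
  obtain ⟨y, hy⟩ := exIdx j hj
  have h1 := congrFun (congrFun h x) y
  simp only [decT, hx, hy, Matrix.one_apply] at h1
  by_cases hij : j = i
  · have hxy : x = y := idxS_inj (by rw [hx, hy, hij])
    rw [if_pos hxy] at h1
    rw [if_pos hij]
    have h2 : ((byteT (rowT c i) j : ℕ) : ZMod 3) = ((1 : ℕ) : ZMod 3) := by rw [h1]; simp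
    rw [ZMod.natCast_eq_natCast_iff'] at h2
    exact h2
  · have hxy : x ≠ y := fun hxy => hij (by rw [← hx, ← hy, hxy])
    rw [if_neg hxy] at h1
    rw [if_neg hij]
    have h2 : ((byteT (rowT c i) j : ℕ) : ZMod 3) = ((0 : ℕ) : ZMod 3) := by rw [h1]; simp
    rw [ZMod.natCast_eq_natCast_iff'] at h2
    exact h2

theorem rowUnit_of {r i : ℕ} (h : ∀ j < 14, byteT r j % 3 = if j = i then 1 else 0) :
    rowUnit r i = true := by
  unfold rowUnit
  simp only [Bool.and_eq_true, Nat.beq_eq]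
  have key : ∀ j < 14, Nat.mod (byteT r j) 3 = (bif Nat.beq j i then 1 else 0) := by
    intro j hj
    have := h j hj
    by_cases hji : j = i
    · rw [if_pos hji] at this
      have hb : Nat.beq j i = true := by rw [Nat.beq_eq]; exact hji
      rw [hb]
      exact this
    · rw [if_neg hji] at this
      have hb : Nat.beq j i = false := by
        cases hb : Nat.beq j i
        · rfl
        · exact absurd (Nat.eq_of_beq_eq_true hb) hji
      rw [hb]
      exact this
  exact ⟨key 0 (by norm_num), key 1 (by norm_num), key 2 (by norm_num), key 3 (by norm_num),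
    key 4 (by norm_num), key 5 (by norm_num), key 6 (by norm_num), key 7 (by norm_num),
    key 8 (by norm_num), key 9 (by norm_num), key 10 (by norm_num), key 11 (by norm_num),
    key 12 (by norm_num), key 13 (by norm_num)⟩

theorem isOneT_of_decT {c : ℕ} (h : decT c = 1) : isOneT c = true := by
  have r : ∀ i < 14, rowUnit (rowT c i) i = true := fun i hi =>
    rowUnit_of (fun j hj => byte_of_decT_one h i j hi hj)
  unfold isOneT
  simp only [Bool.and_eq_true]
  exact ⟨r 0 (by norm_num), r 1 (by norm_num), r 2 (by norm_num), r 3 (by norm_num), r 4 (by norm_num),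
    r 5 (by norm_num), r 6 (by norm_num), r 7 (by norm_num), r 8 (by norm_num), r 9 (by norm_num),
    r 10 (by norm_num), r 11 (by norm_num), r 12 (by norm_num), r 13 (by norm_num)⟩

end Cfsg.Agent.Helper13.G2T
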