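import Mathlib
import Cfsg.Agent.Helper13.U42
import Cfsg.Agent.Helper13.G2T
import Cfsg.Agent.Helper13.G2F8

set_option autoImplicit false

/-! The per-index check of the joint table for `²G₂(3)′ ≃* PSL₂(8)`, and product chains. -/

namespace Cfsg.Agent.Helper13.G2R

open Cfsg.Agent.Helper13.U42 Cfsg.Agent.Helper13.G2T Cfsg.Agent.Helper13.G2F8 Cfsg Cfsg.Lie

/-- accessors of the packed tables -/
structure Data where
  gL : ℕ → ℕ
  gH : ℕ → ℕ
  gQA : ℕ → ℕ
  gQB : ℕ → ℕ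
  gS0 : ℕ → ℕ
  gS1 : ℕ → ℕ
  gPG : ℕ → ℕ
  gPI : ℕ → ℕ
  tVA : ℕ
  tVB : ℕ
  cAH : ℕ
  cBH : ℕ

/-- the check at index `k` -/
def chk (D : Data) (N k : ℕ) : Bool :=
  Nat.ble N k ||
  (Nat.blt (D.gS0 k) N && (Nat.blt (D.gS1 k) N &&
   (Nat.beq (mulrow8 D.tVA (D.gL k)) (D.gL (D.gS0 k)) &&
   (Nat.beq (mulrow8 D.tVB (D.gL k)) (D.gL (D.gS1 k)) &&
   (mulOK (D.gH k) D.cAH (D.gH (D.gS0 k)) (D.gQA k) &&
   (mulOK (D.gH k) D.cBH (D.gH (D.gS1 k)) (D.gQB k) &&
   (canonT (D.gH k) && (smallT (D.gQA k) && (smallT (D.gQB k) &&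
   ((Nat.beq k 0 || (Nat.blt (Nat.div (D.gPG k) 2) k &&
      Nat.beq (bif Nat.beq (Nat.mod (D.gPG k) 2) 0 then D.gS0 (Nat.div (D.gPG k) 2)
        else D.gS1 (Nat.div (D.gPG k) 2)) k)) &&
   (Nat.blt (D.gPI k) N &&
   ((Nat.ble N (Nat.succ k) || Nat.blt (D.gL (D.gPI k)) (D.gL (D.gPI (Nat.succ k)))) &&
   (Nat.beq k 0 || !(isOneT (D.gH k)))))))))))))))

/-- what the check establishes -/
structure ChkP (D : Data) (N k : ℕ) : Prop where
  s0lt : D.gS0 k < N
  s1lt : D.gS1 k < N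
  a8 : mulrow8 D.tVA (D.gL k) = D.gL (D.gS0 k)
  b8 : mulrow8 D.tVB (D.gL k) = D.gL (D.gS1 k)
  aT : mulOK (D.gH k) D.cAH (D.gH (D.gS0 k)) (D.gQA k) = true
  bT : mulOK (D.gH k) D.cBH (D.gH (D.gS1 k)) (D.gQB k) = true
  canon : canonT (D.gH k) = true
  smallA : smallT (D.gQA k) = true
  smallB : smallT (D.gQB k) = true
  tree : k = 0 ∨ (D.gPG k / 2 < k ∧
    (if D.gPG k % 2 = 0 then D.gS0 (D.gPG k / 2) else D.gS1 (D.gPG k / 2)) = k)
  pilt : D.gPI k < N
  sorted : N ≤ k + 1 ∨ D.gL (D.gPI k) < D.gL (D.gPI (k + 1))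
  ker : k = 0 ∨ isOneT (D.gH k) = false

theorem chk_spec (D : Data) (N k : ℕ) (hk : k < N) (h : chk D N k = true) : ChkP D N k := by
  unfold chk at h
  simp only [Bool.or_eq_true, Bool.and_eq_true, Nat.ble_eq, blt_iff, Nat.beq_eq, Bool.not_eq_true'] at h
  rcases h with h | h
  · omega
  obtain ⟨h1, h2, h3, h4, h5, h6, h7, h8, h9, h10, h11, h12, h13⟩ := h
  refine ⟨h1, h2, h3, h4, h5, h6, h7, h8, h9, ?_, h11, h12, h13⟩
  rcases h10 with h10 | ⟨h10, h10'⟩
  · exact Or.inl h10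
  · right
    refine ⟨h10, ?_⟩
    by_cases hm : D.gPG k % 2 = 0
    · rw [if_pos hm]
      have : Nat.beq (Nat.mod (D.gPG k) 2) 0 = true := by rw [Nat.beq_eq]; exact hm
      rw [this] at h10'
      exact h10'
    · rw [if_neg hm]
      have : Nat.beq (Nat.mod (D.gPG k) 2) 0 = false := by
        cases hb : Nat.beq (Nat.mod (D.gPG k) 2) 0
        · rfl
        · exact absurd (Nat.eq_of_beq_eq_true hb) hm
      rw [this] at h10'
      exact h10'

/-! ### product chains -/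

/-- `chainOK cs P Q s`: the product of the matrices with codes `cs` is the matrix with code `P s`,
with partial products `P (s + 1)`, … and certificates `Q s`, … -/
def chainOK (P Q : ℕ → ℕ) : List ℕ → ℕ → Bool
  | [], _ => false
  | [c], s => Nat.beq c (P s) && canonT c
  | c :: cs, s => mulOK c (P (s + 1)) (P s) (Q s) && (canonT c && (canonT (P s) && (smallT (Q s) &&
      chainOK P Q cs (s + 1))))

theorem chainOK_sound (P Q : ℕ → ℕ) : ∀ (cs : List ℕ) (s : ℕ), chainOK P Q cs s = true →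
    (cs.map decT).prod = decT (P s) ∧ canonT (P s) = true := by
  intro cs
  induction cs with
  | nil => intro s h; exact Bool.noConfusion h
  | cons c cs ih =>
    intro s h
    cases cs with
    | nil =>
      simp only [chainOK, Bool.and_eq_true, Nat.beq_eq] at h
      obtain ⟨h1, h2⟩ := h
      refine ⟨?_, by rw [← h1]; exact h2⟩
      rw [List.map_cons, List.map_nil, List.prod_cons, List.prod_nil, mul_one, h1]
    | cons c' cs' =>
      simp only [chainOK, Bool.and_eq_true] at h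
      obtain ⟨h1, h2, h3, h4, h5⟩ := h
      obtain ⟨ih1, ih2⟩ := ih (s + 1) h5
      refine ⟨?_, h3⟩
      rw [List.map_cons, List.prod_cons, ih1]
      exact mulOK_sound h2 ih2 h3 h4 h1

end Cfsg.Agent.Helper13.G2R
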