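import Mathlib

set_option autoImplicit false

/-!
# Group-theoretic lemmas for `²G₂(3)′ ≃* PSL₂(8)`

A certificate that the commutator subgroup of a group with generating set `S` lies in a subgroup `H`:
`H` is normalized by an element `x`, and every generator lies in a coset `H x⁻ⁿ`.
Also: the projective special linear group of degree two in characteristic two.
-/

namespace Cfsg.Agent.Helper13.G2RG

open scoped commutatorElement

section cert

variable {𝔾 : Type*} [Group 𝔾]

/-- conjugation by `x` preserves the subgroup generated by `a` and `b` -/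
theorem conj_mem_of_gens (H : Subgroup 𝔾) (a b x : 𝔾) (hH : H = Subgroup.closure {a, b})
    (hna : x * a * x⁻¹ ∈ H) (hnb : x * b * x⁻¹ ∈ H) : ∀ h ∈ H, x * h * x⁻¹ ∈ H := by
  intro h hh
  rw [hH] at hh
  induction hh using Subgroup.closure_induction with
  | mem g hg =>
    rcases hg with rfl | rfl
    · exact hna
    · exact hnb
  | one => simp [H.one_mem]
  | mul g h _ _ ihg ihh =>
    have : x * (g * h) * x⁻¹ = (x * g * x⁻¹) * (x * h * x⁻¹) := by group
    rw [this]
    exact H.mul_mem ihg ihh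
  | inv g _ ih =>
    have : x * g⁻¹ * x⁻¹ = (x * g * x⁻¹)⁻¹ := by group
    rw [this]
    exact H.inv_mem ih

/-- a certificate that the commutator subgroup of `closure S` lies in `H` -/
theorem comm_le_of_cyclic_cert (S : Set 𝔾) (H : Subgroup 𝔾) (x : 𝔾)
    (hx1 : ∀ h ∈ H, x * h * x⁻¹ ∈ H) (hx2 : ∀ h ∈ H, x⁻¹ * h * x ∈ H)
    (hS : ∀ s ∈ S, ∃ n : ℕ, s * x ^ n ∈ H) :
    ⁅Subgroup.closure S, Subgroup.closure S⁆ ≤ H := by
  have hxN : x ∈ Subgroup.normalizer (H : Set 𝔾) := by
    rw [Subgroup.mem_normalizer_iff]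
    intro h
    constructor
    · exact hx1 h
    · intro hh
      have := hx2 _ hh
      have e : x⁻¹ * (x * h * x⁻¹) * x = h := by group
      rw [e] at this
      exact this
  have hz : ∀ n : ℤ, ∀ h ∈ H, x ^ n * h * (x ^ n)⁻¹ ∈ H := by
    intro n h hh
    have : x ^ n ∈ Subgroup.normalizer (H : Set 𝔾) := Subgroup.zpow_mem _ hxN n
    exact (Subgroup.mem_normalizer_iff.mp this h).mp hh
  let T : Subgroup 𝔾 :=
    { carrier := {g | ∃ n : ℤ, g * x ^ n ∈ H}
      one_mem' := ⟨0, by simp [H.one_mem]⟩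
      mul_mem' := by
        rintro g₁ g₂ ⟨n, hn⟩ ⟨m, hm⟩
        refine ⟨m + n, ?_⟩
        have e : g₁ * g₂ * x ^ (m + n) = (g₁ * x ^ n) * (x ^ (-n) * (g₂ * x ^ m) * (x ^ (-n))⁻¹) := by
          group
        rw [e]
        exact H.mul_mem hn (hz (-n) _ hm)
      inv_mem' := by
        rintro g ⟨n, hn⟩
        refine ⟨-n, ?_⟩
        have e : g⁻¹ * x ^ (-n) = x ^ n * (g * x ^ n)⁻¹ * (x ^ n)⁻¹ := by group
        rw [e]
        exact hz n _ (H.inv_mem hn) }
  have hT : Subgroup.closure S ≤ T := by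
    rw [Subgroup.closure_le]
    intro s hs
    obtain ⟨n, hn⟩ := hS s hs
    exact ⟨(n : ℤ), by rw [zpow_natCast]; exact hn⟩
  rw [Subgroup.commutator_le]
  intro g₁ hg₁ g₂ hg₂
  obtain ⟨n, hn⟩ := hT hg₁
  obtain ⟨m, hm⟩ := hT hg₂
  have e : ⁅g₁, g₂⁆ = (g₁ * x ^ n) * (x ^ (-n) * (g₂ * x ^ m) * (x ^ (-n))⁻¹) *
      (x ^ (-m) * (g₁ * x ^ n)⁻¹ * (x ^ (-m))⁻¹) * (g₂ * x ^ m)⁻¹ := by
    rw [commutatorElement_def]
    group
  rw [e]
  exact H.mul_mem (H.mul_mem (H.mul_mem hn (hz (-n) _ hm)) (hz (-m) _ (H.inv_mem hn))) (H.inv_mem hm)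

end cert

section psl

variable {L : Type*} [Field L]

/-- in characteristic two, the special linear group of degree two has trivial centre -/
theorem center_SL2_eq_bot (h2 : (2 : L) = 0) :
    Subgroup.center (Matrix.SpecialLinearGroup (Fin 2) L) = ⊥ := by
  rw [Subgroup.eq_bot_iff_forall]
  intro A hA
  rw [Matrix.SpecialLinearGroup.mem_center_iff] at hA
  obtain ⟨r, hr, hA⟩ := hA
  have hr' : r ^ 2 = 1 := by simpa using hr
  have : (r - 1) * (r - 1) = 0 := by linear_combination hr' + (1 - r) * h2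
  have hr1 : r = 1 := by
    rcases mul_eq_zero.mp this with h | h <;> exact sub_eq_zero.mp h
  apply Subtype.ext
  rw [← hA, hr1]
  simp

/-- in characteristic two, `PSL₂` is `SL₂` -/
theorem psl2_equiv (h2 : (2 : L) = 0) :
    Nonempty (Matrix.SpecialLinearGroup (Fin 2) L ≃* Matrix.ProjectiveSpecialLinearGroup (Fin 2) L) :=
  ⟨(QuotientGroup.quotientBot).symm.trans
    (QuotientGroup.quotientMulEquivOfEq (center_SL2_eq_bot h2).symm)⟩

end psl

end Cfsg.Agent.Helper13.G2RG
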