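import Mathlib
import Cfsg.Prelude.Def_Chevalley
import Cfsg.Agent.Helper27.B2Bits

set_option autoImplicit false

/-!
# Group-theoretic lemmas for `G₂(2)′ ≃* PSU₃(3)`

A certificate for the equality of a commutator subgroup with a given subgroup, transport of the
commutator subgroup along isomorphisms, and base change for Chevalley groups.
-/

namespace Cfsg.Agent.Helper13.G2UG

open Cfsg Cfsg.Lie
open scoped commutatorElement

section cert

variable {𝔾 : Type*} [Group 𝔾]

/-- a certificate that the commutator subgroup of `closure S` is `H` -/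
theorem comm_eq_of_cert (S : Set 𝔾) (H : Subgroup 𝔾) (a b x : 𝔾)
    (hSinv : ∀ s ∈ S, s * s = 1) (hx : x * x = 1)
    (hle : H ≤ Subgroup.closure {a, b})
    (ha : a ∈ ⁅Subgroup.closure S, Subgroup.closure S⁆)
    (hb : b ∈ ⁅Subgroup.closure S, Subgroup.closure S⁆)
    (haH : a ∈ H) (hbH : b ∈ H)
    (hna : x * a * x⁻¹ ∈ H) (hnb : x * b * x⁻¹ ∈ H)
    (hcos : ∀ s ∈ S, s ∈ H ∨ s * x ∈ H) :
    ⁅Subgroup.closure S, Subgroup.closure S⁆ = H := by
  have hab : Subgroup.closure {a, b} ≤ H := by
    rw [Subgroup.closure_le]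
    intro g hg
    rcases hg with rfl | rfl
    · exact haH
    · exact hbH
  have hHeq : H = Subgroup.closure {a, b} := le_antisymm hle hab
  have hxinv : x⁻¹ = x := inv_eq_of_mul_eq_one_right hx
  have hconj : ∀ h ∈ H, x * h * x⁻¹ ∈ H := by
    intro h hh
    rw [hHeq] at hh
    induction hh using Subgroup.closure_induction with
    | mem g hg =>
      rcases hg with rfl | rfl
      · exact hna
      · exact hnb
    | one => simp [H.one_mem]
    | mul g h _ _ ihg ihh =>
      have : x * (g * h) * x⁻¹ = (x * g * x⁻¹) * (x * h * x⁻¹) := by group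
      rw [this]
      exact H.mul_mem ihg ihh
    | inv g _ ih =>
      have : x * g⁻¹ * x⁻¹ = (x * g * x⁻¹)⁻¹ := by group
      rw [this]
      exact H.inv_mem ih
  have hstep : ∀ g s : 𝔾, s ∈ S → (g ∈ H ∨ ∃ h ∈ H, g = h * x) →
      (g * s ∈ H ∨ ∃ h ∈ H, g * s = h * x) := by
    intro g s hs ih
    rcases hcos s hs with hsH | hsx
    · rcases ih with hg | ⟨h, hh, rfl⟩
      · exact Or.inl (H.mul_mem hg hsH)
      · right
        refine ⟨h * (x * s * x⁻¹), H.mul_mem hh (hconj s hsH), ?_⟩
        group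
    · have hs' : s = s * x * x := by rw [mul_assoc, hx, mul_one]
      rcases ih with hg | ⟨h, hh, rfl⟩
      · right
        refine ⟨g * (s * x), H.mul_mem hg hsx, ?_⟩
        rw [mul_assoc g (s * x) x, ← hs']
      · left
        have : h * x * s = h * (x * (s * x) * x⁻¹) := by
          rw [hxinv]
          conv_lhs => rw [hs']
          group
        rw [this]
        exact H.mul_mem hh (hconj _ hsx)
  have hT : ∀ g ∈ Subgroup.closure S, g ∈ H ∨ ∃ h ∈ H, g = h * x := by
    intro g hg
    induction hg using Subgroup.closure_induction_right with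
    | one => exact Or.inl H.one_mem
    | mul_right g _ s hs ih => exact hstep g s hs ih
    | mul_inv_cancel g _ s hs ih =>
      have : s⁻¹ = s := inv_eq_of_mul_eq_one_right (hSinv s hs)
      rw [this]
      exact hstep g s hs ih
  apply le_antisymm
  · rw [Subgroup.commutator_le]
    intro g₁ hg₁ g₂ hg₂
    rcases hT g₁ hg₁ with h1 | ⟨h₁, hh₁, rfl⟩ <;> rcases hT g₂ hg₂ with h2 | ⟨h₂, hh₂, rfl⟩
    · rw [commutatorElement_def]
      exact H.mul_mem (H.mul_mem (H.mul_mem h1 h2) (H.inv_mem h1)) (H.inv_mem h2)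
    · have : ⁅g₁, h₂ * x⁆ = g₁ * h₂ * (x * g₁⁻¹ * x⁻¹) * h₂⁻¹ := by
        rw [commutatorElement_def]; group
      rw [this]
      exact H.mul_mem (H.mul_mem (H.mul_mem h1 hh₂) (hconj _ (H.inv_mem h1))) (H.inv_mem hh₂)
    · have : ⁅h₁ * x, g₂⁆ = h₁ * (x * g₂ * x⁻¹) * h₁⁻¹ * g₂⁻¹ := by
        rw [commutatorElement_def]; group
      rw [this]
      exact H.mul_mem (H.mul_mem (H.mul_mem hh₁ (hconj _ h2)) (H.inv_mem hh₁)) (H.inv_mem h2)
    · have : ⁅h₁ * x, h₂ * x⁆ = h₁ * (x * (h₂ * h₁⁻¹) * x⁻¹) * h₂⁻¹ := by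
        rw [commutatorElement_def]; group
      rw [this]
      exact H.mul_mem (H.mul_mem hh₁ (hconj _ (H.mul_mem hh₂ (H.inv_mem hh₁)))) (H.inv_mem hh₂)
  · rw [hHeq, Subgroup.closure_le]
    intro g hg
    rcases hg with rfl | rfl
    · exact ha
    · exact hb

end cert

section transport

/-- the commutator subgroup is transported by an isomorphism -/
theorem commutator_congr {G₁ G₂ : Type*} [Group G₁] [Group G₂] (e : G₁ ≃* G₂) :
    Nonempty (commutator G₁ ≃* commutator G₂) := by
  have h : (commutator G₁).map e.toMonoidHom = commutator G₂ := by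
    rw [commutator_def, commutator_def, Subgroup.map_commutator,
      Subgroup.map_top_of_surjective e.toMonoidHom e.surjective]
  exact ⟨(e.subgroupMap (commutator G₁)).trans (MulEquiv.subgroupCongr h)⟩

/-- the commutator subgroup of a subgroup, inside the ambient group -/
theorem commutator_subgroup_equiv {𝔾 : Type*} [Group 𝔾] (G : Subgroup 𝔾) :
    Nonempty (commutator G ≃* (⁅G, G⁆ : Subgroup 𝔾)) := by
  have h := Subgroup.map_subtype_commutator G
  exact ⟨((commutator G).equivMapOfInjective G.subtype G.subtype_injective).trans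
    (MulEquiv.subgroupCongr h)⟩

end transport

section basechange

open Cfsg.Agent.Helper27

/-- Chevalley groups over isomorphic fields are isomorphic -/
theorem group_base_change (D : ChevalleyDatum) {F F' : Type*} [Field F] [Field F'] (e : F ≃+* F') :
    Nonempty (D.group F ≃* D.group F') := by
  let Φ : GL D.Idx F ≃* GL D.Idx F' := Units.mapEquiv (RingEquiv.mapMatrix e).toMulEquiv
  have hΦ : ∀ g : GL D.Idx F, ((Φ g : GL D.Idx F') : Matrix D.Idx D.Idx F') =
      (g : Matrix D.Idx D.Idx F).map (e : F →+* F') := fun g => rfl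
  have hΦs : ∀ g : GL D.Idx F', ((Φ.symm g : GL D.Idx F) : Matrix D.Idx D.Idx F) =
      (g : Matrix D.Idx D.Idx F').map (e.symm : F' →+* F) := fun g => rfl
  have hmap : (D.group F).map Φ.toMonoidHom = D.group F' := by
    unfold ChevalleyDatum.group
    rw [MonoidHom.map_closure]
    congr 1
    ext h
    constructor
    · rintro ⟨g, ⟨r, t, hg⟩, rfl⟩
      refine ⟨r, e t, ?_⟩
      rw [MulEquiv.coe_toMonoidHom, hΦ, hg, xMat_map]
      rfl
    · rintro ⟨r, t, hh⟩
      refine ⟨Φ.symm h, ⟨r, e.symm t, ?_⟩, ?_⟩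
      · rw [hΦs, hh, xMat_map]
        rfl
      · rw [MulEquiv.coe_toMonoidHom, MulEquiv.apply_symm_apply]
  exact ⟨(Φ.subgroupMap _).trans (MulEquiv.subgroupCongr hmap)⟩

end basechange

end Cfsg.Agent.Helper13.G2UG
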