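import Mathlib
import Cfsg.Prelude.Def_LieTwisted
import Cfsg.Agent.Helper13.G2R
import Cfsg.Agent.Helper13.G2RD
import Cfsg.Agent.Helper13.G2RW
import Cfsg.Agent.Helper13.G2RG
import Cfsg.Agent.Helper13.G2UG
import Cfsg.Agent.Helper2.SL2Sylow

set_option autoImplicit false

/-! Assembly of `²G₂(3)′ ≃* PSL₂(8)` from the verified table. -/

namespace Cfsg.Agent.Helper13.G2RA

open Cfsg.Agent.Helper13.U42 Cfsg.Agent.Helper13.G2T Cfsg.Agent.Helper13.G2F8 Cfsg.Agent.Helper13.G2R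
  Cfsg.Agent.Helper13.G2RD Cfsg.Agent.Helper13.G2RW Cfsg.Agent.Helper13.G2RG Cfsg.Agent.Helper13.G2UG
  Cfsg Cfsg.Lie Matrix
open scoped commutatorElement

/-- the order -/
abbrev NN : ℕ := 504

theorem chkP (k : ℕ) (hk : k < NN) : G2R.ChkP D NN k :=
  G2R.chk_spec D NN k hk (allRange_spec _ 9 0 chk_all k (Nat.zero_le _) (by norm_num [NN] at hk ⊢; omega))

theorem gL_lt (k : ℕ) : gL k < 4096 := Nat.mod_lt _ (by norm_num)

theorem gS0_lt {k : ℕ} (hk : k < NN) : gS0 k < NN := (chkP k hk).s0lt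
theorem gS1_lt {k : ℕ} (hk : k < NN) : gS1 k < NN := (chkP k hk).s1lt

theorem htree : ∀ k, 0 < k → k < NN → gPG k / 2 < k ∧
    (if gPG k % 2 = 0 then gS0 (gPG k / 2) else gS1 (gPG k / 2)) = k := by
  intro k hpos hk
  rcases (chkP k hk).tree with h | h
  · omega
  · exact h

theorem gL_inj : ∀ i < NN, ∀ j < NN, gL i = gL j → i = j := by
  apply injOn_of_sorted NN gL gPI
  · intro j hj
    exact (chkP j hj).pilt
  · intro j hj
    rcases (chkP j (by omega)).sorted with h | h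
    · omega
    · exact h

/-! ### the special linear side -/

section SL

variable {L : Type*} [Field L] [Fintype L] {ζ : L}

/-- the enumeration of `SL₂(8)` -/
def e1 (ζ : L) (k : ℕ) : Matrix (Fin 2) (Fin 2) L := decM8 ζ (gL k)

omit [Fintype L] in
theorem e1_zero : e1 ζ 0 = 1 := by
  unfold e1
  rw [gL_zero]
  exact decM8_one ζ

omit [Fintype L] in
theorem e1_step (hζ : IsF8 ζ) {k : ℕ} (hk : k < NN) :
    e1 ζ (gS0 k) = e1 ζ k * decM8 ζ cA8 ∧ e1 ζ (gS1 k) = e1 ζ k * decM8 ζ cB8 := by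
  constructor
  · unfold e1
    rw [decM8_mulrow hζ tabA8]
    exact congrArg (decM8 ζ) (chkP k hk).a8.symm
  · unfold e1
    rw [decM8_mulrow hζ tabB8]
    exact congrArg (decM8 ζ) (chkP k hk).b8.symm

omit [Fintype L] in
theorem e1_inj (hζ : IsF8 ζ) : ∀ i < NN, ∀ j < NN, e1 ζ i = e1 ζ j → i = j := by
  intro i hi j hj h
  exact gL_inj i hi j hj (decM8_inj hζ (gL_lt i) (gL_lt j) h)

/-- membership in `SL₂` on the level of matrices -/
def InSL (A : Matrix (Fin 2) (Fin 2) L) : Prop :=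
  ∃ g : SpecialLinearGroup (Fin 2) L, (g : Matrix (Fin 2) (Fin 2) L) = A

omit [Fintype L] in
theorem inSL_one : InSL (1 : Matrix (Fin 2) (Fin 2) L) := ⟨1, rfl⟩

omit [Fintype L] in
theorem inSL_mul {A B : Matrix (Fin 2) (Fin 2) L} (hA : InSL A) (hB : InSL B) : InSL (A * B) := by
  obtain ⟨g, rfl⟩ := hA
  obtain ⟨h, rfl⟩ := hB
  exact ⟨g * h, rfl⟩

omit [Fintype L] in
theorem inSL_e1 (hζ : IsF8 ζ) : ∀ k < NN, InSL (e1 ζ k) := by
  refine tree_ind NN gS0 gS1 gPG htree (fun k => InSL (e1 ζ k)) ?_ ?_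
  · rw [e1_zero]; exact inSL_one
  · intro k hk ih
    obtain ⟨h1, h2⟩ := e1_step hζ hk
    rw [h1, h2]
    exact ⟨inSL_mul ih ⟨⟨decM8 ζ cA8, detOK8_spec hζ detA8⟩, rfl⟩,
      inSL_mul ih ⟨⟨decM8 ζ cB8, detOK8_spec hζ detB8⟩, rfl⟩⟩

theorem card_SL (hL : Fintype.card L = 8) : Nat.card (SpecialLinearGroup (Fin 2) L) = NN := by
  rw [Cfsg.Agent.Helper2.SL2.card_SL2, hL]
  norm_num

end SL

/-! ### the Ree side -/

/-- the invertible matrices of degree 14 over the field with three elements -/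
abbrev GG3 : Type := GL chevG2.Idx (ZMod 3)

/-- the enumeration of the subgroup of `²G₂(3)` -/
def e2 (k : ℕ) : Matrix chevG2.Idx chevG2.Idx (ZMod 3) := decT (gH k)

theorem decT_one : decT cOne = 1 := Matrix.ext fun i j => decT_one_entry (i, j)

theorem e2_zero : e2 0 = 1 := by
  unfold e2
  rw [gH_zero]
  exact decT_one

theorem e2_step {k : ℕ} (hk : k < NN) :
    e2 (gS0 k) = e2 k * decT cAH ∧ e2 (gS1 k) = e2 k * decT cBH := by
  have c := chkP k hk
  constructor
  · exact (mulOK_sound c.canon canonA (chkP _ c.s0lt).canon c.smallA c.aT).symm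
  · exact (mulOK_sound c.canon canonB (chkP _ c.s1lt).canon c.smallB c.bT).symm

theorem e2_ker {k : ℕ} (hk : k < NN) (h : e2 k = 1) : k = 0 := by
  rcases (chkP k hk).ker with h0 | h0
  · exact h0
  · have h1 : isOneT (gH k) = true := isOneT_of_decT h
    have h2 : isOneT (gH k) = false := h0
    rw [h1] at h2
    exact Bool.noConfusion h2

/-! ### the homomorphism -/

section Hom

variable {L : Type*} [Field L] [Fintype L]

theorem sl_hom (hL : Fintype.card L = 8) :
    ∃ Ψ : SpecialLinearGroup (Fin 2) L →* GG3, Function.Injective Ψ ∧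
      (∀ g, ∃ k < NN, ((Ψ g : GG3) : Matrix chevG2.Idx chevG2.Idx (ZMod 3)) = e2 k) ∧
      (∀ k < NN, ∃ g, ((Ψ g : GG3) : Matrix chevG2.Idx chevG2.Idx (ZMod 3)) = e2 k) := by
  classical
  obtain ⟨ζ, hζ⟩ := exists_isF8 hL
  have hIn := inSL_e1 hζ
  let f : Fin NN → SpecialLinearGroup (Fin 2) L := fun k => (hIn k.val k.2).choose
  have hf : ∀ k : Fin NN, ((f k : SpecialLinearGroup (Fin 2) L) : Matrix (Fin 2) (Fin 2) L) = e1 ζ k.val :=
    fun k => (hIn k.val k.2).choose_spec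
  have hfinj : Function.Injective f := by
    intro i j hij
    have h1 : e1 ζ i.val = e1 ζ j.val := by rw [← hf i, ← hf j, hij]
    exact Fin.ext (e1_inj hζ i.val i.2 j.val j.2 h1)
  have hfbij : Function.Bijective f :=
    hfinj.bijective_of_nat_card_le (by rw [card_SL hL, Nat.card_fin])
  let E : Fin NN ≃ SpecialLinearGroup (Fin 2) L := Equiv.ofBijective f hfbij
  have h0 : (0 : ℕ) < NN := by norm_num
  have hjoint := joint_mul NN gS0 gS1 gPG htree (fun k hk => ⟨gS0_lt hk, gS1_lt hk⟩)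
    (e1 ζ) (decM8 ζ cA8) (decM8 ζ cB8) e1_zero (fun k hk => e1_step hζ hk)
    e2 (decT cAH) (decT cBH) e2_zero (fun k hk => e2_step hk)
  have hE1 : E ⟨0, h0⟩ = 1 := by
    apply Subtype.ext
    show ((f ⟨0, h0⟩ : SpecialLinearGroup (Fin 2) L) : Matrix (Fin 2) (Fin 2) L) = 1
    rw [hf, e1_zero]
  let ψ : SpecialLinearGroup (Fin 2) L → Matrix chevG2.Idx chevG2.Idx (ZMod 3) :=
    fun g => e2 (E.symm g).val
  have hψone : ψ 1 = 1 := by
    simp only [ψ]
    rw [← hE1, Equiv.symm_apply_apply]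
    exact e2_zero
  have hψmul : ∀ g h, ψ (g * h) = ψ g * ψ h := by
    intro g h
    obtain ⟨i, rfl⟩ := E.surjective g
    obtain ⟨j, rfl⟩ := E.surjective h
    obtain ⟨k, hk, hk1, hk2⟩ := hjoint j.val j.2 i.val i.2
    have hprod : E i * E j = E ⟨k, hk⟩ := by
      apply Subtype.ext
      show ((f i : SpecialLinearGroup (Fin 2) L) : Matrix (Fin 2) (Fin 2) L) *
        ((f j : SpecialLinearGroup (Fin 2) L) : Matrix (Fin 2) (Fin 2) L) =
        ((f ⟨k, hk⟩ : SpecialLinearGroup (Fin 2) L) : Matrix (Fin 2) (Fin 2) L)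
      rw [hf, hf, hf]
      exact hk1
    simp only [ψ]
    rw [hprod, Equiv.symm_apply_apply, Equiv.symm_apply_apply, Equiv.symm_apply_apply]
    exact hk2.symm
  let Ψ' : SpecialLinearGroup (Fin 2) L →* Matrix chevG2.Idx chevG2.Idx (ZMod 3) :=
    { toFun := ψ, map_one' := hψone, map_mul' := hψmul }
  let Ψ : SpecialLinearGroup (Fin 2) L →* GG3 := Ψ'.toHomUnits
  have hΨ : ∀ g, ((Ψ g : GG3) : Matrix chevG2.Idx chevG2.Idx (ZMod 3)) = e2 (E.symm g).val :=
    fun g => rfl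
  refine ⟨Ψ, ?_, ?_, ?_⟩
  · rw [injective_iff_map_eq_one]
    intro g hg
    have h1 : e2 (E.symm g).val = 1 := by
      rw [← hΨ, hg]
      rfl
    have h2 := e2_ker (E.symm g).2 h1
    have h3 : E.symm g = ⟨0, h0⟩ := Fin.ext h2
    rw [← hE1, ← h3, Equiv.apply_symm_apply]
  · intro g
    exact ⟨(E.symm g).val, (E.symm g).2, hΨ g⟩
  · intro k hk
    exact ⟨E ⟨k, hk⟩, by rw [hΨ, Equiv.symm_apply_apply]⟩

end Hom

/-! ### the Ree group -/

section Ree

/-- the generating set -/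
def rS : Set GG3 :=
  {g | ∃ w ∈ g2Words (ZMod 3) 1,
    (g : Matrix chevG2.Idx chevG2.Idx (ZMod 3)) = chevG2.wordMat (ZMod 3) w}

theorem ree_eq : twistedG2 (ZMod 3) 1 = Subgroup.closure rS := rfl

theorem x_eq (r : ℕ) (hr : r < 12) (c : ZMod 3) : chevG2.x (ZMod 3) r c = decT (xT r c.val) := by
  unfold ChevalleyDatum.x
  rw [dif_pos (show r < chevG2.nroots from hr)]
  exact Matrix.ext fun i j => xT_entry (⟨r, hr⟩, c, i, j)

theorem wordMat_eq (n : ℕ) (hn : n < 54) :
    chevG2.wordMat (ZMod 3) (wordOf n) = decT (wc n) ∧ canonT (wc n) = true := by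
  have h := chainOK_sound _ _ _ 0 (words_ok n hn)
  refine ⟨?_, h.2⟩
  unfold ChevalleyDatum.wordMat
  have h1 : decT (wc n) = (List.map decT (List.map (fun p => xT p.1 p.2.val) (wordOf n))).prod := h.1.symm
  rw [h1, List.map_map]
  congr 1
  apply List.map_congr_left
  intro p hp
  exact x_eq p.1 (words_lt n hn p hp) p.2

theorem rS_cases (s : GG3) (hs : s ∈ rS) : ∃ n < 54,
    (s : Matrix chevG2.Idx chevG2.Idx (ZMod 3)) = decT (wc n) ∧ canonT (wc n) = true := by
  obtain ⟨w, ⟨t, u, v, hw⟩, hsv⟩ := hs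
  have ht := ZMod.val_lt t
  have hu := ZMod.val_lt u
  have hv := ZMod.val_lt v
  rcases hw with rfl | rfl
  · have hn : 2 * (9 * t.val + 3 * u.val + v.val) < 54 := by omega
    refine ⟨_, hn, ?_, (wordMat_eq _ hn).2⟩
    rw [hsv, (words_eq t u v).1]
    exact (wordMat_eq _ hn).1
  · have hn : 2 * (9 * t.val + 3 * u.val + v.val) + 1 < 54 := by omega
    refine ⟨_, hn, ?_, (wordMat_eq _ hn).2⟩
    rw [hsv, (words_eq t u v).2]
    exact (wordMat_eq _ hn).1

/-- a unit from a certificate of an inverse -/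
def mkUnit (c d : ℕ) (h : decT c * decT d = 1) : GG3 :=
  ⟨decT c, decT d, h, _root_.mul_eq_one_comm.mp h⟩

theorem chain2 {P Q C : ℕ → ℕ} (h : chainOK P Q [C 0, C 1] 0 = true) :
    decT (C 0) * decT (C 1) = decT (P 0) := by
  have := (chainOK_sound P Q _ 0 h).1
  simpa [List.prod_cons] using this

theorem chain3 {P Q C : ℕ → ℕ} (h : chainOK P Q [C 0, C 1, C 2] 0 = true) :
    decT (C 0) * decT (C 1) * decT (C 2) = decT (P 0) := by
  have := (chainOK_sound P Q _ 0 h).1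
  simpa [List.prod_cons, mul_assoc] using this

theorem chain4 {P Q C : ℕ → ℕ} (h : chainOK P Q [C 0, C 1, C 2, C 3] 0 = true) :
    decT (C 0) * decT (C 1) * decT (C 2) * decT (C 3) = decT (P 0) := by
  have := (chainOK_sound P Q _ 0 h).1
  simpa [List.prod_cons, mul_assoc] using this

theorem hx3 : decT (xe 1) * decT (xe 2) = 1 := by
  have h := chain2 ch_x3
  rw [id_x3.1, id_x3.2.1, id_x3.2.2, decT_one] at h
  exact h

theorem hx2 : decT (xe 1) * decT (xe 1) = decT (xe 2) := by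
  have h := chain2 ch_x2
  rw [id_x2.1, id_x2.2.1, id_x2.2.2] at h
  exact h

theorem hinv7 : decT (wc 7) * decT (wc 13) = 1 := by
  have h := chain2 ch_inv7
  rw [id_inv7.1, id_inv7.2.1, id_inv7.2.2, decT_one] at h
  exact h

theorem hinv18 : decT (wc 18) * decT (wc 50) = 1 := by
  have h := chain2 ch_inv18
  rw [id_inv18.1, id_inv18.2.1, id_inv18.2.2, decT_one] at h
  exact h

/-- the coset representative -/
def X : GG3 := mkUnit (xe 1) (xe 2) hx3
/-- two more generators -/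
def Y7 : GG3 := mkUnit (wc 7) (wc 13) hinv7
/-- two more generators -/
def Y18 : GG3 := mkUnit (wc 18) (wc 50) hinv18

theorem w6_eq : wordOf 6 = reeWordU 1 (0 : ZMod 3) 1 0 := by decide
theorem w7_eq : wordOf 7 = reeWordV 1 (0 : ZMod 3) 1 0 := by decide
theorem w18_eq : wordOf 18 = reeWordU 1 (1 : ZMod 3) 0 0 := by decide

theorem X_mem : X ∈ Subgroup.closure rS := by
  apply Subgroup.subset_closure
  refine ⟨wordOf 6, ⟨0, 1, 0, Or.inl w6_eq⟩, ?_⟩
  show decT (xe 1) = _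
  rw [(wordMat_eq 6 (by norm_num)).1, xe_one]

theorem Y7_mem : Y7 ∈ Subgroup.closure rS := by
  apply Subgroup.subset_closure
  refine ⟨wordOf 7, ⟨0, 1, 0, Or.inr w7_eq⟩, ?_⟩
  show decT (wc 7) = _
  rw [(wordMat_eq 7 (by norm_num)).1]

theorem Y18_mem : Y18 ∈ Subgroup.closure rS := by
  apply Subgroup.subset_closure
  refine ⟨wordOf 18, ⟨1, 0, 0, Or.inl w18_eq⟩, ?_⟩
  show decT (wc 18) = _
  rw [(wordMat_eq 18 (by norm_num)).1]

theorem X_pow_val (e : ℕ) (he : e < 3) :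
    ((X ^ e : GG3) : Matrix chevG2.Idx chevG2.Idx (ZMod 3)) = decT (xe e) := by
  interval_cases e
  · rw [pow_zero]
    exact decT_one.symm
  · rw [pow_one]
    rfl
  · rw [pow_two, Units.val_mul]
    exact hx2

theorem comm_eq (H : Subgroup GG3)
    (h1 : ∀ g ∈ H, ∃ k < NN, ((g : GG3) : Matrix chevG2.Idx chevG2.Idx (ZMod 3)) = e2 k)
    (h2 : ∀ k < NN, ∃ g ∈ H, ((g : GG3) : Matrix chevG2.Idx chevG2.Idx (ZMod 3)) = e2 k) :
    ⁅twistedG2 (ZMod 3) 1, twistedG2 (ZMod 3) 1⁆ = H := by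
  have h0 : (0 : ℕ) < NN := by norm_num
  obtain ⟨a, haH, ha⟩ := h2 (gS0 0) (gS0_lt h0)
  obtain ⟨b, hbH, hb⟩ := h2 (gS1 0) (gS1_lt h0)
  have ha' : ((a : GG3) : Matrix chevG2.Idx chevG2.Idx (ZMod 3)) = decT cAH := by
    rw [ha]; unfold e2; rw [gH_A]
  have hb' : ((b : GG3) : Matrix chevG2.Idx chevG2.Idx (ZMod 3)) = decT cBH := by
    rw [hb]; unfold e2; rw [gH_B]
  -- `H` is generated by `a` and `b`
  have P : ∀ k < NN, ∀ g : GG3, ((g : GG3) : Matrix chevG2.Idx chevG2.Idx (ZMod 3)) = e2 k →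
      g ∈ Subgroup.closure {a, b} := by
    refine tree_ind NN gS0 gS1 gPG htree (fun k => ∀ g : GG3,
      ((g : GG3) : Matrix chevG2.Idx chevG2.Idx (ZMod 3)) = e2 k → g ∈ Subgroup.closure {a, b}) ?_ ?_
    · intro g hg
      have : g = 1 := Units.ext (by rw [hg, e2_zero]; rfl)
      rw [this]
      exact Subgroup.one_mem _
    · intro k hk ih
      obtain ⟨g', -, hg'⟩ := h2 k hk
      obtain ⟨s0, s1⟩ := e2_step hk
      constructor
      · intro g hg
        have : g = g' * a := Units.ext (by rw [Units.val_mul, hg', ha', hg, s0])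
        rw [this]
        exact Subgroup.mul_mem _ (ih g' hg') (Subgroup.subset_closure (by simp))
      · intro g hg
        have : g = g' * b := Units.ext (by rw [Units.val_mul, hg', hb', hg, s1])
        rw [this]
        exact Subgroup.mul_mem _ (ih g' hg') (Subgroup.subset_closure (by simp))
  have hle : H ≤ Subgroup.closure {a, b} := by
    intro g hg
    obtain ⟨k, hk, hgk⟩ := h1 g hg
    exact P k hk g hgk
  have hab : Subgroup.closure {a, b} ≤ H := by
    rw [Subgroup.closure_le]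
    intro g hg
    rcases hg with rfl | rfl
    · exact haH
    · exact hbH
  have hHeq : H = Subgroup.closure {a, b} := le_antisymm hle hab
  have hXinv : ((X⁻¹ : GG3) : Matrix chevG2.Idx chevG2.Idx (ZMod 3)) = decT (xe 2) := rfl
  have hXval : ((X : GG3) : Matrix chevG2.Idx chevG2.Idx (ZMod 3)) = decT (xe 1) := rfl
  -- conjugation certificates
  have conj : ∀ (u v : GG3) (cu cv ct k : ℕ), k < NN →
      ((u : GG3) : Matrix chevG2.Idx chevG2.Idx (ZMod 3)) = decT cu →
      ((v : GG3) : Matrix chevG2.Idx chevG2.Idx (ZMod 3)) = decT cv →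
      ∀ c : GG3, ((c : GG3) : Matrix chevG2.Idx chevG2.Idx (ZMod 3)) = decT ct →
      decT cu * decT ct * decT cv = decT (gH k) → u * c * v ∈ H := by
    intro u v cu cv ct k hk hu hv c hc hprod
    obtain ⟨g, hg, hgv⟩ := h2 k hk
    have : u * c * v = g := Units.ext (by
      rw [Units.val_mul, Units.val_mul, hu, hv, hc, hprod, hgv]; rfl)
    rw [this]
    exact hg
  have hnA : X * a * X⁻¹ ∈ H := by
    refine conj X X⁻¹ (xe 1) (xe 2) cAH 420 (by norm_num) hXval hXinv a ha' ?_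
    have h := chain3 ch_nA
    rw [id_nA.1, id_nA.2.1, id_nA.2.2.1, id_nA.2.2.2] at h
    exact h
  have hnB : X * b * X⁻¹ ∈ H := by
    refine conj X X⁻¹ (xe 1) (xe 2) cBH 2 (by norm_num) hXval hXinv b hb' ?_
    have h := chain3 ch_nB
    rw [id_nB.1, id_nB.2.1, id_nB.2.2.1, id_nB.2.2.2] at h
    exact h
  have hnA2 : X⁻¹ * a * X⁻¹⁻¹ ∈ H := by
    rw [inv_inv]
    refine conj X⁻¹ X (xe 2) (xe 1) cAH 385 (by norm_num) hXinv hXval a ha' ?_
    have h := chain3 ch_nA2
    rw [id_nA2.1, id_nA2.2.1, id_nA2.2.2.1, id_nA2.2.2.2] at h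
    exact h
  have hnB2 : X⁻¹ * b * X⁻¹⁻¹ ∈ H := by
    rw [inv_inv]
    refine conj X⁻¹ X (xe 2) (xe 1) cBH 2 (by norm_num) hXinv hXval b hb' ?_
    have h := chain3 ch_nB2
    rw [id_nB2.1, id_nB2.2.1, id_nB2.2.2.1, id_nB2.2.2.2] at h
    exact h
  rw [ree_eq]
  apply le_antisymm
  · apply comm_le_of_cyclic_cert rS H X
    · exact conj_mem_of_gens H a b X hHeq hnA hnB
    · intro h hh
      have := conj_mem_of_gens H a b X⁻¹ hHeq hnA2 hnB2 h hh
      rw [inv_inv] at this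
      exact this
    · intro s hs
      obtain ⟨n, hn, hval, hcan⟩ := rS_cases s hs
      obtain ⟨hm, he, hmul, hsm⟩ := coset_ok n hn
      refine ⟨eT n, ?_⟩
      obtain ⟨g, hg, hgv⟩ := h2 (mT n) hm
      have : s * X ^ eT n = g := Units.ext (by
        rw [Units.val_mul, hval, X_pow_val _ he, hgv,
          mulOK_sound hcan (xe_canon _ he) (chkP _ hm).canon hsm hmul]
        rfl)
      rw [this]
      exact hg
  · rw [hHeq, Subgroup.closure_le]
    intro g hg
    rcases hg with rfl | rfl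
    · have : g = ⁅X, Y7⁆ := by
        apply Units.ext
        rw [commutatorElement_def, ha', Units.val_mul, Units.val_mul, Units.val_mul]
        show _ = decT (xe 1) * decT (wc 7) * decT (xe 2) * decT (wc 13)
        have h := chain4 ch_commA
        rw [id_commA.1, id_commA.2.1, id_commA.2.2.1, id_commA.2.2.2.1, id_commA.2.2.2.2] at h
        exact h.symm
      rw [this]
      exact Subgroup.commutator_mem_commutator X_mem Y7_mem
    · have : g = ⁅X, Y18⁆ := by
        apply Units.ext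
        rw [commutatorElement_def, hb', Units.val_mul, Units.val_mul, Units.val_mul]
        show _ = decT (xe 1) * decT (wc 18) * decT (xe 2) * decT (wc 50)
        have h := chain4 ch_commB
        rw [id_commB.1, id_commB.2.1, id_commB.2.2.1, id_commB.2.2.2.1, id_commB.2.2.2.2] at h
        exact h.symm
      rw [this]
      exact Subgroup.commutator_mem_commutator X_mem Y18_mem

end Ree

/-! ### the isomorphism -/

section Final

variable {L : Type*} [Field L] [Fintype L]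

theorem ree_comm_equiv_sl (hL : Fintype.card L = 8) :
    Nonempty (commutator (twistedG2 (ZMod 3) 1) ≃* SpecialLinearGroup (Fin 2) L) := by
  obtain ⟨Ψ, hinj, h1, h2⟩ := sl_hom hL
  have hH := comm_eq Ψ.range (by rintro _ ⟨g, rfl⟩; exact h1 g)
    (fun k hk => by obtain ⟨g, hg⟩ := h2 k hk; exact ⟨Ψ g, ⟨g, rfl⟩, hg⟩)
  obtain ⟨e1⟩ := commutator_subgroup_equiv (twistedG2 (ZMod 3) 1)
  exact ⟨e1.trans ((MulEquiv.subgroupCongr hH).trans (MonoidHom.ofInjective hinj).symm)⟩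

theorem ree_result (hL : Fintype.card L = 8) :
    Nat.card (commutator (twistedG2 (ZMod 3) 1)) = 504 ∧
      Nonempty (commutator (twistedG2 (ZMod 3) 1) ≃* Matrix.ProjectiveSpecialLinearGroup (Fin 2) L) := by
  obtain ⟨e⟩ := ree_comm_equiv_sl hL
  obtain ⟨ζ, hζ⟩ := exists_isF8 hL
  obtain ⟨e'⟩ := psl2_equiv (L := L) hζ.two
  exact ⟨by rw [Nat.card_congr e.toEquiv, card_SL hL], ⟨e.trans e'⟩⟩

end Final

end Cfsg.Agent.Helper13.G2RA
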