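import Mathlib

set_option autoImplicit false

/-!
# Element orders of `SL₃(𝔽₃)`: exactly `1, 2, 3, 4, 6, 8, 13`.
-/

namespace Cfsg.Agent.Helper13.SL33Spec

section CH
variable {R : Type*} [CommRing R]

/-- the second coefficient of the characteristic polynomial of a `3 × 3` matrix. -/
def c2 (A : Matrix (Fin 3) (Fin 3) R) : R :=
  A 0 0 * A 1 1 - A 0 1 * A 1 0 + (A 0 0 * A 2 2 - A 0 2 * A 2 0) + (A 1 1 * A 2 2 - A 1 2 * A 2 1)

theorem cayley3 (A : Matrix (Fin 3) (Fin 3) R) :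
    A * A * A = A.trace • (A * A) - c2 A • A + A.det • (1 : Matrix (Fin 3) (Fin 3) R) := by
  ext i j
  fin_cases i <;> fin_cases j <;>
    simp [Matrix.mul_apply, Fin.sum_univ_three, Matrix.det_fin_three, Matrix.trace_fin_three, c2] <;>
    ring

def step (a b : R) (v : R × R × R) : R × R × R := (a * v.1 + v.2.1, v.2.2 - b * v.1, v.1)

def coef (a b : R) : ℕ → R × R × R
  | 0 => (0, 0, 1)
  | n + 1 => step a b (coef a b n)

theorem pow_eq (A : Matrix (Fin 3) (Fin 3) R) (hdet : A.det = 1) (n : ℕ) :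
    A ^ n = (coef A.trace (c2 A) n).1 • (A * A) + (coef A.trace (c2 A) n).2.1 • A +
      (coef A.trace (c2 A) n).2.2 • (1 : Matrix (Fin 3) (Fin 3) R) := by
  induction n with
  | zero => simp [coef]
  | succ n ih =>
    have hc := cayley3 A
    rw [hdet, one_smul] at hc
    rw [pow_succ, ih]
    simp only [coef, step]
    rw [add_mul, add_mul, smul_mul_assoc, smul_mul_assoc, smul_mul_assoc, one_mul, hc]
    module

end CH

theorem coef_cases : ∀ a b : ZMod 3, coef a b 8 = (0, 0, 1) ∨ coef a b 6 = (0, 0, 1) ∨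
    coef a b 13 = (0, 0, 1) := by decide

abbrev S33 := Matrix.SpecialLinearGroup (Fin 3) (ZMod 3)

theorem pow_cases (g : S33) : g ^ 8 = 1 ∨ g ^ 6 = 1 ∨ g ^ 13 = 1 := by
  have key : ∀ n : ℕ, coef g.1.trace (c2 g.1) n = (0, 0, 1) → g ^ n = 1 := by
    intro n hn
    apply Subtype.ext
    rw [Matrix.SpecialLinearGroup.coe_pow, pow_eq g.1 g.2 n, hn]
    simp
  rcases coef_cases g.1.trace (c2 g.1) with h | h | h
  · exact Or.inl (key 8 h)
  · exact Or.inr (Or.inl (key 6 h))
  · exact Or.inr (Or.inr (key 13 h))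

theorem orderOf_mem (g : S33) : orderOf g ∈ ({1, 2, 3, 4, 6, 8, 13} : Set ℕ) := by
  rcases pow_cases g with h | h | h
  · have h1 : orderOf g ∈ Nat.divisors 8 := by
      rw [Nat.mem_divisors]; exact ⟨orderOf_dvd_of_pow_eq_one h, by norm_num⟩
    have h2 : Nat.divisors 8 = {1, 2, 4, 8} := by decide
    rw [h2] at h1
    simp only [Finset.mem_insert, Finset.mem_singleton] at h1
    rcases h1 with h1 | h1 | h1 | h1 <;> rw [h1] <;> simp
  · have h1 : orderOf g ∈ Nat.divisors 6 := by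
      rw [Nat.mem_divisors]; exact ⟨orderOf_dvd_of_pow_eq_one h, by norm_num⟩
    have h2 : Nat.divisors 6 = {1, 2, 3, 6} := by decide
    rw [h2] at h1
    simp only [Finset.mem_insert, Finset.mem_singleton] at h1
    rcases h1 with h1 | h1 | h1 | h1 <;> rw [h1] <;> simp
  · have h1 : orderOf g ∈ Nat.divisors 13 := by
      rw [Nat.mem_divisors]; exact ⟨orderOf_dvd_of_pow_eq_one h, by norm_num⟩
    have h2 : Nat.divisors 13 = {1, 13} := by decide
    rw [h2] at h1
    simp only [Finset.mem_insert, Finset.mem_singleton] at h1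
    rcases h1 with h1 | h1 <;> rw [h1] <;> simp

def g2 : S33 := ⟨!![0, 0, 1; 0, 2, 0; 1, 0, 0], by decide⟩
def g3 : S33 := ⟨!![0, 0, 1; 0, 1, 0; 2, 0, 2], by decide⟩
def g4 : S33 := ⟨!![0, 0, 1; 0, 1, 0; 2, 0, 0], by decide⟩
def g6 : S33 := ⟨!![0, 0, 1; 0, 1, 0; 2, 0, 1], by decide⟩
def g8 : S33 := ⟨!![0, 0, 1; 0, 1, 1; 2, 1, 0], by decide⟩
def g13 : S33 := ⟨!![0, 0, 1; 0, 1, 1; 2, 1, 1], by decide⟩

instance fact2 : Fact (Nat.Prime 2) := ⟨by norm_num⟩
instance fact3 : Fact (Nat.Prime 3) := ⟨by norm_num⟩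
instance fact13 : Fact (Nat.Prime 13) := ⟨by norm_num⟩

theorem order_g2 : orderOf g2 = 2 := orderOf_eq_prime (by decide) (by decide)
theorem order_g3 : orderOf g3 = 3 := orderOf_eq_prime (by decide) (by decide)
theorem order_g13 : orderOf g13 = 13 := orderOf_eq_prime (by decide) (by decide)
theorem order_g4 : orderOf g4 = 4 :=
  orderOf_eq_prime_pow (p := 2) (n := 1) (by decide) (by decide)
theorem order_g8 : orderOf g8 = 8 :=
  orderOf_eq_prime_pow (p := 2) (n := 2) (by decide) (by decide)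
theorem order_g6 : orderOf g6 = 6 := by
  rw [orderOf_eq_iff (by norm_num)]
  refine ⟨by decide, ?_⟩
  intro m hm hpos
  interval_cases m <;> decide

theorem range_orderOf : Set.range (orderOf : S33 → ℕ) = {1, 2, 3, 4, 6, 8, 13} := by
  apply Set.Subset.antisymm
  · rintro _ ⟨g, rfl⟩
    exact orderOf_mem g
  · intro n hn
    simp only [Set.mem_insert_iff, Set.mem_singleton_iff] at hn
    rcases hn with rfl | rfl | rfl | rfl | rfl | rfl | rfl
    · exact ⟨1, orderOf_one⟩
    · exact ⟨g2, order_g2⟩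
    · exact ⟨g3, order_g3⟩
    · exact ⟨g4, order_g4⟩
    · exact ⟨g6, order_g6⟩
    · exact ⟨g8, order_g8⟩
    · exact ⟨g13, order_g13⟩

end Cfsg.Agent.Helper13.SL33Spec
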