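import Mathlib
import Cfsg.Agent.Helper13.SL33Spec
import Cfsg.Agent.Helper13.PSL2Spec
import Cfsg.Agent.Helper2.UnitaryCenter

set_option autoImplicit false
set_option linter.style.haveILetI false

/-!
# Element orders of `PSU₃(3)`: exactly `1, 2, 3, 4, 6, 7, 8, 12`.
-/

namespace Cfsg.Agent.Helper13.SU33Spec

open Cfsg.Agent.Helper13.SL33Spec Cfsg.Agent.Helper2.Herm

/-- a computable model of the field with nine elements. -/
abbrev F9 := QuadraticAlgebra (ZMod 3) (-1) 0

instance instFintypeF9 : Fintype F9 :=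
  Fintype.ofEquiv (ZMod 3 × ZMod 3) (QuadraticAlgebra.equivProd (-1) 0).symm

theorem card_F9 : Fintype.card F9 = 9 := by decide

set_option maxRecDepth 100000 in
theorem coef_cases9 : ∀ a : F9, coef a (a ^ 3) 7 = (0, 0, 1) ∨ coef a (a ^ 3) 8 = (0, 0, 1) ∨
    coef a (a ^ 3) 12 = (0, 0, 1) := by decide +kernel

theorem coef_map {R S : Type*} [CommRing R] [CommRing S] (f : R →+* S) (a b : R) (n : ℕ) :
    coef (f a) (f b) n = (f (coef a b n).1, f (coef a b n).2.1, f (coef a b n).2.2) := by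
  induction n with
  | zero => simp [coef]
  | succ n ih =>
    simp only [coef, step]
    rw [ih]
    simp

section generic

variable {F : Type*} [Field F] [Fintype F]

theorem charP_three (hF : Fintype.card F = 9) : CharP F 3 := by
  obtain ⟨p, hchar⟩ := CharP.exists F
  haveI := hchar
  have hp : p.Prime :=
    (CharP.char_is_prime_or_zero F p).resolve_right (CharP.char_ne_zero_of_finite F p)
  haveI : Fact p.Prime := ⟨hp⟩
  obtain ⟨n, -, hn⟩ := FiniteField.card F p
  rw [hF] at hn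
  have h3 : p ∣ 3 ^ 2 := by
    have : p ∣ p ^ (n : ℕ) := dvd_pow_self p n.ne_zero
    rw [← hn] at this
    exact this
  have hp3 : p = 3 := (Nat.prime_dvd_prime_iff_eq hp Nat.prime_three).mp (hp.dvd_of_dvd_pow h3)
  subst hp3
  exact hchar

theorem exists_sq_neg_one (hF : Fintype.card F = 9) : ∃ u : F, u * u = -1 := by
  classical
  obtain ⟨z, hz⟩ := IsCyclic.exists_generator (α := Fˣ)
  have hord : orderOf z = 8 := by
    rw [orderOf_eq_card_of_forall_mem_zpowers hz, Nat.card_eq_fintype_card, Fintype.card_units, hF]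
  refine ⟨((z ^ 2 : Fˣ) : F), ?_⟩
  have h8 : ((z : F) ^ 2 * (z : F) ^ 2 - 1) * ((z : F) ^ 2 * (z : F) ^ 2 + 1) = 0 := by
    have : (z : F) ^ 8 = 1 := by
      rw [← Units.val_pow_eq_pow_val, ← hord, pow_orderOf_eq_one, Units.val_one]
    linear_combination this
  rcases mul_eq_zero.mp h8 with h | h
  · exfalso
    have h4 : z ^ 4 = 1 := by
      apply Units.ext
      rw [Units.val_pow_eq_pow_val, Units.val_one]
      linear_combination h
    have := orderOf_dvd_of_pow_eq_one h4
    rw [hord] at this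
    omega
  · rw [Units.val_pow_eq_pow_val]
    linear_combination h

/-- the ring homomorphism from the model onto any field with nine elements. -/
noncomputable def phi [CharP F 3] (u : F) (hu : u * u = -1) : F9 →+* F :=
  letI := ZMod.algebra F 3
  ((QuadraticAlgebra.lift (R := ZMod 3) (a := -1) (b := 0) (A := F)
    ⟨u, by rw [hu]; simp⟩ : F9 →ₐ[ZMod 3] F) : F9 →+* F)

theorem phi_injective [CharP F 3] (u : F) (hu : u * u = -1) : Function.Injective (phi u hu) := by
  haveI : Fact (∀ r : ZMod 3, r ^ 2 ≠ -1 + 0 * r) := ⟨by decide⟩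
  exact RingHom.injective (phi u hu)

theorem phi_bijective [CharP F 3] (hF : Fintype.card F = 9) (u : F) (hu : u * u = -1) :
    Function.Bijective (phi u hu) := by
  rw [Fintype.bijective_iff_injective_and_card]
  exact ⟨phi_injective u hu, by rw [hF, card_F9]⟩

theorem exists_phi (hF : Fintype.card F = 9) : ∃ φ : F9 →+* F, Function.Bijective φ := by
  haveI := charP_three hF
  obtain ⟨u, hu⟩ := exists_sq_neg_one hF
  exact ⟨phi u hu, phi_bijective hF u hu⟩


local notation "SL3" => Matrix.SpecialLinearGroup (Fin 3) F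

theorem c2_eq_trace_adjugate {R : Type*} [CommRing R] (A : Matrix (Fin 3) (Fin 3) R) :
    c2 A = A.adjugate.trace := by
  rw [Matrix.adjugate_fin_three, Matrix.trace_fin_three]
  simp [c2]
  ring

theorem c2_eq_of_mem_SU (hF : Fintype.card F = 3 ^ 2) (g : SL3) (hg : g ∈ Cfsg.SU 3 F 3) :
    c2 g.1 = g.1.trace ^ 3 := by
  have hON := (mem_SU_iff_isON hF g).mp hg
  have h1 := conjTranspose_mul_self hF hON
  have hadj : (g.1.map (cj hF)).transpose = g.1.adjugate := by
    have h2 : g.1 * g.1.adjugate = 1 := by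
      rw [Matrix.mul_adjugate, g.2, one_smul]
    calc (g.1.map (cj hF)).transpose
        = (g.1.map (cj hF)).transpose * (g.1 * g.1.adjugate) := by rw [h2, mul_one]
      _ = ((g.1.map (cj hF)).transpose * g.1) * g.1.adjugate := by rw [mul_assoc]
      _ = g.1.adjugate := by rw [h1, one_mul]
  rw [c2_eq_trace_adjugate, ← hadj, Matrix.trace_transpose]
  simp only [Matrix.trace, Matrix.diag_apply, Matrix.map_apply, cj_apply]
  rw [← cj_apply hF, map_sum]
  rfl

theorem pow_cases (hF : Fintype.card F = 9) (g : Cfsg.SU 3 F 3) :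
    g ^ 7 = 1 ∨ g ^ 8 = 1 ∨ g ^ 12 = 1 := by
  have hF' : Fintype.card F = 3 ^ 2 := by rw [hF]; norm_num
  obtain ⟨φ, hφ⟩ := exists_phi hF
  obtain ⟨a, ha⟩ := hφ.surjective g.1.1.trace
  have hc2 := c2_eq_of_mem_SU hF' g.1 g.2
  have key : ∀ n : ℕ, coef a (a ^ 3) n = (0, 0, 1) → g ^ n = 1 := by
    intro n hn
    apply Subtype.ext
    apply Subtype.ext
    rw [Subgroup.coe_pow, Matrix.SpecialLinearGroup.coe_pow, pow_eq g.1.1 g.1.2 n, hc2, ← ha,
      ← map_pow, coef_map, hn]
    simp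
  rcases coef_cases9 a with h | h | h
  · exact Or.inl (key 7 h)
  · exact Or.inr (Or.inl (key 8 h))
  · exact Or.inr (Or.inr (key 12 h))

theorem orderOf_mem (hF : Fintype.card F = 9) (g : Cfsg.SU 3 F 3) :
    orderOf g ∈ ({1, 2, 3, 4, 6, 7, 8, 12} : Set ℕ) := by
  rcases pow_cases hF g with h | h | h
  · have h1 : orderOf g ∈ Nat.divisors 7 := by
      rw [Nat.mem_divisors]; exact ⟨orderOf_dvd_of_pow_eq_one h, by norm_num⟩
    have h2 : Nat.divisors 7 = {1, 7} := by decide
    rw [h2] at h1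
    simp only [Finset.mem_insert, Finset.mem_singleton] at h1
    rcases h1 with h1 | h1 <;> rw [h1] <;> simp
  · have h1 : orderOf g ∈ Nat.divisors 8 := by
      rw [Nat.mem_divisors]; exact ⟨orderOf_dvd_of_pow_eq_one h, by norm_num⟩
    have h2 : Nat.divisors 8 = {1, 2, 4, 8} := by decide
    rw [h2] at h1
    simp only [Finset.mem_insert, Finset.mem_singleton] at h1
    rcases h1 with h1 | h1 | h1 | h1 <;> rw [h1] <;> simp
  · have h1 : orderOf g ∈ Nat.divisors 12 := by
      rw [Nat.mem_divisors]; exact ⟨orderOf_dvd_of_pow_eq_one h, by norm_num⟩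
    have h2 : Nat.divisors 12 = {1, 2, 3, 4, 6, 12} := by decide
    rw [h2] at h1
    simp only [Finset.mem_insert, Finset.mem_singleton] at h1
    rcases h1 with h1 | h1 | h1 | h1 | h1 | h1 <;> rw [h1] <;> simp

/-! ### explicit elements -/

abbrev M9 := Matrix (Fin 3) (Fin 3) F9

/-- unitarity of a matrix over the model. -/
def IsU (M : M9) : Prop :=
  ∀ j k : Fin 3, ∑ i, M i j * (M i k) ^ 3 = if j = k then 1 else 0

instance : DecidablePred IsU := fun M => by unfold IsU; infer_instance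

/-- an element of `SL₃` from a matrix over the model. -/
noncomputable def mkSL (φ : F9 →+* F) (M : M9) (hdet : M.det = 1) : SL3 :=
  ⟨φ.mapMatrix M, by rw [← RingHom.map_det, hdet, map_one]⟩

theorem mkSL_mem (hF : Fintype.card F = 3 ^ 2) (φ : F9 →+* F) (M : M9) (hdet : M.det = 1)
    (hU : IsU M) : mkSL φ M hdet ∈ Cfsg.SU 3 F 3 := by
  rw [mem_SU_iff_isON hF]
  intro j k
  unfold Cfsg.hermForm
  simp only [cols, mkSL, RingHom.mapMatrix_apply, Matrix.map_apply]
  have := congrArg φ (hU j k)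
  rw [map_sum] at this
  simp only [map_mul, map_pow] at this
  rw [this]
  split_ifs <;> simp

/-- an element of `SU₃(3)` from a matrix over the model. -/
noncomputable def mkSU (hF : Fintype.card F = 3 ^ 2) (φ : F9 →+* F) (M : M9) (hdet : M.det = 1)
    (hU : IsU M) : Cfsg.SU 3 F 3 :=
  ⟨mkSL φ M hdet, mkSL_mem hF φ M hdet hU⟩

theorem orderOf_mkSU (hF : Fintype.card F = 3 ^ 2) (φ : F9 →+* F) (hφ : Function.Injective φ)
    (M : M9) (hdet : M.det = 1) (hU : IsU M) : orderOf (mkSU hF φ M hdet hU) = orderOf M := by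
  rw [orderOf_eq_orderOf_iff]
  intro n
  constructor
  · intro h
    have h1 : (((mkSU hF φ M hdet hU) ^ n : Cfsg.SU 3 F 3) : SL3) = 1 := by rw [h]; rfl
    have h2 : ((((mkSU hF φ M hdet hU) ^ n : Cfsg.SU 3 F 3) : SL3) : Matrix (Fin 3) (Fin 3) F)
        = 1 := by rw [h1]; rfl
    rw [Subgroup.coe_pow, Matrix.SpecialLinearGroup.coe_pow] at h2
    change (φ.mapMatrix M) ^ n = 1 at h2
    rw [← map_pow, ← map_one (φ.mapMatrix : M9 →+* Matrix (Fin 3) (Fin 3) F)] at h2
    have hinj : Function.Injective (φ.mapMatrix : M9 →+* Matrix (Fin 3) (Fin 3) F) := by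
      intro A B hAB
      apply Matrix.ext
      intro i j
      have := congrFun (congrFun hAB i) j
      simp only [RingHom.mapMatrix_apply, Matrix.map_apply] at this
      exact hφ this
    exact hinj h2
  · intro h
    apply Subtype.ext
    apply Subtype.ext
    rw [Subgroup.coe_pow, Matrix.SpecialLinearGroup.coe_pow]
    change (φ.mapMatrix M) ^ n = 1
    rw [← map_pow, h, map_one]

def m7 : M9 := !![⟨2, 0⟩, ⟨2, 1⟩, ⟨0, 1⟩; ⟨1, 1⟩, ⟨0, 2⟩, ⟨0, 2⟩; ⟨0, 2⟩, ⟨2, 0⟩, ⟨2, 2⟩]
def m8 : M9 := !![⟨0, 0⟩, ⟨2, 0⟩, ⟨0, 0⟩; ⟨0, 1⟩, ⟨0, 0⟩, ⟨0, 0⟩; ⟨0, 0⟩, ⟨0, 0⟩, ⟨0, 2⟩]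
def m12 : M9 := !![⟨0, 2⟩, ⟨1, 2⟩, ⟨2, 0⟩; ⟨2, 2⟩, ⟨0, 0⟩, ⟨1, 2⟩; ⟨0, 2⟩, ⟨2, 1⟩, ⟨2, 0⟩]

set_option maxRecDepth 100000 in
theorem m7_det : m7.det = 1 := by rw [Matrix.det_fin_three]; decide +kernel
set_option maxRecDepth 100000 in
theorem m8_det : m8.det = 1 := by rw [Matrix.det_fin_three]; decide +kernel
set_option maxRecDepth 100000 in
theorem m12_det : m12.det = 1 := by rw [Matrix.det_fin_three]; decide +kernel
set_option maxRecDepth 100000 in
theorem m7_U : IsU m7 := by decide +kernel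
set_option maxRecDepth 100000 in
theorem m8_U : IsU m8 := by decide +kernel
set_option maxRecDepth 100000 in
theorem m12_U : IsU m12 := by decide +kernel

instance fact7 : Fact (Nat.Prime 7) := ⟨by norm_num⟩

set_option maxRecDepth 100000 in
theorem order_m7 : orderOf m7 = 7 :=
  orderOf_eq_prime (by decide +kernel) (by decide +kernel)

set_option maxRecDepth 100000 in
theorem order_m8 : orderOf m8 = 8 :=
  orderOf_eq_prime_pow (p := 2) (n := 2) (by decide +kernel) (by decide +kernel)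

set_option maxRecDepth 100000 in
theorem order_m12 : orderOf m12 = 12 := by
  apply orderOf_eq_of_pow_and_pow_div_prime (by norm_num)
  · decide +kernel
  · intro p hp hd
    have h12 : (12 : ℕ) = 2 ^ 2 * 3 := by norm_num
    rw [h12] at hd
    rcases (Nat.Prime.dvd_mul hp).mp hd with h | h
    · have := (Nat.prime_dvd_prime_iff_eq hp Nat.prime_two).mp (hp.dvd_of_dvd_pow h)
      subst this
      decide +kernel
    · have := (Nat.prime_dvd_prime_iff_eq hp Nat.prime_three).mp h
      subst this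
      decide +kernel

instance : Finite (Cfsg.SU 3 F 3) := by
  classical
  infer_instance

theorem range_orderOf_SU (hF : Fintype.card F = 9) :
    Set.range (orderOf : Cfsg.SU 3 F 3 → ℕ) = {1, 2, 3, 4, 6, 7, 8, 12} := by
  have hF' : Fintype.card F = 3 ^ 2 := by rw [hF]; norm_num
  obtain ⟨φ, hφ⟩ := exists_phi hF
  apply Set.Subset.antisymm
  · rintro _ ⟨g, rfl⟩
    exact orderOf_mem hF g
  · have h7 : ∀ n : ℕ, n ∣ 7 → n ∈ Set.range (orderOf : Cfsg.SU 3 F 3 → ℕ) := by
      intro n hn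
      apply Cfsg.Agent.Helper13.PSL2Spec.mem_range_of_dvd (mkSU hF' φ m7 m7_det m7_U) n
      rw [orderOf_mkSU hF' φ hφ.injective, order_m7]
      exact hn
    have h8 : ∀ n : ℕ, n ∣ 8 → n ∈ Set.range (orderOf : Cfsg.SU 3 F 3 → ℕ) := by
      intro n hn
      apply Cfsg.Agent.Helper13.PSL2Spec.mem_range_of_dvd (mkSU hF' φ m8 m8_det m8_U) n
      rw [orderOf_mkSU hF' φ hφ.injective, order_m8]
      exact hn
    have h12 : ∀ n : ℕ, n ∣ 12 → n ∈ Set.range (orderOf : Cfsg.SU 3 F 3 → ℕ) := by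
      intro n hn
      apply Cfsg.Agent.Helper13.PSL2Spec.mem_range_of_dvd (mkSU hF' φ m12 m12_det m12_U) n
      rw [orderOf_mkSU hF' φ hφ.injective, order_m12]
      exact hn
    intro n hn
    simp only [Set.mem_insert_iff, Set.mem_singleton_iff] at hn
    rcases hn with rfl | rfl | rfl | rfl | rfl | rfl | rfl | rfl
    · exact h8 1 (by norm_num)
    · exact h8 2 (by norm_num)
    · exact h12 3 (by norm_num)
    · exact h8 4 (by norm_num)
    · exact h12 6 (by norm_num)
    · exact h7 7 (by norm_num)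
    · exact h8 8 (by norm_num)
    · exact h12 12 (by norm_num)

theorem center_SU (hF : Fintype.card F = 9) : Subgroup.center (Cfsg.SU 3 F 3) = ⊥ := by
  have hF' : Fintype.card F = 3 ^ 2 := by rw [hF]; norm_num
  have h := card_center_SU hF' 3 (by norm_num)
  rw [show Nat.gcd 3 (3 + 1) = 1 by norm_num] at h
  exact Subgroup.card_eq_one.mp h

/-- `SU₃(3) ≃* PSU₃(3)`. -/
noncomputable def eSU (hF : Fintype.card F = 9) : Cfsg.SU 3 F 3 ≃* Cfsg.PSU 3 F 3 :=
  (QuotientGroup.quotientBot).symm.trans (QuotientGroup.quotientMulEquivOfEq (center_SU hF).symm)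

theorem range_orderOf_PSU (hF : Fintype.card F = 9) :
    Set.range (orderOf : Cfsg.PSU 3 F 3 → ℕ) = {1, 2, 3, 4, 6, 7, 8, 12} := by
  rw [← range_orderOf_SU hF]
  ext n
  constructor
  · rintro ⟨g, rfl⟩
    exact ⟨(eSU hF).symm g, (eSU hF).symm.orderOf_eq g⟩
  · rintro ⟨g, rfl⟩
    exact ⟨eSU hF g, (eSU hF).orderOf_eq g⟩

end generic

end Cfsg.Agent.Helper13.SU33Spec
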