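import Mathlib
import Cfsg.Prelude.Def_ChevG2
import Cfsg.Agent.Helper13.U42
import Cfsg.Agent.Helper13.SU33Spec
import Cfsg.Agent.Helper27.B2Bits

set_option autoImplicit false

/-!
# Table machinery for `G₂(2)′ ≃* PSU₃(3)`

Matrices of degree 3 over the field with nine elements are packed into natural numbers (18 digits of
2 bits: real and imaginary part of each entry, row major); matrices of degree 14 over the field with two
elements are packed as 14 rows of 14 bits.  Right multiplication by a fixed matrix is a row-wise table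
lookup.
-/

namespace Cfsg.Agent.Helper13.G2U

open Cfsg.Agent.Helper13.U42 Cfsg.Agent.Helper13.SU33Spec Cfsg.Agent.Helper27 Cfsg Cfsg.Lie

/-! ### degree 3 over the field with nine elements -/

/-- row `i` (12 bits) -/
def row12 (c i : ℕ) : ℕ := Nat.mod (Nat.shiftRight c (Nat.mul 12 i)) 4096
/-- table lookup (12-bit entries) -/
def lk12 (V r : ℕ) : ℕ := Nat.mod (Nat.shiftRight V (Nat.mul 12 r)) 4096
/-- row-wise table multiplication -/
def mulrow9 (V c : ℕ) : ℕ :=
  Nat.add (lk12 V (row12 c 0))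
    (Nat.add (Nat.mul 4096 (lk12 V (row12 c 1))) (Nat.mul 16777216 (lk12 V (row12 c 2))))

theorem row12_eq (c i : ℕ) : row12 c i = c / 4096 ^ i % 4096 := by
  show (c >>> (12 * i)) % 4096 = _
  rw [Nat.shiftRight_eq_div_pow, pow_mul]
  norm_num

theorem lk12_lt (V r : ℕ) : lk12 V r < 4096 := Nat.mod_lt _ (by norm_num)

theorem row12_lt (c i : ℕ) : row12 c i < 4096 := Nat.mod_lt _ (by norm_num)

theorem mulrow9_eq (V c : ℕ) : mulrow9 V c =
    lk12 V (row12 c 0) + (4096 * lk12 V (row12 c 1) + 16777216 * lk12 V (row12 c 2)) := rfl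

theorem row12_assemble (a0 a1 a2 : ℕ) (h0 : a0 < 4096) (h1 : a1 < 4096) (h2 : a2 < 4096) (i : Fin 3) :
    row12 (a0 + (4096 * a1 + 16777216 * a2)) i.val = ![a0, a1, a2] i := by
  rw [row12_eq]
  fin_cases i <;> simp <;> omega

theorem row12_mulrow9 (V c : ℕ) (i : Fin 3) : row12 (mulrow9 V c) i.val = lk12 V (row12 c i.val) := by
  rw [mulrow9_eq, row12_assemble _ _ _ (lk12_lt _ _) (lk12_lt _ _) (lk12_lt _ _)]
  fin_cases i <;> rfl

/-- decode a packed matrix over the model field -/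
def dec9 (c : ℕ) : M9 := fun i j =>
  ⟨((dg (row12 c i.val) (2 * j.val) : ℕ) : ZMod 3), ((dg (row12 c i.val) (2 * j.val + 1) : ℕ) : ZMod 3)⟩

/-- real part of the row-times-column sum -/
def rsumRe (r g j : ℕ) : ℕ :=
  dg r 0 * dg (row12 g 0) (2 * j) + 2 * (dg r 1 * dg (row12 g 0) (2 * j + 1)) +
  (dg r 2 * dg (row12 g 1) (2 * j) + 2 * (dg r 3 * dg (row12 g 1) (2 * j + 1))) +
  (dg r 4 * dg (row12 g 2) (2 * j) + 2 * (dg r 5 * dg (row12 g 2) (2 * j + 1)))

/-- imaginary part of the row-times-column sum -/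
def rsumIm (r g j : ℕ) : ℕ :=
  dg r 0 * dg (row12 g 0) (2 * j + 1) + dg r 1 * dg (row12 g 0) (2 * j) +
  (dg r 2 * dg (row12 g 1) (2 * j + 1) + dg r 3 * dg (row12 g 1) (2 * j)) +
  (dg r 4 * dg (row12 g 2) (2 * j + 1) + dg r 5 * dg (row12 g 2) (2 * j))

/-- correctness of a multiplication table for the fixed matrix with code `g` -/
def tabOK9 (V g : ℕ) : Prop :=
  ∀ r < 4096, ∀ j < 3, dg (lk12 V r) (2 * j) % 3 = rsumRe r g j % 3 ∧
    dg (lk12 V r) (2 * j + 1) % 3 = rsumIm r g j % 3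

instance (V g : ℕ) : Decidable (tabOK9 V g) := by unfold tabOK9; infer_instance

theorem two_eq_neg_one : (2 : ZMod 3) = -1 := by decide

theorem dec9_mulrow {V g : ℕ} (hV : tabOK9 V g) (c : ℕ) : dec9 c * dec9 g = dec9 (mulrow9 V c) := by
  apply Matrix.ext
  intro i j
  rw [Matrix.mul_apply, Fin.sum_univ_three]
  obtain ⟨h1, h2⟩ := hV (row12 c i.val) (row12_lt _ _) j.val j.2
  apply QuadraticAlgebra.ext
  · simp only [dec9, QuadraticAlgebra.re_add, QuadraticAlgebra.re_mul, Fin.val_zero, Fin.val_one,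
      Fin.val_two, mul_zero, mul_one, zero_add, Nat.reduceMul, Nat.reduceAdd]
    rw [row12_mulrow9, ← ZMod.natCast_mod (dg (lk12 V (row12 c i.val)) (2 * j.val)) 3, h1,
      ZMod.natCast_mod]
    unfold rsumRe
    push_cast
    rw [two_eq_neg_one]
    ring
  · simp only [dec9, QuadraticAlgebra.im_add, QuadraticAlgebra.im_mul, Fin.val_zero, Fin.val_one,
      Fin.val_two, mul_zero, mul_one, zero_add, Nat.reduceMul, Nat.reduceAdd]
    rw [row12_mulrow9, ← ZMod.natCast_mod (dg (lk12 V (row12 c i.val)) (2 * j.val + 1)) 3, h2,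
      ZMod.natCast_mod]
    unfold rsumIm
    push_cast
    ring

/-! ### injectivity of the decoding on canonical codes -/

theorem dg_zero (c : ℕ) : dg c 0 = c % 4 := by unfold dg; simp

theorem dg_succ (c p : ℕ) : dg c (p + 1) = dg (c / 4) p := by
  unfold dg
  rw [pow_succ, mul_comm, Nat.div_div_eq_div_mul]

theorem eq_of_dg_eq_n : ∀ (n c d : ℕ), c < 4 ^ n → d < 4 ^ n → (∀ p < n, dg c p = dg d p) → c = d := by
  intro n
  induction n with
  | zero => intro c d hc hd _; simp at hc hd; omega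
  | succ n ih =>
    intro c d hc hd h
    have h0 := h 0 (Nat.succ_pos n)
    rw [dg_zero, dg_zero] at h0
    have h1 : c / 4 = d / 4 := by
      apply ih
      · rw [pow_succ] at hc; omega
      · rw [pow_succ] at hd; omega
      · intro p hp
        rw [← dg_succ, ← dg_succ]
        exact h (p + 1) (by omega)
    omega

theorem dg_row12 (c : ℕ) (i : Fin 3) (j : Fin 6) :
    dg (row12 c i.val) j.val = dg c (6 * i.val + j.val) := by
  rw [row12_eq]
  unfold dg
  fin_cases i <;> fin_cases j <;> simp <;> omega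

/-- no 2-bit digit among the first 18 equals 3 -/
def canon9b (c : ℕ) : Bool := Nat.beq (Nat.land (Nat.land c (Nat.shiftRight c 1)) 0x555555555) 0

theorem mask_testBit : ∀ p < 18, Nat.testBit 0x555555555 (2 * p) = true := by decide

theorem dg_lt_three_of_canon {c : ℕ} (h : canon9b c = true) (p : ℕ) (hp : p < 18) : dg c p < 3 := by
  have h4 := dg_lt c p
  by_contra hcon
  have h3 : dg c p = 3 := by omega
  unfold canon9b at h
  rw [Nat.beq_eq] at h
  have hw : Nat.testBit ((c &&& (c >>> 1)) &&& 0x555555555) (2 * p) = false := by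
    have : (c &&& (c >>> 1)) &&& 0x555555555 = 0 := h
    rw [this, Nat.zero_testBit]
  rw [Nat.testBit_and, Nat.testBit_and, Nat.testBit_shiftRight, mask_testBit p hp] at hw
  unfold dg at h3
  have e4 : (4 : ℕ) ^ p = 2 ^ (2 * p) := by rw [pow_mul]; norm_num
  rw [e4] at h3
  have t0 : c.testBit (2 * p) = true := by
    rw [Nat.testBit_eq_decide_div_mod_eq, decide_eq_true_eq]
    omega
  have t1 : c.testBit (1 + 2 * p) = true := by
    rw [Nat.testBit_eq_decide_div_mod_eq, decide_eq_true_eq]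
    have : c / 2 ^ (1 + 2 * p) = c / 2 ^ (2 * p) / 2 := by
      rw [Nat.div_div_eq_div_mul, add_comm, pow_succ]
    rw [this]
    omega
  rw [t0, t1] at hw
  exact Bool.noConfusion hw

theorem dec9_inj {c d : ℕ} (hc : c < 68719476736) (hd : d < 68719476736) (hcc : canon9b c = true)
    (hdc : canon9b d = true) (h : dec9 c = dec9 d) : c = d := by
  apply eq_of_dg_eq_n 18 c d (by norm_num; exact hc) (by norm_num; exact hd)
  intro p hp
  have hcp := dg_lt_three_of_canon hcc p hp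
  have hdp := dg_lt_three_of_canon hdc p hp
  have hij := congrFun (congrFun h ⟨p / 6, by omega⟩) ⟨p % 6 / 2, by omega⟩
  simp only [dec9] at hij
  have hre := congrArg QuadraticAlgebra.re hij
  have him := congrArg QuadraticAlgebra.im hij
  simp only at hre him
  rw [ZMod.natCast_eq_natCast_iff'] at hre him
  have r1 := dg_row12 c ⟨p / 6, by omega⟩ ⟨2 * (p % 6 / 2), by omega⟩
  have r2 := dg_row12 d ⟨p / 6, by omega⟩ ⟨2 * (p % 6 / 2), by omega⟩
  have r3 := dg_row12 c ⟨p / 6, by omega⟩ ⟨2 * (p % 6 / 2) + 1, by omega⟩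
  have r4 := dg_row12 d ⟨p / 6, by omega⟩ ⟨2 * (p % 6 / 2) + 1, by omega⟩
  simp only at r1 r2 r3 r4
  rw [r1, r2] at hre
  rw [r3, r4] at him
  rcases Nat.even_or_odd' p with ⟨m, hm | hm⟩
  · have e : 6 * (p / 6) + 2 * (p % 6 / 2) = p := by omega
    rw [e] at hre
    omega
  · have e : 6 * (p / 6) + (2 * (p % 6 / 2) + 1) = p := by omega
    rw [e] at him
    omega

theorem dec9_one : dec9 0x100010001 = 1 := by decide +kernel

/-! ### degree 14 over the field with two elements -/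

/-- row `i` (14 bits) -/
def row14 (c i : ℕ) : ℕ := Nat.mod (Nat.shiftRight c (Nat.mul 14 i)) 16384
/-- table lookup (14-bit entries) -/
def lk14 (V r : ℕ) : ℕ := Nat.mod (Nat.shiftRight V (Nat.mul 14 r)) 16384
/-- the new row, from the two half tables -/
def nrow (Vl Vh r : ℕ) : ℕ := Nat.xor (lk14 Vl (Nat.mod r 128)) (lk14 Vh (Nat.div r 128))
/-- the rows of a packed matrix -/
def rowsOf (c : ℕ) : List ℕ := [row14 c 0, row14 c 1, row14 c 2, row14 c 3, row14 c 4, row14 c 5, row14 c 6, row14 c 7, row14 c 8, row14 c 9, row14 c 10, row14 c 11, row14 c 12, row14 c 13]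
/-- pack rows -/
def horner : List ℕ → ℕ
  | [] => 0
  | r :: rs => Nat.add r (Nat.mul 16384 (horner rs))
/-- row-wise table multiplication -/
def mulrowB (Vl Vh c : ℕ) : ℕ :=
  Nat.add (nrow Vl Vh (row14 c 0)) (Nat.mul 16384 (Nat.add (nrow Vl Vh (row14 c 1)) (Nat.mul 16384 (Nat.add (nrow Vl Vh (row14 c 2)) (Nat.mul 16384 (Nat.add (nrow Vl Vh (row14 c 3)) (Nat.mul 16384 (Nat.add (nrow Vl Vh (row14 c 4)) (Nat.mul 16384 (Nat.add (nrow Vl Vh (row14 c 5)) (Nat.mul 16384 (Nat.add (nrow Vl Vh (row14 c 6)) (Nat.mul 16384 (Nat.add (nrow Vl Vh (row14 c 7)) (Nat.mul 16384 (Nat.add (nrow Vl Vh (row14 c 8)) (Nat.mul 16384 (Nat.add (nrow Vl Vh (row14 c 9)) (Nat.mul 16384 (Nat.add (nrow Vl Vh (row14 c 10)) (Nat.mul 16384 (Nat.add (nrow Vl Vh (row14 c 11)) (Nat.mul 16384 (Nat.add (nrow Vl Vh (row14 c 12)) (Nat.mul 16384 (nrow Vl Vh (row14 c 13)))))))))))))))))))))))))))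

theorem row14_eq (c i : ℕ) : row14 c i = c / 16384 ^ i % 16384 := by
  show (c >>> (14 * i)) % 16384 = _
  rw [Nat.shiftRight_eq_div_pow, pow_mul]
  norm_num

theorem row14_lt (c i : ℕ) : row14 c i < 16384 := Nat.mod_lt _ (by norm_num)
theorem lk14_lt (V r : ℕ) : lk14 V r < 16384 := Nat.mod_lt _ (by norm_num)

theorem nrow_lt (Vl Vh r : ℕ) : nrow Vl Vh r < 16384 :=
  Nat.xor_lt_two_pow (n := 14) (lk14_lt _ _) (lk14_lt _ _)

theorem row14_cons_zero (r A : ℕ) (h : r < 16384) : row14 (r + 16384 * A) 0 = r := by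
  rw [row14_eq]
  simp
  omega

theorem row14_cons_succ (r A i : ℕ) (h : r < 16384) : row14 (r + 16384 * A) (i + 1) = row14 A i := by
  rw [row14_eq, row14_eq, pow_succ', ← Nat.div_div_eq_div_mul]
  have : (r + 16384 * A) / 16384 = A := by omega
  rw [this]

theorem row14_horner : ∀ (rs : List ℕ), (∀ r ∈ rs, r < 16384) → ∀ i, row14 (horner rs) i = rs.getD i 0 := by
  intro rs
  induction rs with
  | nil =>
    intro _ i
    rw [row14_eq]
    simp [horner]
  | cons r rs ih =>
    intro h i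
    have hr : r < 16384 := h r (List.mem_cons_self)
    have hrs : ∀ x ∈ rs, x < 16384 := fun x hx => h x (List.mem_cons_of_mem _ hx)
    show row14 (r + 16384 * horner rs) i = _
    cases i with
    | zero => rw [row14_cons_zero _ _ hr]; rfl
    | succ i => rw [row14_cons_succ _ _ _ hr, ih hrs]; rfl

theorem mulrowB_eq (Vl Vh c : ℕ) : mulrowB Vl Vh c = horner ((rowsOf c).map (nrow Vl Vh)) := rfl

theorem rowsOf_mulrowB (Vl Vh c : ℕ) : rowsOf (mulrowB Vl Vh c) = (rowsOf c).map (nrow Vl Vh) := by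
  have hlt : ∀ r ∈ (rowsOf c).map (nrow Vl Vh), r < 16384 := by
    intro r hr
    rw [List.mem_map] at hr
    obtain ⟨x, -, rfl⟩ := hr
    exact nrow_lt _ _ _
  have key : ∀ L : List ℕ, (∀ r ∈ L, r < 16384) → rowsOf (horner L) = [L.getD 0 0, L.getD 1 0, L.getD 2 0, L.getD 3 0, L.getD 4 0, L.getD 5 0, L.getD 6 0, L.getD 7 0, L.getD 8 0, L.getD 9 0, L.getD 10 0, L.getD 11 0, L.getD 12 0, L.getD 13 0] := by
    intro L hL
    unfold rowsOf
    simp only [row14_horner L hL]
  rw [mulrowB_eq, key _ hlt]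
  rfl

/-- the matrix with given rows of bit masks, on the index set of type `G₂` -/
abbrev g2Mat (R : List ℕ) : Matrix chevG2.Idx chevG2.Idx (ZMod 2) :=
  toMatS (a := chevG2.rank) (b := chevG2.nroots) R

/-- decode a packed matrix -/
def decB (c : ℕ) : Matrix chevG2.Idx chevG2.Idx (ZMod 2) := g2Mat (rowsOf c)

theorem rowsOf_length (c : ℕ) : (rowsOf c).length = 14 := rfl

theorem g2Mat_mul (R S : List ℕ) (hR : R.length = 14) : g2Mat (mulRowsS 14 R S) = g2Mat R * g2Mat S :=
  toMatS_mul (a := chevG2.rank) (b := chevG2.nroots) R S hR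

theorem comb_mod (n r : ℕ) (S : List ℕ) : ∀ m ≤ n, comb m (r % 2 ^ n) S = comb m r S := by
  intro m
  induction m with
  | zero => intro _; rfl
  | succ m ih =>
    intro hm
    rw [comb, comb, ih (by omega), Nat.testBit_mod_two_pow]
    have : decide (m < n) = true := by rw [decide_eq_true_eq]; omega
    rw [this, Bool.true_and]

theorem comb_add (n r : ℕ) (S : List ℕ) : ∀ m, comb (n + m) r S = comb n r S ^^^ comb m (r / 2 ^ n) (S.drop n) := by
  intro m
  induction m with
  | zero => rw [add_zero]; show _ = _ ^^^ 0; rw [Nat.xor_zero]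
  | succ m ih =>
    rw [← add_assoc, comb, comb, ih, Nat.testBit_div_two_pow, add_comm m n]
    have hget : (S.drop n).getD m 0 = S.getD (n + m) 0 := by
      simp [List.getD_eq_getElem?_getD, List.getElem?_drop]
    rw [hget]
    split_ifs
    · rw [Nat.xor_assoc]
    · rfl

theorem comb_split (r : ℕ) (S : List ℕ) :
    comb 14 r S = comb 7 (r % 128) S ^^^ comb 7 (r / 128) (S.drop 7) := by
  have h1 := comb_add 7 r S 7
  have h2 := comb_mod 7 r S 7 le_rfl
  norm_num at h1 h2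
  rw [h1, h2]

/-- correctness of the half tables for the fixed matrix with code `g` -/
def tabOKB (Vl Vh g : ℕ) : Prop :=
  ∀ r < 128, lk14 Vl r = comb 7 r (rowsOf g) ∧ lk14 Vh r = comb 7 r ((rowsOf g).drop 7)

instance (Vl Vh g : ℕ) : Decidable (tabOKB Vl Vh g) := by unfold tabOKB; infer_instance

theorem nrow_eq {Vl Vh g : ℕ} (h : tabOKB Vl Vh g) (r : ℕ) (hr : r < 16384) :
    nrow Vl Vh r = comb 14 r (rowsOf g) := by
  rw [comb_split]
  show lk14 Vl (r % 128) ^^^ lk14 Vh (r / 128) = _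
  rw [(h (r % 128) (Nat.mod_lt _ (by norm_num))).1, (h (r / 128) (by omega)).2]

theorem decB_mulrowB {Vl Vh g : ℕ} (h : tabOKB Vl Vh g) (c : ℕ) :
    decB c * decB g = decB (mulrowB Vl Vh c) := by
  unfold decB
  rw [rowsOf_mulrowB, ← g2Mat_mul _ _ (rowsOf_length c)]
  congr 1
  unfold mulRowsS
  apply List.map_congr_left
  intro r hr
  have hr' : r < 16384 := by
    simp only [rowsOf, List.mem_cons, List.mem_nil_iff, or_false] at hr
    rcases hr with rfl | rfl | rfl | rfl | rfl | rfl | rfl | rfl | rfl | rfl | rfl | rfl | rfl | rfl <;>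
      exact row14_lt _ _
  exact (nrow_eq h r hr').symm

/-! ### detecting the identity -/

/-- the rows are those of the identity matrix -/
def isOneB (c : ℕ) : Bool :=
  Nat.beq (row14 c 0) 1 && (Nat.beq (row14 c 1) 2 && (Nat.beq (row14 c 2) 4 && (Nat.beq (row14 c 3) 8 && (Nat.beq (row14 c 4) 16 && (Nat.beq (row14 c 5) 32 && (Nat.beq (row14 c 6) 64 && (Nat.beq (row14 c 7) 128 && (Nat.beq (row14 c 8) 256 && (Nat.beq (row14 c 9) 512 && (Nat.beq (row14 c 10) 1024 && (Nat.beq (row14 c 11) 2048 && (Nat.beq (row14 c 12) 4096 && (Nat.beq (row14 c 13) 8192)))))))))))))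

theorem exIdx (i : ℕ) (hi : i < 14) : ∃ x : chevG2.Idx, idxS x = i := by
  by_cases h : i < 2
  · exact ⟨Sum.inl ⟨i, h⟩, rfl⟩
  · refine ⟨Sum.inr ⟨i - 2, ?_⟩, ?_⟩
    · show i - 2 < 12
      omega
    · show 2 + (i - 2) = i
      omega

theorem idxS_inj {x y : chevG2.Idx} (h : idxS x = idxS y) : x = y := by
  rcases x with x | x <;> rcases y with y | y
  · exact congrArg Sum.inl (Fin.ext h)
  · exfalso
    have h1 : x.val = 2 + y.val := h
    have := x.2
    have h2 : x.val < 2 := this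
    omega
  · exfalso
    have h1 : 2 + x.val = y.val := h
    have h2 : y.val < 2 := y.2
    omega
  · have h1 : 2 + x.val = 2 + y.val := h
    exact congrArg Sum.inr (Fin.ext (by omega))

theorem row_of_decB_one {c : ℕ} (h : decB c = 1) (i : ℕ) (hi : i < 14) :
    (rowsOf c).getD i 0 = 2 ^ i := by
  have hlt : (rowsOf c).getD i 0 < 2 ^ 14 := by
    have : ∀ r ∈ rowsOf c, r < 16384 := by
      intro r hr
      simp only [rowsOf, List.mem_cons, List.mem_nil_iff, or_false] at hr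
      rcases hr with rfl | rfl | rfl | rfl | rfl | rfl | rfl | rfl | rfl | rfl | rfl | rfl | rfl | rfl <;>
        exact row14_lt _ _
    rw [List.getD_eq_getElem _ _ (by rw [rowsOf_length]; exact hi)]
    exact this _ (List.getElem_mem _)
  apply Nat.eq_of_testBit_eq
  intro j
  rw [Nat.testBit_two_pow]
  by_cases hj : j < 14
  · obtain ⟨x, hx⟩ := exIdx i hi
    obtain ⟨y, hy⟩ := exIdx j hj
    have h1 := congrFun (congrFun h x) y
    simp only [decB, g2Mat, toMatS, Matrix.of_apply, Matrix.one_apply, hx, hy] at h1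
    unfold bitF2 at h1
    by_cases hij : i = j
    · have hxy : x = y := idxS_inj (by rw [hx, hy, hij])
      rw [if_pos hxy] at h1
      rw [decide_eq_true hij]
      by_contra hcon
      rw [if_neg hcon] at h1
      exact absurd h1 (by decide)
    · have hxy : x ≠ y := fun hxy => hij (by rw [← hx, ← hy, hxy])
      rw [if_neg hxy] at h1
      rw [decide_eq_false hij]
      by_contra hcon
      rw [if_pos (by simpa using hcon)] at h1
      exact absurd h1 (by decide)
  · have h2 : (rowsOf c).getD i 0 < 2 ^ j :=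
      lt_of_lt_of_le hlt (Nat.pow_le_pow_right (by norm_num) (by omega))
    rw [Nat.testBit_lt_two_pow h2]
    symm
    rw [decide_eq_false_iff_not]
    omega

theorem isOneB_of_decB {c : ℕ} (h : decB c = 1) : isOneB c = true := by
  have r := row_of_decB_one h
  unfold isOneB
  simp only [Bool.and_eq_true, Nat.beq_eq]
  refine ⟨r 0 (by norm_num), r 1 (by norm_num), r 2 (by norm_num), r 3 (by norm_num), r 4 (by norm_num),
    r 5 (by norm_num), r 6 (by norm_num), r 7 (by norm_num), r 8 (by norm_num), r 9 (by norm_num),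
    r 10 (by norm_num), r 11 (by norm_num), r 12 (by norm_num), r 13 (by norm_num)⟩

/-! ### the per-index check -/

/-- accessors of the packed tables -/
structure Data where
  gL : ℕ → ℕ
  gH : ℕ → ℕ
  gS0 : ℕ → ℕ
  gS1 : ℕ → ℕ
  gPG : ℕ → ℕ
  gPI : ℕ → ℕ
  tVA : ℕ
  tVB : ℕ
  tAl : ℕ
  tAh : ℕ
  tBl : ℕ
  tBh : ℕ

/-- the check at index `k` -/
def chk (D : Data) (N k : ℕ) : Bool :=
  Nat.ble N k ||
  (Nat.blt (D.gS0 k) N && (Nat.blt (D.gS1 k) N &&
   (Nat.beq (mulrow9 D.tVA (D.gL k)) (D.gL (D.gS0 k)) &&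
   (Nat.beq (mulrow9 D.tVB (D.gL k)) (D.gL (D.gS1 k)) &&
   (Nat.beq (mulrowB D.tAl D.tAh (D.gH k)) (D.gH (D.gS0 k)) &&
   (Nat.beq (mulrowB D.tBl D.tBh (D.gH k)) (D.gH (D.gS1 k)) &&
   ((Nat.beq k 0 || (Nat.blt (Nat.div (D.gPG k) 2) k &&
      Nat.beq (bif Nat.beq (Nat.mod (D.gPG k) 2) 0 then D.gS0 (Nat.div (D.gPG k) 2)
        else D.gS1 (Nat.div (D.gPG k) 2)) k)) &&
   (Nat.blt (D.gPI k) N &&
   ((Nat.ble N (Nat.succ k) || Nat.blt (D.gL (D.gPI k)) (D.gL (D.gPI (Nat.succ k)))) &&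
   (canon9b (D.gL k) &&
   (Nat.beq k 0 || !(isOneB (D.gH k)))))))))))))

/-- what the check establishes -/
structure ChkP (D : Data) (N k : ℕ) : Prop where
  s0lt : D.gS0 k < N
  s1lt : D.gS1 k < N
  a9 : mulrow9 D.tVA (D.gL k) = D.gL (D.gS0 k)
  b9 : mulrow9 D.tVB (D.gL k) = D.gL (D.gS1 k)
  aB : mulrowB D.tAl D.tAh (D.gH k) = D.gH (D.gS0 k)
  bB : mulrowB D.tBl D.tBh (D.gH k) = D.gH (D.gS1 k)
  tree : k = 0 ∨ (D.gPG k / 2 < k ∧
    (if D.gPG k % 2 = 0 then D.gS0 (D.gPG k / 2) else D.gS1 (D.gPG k / 2)) = k)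
  pilt : D.gPI k < N
  sorted : N ≤ k + 1 ∨ D.gL (D.gPI k) < D.gL (D.gPI (k + 1))
  canon : canon9b (D.gL k) = true
  ker : k = 0 ∨ isOneB (D.gH k) = false

theorem chk_spec (D : Data) (N k : ℕ) (hk : k < N) (h : chk D N k = true) : ChkP D N k := by
  unfold chk at h
  simp only [Bool.or_eq_true, Bool.and_eq_true, Nat.ble_eq, blt_iff, Nat.beq_eq, Bool.not_eq_true'] at h
  rcases h with h | h
  · omega
  obtain ⟨h1, h2, h3, h4, h5, h6, h7, h8, h9, h10, h11⟩ := h
  refine ⟨h1, h2, h3, h4, h5, h6, ?_, h8, h9, h10, h11⟩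
  rcases h7 with h7 | ⟨h7, h7'⟩
  · exact Or.inl h7
  · right
    refine ⟨h7, ?_⟩
    by_cases hm : D.gPG k % 2 = 0
    · rw [if_pos hm]
      have : Nat.beq (Nat.mod (D.gPG k) 2) 0 = true := by rw [Nat.beq_eq]; exact hm
      rw [this] at h7'
      exact h7'
    · rw [if_neg hm]
      have : Nat.beq (Nat.mod (D.gPG k) 2) 0 = false := by
        cases hb : Nat.beq (Nat.mod (D.gPG k) 2) 0
        · rfl
        · exact absurd (Nat.eq_of_beq_eq_true hb) hm
      rw [this] at h7'
      exact h7'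

end Cfsg.Agent.Helper13.G2U
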