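import Mathlib
import Cfsg.Agent.Helper13.G2U
import Cfsg.Agent.Helper13.G2UD
import Cfsg.Agent.Helper13.G2UG
import Cfsg.Agent.Helper12.PSUCommD

set_option autoImplicit false

/-! Assembly of `G₂(2)′ ≃* PSU₃(3)` from the verified table. -/

namespace Cfsg.Agent.Helper13.G2UA

open Cfsg.Agent.Helper13.U42 Cfsg.Agent.Helper13.G2U Cfsg.Agent.Helper13.G2UD
  Cfsg.Agent.Helper13.G2UG Cfsg.Agent.Helper13.SU33Spec Cfsg.Agent.Helper27 Cfsg Cfsg.Lie Matrix
open scoped commutatorElement

/-- the order -/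
abbrev NN : ℕ := 6048

theorem chkP (k : ℕ) (hk : k < NN) : G2U.ChkP D NN k :=
  G2U.chk_spec D NN k hk (allRange_spec _ 13 0 chk_all k (Nat.zero_le _) (by norm_num [NN] at hk ⊢; omega))

theorem gL_lt (k : ℕ) : gL k < 68719476736 := Nat.mod_lt _ (by norm_num)

theorem gS0_lt {k : ℕ} (hk : k < NN) : gS0 k < NN := (chkP k hk).s0lt
theorem gS1_lt {k : ℕ} (hk : k < NN) : gS1 k < NN := (chkP k hk).s1lt

theorem htree : ∀ k, 0 < k → k < NN → gPG k / 2 < k ∧
    (if gPG k % 2 = 0 then gS0 (gPG k / 2) else gS1 (gPG k / 2)) = k := by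
  intro k hpos hk
  rcases (chkP k hk).tree with h | h
  · omega
  · exact h

theorem gL_inj : ∀ i < NN, ∀ j < NN, gL i = gL j → i = j := by
  apply injOn_of_sorted NN gL gPI
  · intro j hj
    exact (chkP j hj).pilt
  · intro j hj
    rcases (chkP j (by omega)).sorted with h | h
    · omega
    · exact h

/-! ### the unitary side, over the model field -/

/-- the enumeration of `SU₃(3)` over the model field -/
def e1 (k : ℕ) : M9 := dec9 (gL k)

theorem e1_zero : e1 0 = 1 := by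
  unfold e1
  rw [gL_zero]
  exact dec9_one

theorem e1_step {k : ℕ} (hk : k < NN) :
    e1 (gS0 k) = e1 k * dec9 cA9 ∧ e1 (gS1 k) = e1 k * dec9 cB9 := by
  constructor
  · unfold e1
    rw [dec9_mulrow tabA9]
    exact congrArg dec9 (chkP k hk).a9.symm
  · unfold e1
    rw [dec9_mulrow tabB9]
    exact congrArg dec9 (chkP k hk).b9.symm

theorem e1_inj : ∀ i < NN, ∀ j < NN, e1 i = e1 j → i = j := by
  intro i hi j hj h
  exact gL_inj i hi j hj (dec9_inj (gL_lt i) (gL_lt j) (chkP i hi).canon (chkP j hj).canon h)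

set_option maxRecDepth 100000 in
theorem detA : (dec9 cA9).det = 1 := by rw [Matrix.det_fin_three]; decide +kernel
set_option maxRecDepth 100000 in
theorem detB : (dec9 cB9).det = 1 := by rw [Matrix.det_fin_three]; decide +kernel
set_option maxRecDepth 100000 in
theorem unitA : IsU (dec9 cA9) := by decide +kernel
set_option maxRecDepth 100000 in
theorem unitB : IsU (dec9 cB9) := by decide +kernel

section K

variable {K : Type*} [Field K] [Fintype K]

/-- membership in `SU₃(3)` on the level of matrices over the model -/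
def InSU (φ : F9 →+* K) (A : M9) : Prop :=
  ∃ g : Cfsg.SU 3 K 3, ((g : SpecialLinearGroup (Fin 3) K) : Matrix (Fin 3) (Fin 3) K) = φ.mapMatrix A

theorem inSU_one (φ : F9 →+* K) : InSU φ 1 := ⟨1, by rw [map_one]; rfl⟩

theorem inSU_mul (φ : F9 →+* K) {A B : M9} (hA : InSU φ A) (hB : InSU φ B) : InSU φ (A * B) := by
  obtain ⟨g, hg⟩ := hA
  obtain ⟨h, hh⟩ := hB
  refine ⟨g * h, ?_⟩
  rw [map_mul, ← hg, ← hh]
  rfl

theorem inSU_e1 (hK : Fintype.card K = 3 ^ 2) (φ : F9 →+* K) : ∀ k < NN, InSU φ (e1 k) := by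
  refine tree_ind NN gS0 gS1 gPG htree (fun k => InSU φ (e1 k)) ?_ ?_
  · rw [e1_zero]; exact inSU_one φ
  · intro k hk ih
    obtain ⟨h1, h2⟩ := e1_step hk
    rw [h1, h2]
    exact ⟨inSU_mul φ ih ⟨mkSU hK φ (dec9 cA9) detA unitA, rfl⟩,
      inSU_mul φ ih ⟨mkSU hK φ (dec9 cB9) detB unitB, rfl⟩⟩

theorem card_SU (hK : Fintype.card K = 3 ^ 2) : Nat.card (Cfsg.SU 3 K 3) = NN := by
  rw [Cfsg.Agent.Helper12.PSUComm.card_SU_eq hK 3 (by norm_num)]
  decide

end K

/-! ### the Chevalley side -/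

/-- the enumeration of the subgroup of `G₂(2)` -/
def e2 (k : ℕ) : Matrix chevG2.Idx chevG2.Idx (ZMod 2) := decB (gH k)

theorem g2Mat_one_entry : ∀ p : chevG2.Idx × chevG2.Idx,
    g2Mat [1, 2, 4, 8, 16, 32, 64, 128, 256, 512, 1024, 2048, 4096, 8192] p.1 p.2 =
      (1 : Matrix chevG2.Idx chevG2.Idx (ZMod 2)) p.1 p.2 := by
  decide +kernel

theorem e2_zero : e2 0 = 1 := by
  unfold e2 decB
  rw [gH_zero]
  exact Matrix.ext fun i j => g2Mat_one_entry (i, j)

theorem e2_step {k : ℕ} (hk : k < NN) :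
    e2 (gS0 k) = e2 k * decB cAH ∧ e2 (gS1 k) = e2 k * decB cBH := by
  constructor
  · unfold e2
    rw [decB_mulrowB tabAB]
    exact congrArg decB (chkP k hk).aB.symm
  · unfold e2
    rw [decB_mulrowB tabBB]
    exact congrArg decB (chkP k hk).bB.symm

theorem e2_ker {k : ℕ} (hk : k < NN) (h : e2 k = 1) : k = 0 := by
  rcases (chkP k hk).ker with h0 | h0
  · exact h0
  · have h1 : isOneB (gH k) = true := isOneB_of_decB h
    have h2 : isOneB (gH k) = false := h0
    rw [h1] at h2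
    exact Bool.noConfusion h2

/-! ### the homomorphism -/

section Hom

variable {K : Type*} [Field K] [Fintype K]

/-- the invertible matrices of degree 14 over the field with two elements -/
abbrev GG : Type := GL chevG2.Idx (ZMod 2)

theorem su_hom (hK : Fintype.card K = 9) :
    ∃ Ψ : Cfsg.SU 3 K 3 →* GG, Function.Injective Ψ ∧
      (∀ g, ∃ k < NN, ((Ψ g : GG) : Matrix chevG2.Idx chevG2.Idx (ZMod 2)) = e2 k) ∧
      (∀ k < NN, ∃ g, ((Ψ g : GG) : Matrix chevG2.Idx chevG2.Idx (ZMod 2)) = e2 k) := by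
  classical
  have hK' : Fintype.card K = 3 ^ 2 := hK.trans (by norm_num)
  obtain ⟨φ, hφ⟩ := exists_phi hK
  have hφinj : Function.Injective (φ.mapMatrix : M9 →+* Matrix (Fin 3) (Fin 3) K) := by
    intro A B hAB
    apply Matrix.ext
    intro i j
    have := congrFun (congrFun hAB i) j
    simp only [RingHom.mapMatrix_apply, Matrix.map_apply] at this
    exact hφ.injective this
  have hIn := inSU_e1 hK' φ
  -- the enumeration of `SU₃(3)`
  let f : Fin NN → Cfsg.SU 3 K 3 := fun k => (hIn k.val k.2).choose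
  have hf : ∀ k : Fin NN,
      ((f k : SpecialLinearGroup (Fin 3) K) : Matrix (Fin 3) (Fin 3) K) = φ.mapMatrix (e1 k.val) :=
    fun k => (hIn k.val k.2).choose_spec
  have hfinj : Function.Injective f := by
    intro i j hij
    have h1 : φ.mapMatrix (e1 i.val) = φ.mapMatrix (e1 j.val) := by rw [← hf i, ← hf j, hij]
    exact Fin.ext (e1_inj i.val i.2 j.val j.2 (hφinj h1))
  have hfbij : Function.Bijective f :=
    hfinj.bijective_of_nat_card_le (by rw [card_SU hK', Nat.card_fin])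
  let E : Fin NN ≃ Cfsg.SU 3 K 3 := Equiv.ofBijective f hfbij
  have h0 : (0 : ℕ) < NN := by norm_num
  have hjoint := joint_mul NN gS0 gS1 gPG htree (fun k hk => ⟨gS0_lt hk, gS1_lt hk⟩)
    e1 (dec9 cA9) (dec9 cB9) e1_zero (fun k hk => e1_step hk)
    e2 (decB cAH) (decB cBH) e2_zero (fun k hk => e2_step hk)
  have hE1 : E ⟨0, h0⟩ = 1 := by
    apply Subtype.ext
    apply Subtype.ext
    show ((f ⟨0, h0⟩ : SpecialLinearGroup (Fin 3) K) : Matrix (Fin 3) (Fin 3) K) = 1
    rw [hf, e1_zero, map_one]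
  let ψ : Cfsg.SU 3 K 3 → Matrix chevG2.Idx chevG2.Idx (ZMod 2) := fun g => e2 (E.symm g).val
  have hψone : ψ 1 = 1 := by
    simp only [ψ]
    rw [← hE1, Equiv.symm_apply_apply]
    exact e2_zero
  have hψmul : ∀ g h, ψ (g * h) = ψ g * ψ h := by
    intro g h
    obtain ⟨i, rfl⟩ := E.surjective g
    obtain ⟨j, rfl⟩ := E.surjective h
    obtain ⟨k, hk, hk1, hk2⟩ := hjoint j.val j.2 i.val i.2
    have hprod : E i * E j = E ⟨k, hk⟩ := by
      apply Subtype.ext
      apply Subtype.ext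
      show ((f i : SpecialLinearGroup (Fin 3) K) : Matrix (Fin 3) (Fin 3) K) *
        ((f j : SpecialLinearGroup (Fin 3) K) : Matrix (Fin 3) (Fin 3) K) =
        ((f ⟨k, hk⟩ : SpecialLinearGroup (Fin 3) K) : Matrix (Fin 3) (Fin 3) K)
      rw [hf, hf, hf, ← map_mul, hk1]
    simp only [ψ]
    rw [hprod, Equiv.symm_apply_apply, Equiv.symm_apply_apply, Equiv.symm_apply_apply]
    exact hk2.symm
  let Ψ' : Cfsg.SU 3 K 3 →* Matrix chevG2.Idx chevG2.Idx (ZMod 2) :=
    { toFun := ψ, map_one' := hψone, map_mul' := hψmul }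
  let Ψ : Cfsg.SU 3 K 3 →* GG := Ψ'.toHomUnits
  have hΨ : ∀ g, ((Ψ g : GG) : Matrix chevG2.Idx chevG2.Idx (ZMod 2)) = e2 (E.symm g).val :=
    fun g => rfl
  refine ⟨Ψ, ?_, ?_, ?_⟩
  · rw [injective_iff_map_eq_one]
    intro g hg
    have h1 : e2 (E.symm g).val = 1 := by
      rw [← hΨ, hg]
      rfl
    have h2 := e2_ker (E.symm g).2 h1
    have h3 : E.symm g = ⟨0, h0⟩ := Fin.ext h2
    rw [← hE1, ← h3, Equiv.apply_symm_apply]
  · intro g
    exact ⟨(E.symm g).val, (E.symm g).2, hΨ g⟩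
  · intro k hk
    exact ⟨E ⟨k, hk⟩, by rw [hΨ, Equiv.symm_apply_apply]⟩

end Hom

/-! ### the Chevalley group -/

section Chev

theorem xMat_one_eq (r : Fin 12) : chevG2.xMat (ZMod 2) r 1 = decB (xc r.val) :=
  Matrix.ext fun i j => xc_entry (r, i, j)

theorem xMat_zero_eq (r : Fin chevG2.nroots) : chevG2.xMat (ZMod 2) r 0 = 1 :=
  Matrix.ext fun i j => xMat_zero_entry (r, i, j)

theorem decB_eq (c : ℕ) : decB c = g2Mat (rowsOf c) := rfl

theorem e2_eq (k : ℕ) : e2 k = g2Mat (rowsOf (gH k)) := rfl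

theorem mulRowsS_length' (n : ℕ) (R S : List ℕ) : (mulRowsS n R S).length = R.length := by
  unfold mulRowsS
  rw [List.length_map]

theorem decB_xc_sq (r : Fin 12) : decB (xc r.val) * decB (xc r.val) = 1 := by
  rw [decB_eq, ← g2Mat_mul _ _ (rowsOf_length _), xc_sq r, ← e2_eq]
  exact e2_zero

/-- the root elements -/
def Y (r : Fin 12) : GG :=
  ⟨chevG2.xMat (ZMod 2) r 1, chevG2.xMat (ZMod 2) r 1,
    (congrArg (fun M => M * M) (xMat_one_eq r)).trans (decB_xc_sq r),
    (congrArg (fun M => M * M) (xMat_one_eq r)).trans (decB_xc_sq r)⟩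

theorem Y_val (r : Fin 12) :
    ((Y r : GG) : Matrix chevG2.Idx chevG2.Idx (ZMod 2)) = g2Mat (rowsOf (xc r.val)) := xMat_one_eq r

theorem Y_sq (r : Fin 12) : Y r * Y r = 1 := by
  apply Units.ext
  rw [Units.val_mul, Y_val, ← decB_eq, decB_xc_sq]
  rfl

theorem Y_inv (r : Fin 12) : (Y r)⁻¹ = Y r := inv_eq_of_mul_eq_one_right (Y_sq r)

/-- the generating set -/
def gS : Set GG :=
  {g | ∃ (r : Fin chevG2.nroots) (t : ZMod 2),
    (g : Matrix chevG2.Idx chevG2.Idx (ZMod 2)) = chevG2.xMat (ZMod 2) r t}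

theorem group_eq : chevG2.group (ZMod 2) = Subgroup.closure gS := rfl

theorem zmod2_cases' (t : ZMod 2) : t = 0 ∨ t = 1 := by
  revert t
  decide

theorem gS_cases (y : GG) (hy : y ∈ gS) : y = 1 ∨ ∃ r : Fin 12, y = Y r := by
  obtain ⟨r, t, h⟩ := hy
  rcases zmod2_cases' t with rfl | rfl
  · left
    apply Units.ext
    rw [h, xMat_zero_eq]
    rfl
  · right
    exact ⟨r, Units.ext h⟩

theorem Y_mem (r : Fin 12) : Y r ∈ Subgroup.closure gS :=
  Subgroup.subset_closure ⟨r, 1, rfl⟩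

theorem comm_eq (H : Subgroup GG)
    (h1 : ∀ g ∈ H, ∃ k < NN, ((g : GG) : Matrix chevG2.Idx chevG2.Idx (ZMod 2)) = e2 k)
    (h2 : ∀ k < NN, ∃ g ∈ H, ((g : GG) : Matrix chevG2.Idx chevG2.Idx (ZMod 2)) = e2 k) :
    ⁅chevG2.group (ZMod 2), chevG2.group (ZMod 2)⁆ = H := by
  have h0 : (0 : ℕ) < NN := by norm_num
  obtain ⟨a, haH, ha⟩ := h2 (gS0 0) (gS0_lt h0)
  obtain ⟨b, hbH, hb⟩ := h2 (gS1 0) (gS1_lt h0)
  have ha' : ((a : GG) : Matrix chevG2.Idx chevG2.Idx (ZMod 2)) = g2Mat (rowsOf cAH) := by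
    rw [ha, e2_eq, gH_A]
  have hb' : ((b : GG) : Matrix chevG2.Idx chevG2.Idx (ZMod 2)) = g2Mat (rowsOf cBH) := by
    rw [hb, e2_eq, gH_B]
  rw [group_eq]
  apply comm_eq_of_cert gS H a b (Y 2)
  · intro s hs
    rcases gS_cases s hs with rfl | ⟨r, rfl⟩
    · exact mul_one 1
    · exact Y_sq r
  · exact Y_sq 2
  · -- `H` is generated by `a` and `b`
    have P : ∀ k < NN, ∀ g : GG, ((g : GG) : Matrix chevG2.Idx chevG2.Idx (ZMod 2)) = e2 k →
        g ∈ Subgroup.closure {a, b} := by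
      refine tree_ind NN gS0 gS1 gPG htree (fun k => ∀ g : GG,
        ((g : GG) : Matrix chevG2.Idx chevG2.Idx (ZMod 2)) = e2 k → g ∈ Subgroup.closure {a, b}) ?_ ?_
      · intro g hg
        have : g = 1 := Units.ext (by rw [hg, e2_zero]; rfl)
        rw [this]
        exact Subgroup.one_mem _
      · intro k hk ih
        obtain ⟨g', -, hg'⟩ := h2 k hk
        obtain ⟨s0, s1⟩ := e2_step hk
        constructor
        · intro g hg
          have : g = g' * a := Units.ext (by rw [Units.val_mul, hg', ha', hg, s0]; rfl)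
          rw [this]
          exact Subgroup.mul_mem _ (ih g' hg') (Subgroup.subset_closure (by simp))
        · intro g hg
          have : g = g' * b := Units.ext (by rw [Units.val_mul, hg', hb', hg, s1]; rfl)
          rw [this]
          exact Subgroup.mul_mem _ (ih g' hg') (Subgroup.subset_closure (by simp))
    intro g hg
    obtain ⟨k, hk, hgk⟩ := h1 g hg
    exact P k hk g hgk
  · -- `a` is a commutator
    have : a = ⁅Y 0, Y 11⁆ := by
      apply Units.ext
      rw [commutatorElement_def, Y_inv, Y_inv, ha', Units.val_mul, Units.val_mul, Units.val_mul, Y_val, Y_val,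
        mul_assoc, ← g2Mat_mul _ _ (rowsOf_length _),
        ← g2Mat_mul _ _ (by rw [mulRowsS_length']; exact rowsOf_length _)]
      exact congrArg g2Mat certA
    rw [this]
    exact Subgroup.commutator_mem_commutator (Y_mem 0) (Y_mem 11)
  · have : b = ⁅Y 2, Y 9⁆ := by
      apply Units.ext
      rw [commutatorElement_def, Y_inv, Y_inv, hb', Units.val_mul, Units.val_mul, Units.val_mul, Y_val, Y_val,
        mul_assoc, ← g2Mat_mul _ _ (rowsOf_length _),
        ← g2Mat_mul _ _ (by rw [mulRowsS_length']; exact rowsOf_length _)]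
      exact congrArg g2Mat certB
    rw [this]
    exact Subgroup.commutator_mem_commutator (Y_mem 2) (Y_mem 9)
  · exact haH
  · exact hbH
  · obtain ⟨g, hg, hgv⟩ := h2 4707 (by norm_num)
    have : Y 2 * a * (Y 2)⁻¹ = g := by
      apply Units.ext
      rw [Y_inv, Units.val_mul, Units.val_mul, Y_val, ha', hgv, e2_eq,
        ← g2Mat_mul _ _ (rowsOf_length _),
        ← g2Mat_mul _ _ (by rw [mulRowsS_length']; exact rowsOf_length _)]
      exact congrArg g2Mat certNA.symm
    rw [this]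
    exact hg
  · obtain ⟨g, hg, hgv⟩ := h2 6 (by norm_num)
    have : Y 2 * b * (Y 2)⁻¹ = g := by
      apply Units.ext
      rw [Y_inv, Units.val_mul, Units.val_mul, Y_val, hb', hgv, e2_eq,
        ← g2Mat_mul _ _ (rowsOf_length _),
        ← g2Mat_mul _ _ (by rw [mulRowsS_length']; exact rowsOf_length _)]
      exact congrArg g2Mat certNB.symm
    rw [this]
    exact hg
  · intro s hs
    rcases gS_cases s hs with rfl | ⟨r, rfl⟩
    · exact Or.inl H.one_mem
    · obtain ⟨hlt, hrows⟩ := certM r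
      obtain ⟨g, hg, hgv⟩ := h2 (mT r.val) hlt
      cases hmf : mF r.val
      · left
        rw [hmf] at hrows
        have : Y r = g := by
          apply Units.ext
          rw [Y_val, hgv, e2_eq]
          exact congrArg g2Mat hrows.symm
        rw [this]
        exact hg
      · right
        rw [hmf] at hrows
        have : Y r * Y 2 = g := by
          apply Units.ext
          rw [Units.val_mul, Y_val, Y_val, hgv, e2_eq, ← g2Mat_mul _ _ (rowsOf_length _)]
          exact congrArg g2Mat hrows.symm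
        rw [this]
        exact hg

end Chev

/-! ### the isomorphism -/

section Final

variable {F : Type*} [Field F] [Fintype F] {K : Type*} [Field K] [Fintype K]

theorem g2_comm_equiv_su (hK : Fintype.card K = 9) :
    Nonempty (commutator (chevG2.group (ZMod 2)) ≃* Cfsg.SU 3 K 3) := by
  obtain ⟨Ψ, hinj, h1, h2⟩ := su_hom hK
  have hH := comm_eq Ψ.range (by rintro _ ⟨g, rfl⟩; exact h1 g)
    (fun k hk => by obtain ⟨g, hg⟩ := h2 k hk; exact ⟨Ψ g, ⟨g, rfl⟩, hg⟩)
  obtain ⟨e1⟩ := commutator_subgroup_equiv (chevG2.group (ZMod 2))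
  exact ⟨e1.trans ((MulEquiv.subgroupCongr hH).trans (MonoidHom.ofInjective hinj).symm)⟩

theorem g2_comm_equiv_psu (hF : Fintype.card F = 2) (hK : Fintype.card K = 9) :
    Nonempty (commutator (chevG2.group F) ≃* Cfsg.PSU 3 K 3) := by
  let e : ZMod 2 ≃+* F := ZMod.ringEquivOfPrime F Nat.prime_two hF
  obtain ⟨eb⟩ := group_base_change chevG2 e
  obtain ⟨ec⟩ := commutator_congr eb.symm
  obtain ⟨es⟩ := g2_comm_equiv_su (K := K) hK
  exact ⟨ec.trans (es.trans (eSU hK))⟩

end Final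

end Cfsg.Agent.Helper13.G2UA
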