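import Mathlib

/-! S3795 (Gross, p = 2) piece (LL) for helper9: the "lines lemma".

`Q / R` is a symplectic plane over `𝔽_l`, `l = 2 ^ j - 1` a Mersenne prime, `σ` a `2`-element
acting fixed-point-freely of order at least `l + 1`, `𝒟` a `q`-group (`q` odd, `q ≠ l`) of
isometries normalised by `σ`.  Then `𝒟` acts trivially on `Q / R`. -/

set_option autoImplicit false
set_option linter.unusedSectionVars false
set_option linter.style.haveILetI false
set_option linter.unusedVariables false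

namespace Cfsg.Agent.Helper13.GrossLines

section ZP

variable {X : Type*} [Group X] {p : ℕ} [Fact p.Prime]

/-- powers with exponents in `ZMod p` -/
def zp (a : X) (i : ZMod p) : X := a ^ i.val

theorem zp_zero (a : X) : zp a (0 : ZMod p) = 1 := by
  unfold zp; rw [ZMod.val_zero, pow_zero]

theorem zp_add {a : X} (ha : a ^ p = 1) (i j : ZMod p) : zp a (i + j) = zp a i * zp a j := by
  unfold zp
  rw [ZMod.val_add, ← pow_eq_pow_mod _ ha, pow_add]

theorem zp_natCast {a : X} (ha : a ^ p = 1) (k : ℕ) : zp a (k : ZMod p) = a ^ k := by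
  unfold zp
  rw [ZMod.val_natCast, ← pow_eq_pow_mod _ ha]

theorem zp_one {a : X} (ha : a ^ p = 1) : zp a (1 : ZMod p) = a := by
  have := zp_natCast (p := p) ha 1
  rwa [Nat.cast_one, pow_one] at this

theorem zp_mul {a : X} (ha : a ^ p = 1) (i j : ZMod p) : zp a (i * j) = zp (zp a i) j := by
  unfold zp
  rw [ZMod.val_mul, ← pow_eq_pow_mod _ ha, pow_mul]

theorem zp_neg {a : X} (ha : a ^ p = 1) (i : ZMod p) : zp a (-i) = (zp a i)⁻¹ := by
  have h := zp_add ha (-i) i
  rw [neg_add_cancel, zp_zero] at h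
  exact eq_inv_of_mul_eq_one_left h.symm

theorem zp_inj {a : X} (ha : a ^ p = 1) (ha1 : a ≠ 1) {i j : ZMod p} (h : zp a i = zp a j) :
    i = j := by
  unfold zp at h
  rw [pow_eq_pow_iff_modEq, orderOf_eq_prime ha ha1] at h
  apply ZMod.val_injective p
  have h1 := Nat.mod_eq_of_lt (ZMod.val_lt i)
  have h2 := Nat.mod_eq_of_lt (ZMod.val_lt j)
  unfold Nat.ModEq at h
  omega

theorem map_zp {Y : Type*} [Group Y] (f : X ≃* Y) (a : X) (i : ZMod p) :
    f (zp a i) = zp (f a) i := by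
  unfold zp; exact map_pow f a _

/-- in a group of prime order generated by `a`, everything is a `ZMod p`-power of `a` -/
theorem exists_zp_of_mem [Finite X] (N : Subgroup X) (hN : Nat.card N = p) {a : X} (ha : a ∈ N)
    (ha1 : a ≠ 1) {w : X} (hw : w ∈ N) : ∃ i : ZMod p, w = zp a i := by
  have hap : a ^ p = 1 := by
    have : (⟨a, ha⟩ : N) ^ p = 1 := by rw [← hN]; exact pow_card_eq_one'
    exact congrArg Subtype.val this
  have h1 : (⟨a, ha⟩ : N) ≠ 1 := fun h => ha1 (congrArg Subtype.val h)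
  have h2 : (⟨w, hw⟩ : N) ∈ Submonoid.powers (⟨a, ha⟩ : N) := mem_powers_of_prime_card hN h1
  obtain ⟨k, hk⟩ := h2
  refine ⟨(k : ZMod p), ?_⟩
  rw [zp_natCast hap]
  have := congrArg Subtype.val hk
  simpa using this.symm

/-- if `y` is not on the line through `x` but `zp y u` is, then `u = 0` -/
theorem eq_zero_of_zp_mem {x y : X} (hx : x ^ p = 1) (hy : y ^ p = 1)
    (hxy : ∀ i : ZMod p, y ≠ zp x i) {u : ZMod p} (h : ∃ i : ZMod p, zp y u = zp x i) : u = 0 := by
  by_contra hu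
  obtain ⟨i, hi⟩ := h
  apply hxy (i * u⁻¹)
  rw [zp_mul hx, ← hi, ← zp_mul hy, mul_inv_cancel₀ hu, zp_one hy]

end ZP

/-- the configuration on the quotient `A = Q / R` -/
structure Cfg (A : Type*) [Group A] (K' : Type*) [CommGroup K'] (D : Type*) [Group D]
    (l j q m : ℕ) where
  hj : 2 ≤ j
  hlj : l + 1 = 2 ^ j
  hq : q.Prime
  hq2 : q ≠ 2
  hql : q ≠ l
  hcard : Nat.card A = l ^ 2
  b : A → A → K'
  hbl : ∀ x x' y, b (x * x') y = b x y * b x' y
  hbr : ∀ x y y', b x (y * y') = b x y * b x y'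
  hbalt : ∀ x, b x x = 1
  hbnd : ∀ x, (∀ y, b x y = 1) → x = 1
  σ : MulAut A
  hσm : σ ^ (2 ^ m) = 1
  hlm : l + 1 ≤ 2 ^ m
  hσfpf : ∀ i, 0 < i → i < 2 ^ m → ∀ x, (σ ^ i) x = x → x = 1
  hD : IsPGroup q D
  φ : D →* MulAut A
  hφb : ∀ d x y, b (φ d x) (φ d y) = b x y
  hσD : ∀ d, ∃ d', σ * φ d * σ⁻¹ = φ d'

namespace Cfg

variable {A : Type*} [Group A] [Finite A] {K' : Type*} [CommGroup K'] {D : Type*} [Group D]
  {l j q m : ℕ} [Fact l.Prime] (c : Cfg A K' D l j q m)

include c in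
theorem comm (x y : A) : x * y = y * x :=
  (IsPGroup.isMulCommutative_of_card_eq_prime_sq (p := l) c.hcard).is_comm.comm x y

/-- `b x ·` as a homomorphism -/
def bR (x : A) : A →* K' := MonoidHom.mk' (c.b x) (c.hbr x)

/-- `b · y` as a homomorphism -/
def bL (y : A) : A →* K' := MonoidHom.mk' (fun x => c.b x y) (fun x x' => c.hbl x x' y)

theorem b_pow_right (x y : A) (n : ℕ) : c.b x (y ^ n) = c.b x y ^ n := map_pow (c.bR x) y n

theorem b_zpow_right (x y : A) (n : ℤ) : c.b x (y ^ n) = c.b x y ^ n := map_zpow (c.bR x) y n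

theorem b_inv_right (x y : A) : c.b x y⁻¹ = (c.b x y)⁻¹ := map_inv (c.bR x) y

theorem b_pow_left (x y : A) (n : ℕ) : c.b (x ^ n) y = c.b x y ^ n := map_pow (c.bL y) x n

theorem b_zp_swap (x y : A) (i : ZMod l) : c.b (zp x i) y = c.b x (zp y i) := by
  unfold zp
  rw [b_pow_left, b_pow_right]

include c in
theorem exp (x : A) : x ^ l = 1 := by
  have hl := (Fact.out : l.Prime)
  have hd : orderOf x ∣ l ^ 2 := by rw [← c.hcard]; exact orderOf_dvd_natCard x
  obtain ⟨k, hk, hok⟩ := (Nat.dvd_prime_pow hl).mp hd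
  interval_cases k
  · rw [pow_zero, orderOf_eq_one_iff] at hok; rw [hok, one_pow]
  · rw [pow_one] at hok; rw [← hok]; exact pow_orderOf_eq_one x
  · exfalso
    have htop : Subgroup.zpowers x = ⊤ := by
      apply Subgroup.eq_top_of_card_eq; rw [Nat.card_zpowers, hok, c.hcard]
    have hx1 : x = 1 := by
      apply c.hbnd
      intro y
      have : y ∈ Subgroup.zpowers x := htop ▸ Subgroup.mem_top y
      obtain ⟨k, rfl⟩ := Subgroup.mem_zpowers_iff.mp this
      rw [c.b_zpow_right, c.hbalt, one_zpow]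
    rw [hx1, orderOf_one] at hok
    have := hl.two_le
    nlinarith

/-- the perpendicular of `a ≠ 1` is the line through `a` -/
theorem perp {a : A} (ha : a ≠ 1) {z : A} (hz : c.b a z = 1) : ∃ i : ZMod l, z = zp a i := by
  have hl := (Fact.out : l.Prime)
  set P : Subgroup A := (c.bR a).ker with hP
  have hzP : z ∈ P := MonoidHom.mem_ker.mpr hz
  have haP : a ∈ P := MonoidHom.mem_ker.mpr (c.hbalt a)
  have hle : Subgroup.zpowers a ≤ P := Subgroup.zpowers_le.mpr haP
  have hcz : Nat.card (Subgroup.zpowers a) = l := by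
    rw [Nat.card_zpowers]; exact orderOf_eq_prime (c.exp a) ha
  have hPne : P ≠ ⊤ := by
    intro h
    apply ha; apply c.hbnd; intro y
    have : y ∈ P := h ▸ Subgroup.mem_top y
    exact MonoidHom.mem_ker.mp this
  have hPd : Nat.card P ∣ l ^ 2 := by rw [← c.hcard]; exact Subgroup.card_subgroup_dvd_card P
  obtain ⟨k, hk, hPk⟩ := (Nat.dvd_prime_pow hl).mp hPd
  have hPl : Nat.card P = l := by
    interval_cases k
    · have := Subgroup.card_le_of_le hle
      rw [hcz, hPk, pow_zero] at this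
      have := hl.two_le
      omega
    · simpa using hPk
    · exfalso; apply hPne; apply Subgroup.eq_top_of_card_eq; rw [hPk, c.hcard]
  exact exists_zp_of_mem P hPl haP ha hzP

/-- an isometry acting on the line through `a` by `s` acts on the quotient by `s⁻¹` -/
theorem shift {d : D} {a : A} (ha : a ≠ 1) {s : ZMod l} (hs : c.φ d a = zp a s) (y : A) :
    ∃ i : ZMod l, zp (c.φ d y) s * y⁻¹ = zp a i := by
  apply c.perp ha
  rw [c.hbr, c.b_inv_right, ← c.b_zp_swap, ← hs, c.hφb, mul_inv_cancel]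

include c in
theorem iter (e : MulAut A) {a : A} {s : ZMod l} (h : e a = zp a s) (n : ℕ) :
    (e ^ n) a = zp a (s ^ n) := by
  induction n with
  | zero => rw [pow_zero, pow_zero, MulAut.one_apply, zp_one (c.exp a)]
  | succ n ih =>
    rw [pow_succ', MulAut.mul_apply, ih, map_zp, h, ← zp_mul (c.exp a), pow_succ']

theorem trivial_of_fix {d : D} {a : A} (ha : a ≠ 1) (hfix : c.φ d a = a) : c.φ d = 1 := by
  have hl := (Fact.out : l.Prime)
  obtain ⟨k, hk⟩ := c.hD d
  ext y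
  rw [MulAut.one_apply]
  set e := c.φ d with he
  have hs : e a = zp a (1 : ZMod l) := by rw [zp_one (c.exp a)]; exact hfix
  obtain ⟨i, hi⟩ := c.shift ha hs y
  rw [zp_one (c.exp _)] at hi
  obtain ⟨w, hw⟩ : ∃ w, w = e y * y⁻¹ := ⟨_, rfl⟩
  rw [← hw] at hi
  have hew : e w = w := by rw [hi, map_zp, hfix]
  have hey : e y = w * y := by rw [hw]; group
  have hpow : ∀ n : ℕ, (e ^ n) y = w ^ n * y := by
    intro n
    induction n with
    | zero => simp
    | succ n ih =>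
      rw [pow_succ', MulAut.mul_apply, ih, map_mul, map_pow, hew, hey, pow_succ, mul_assoc]
  have h1 : e ^ (q ^ k) = 1 := by rw [he, ← map_pow, hk, map_one]
  have h2 := hpow (q ^ k)
  rw [h1, MulAut.one_apply] at h2
  have hwq : w ^ (q ^ k) = 1 := by
    have : w ^ (q ^ k) * y = 1 * y := by rw [← h2, one_mul]
    exact mul_right_cancel this
  have hw1 : w = 1 := by
    have hcop : Nat.Coprime (q ^ k) l :=
      ((Nat.coprime_primes c.hq hl).mpr c.hql).pow_left k
    have := pow_gcd_eq_one.mpr ⟨hwq, c.exp w⟩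
    rwa [hcop, pow_one] at this
  rw [hey, hw1, one_mul]

theorem trivial_of_sq {d : D} {a : A} (ha : a ≠ 1) {s : ZMod l} (hs : c.φ d a = zp a s)
    (hs2 : s ^ 2 = 1) : c.φ d = 1 := by
  obtain ⟨k, hk⟩ := c.hD d
  have h1 : (c.φ d) ^ (q ^ k) = 1 := by rw [← map_pow, hk, map_one]
  have h2 := c.iter (c.φ d) hs (q ^ k)
  rw [h1, MulAut.one_apply] at h2
  have h3 : s ^ (q ^ k) = 1 := by
    apply zp_inj (c.exp a) ha
    rw [← h2, zp_one (c.exp a)]
  have hs1 : s = 1 := by
    have := pow_gcd_eq_one.mpr ⟨hs2, h3⟩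
    have hg : Nat.gcd 2 (q ^ k) = 1 :=
      ((Nat.coprime_primes Nat.prime_two c.hq).mpr (Ne.symm c.hq2)).pow_right k
    rwa [hg, pow_one] at this
  apply c.trivial_of_fix ha
  rw [hs, hs1, zp_one (c.exp a)]

/-- three distinct fixed lines force the isometry to be trivial -/
theorem caseI {d : D} {a b' c' : A} (ha : a ≠ 1) (hb : ∀ i : ZMod l, b' ≠ zp a i)
    (hc : ∀ i : ZMod l, c' ≠ zp a i) (hcb : ∀ i : ZMod l, c' ≠ zp b' i) {s t w : ZMod l}
    (hs : c.φ d a = zp a s) (ht : c.φ d b' = zp b' t) (hw : c.φ d c' = zp c' w) :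
    c.φ d = 1 := by
  have hb1 : b' ≠ 1 := by
    have := hb 0
    rwa [zp_zero] at this
  -- generic computation
  have key : ∀ {x y : A} {u v : ZMod l}, x ≠ 1 → (∀ i : ZMod l, y ≠ zp x i) →
      c.φ d x = zp x u → c.φ d y = zp y v → v * u = 1 := by
    intro x y u v hx hxy hu hv
    obtain ⟨i, hi⟩ := c.shift hx hu y
    have h1 : zp (c.φ d y) u * y⁻¹ = zp y (v * u + -1) := by
      rw [hv, zp_add (c.exp y), zp_mul (c.exp y), zp_neg (c.exp y), zp_one (c.exp y)]
    rw [h1] at hi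
    have := eq_zero_of_zp_mem (c.exp x) (c.exp y) hxy ⟨i, hi⟩
    linear_combination this
  have h1 : t * s = 1 := key ha hb hs ht
  have h2 : w * s = 1 := key ha hc hs hw
  have h3 : w * t = 1 := key hb1 hcb ht hw
  have hst : s = t := by linear_combination (-s) * h3 + t * h2
  have hs2 : s ^ 2 = 1 := by rw [sq]; nth_rewrite 1 [hst]; exact h1
  exact c.trivial_of_sq ha hs hs2

/-- if `σ ^ 2` fixes a line then `l = 3` -/
theorem caseII {a : A} (ha : a ≠ 1) {s : ZMod l} (hs : (c.σ ^ 2) a = zp a s) : l = 3 := by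
  have hl := (Fact.out : l.Prime)
  have hjm : j ≤ m := by
    have h1 : 2 ^ j ≤ 2 ^ m := by rw [← c.hlj]; exact c.hlm
    exact (Nat.pow_le_pow_iff_right (by norm_num)).mp h1
  have hj := c.hj
  obtain ⟨m', rfl⟩ : ∃ m', m = m' + 1 := ⟨m - 1, by omega⟩
  obtain ⟨j', rfl⟩ : ∃ j', j = j' + 2 := ⟨j - 2, by omega⟩
  have hσ2 : (c.σ ^ 2) ^ (2 ^ m') = 1 := by
    rw [← pow_mul, ← pow_succ', c.hσm]
  have h1 := c.iter (c.σ ^ 2) hs (2 ^ m')
  rw [hσ2, MulAut.one_apply] at h1
  have hsm : s ^ (2 ^ m') = 1 := by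
    apply zp_inj (c.exp a) ha
    rw [← h1, zp_one (c.exp a)]
  have hs0 : s ≠ 0 := by
    intro h0
    rw [h0, zp_zero] at hs
    apply ha
    have : (c.σ ^ 2) a = (c.σ ^ 2) 1 := by rw [hs, map_one]
    exact (c.σ ^ 2).injective this
  have hsl : s ^ (l - 1) = 1 := ZMod.pow_card_sub_one_eq_one hs0
  -- l - 1 = 2 * u with u odd
  have hlu : l - 1 = 2 * (2 ^ (j' + 1) - 1) := by
    have := c.hlj
    have h2 : 2 ^ (j' + 2) = 2 * 2 ^ (j' + 1) := by ring
    have h3 : 0 < 2 ^ (j' + 1) := by positivity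
    omega
  have hs2 : (s ^ 2) ^ (2 ^ (j' + 1) - 1) = 1 := by rw [← pow_mul, ← hlu, hsl]
  have hs2' : (s ^ 2) ^ (2 ^ m') = 1 := by rw [← pow_mul, mul_comm, pow_mul, hsm, one_pow]
  have hcop : Nat.gcd (2 ^ (j' + 1) - 1) (2 ^ m') = 1 := by
    apply Nat.Coprime.pow_right
    rw [Nat.coprime_two_right]
    have h3 : 2 ^ (j' + 1) = 2 * 2 ^ j' := by ring
    have h4 : 0 < 2 ^ j' := by positivity
    exact ⟨2 ^ j' - 1, by omega⟩
  have hss : s ^ 2 = 1 := by
    have := pow_gcd_eq_one.mpr ⟨hs2, hs2'⟩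
    rwa [hcop, pow_one] at this
  have h4 := c.iter (c.σ ^ 2) hs 2
  rw [hss, zp_one (c.exp a), ← pow_mul] at h4
  have h5 : ¬ (2 * 2 < 2 ^ (m' + 1)) := by
    intro hlt
    exact ha (c.hσfpf (2 * 2) (by norm_num) hlt a h4)
  have := c.hlm
  have := c.hlj
  have h6 : 2 ^ (j' + 2) = 4 * 2 ^ j' := by ring
  have h7 : 0 < 2 ^ j' := by positivity
  omega

theorem conj_pow (n : ℕ) (d : D) : ∃ d', c.σ ^ n * c.φ d * (c.σ ^ n)⁻¹ = c.φ d' := by
  induction n generalizing d with
  | zero => exact ⟨d, by simp⟩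
  | succ n ih =>
    obtain ⟨d1, h1⟩ := ih d
    obtain ⟨d2, h2⟩ := c.hσD d1
    refine ⟨d2, ?_⟩
    rw [← h2, ← h1, pow_succ']
    group

theorem conj_inv (d : D) : ∃ d', c.σ⁻¹ * c.φ d * c.σ = c.φ d' := by
  have h : c.σ ^ (2 ^ m - 1) = c.σ⁻¹ := by
    apply eq_inv_of_mul_eq_one_left
    rw [← pow_succ, Nat.sub_add_cancel Nat.one_le_two_pow, c.hσm]
  obtain ⟨d', hd'⟩ := c.conj_pow (2 ^ m - 1) d
  exact ⟨d', by rw [← hd', h, inv_inv]⟩

/-- the image under `σ` of a fixed line is a fixed line -/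
theorem line_σ {x : A} (hx : ∀ d, ∃ s : ZMod l, c.φ d x = zp x s) (d : D) :
    ∃ s : ZMod l, c.φ d (c.σ x) = zp (c.σ x) s := by
  obtain ⟨d', hd'⟩ := c.conj_inv d
  obtain ⟨s, hs⟩ := hx d'
  refine ⟨s, ?_⟩
  have : c.φ d (c.σ x) = c.σ ((c.σ⁻¹ * c.φ d * c.σ) x) := by
    simp [MulAut.mul_apply]
  rw [this, hd', hs, map_zp]

end Cfg

/-- the lines of `A`: subgroups of order `l` -/
def Lines (A : Type*) [Group A] (l : ℕ) := {L : Subgroup A // Nat.card L = l}

instance linesAction (A : Type*) [Group A] (l : ℕ) : MulAction (MulAut A) (Lines A l) where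
  smul e L := ⟨L.1.map e.toMonoidHom, by
    rw [Subgroup.card_map_of_injective (f := e.toMonoidHom) e.injective]; exact L.2⟩
  one_smul L := Subtype.ext (Subgroup.map_id L.1)
  mul_smul e f L := Subtype.ext (by
    show L.1.map (e * f).toMonoidHom = (L.1.map f.toMonoidHom).map e.toMonoidHom
    rw [Subgroup.map_map]
    rfl)

theorem lines_smul_val (A : Type*) [Group A] (l : ℕ) (e : MulAut A) (L : Lines A l) :
    (e • L).1 = L.1.map e.toMonoidHom := rfl

namespace Cfg

variable {A : Type*} [Group A] [Finite A] {K' : Type*} [CommGroup K'] {D : Type*} [Group D]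
  {l j q m : ℕ} [Fact l.Prime] (c : Cfg A K' D l j q m)

include c in
theorem card_lines : Nat.card (Lines A l) = l + 1 := by
  classical
  have hl := (Fact.out : l.Prime)
  have : Finite (Lines A l) := by unfold Lines; infer_instance
  have := Fintype.ofFinite (Lines A l)
  have := Fintype.ofFinite A
  let f : {x : A // x ≠ 1} → Lines A l := fun x =>
    ⟨Subgroup.zpowers x.1, by rw [Nat.card_zpowers]; exact orderOf_eq_prime (c.exp x.1) x.2⟩
  have hX : Nat.card {x : A // x ≠ 1} = l ^ 2 - 1 := by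
    rw [Nat.card_eq_fintype_card, Fintype.card_subtype_compl, Fintype.card_subtype_eq,
      ← Nat.card_eq_fintype_card, c.hcard]
  have hfib : ∀ L : Lines A l, Nat.card {x : {x : A // x ≠ 1} // f x = L} = l - 1 := by
    intro L
    have hmem : ∀ x : {x : A // x ≠ 1}, f x = L → x.1 ∈ L.1 := by
      intro x hx
      have : Subgroup.zpowers x.1 = L.1 := congrArg Subtype.val hx
      rw [← this]
      exact Subgroup.mem_zpowers x.1
    have heq : ∀ y : L.1, y ≠ 1 → Subgroup.zpowers (y : A) = L.1 := by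
      intro y hy
      have hy1 : (y : A) ≠ 1 := fun h => hy (Subtype.ext h)
      apply Subgroup.eq_of_le_of_card_ge (Subgroup.zpowers_le.mpr y.2)
      rw [Nat.card_zpowers, orderOf_eq_prime (c.exp (y : A)) hy1, L.2]
    let E : {x : {x : A // x ≠ 1} // f x = L} ≃ {y : L.1 // y ≠ 1} :=
      { toFun := fun x => ⟨⟨x.1.1, hmem x.1 x.2⟩, fun h => x.1.2 (congrArg Subtype.val h)⟩
        invFun := fun y => ⟨⟨y.1.1, fun h => y.2 (Subtype.ext h)⟩, Subtype.ext (heq y.1 y.2)⟩
        left_inv := fun x => rfl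
        right_inv := fun y => rfl }
    rw [Nat.card_congr E]
    have := Fintype.ofFinite L.1
    rw [Nat.card_eq_fintype_card, Fintype.card_subtype_compl, Fintype.card_subtype_eq,
      ← Nat.card_eq_fintype_card, L.2]
  have hsum : Nat.card {x : A // x ≠ 1} = Nat.card (Lines A l) * (l - 1) := by
    rw [Nat.card_congr (Equiv.sigmaFiberEquiv f).symm, Nat.card_sigma]
    simp only [hfib, Finset.sum_const, Finset.card_univ, smul_eq_mul, Nat.card_eq_fintype_card]
  rw [hX] at hsum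
  have h2 := hl.two_le
  have h3 : l ^ 2 - 1 = (l + 1) * (l - 1) := by
    obtain ⟨u, rfl⟩ : ∃ u, l = u + 1 := ⟨l - 1, by omega⟩
    simp only [Nat.add_sub_cancel]
    have : (u + 1) ^ 2 = (u + 1 + 1) * u + 1 := by ring
    omega
  rw [h3] at hsum
  exact (Nat.eq_of_mul_eq_mul_right (by omega) hsum).symm

/-- `D` fixes a line -/
theorem exists_line : ∃ a : A, a ≠ 1 ∧ ∀ d, ∃ s : ZMod l, c.φ d a = zp a s := by
  have hl := (Fact.out : l.Prime)
  letI : MulAction D (Lines A l) := MulAction.compHom _ c.φ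
  haveI : Fact q.Prime := ⟨c.hq⟩
  have hnd : ¬ q ∣ Nat.card (Lines A l) := by
    rw [c.card_lines, c.hlj]
    intro h
    have := Nat.Prime.dvd_of_dvd_pow c.hq h
    exact c.hq2 ((Nat.prime_dvd_prime_iff_eq c.hq Nat.prime_two).mp this)
  obtain ⟨L, hL⟩ := c.hD.nonempty_fixed_point_of_prime_not_dvd_card (Lines A l) hnd
  have hne : ∃ a ∈ L.1, a ≠ 1 := by
    by_contra hcon
    have hbot : L.1 = ⊥ := by
      rw [Subgroup.eq_bot_iff_forall]
      intro x hx
      by_contra hx1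
      exact hcon ⟨x, hx, hx1⟩
    have := L.2
    rw [hbot, Subgroup.card_bot] at this
    have := hl.two_le
    omega
  obtain ⟨a, haL, ha1⟩ := hne
  refine ⟨a, ha1, fun d => ?_⟩
  have hd : d • L = L := hL d
  have hmem : c.φ d a ∈ L.1 := by
    have h1 : c.φ d a ∈ (d • L).1 := by
      show c.φ d a ∈ L.1.map (c.φ d).toMonoidHom
      exact Subgroup.mem_map_of_mem _ haL
    rwa [hd] at h1
  exact exists_zp_of_mem L.1 L.2 haL ha1 hmem

/-- the core statement: `D` acts trivially on `A` -/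
theorem main (d : D) : c.φ d = 1 := by
  obtain ⟨a, ha, hfix⟩ := c.exists_line
  by_cases h2 : ∃ s : ZMod l, (c.σ ^ 2) a = zp a s
  · obtain ⟨s, hs⟩ := h2
    have hl3 := c.caseII ha hs
    obtain ⟨t, ht⟩ := hfix d
    have ht0 : t ≠ 0 := by
      intro h0
      rw [h0, zp_zero] at ht
      apply ha
      have : c.φ d a = c.φ d 1 := by rw [ht, map_one]
      exact (c.φ d).injective this
    have ht2 : t ^ 2 = 1 := by
      have := ZMod.pow_card_sub_one_eq_one ht0
      have h3 : l - 1 = 2 := by omega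
      rwa [h3] at this
    exact c.trivial_of_sq ha ht ht2
  · have hfb := c.line_σ hfix
    have hfc := c.line_σ hfb
    have hb : ∀ i : ZMod l, c.σ a ≠ zp a i := by
      intro i h
      apply h2
      exact ⟨i * i, by rw [sq, MulAut.mul_apply, h, map_zp, h, ← zp_mul (c.exp a)]⟩
    have hc : ∀ i : ZMod l, c.σ (c.σ a) ≠ zp a i := by
      intro i h
      apply h2
      exact ⟨i, by rw [sq, MulAut.mul_apply, h]⟩
    have hcb : ∀ i : ZMod l, c.σ (c.σ a) ≠ zp (c.σ a) i := by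
      intro i h
      have : c.σ a = zp a i := c.σ.injective (by rw [h, map_zp])
      exact hb i this
    obtain ⟨s, hs⟩ := hfix d
    obtain ⟨t, ht⟩ := hfb d
    obtain ⟨w, hw⟩ := hfc d
    exact c.caseI ha hb hc hcb hs ht hw

end Cfg

/-- (LL) the lines lemma -/
theorem lines_lemma {Q : Type*} [Group Q] [Finite Q] {K' : Type*} [CommGroup K'] (R : Subgroup Q)
    [R.Normal] (l j q m : ℕ) (hl : l.Prime) (hj : 2 ≤ j) (hlj : l + 1 = 2 ^ j) (hq : q.Prime)
    (hq2 : q ≠ 2) (hql : q ≠ l) (hidx : R.index = l ^ 2) (β : Q → Q → K')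
    (hβl : ∀ x x' y, β (x * x') y = β x y * β x' y)
    (hβr : ∀ x y y', β x (y * y') = β x y * β x y') (hβalt : ∀ x, β x x = 1)
    (hβR : ∀ x, x ∈ R ↔ ∀ y, β x y = 1) (σ : MulAut Q) (hσm : σ ^ (2 ^ m) = 1)
    (hlm : l + 1 ≤ 2 ^ m) (hσR : ∀ x, σ x ∈ R ↔ x ∈ R)
    (hσfpf : ∀ i, 0 < i → i < 2 ^ m → ∀ x, (σ ^ i) x * x⁻¹ ∈ R → x ∈ R)
    (𝒟 : Subgroup (MulAut Q)) (h𝒟 : IsPGroup q 𝒟)
    (h𝒟β : ∀ δ ∈ 𝒟, ∀ x y, β (δ x) (δ y) = β x y) (hσ𝒟 : ∀ δ ∈ 𝒟, σ * δ * σ⁻¹ ∈ 𝒟) :
    ∀ δ ∈ 𝒟, ∀ x, δ x * x⁻¹ ∈ R := by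
  classical
  haveI : Fact l.Prime := ⟨hl⟩
  -- β and R
  have hβ1l : ∀ y, β 1 y = 1 := by
    intro y
    have := hβl 1 1 y
    rw [mul_one] at this
    exact (mul_eq_left.mp this.symm)
  have hβanti : ∀ x y, β x y * β y x = 1 := by
    intro x y
    have := hβalt (x * y)
    rw [hβl, hβr, hβr, hβalt, hβalt, one_mul, mul_one] at this
    exact this
  have hβR1 : ∀ r ∈ R, ∀ y, β r y = 1 := fun r hr => (hβR r).mp hr
  have hβR2 : ∀ r ∈ R, ∀ x, β x r = 1 := by
    intro r hr x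
    have := hβanti x r
    rwa [hβR1 r hr, mul_one] at this
  have hβwd : ∀ x y r1 r2, r1 ∈ R → r2 ∈ R → β (x * r1) (y * r2) = β x y := by
    intro x y r1 r2 h1 h2
    rw [hβl, hβr, hβR2 r2 h2, hβR1 r1 h1, mul_one, mul_one]
  -- automorphisms stabilising R
  have hstab : ∀ δ ∈ 𝒟, ∀ x, δ x ∈ R ↔ x ∈ R := by
    intro δ hδ x
    rw [hβR, hβR]
    constructor
    · intro h y
      rw [← h𝒟β δ hδ]
      exact h _
    · intro h y
      obtain ⟨y', rfl⟩ := δ.surjective y
      rw [h𝒟β δ hδ]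
      exact h _
  have hmapeq : ∀ e : MulAut Q, (∀ x, e x ∈ R ↔ x ∈ R) → R.map e.toMonoidHom = R := by
    intro e he
    ext x
    constructor
    · rintro ⟨y, hy, rfl⟩
      exact (he y).mpr hy
    · intro hx
      obtain ⟨y, rfl⟩ := e.surjective x
      exact ⟨y, (he y).mp hx, rfl⟩
  let ind : (e : MulAut Q) → (∀ x, e x ∈ R ↔ x ∈ R) → MulAut (Q ⧸ R) := fun e he =>
    QuotientGroup.congr R R e (hmapeq e he)
  have ind_mk : ∀ e he (x : Q), ind e he (QuotientGroup.mk x) = QuotientGroup.mk (e x) :=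
    fun e he x => QuotientGroup.congr_mk R R e (hmapeq e he) x
  have ind_pow : ∀ e he (n : ℕ) (x : Q),
      ((ind e he) ^ n) (QuotientGroup.mk x) = QuotientGroup.mk ((e ^ n) x) := by
    intro e he n
    induction n with
    | zero => intro x; simp
    | succ n ih =>
      intro x
      rw [pow_succ', pow_succ', MulAut.mul_apply, MulAut.mul_apply, ih, ind_mk e he]
  have ind_inv : ∀ e he (x : Q),
      (ind e he)⁻¹ (QuotientGroup.mk x) = QuotientGroup.mk (e⁻¹ x) := by
    intro e he x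
    have h1 : ind e he (QuotientGroup.mk (e⁻¹ x)) = QuotientGroup.mk x := by
      rw [ind_mk e he, MulAut.apply_inv_self]
    rw [← h1, MulAut.inv_apply_self]
  -- mk equalities
  have hmk : ∀ x y : Q, (QuotientGroup.mk x : Q ⧸ R) = QuotientGroup.mk y → x * y⁻¹ ∈ R := by
    intro x y h
    have : (QuotientGroup.mk (x * y⁻¹) : Q ⧸ R) = 1 := by
      rw [QuotientGroup.mk_mul, QuotientGroup.mk_inv, h, mul_inv_cancel]
    exact (QuotientGroup.eq_one_iff _).mp this
  -- the homomorphism 𝒟 → Aut (Q / R)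
  let φ : 𝒟 →* MulAut (Q ⧸ R) := MonoidHom.mk' (fun δ => ind δ.1 (hstab δ.1 δ.2)) (by
    intro δ1 δ2
    ext z
    obtain ⟨x, rfl⟩ := QuotientGroup.mk_surjective z
    rw [MulAut.mul_apply, ind_mk _ (hstab δ2.1 δ2.2), ind_mk _ (hstab δ1.1 δ1.2),
      ind_mk _ (hstab (δ1 * δ2).1 (δ1 * δ2).2)]
    rfl)
  have φ_mk : ∀ (δ : 𝒟) (x : Q), φ δ (QuotientGroup.mk x) = QuotientGroup.mk (δ.1 x) :=
    fun δ x => ind_mk δ.1 (hstab δ.1 δ.2) x
  -- the form on the quotient
  let bq : Q ⧸ R → Q ⧸ R → K' := fun u v => Quotient.liftOn₂' u v β (by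
    intro a1 b1 a2 b2 h1 h2
    rw [QuotientGroup.leftRel_apply] at h1 h2
    have e1 : a2 = a1 * (a1⁻¹ * a2) := by group
    have e2 : b2 = b1 * (b1⁻¹ * b2) := by group
    rw [e1, e2, hβwd _ _ _ _ h1 h2])
  have bq_mk : ∀ x y : Q, bq (QuotientGroup.mk x) (QuotientGroup.mk y) = β x y := fun x y => rfl
  let c : Cfg (Q ⧸ R) K' 𝒟 l j q m :=
    { hj := hj
      hlj := hlj
      hq := hq
      hq2 := hq2
      hql := hql
      hcard := by rw [← hidx]; exact (Subgroup.index_eq_card R).symm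
      b := bq
      hbl := by
        intro u u' v
        obtain ⟨x, rfl⟩ := QuotientGroup.mk_surjective u
        obtain ⟨x', rfl⟩ := QuotientGroup.mk_surjective u'
        obtain ⟨y, rfl⟩ := QuotientGroup.mk_surjective v
        rw [← QuotientGroup.mk_mul, bq_mk, bq_mk, bq_mk, hβl]
      hbr := by
        intro u v v'
        obtain ⟨x, rfl⟩ := QuotientGroup.mk_surjective u
        obtain ⟨y, rfl⟩ := QuotientGroup.mk_surjective v
        obtain ⟨y', rfl⟩ := QuotientGroup.mk_surjective v'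
        rw [← QuotientGroup.mk_mul, bq_mk, bq_mk, bq_mk, hβr]
      hbalt := by
        intro u
        obtain ⟨x, rfl⟩ := QuotientGroup.mk_surjective u
        rw [bq_mk, hβalt]
      hbnd := by
        intro u hu
        obtain ⟨x, rfl⟩ := QuotientGroup.mk_surjective u
        rw [QuotientGroup.eq_one_iff, hβR]
        intro y
        exact hu (QuotientGroup.mk y)
      σ := ind σ hσR
      hσm := by
        ext z
        obtain ⟨x, rfl⟩ := QuotientGroup.mk_surjective z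
        rw [ind_pow σ hσR, hσm]
        rfl
      hlm := hlm
      hσfpf := by
        intro i hi hi' z hz
        obtain ⟨x, rfl⟩ := QuotientGroup.mk_surjective z
        rw [ind_pow σ hσR] at hz
        rw [QuotientGroup.eq_one_iff]
        exact hσfpf i hi hi' x (hmk _ _ hz)
      hD := h𝒟
      φ := φ
      hφb := by
        intro δ u v
        obtain ⟨x, rfl⟩ := QuotientGroup.mk_surjective u
        obtain ⟨y, rfl⟩ := QuotientGroup.mk_surjective v
        rw [φ_mk, φ_mk, bq_mk, bq_mk, h𝒟β δ.1 δ.2]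
      hσD := by
        intro δ
        refine ⟨⟨σ * δ.1 * σ⁻¹, hσ𝒟 δ.1 δ.2⟩, ?_⟩
        ext z
        obtain ⟨x, rfl⟩ := QuotientGroup.mk_surjective z
        rw [MulAut.mul_apply, MulAut.mul_apply, ind_inv σ hσR, φ_mk, ind_mk σ hσR, φ_mk]
        rfl }
  intro δ hδ x
  have h := c.main ⟨δ, hδ⟩
  have h2 : c.φ ⟨δ, hδ⟩ (QuotientGroup.mk x) = QuotientGroup.mk x := by
    rw [h, MulAut.one_apply]
  have h3 : (QuotientGroup.mk (δ x) : Q ⧸ R) = QuotientGroup.mk x := by
    rw [← h2]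
    exact (φ_mk ⟨δ, hδ⟩ x).symm
  exact hmk _ _ h3

end Cfsg.Agent.Helper13.GrossLines
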