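import Mathlib
import Cfsg.Prelude.Def_GeometricClasses
import Cfsg.Prelude.Def_Classical
import Cfsg.Agent.Helper6.S5992Defs
import Cfsg.Agent.Helper27.Inv2Defs
import Cfsg.Agent.Helper14.Inv2ORTHC2
import Cfsg.Agent.Helper14.Inv2EVENDIM2
import Cfsg.Agent.Helper19.Inv2TYPESUM2
import Cfsg.Agent.Helper19.Inv2A2RK

/-! # Inv2 piece A2DER (helper13): the invariant nondegenerate subspaces of an `a`-type involution
with a small fixed space -/

set_option autoImplicit false

namespace Cfsg.Agent.Inv2P

open Cfsg.Agent.Helper2.SympInvol Cfsg.Agent.Helper2.SympUnits Cfsg.Agent.S5961P Cfsg.Agent.S5992P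

namespace A2DER

/-- if the rank of an `a`-type involution on `W` is half the dimension then `W` is hyperbolic of
dimension divisible by four -/
theorem plus_of_half {F V : Type*} [Field F] [AddCommGroup V] [Module F V]
    [FiniteDimensional F V] (Q : QuadraticForm F V) (t : Module.End F V) (W : Submodule F V)
    (hWt : InvOn t W) (hev : Even (rk t W)) (hts : TS Q (W.map (t - 1)))
    (hhalf : 2 * rk t W = Module.finrank F W) : 4 ∣ Module.finrank F W ∧ Plus Q W := by
  refine ⟨?_, W.map (t - 1), map_N_le t W hWt, hts, hhalf⟩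
  obtain ⟨k, hk⟩ := hev
  exact ⟨k, by omega⟩

theorem rk_top {F V : Type*} [Field F] [AddCommGroup V] [Module F V]
    [FiniteDimensional F V] (t : Module.End F V) :
    rk t ⊤ + Module.finrank F (LinearMap.ker (t - 1)) = Module.finrank F V := by
  unfold rk
  rw [Submodule.map_top]
  exact LinearMap.finrank_range_add_finrank_ker (t - 1)

end A2DER

open A2DER

/-- A2DER: the invariant nondegenerate subspaces of an `a`-type involution with a small fixed
space -/
theorem a2_derangement {F V : Type*} [Field F] [Fintype F] [AddCommGroup V] [Module F V]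
    [FiniteDimensional F V] (h2 : (2 : F) = 0) (Q : QuadraticForm F V) (hnd : Nondeg (PB Q) ⊤)
    (t : Module.End F V) (ht : IsInv2 Q t) (ha : ∀ v, Q ((t - 1) v) = 0) (d : ℕ)
    (hV : Module.finrank F V = 2 * d) (W : Submodule F V) (hW : Nondeg (PB Q) W)
    (hWt : InvOn t W) :
    (Module.finrank F (LinearMap.ker (t - 1)) = d → 4 ∣ Module.finrank F W ∧ Plus Q W) ∧
    (Module.finrank F (LinearMap.ker (t - 1)) = d + 1 →
      (4 ∣ Module.finrank F W ∧ Plus Q W) ∨
      (Module.finrank F W % 4 = 2 ∧ (Plus Q W ↔ Plus Q ⊤))) := by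
  obtain ⟨W', -, hW'nd, ho, hsup, -, hfin, hW't, hrk⟩ :=
    orth_compl_inv h2 Q t ht ⊤ W le_top hnd hW (invOn_top t) hWt
  rw [finrank_top, hV] at hfin
  obtain ⟨hev, hts, hle, -⟩ := a2_rank h2 Q t ht ha W hW hWt
  obtain ⟨hev', hts', hle', -⟩ := a2_rank h2 Q t ht ha W' hW'nd hW't
  have htop := rk_top t
  rw [hV] at htop
  have hWe := even_finrank_of_nondeg h2 Q W hW
  have hW'e := even_finrank_of_nondeg h2 Q W' hW'nd
  constructor
  · intro hk
    apply plus_of_half Q t W hWt hev hts
    omega
  · intro hk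
    obtain ⟨a, ha'⟩ := hWe
    obtain ⟨b, hb'⟩ := hW'e
    by_cases hhalf : 2 * rk t W = Module.finrank F W
    · exact Or.inl (plus_of_half Q t W hWt hev hts hhalf)
    · right
      have hhalf' : 2 * rk t W' = Module.finrank F W' := by omega
      obtain ⟨-, hp'⟩ := plus_of_half Q t W' hW't hev' hts' hhalf'
      refine ⟨?_, ?_⟩
      · obtain ⟨k, hk'⟩ := hev
        omega
      · have hiff := plus_sup_iff2 Q W W' hW hW'nd ho ⟨a, ha'⟩ ⟨b, hb'⟩
        rw [hsup] at hiff
        constructor
        · intro hp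
          exact hiff.mpr (iff_of_true hp hp')
        · intro hp
          exact (hiff.mp hp).mpr hp'

end Cfsg.Agent.Inv2P
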