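import Mathlib
import Cfsg.Prelude.Def_GeometricClasses
import Cfsg.Prelude.Def_Classical
import Cfsg.Agent.Helper6.S5992Defs
import Cfsg.Agent.Helper27.Inv2Defs
import Cfsg.Agent.Helper15.S5992SUPND
import Cfsg.Agent.Helper19.Inv2TYPESUM2
import Cfsg.Agent.Helper25.Inv2C2SPLIT

/-! # Inv2 piece C2BASE (helper13): a `c`-type involution of rank 2 on an elliptic 4-space fixes a
hyperbolic plane -/

set_option autoImplicit false

namespace Cfsg.Agent.Inv2P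

open Cfsg.Agent.Helper2.SympInvol Cfsg.Agent.Helper2.SympUnits Cfsg.Agent.S5961P Cfsg.Agent.S5992P

namespace C2BASE

theorem span_pair_le {F V : Type*} [Field F] [AddCommGroup V] [Module F V]
    (M : Submodule F V) (a b : V) (ha : a ∈ M) (hb : b ∈ M) :
    Submodule.span F {a, b} ≤ M := by
  rw [Submodule.span_le]
  intro x hx
  rcases hx with rfl | hx
  · exact ha
  · rw [Set.mem_singleton_iff] at hx
    rw [hx]
    exact hb

end C2BASE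

open C2BASE

/-- C2BASE: a `c`-type involution of rank 2 on an elliptic 4-space fixes a hyperbolic plane -/
theorem c2_base {F V : Type*} [Field F] [Fintype F] [AddCommGroup V] [Module F V]
    [FiniteDimensional F V] (h2 : (2 : F) = 0) (Q : QuadraticForm F V) (t : Module.End F V)
    (ht : IsInv2 Q t) (M : Submodule F V) (hM : Nondeg (PB Q) M) (hMt : InvOn t M)
    (h4 : Module.finrank F M = 4) (hnp : ¬ Plus Q M) (hrk : rk t M = 2) (v₀ : V) (hv₀M : v₀ ∈ M)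
    (hv₀ : Q ((t - 1) v₀) ≠ 0) :
    ∃ A : Submodule F V, A ≤ M ∧ IsTy Q true 2 A ∧ InvOn t A := by
  obtain ⟨v₁, hv₁M, v₂, hv₂M, h₁, h₂, h₁₂, h₁₂'⟩ :=
    c2_split h2 Q t ht M hM hMt hrk v₀ hv₀M hv₀
  obtain ⟨hf₁, hf₂, hn₁, hn₂, ho, hi₁, hi₂, -, -⟩ := c2_planes h2 Q t ht v₁ v₂ h₁ h₂ h₁₂ h₁₂'
  have hNM : ∀ v ∈ M, (t - 1) v ∈ M := (invOn_iff_N t M).mp hMt
  have hP₁ : Submodule.span F {v₁, (t - 1) v₁} ≤ M := span_pair_le M _ _ hv₁M (hNM v₁ hv₁M)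
  have hP₂ : Submodule.span F {v₂, (t - 1) v₂} ≤ M := span_pair_le M _ _ hv₂M (hNM v₂ hv₂M)
  obtain ⟨-, -, hfin⟩ := nondeg_sup_orth Q _ _ hn₁ hn₂ ho
  have hsup : Submodule.span F {v₁, (t - 1) v₁} ⊔ Submodule.span F {v₂, (t - 1) v₂} = M := by
    apply Submodule.eq_of_le_of_finrank_eq (sup_le hP₁ hP₂)
    rw [hfin, hf₁, hf₂, h4]
  have hiff := plus_sup_iff2 Q _ _ hn₁ hn₂ ho (by rw [hf₁]; exact even_two)
    (by rw [hf₂]; exact even_two)
  rw [hsup] at hiff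
  by_cases hp₁ : Plus Q (Submodule.span F {v₁, (t - 1) v₁})
  · exact ⟨_, hP₁, ⟨hf₁, hn₁, iff_of_true hp₁ rfl⟩, hi₁⟩
  · by_cases hp₂ : Plus Q (Submodule.span F {v₂, (t - 1) v₂})
    · exact ⟨_, hP₂, ⟨hf₂, hn₂, iff_of_true hp₂ rfl⟩, hi₂⟩
    · exact absurd (hiff.mpr (iff_of_false hp₁ hp₂)) hnp

end Cfsg.Agent.Inv2P
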