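import Mathlib
import Cfsg.Prelude.Def_GeometricClasses
import Cfsg.Prelude.Def_Classical
import Cfsg.Agent.Helper6.S5992Defs
import Cfsg.Agent.Helper27.Inv2Defs
import Cfsg.Agent.Helper15.S5992SUPND
import Cfsg.Agent.Helper14.Inv2ORTHC2
import Cfsg.Agent.Helper25.Inv2C2SPLIT
import Cfsg.Agent.Helper26.Inv2C2CORE
import Cfsg.Agent.Helper13.Inv2C2BASE

/-! # Inv2 piece C2BLOCK (helper13): a `c`-type involution of rank 2 on a space of dimension at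
least 6 has an invariant hyperbolic 4-space of rank 2 -/

set_option autoImplicit false

namespace Cfsg.Agent.Inv2P

open Cfsg.Agent.Helper2.SympInvol Cfsg.Agent.Helper2.SympUnits Cfsg.Agent.S5961P Cfsg.Agent.S5992P

namespace C2BLOCK

/-- the rank on an orthogonal (hence direct) sum of invariant subspaces is the sum of the ranks -/
theorem rk_sup_of_disjoint {F V : Type*} [Field F] [AddCommGroup V] [Module F V]
    [FiniteDimensional F V] (t : Module.End F V) (P₁ P₂ : Submodule F V) (h₁ : InvOn t P₁)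
    (h₂ : InvOn t P₂) (hd : Disjoint P₁ P₂) : rk t (P₁ ⊔ P₂) = rk t P₁ + rk t P₂ := by
  unfold rk
  rw [Submodule.map_sup]
  have hd' : Disjoint (P₁.map (t - 1)) (P₂.map (t - 1)) :=
    hd.mono (map_N_le t P₁ h₁) (map_N_le t P₂ h₂)
  have := Submodule.finrank_sup_add_finrank_inf_eq (P₁.map (t - 1)) (P₂.map (t - 1))
  rw [hd'.eq_bot, finrank_bot, add_zero] at this
  exact this

/-- a nonzero nondegenerate subspace has a nonsingular vector -/
theorem exists_Q_ne_zero {F V : Type*} [Field F] [AddCommGroup V] [Module F V]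
    (Q : QuadraticForm F V) (C : Submodule F V) (hC : Nondeg (PB Q) C) (hne : C ≠ ⊥) :
    ∃ c ∈ C, Q c ≠ 0 := by
  by_contra hcon
  have hall : ∀ c ∈ C, Q c = 0 := by
    intro c hc
    by_contra h
    exact hcon ⟨c, hc, h⟩
  obtain ⟨c, hc, hc0⟩ := (Submodule.ne_bot_iff C).mp hne
  obtain ⟨v, hv, hcv⟩ := hC c hc hc0
  apply hcv
  rw [PB_apply, QuadraticMap.polar, hall _ (C.add_mem hc hv), hall c hc, hall v hv]
  ring

theorem span_four_le {F V : Type*} [Field F] [AddCommGroup V] [Module F V]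
    (M : Submodule F V) (a b c d : V) (ha : a ∈ M) (hb : b ∈ M) (hc : c ∈ M) (hd : d ∈ M) :
    Submodule.span F {a, b, c, d} ≤ M := by
  rw [Submodule.span_le]
  intro x hx
  rcases hx with rfl | rfl | rfl | hx
  · exact ha
  · exact hb
  · exact hc
  · rw [Set.mem_singleton_iff] at hx
    rw [hx]
    exact hd

end C2BLOCK

open C2BLOCK C2BASE

/-- C2BLOCK: a `c`-type involution of rank 2 on a space of dimension at least 6 has an invariant
hyperbolic 4-space of rank 2 -/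
theorem c2_block {F V : Type*} [Field F] [Fintype F] [AddCommGroup V] [Module F V]
    [FiniteDimensional F V] (h2 : (2 : F) = 0) (Q : QuadraticForm F V) (t : Module.End F V)
    (ht : IsInv2 Q t) (M : Submodule F V) (hM : Nondeg (PB Q) M) (hMt : InvOn t M)
    (h6 : 6 ≤ Module.finrank F M) (hrk : rk t M = 2) (v₀ : V) (hv₀M : v₀ ∈ M)
    (hv₀ : Q ((t - 1) v₀) ≠ 0) :
    ∃ A : Submodule F V, A ≤ M ∧ IsTy Q true 4 A ∧ InvOn t A ∧ rk t A = 2 := by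
  obtain ⟨v₁, hv₁M, v₂, hv₂M, h₁, h₂, h₁₂, h₁₂'⟩ :=
    c2_split h2 Q t ht M hM hMt hrk v₀ hv₀M hv₀
  obtain ⟨hf₁, hf₂, hn₁, hn₂, ho, hi₁, hi₂, hr₁, hr₂⟩ :=
    c2_planes h2 Q t ht v₁ v₂ h₁ h₂ h₁₂ h₁₂'
  have hNM : ∀ v ∈ M, (t - 1) v ∈ M := (invOn_iff_N t M).mp hMt
  have hP₁ : Submodule.span F {v₁, (t - 1) v₁} ≤ M := span_pair_le M _ _ hv₁M (hNM v₁ hv₁M)
  have hP₂ : Submodule.span F {v₂, (t - 1) v₂} ≤ M := span_pair_le M _ _ hv₂M (hNM v₂ hv₂M)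
  obtain ⟨hnd, hdisj, hfin⟩ := nondeg_sup_orth Q _ _ hn₁ hn₂ ho
  have hA₀M : Submodule.span F {v₁, (t - 1) v₁} ⊔ Submodule.span F {v₂, (t - 1) v₂} ≤ M :=
    sup_le hP₁ hP₂
  have hA₀t := invOn_sup t _ _ hi₁ hi₂
  have hrkA₀ := rk_sup_of_disjoint t _ _ hi₁ hi₂ hdisj
  rw [hr₁, hr₂] at hrkA₀
  obtain ⟨C, hCM, hCnd, hoC, -, -, hfinC, hCt, hrkC⟩ :=
    orth_compl_inv h2 Q t ht M _ hA₀M hM hnd hMt hA₀t
  rw [hfin, hf₁, hf₂] at hfinC
  have hrkC0 : rk t C = 0 := by omega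
  have hfix := (rk_eq_zero_iff t C).mp hrkC0
  have hCne : C ≠ ⊥ := by
    intro h
    rw [h, finrank_bot] at hfinC
    omega
  obtain ⟨c₀, hc₀C, hQc₀⟩ := exists_Q_ne_zero Q C hCnd hCne
  obtain ⟨l, hl⟩ := C2SPLIT.exists_sqrt h2 ((Q v₁ + Q v₂) / Q c₀)
  have hcC : l • c₀ ∈ C := C.smul_mem l hc₀C
  have hv₁A : v₁ ∈ Submodule.span F {v₁, (t - 1) v₁} ⊔ Submodule.span F {v₂, (t - 1) v₂} :=
    Submodule.mem_sup_left (Submodule.subset_span (by simp))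
  have hv₂A : v₂ ∈ Submodule.span F {v₁, (t - 1) v₁} ⊔ Submodule.span F {v₂, (t - 1) v₂} :=
    Submodule.mem_sup_right (Submodule.subset_span (by simp))
  have hQc : Q (l • c₀) = Q v₁ + Q v₂ := by
    rw [QuadraticMap.map_smul, smul_eq_mul, hl, div_mul_cancel₀ _ hQc₀]
  obtain ⟨hty, hinv, hrkA⟩ := c2_core h2 Q t ht v₁ v₂ (l • c₀) h₁ h₂ h₁₂ h₁₂' (hfix _ hcC)
    (by rw [PB_comm]; exact hoC v₁ hv₁A _ hcC) (by rw [PB_comm]; exact hoC v₂ hv₂A _ hcC) hQc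
  refine ⟨_, ?_, hty, hinv, hrkA⟩
  exact span_four_le M _ _ _ _ (M.add_mem hv₁M (hCM hcC)) (hNM v₁ hv₁M) hv₂M (hNM v₂ hv₂M)

end Cfsg.Agent.Inv2P
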