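import Mathlib
import Cfsg.Prelude.Def_GeometricClasses
import Cfsg.Prelude.Def_Classical
import Cfsg.Agent.Helper6.S5992Defs
import Cfsg.Agent.Helper27.Inv2Defs

/-! # Inv2 piece CTYPE2 (helper13): either there is a pair as in PAIRBLOCK, or the rank is 2 and
`Q ∘ N ≠ 0` -/

set_option autoImplicit false

namespace Cfsg.Agent.Inv2P

open Cfsg.Agent.Helper2.SympInvol Cfsg.Agent.Helper2.SympUnits Cfsg.Agent.S5961P Cfsg.Agent.S5992P

namespace CTYPE2

theorem add_self_of_two {F V : Type*} [Field F] [AddCommGroup V] [Module F V] (h2 : (2 : F) = 0)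
    (v : V) : v + v = 0 := by
  rw [← two_smul F v, h2, zero_smul]

theorem eq_zero_of_orth {F V : Type*} [Field F] [AddCommGroup V] [Module F V]
    (B : LinearMap.BilinForm F V) (M : Submodule F V) (hM : Nondeg B M) (z : V) (hz : z ∈ M)
    (h : ∀ m ∈ M, B z m = 0) : z = 0 := by
  by_contra hne
  obtain ⟨v, hv, hv'⟩ := hM z hz hne
  exact hv' (h v hv)

theorem exists_sqrt {F : Type*} [Field F] [Fintype F] (h2 : (2 : F) = 0) (a : F) :
    ∃ c : F, c * c = a := by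
  have : CharP F 2 := CharTwo.of_one_ne_zero_of_two_eq_zero one_ne_zero h2
  obtain ⟨c, hc⟩ := FiniteField.isSquare_of_char_two (ringChar.eq F 2) a
  exact ⟨c, hc.symm⟩

/-- every `v` is `m₀ + c • v₀` with `Q (N m₀) = 0` -/
theorem exists_shift {F V : Type*} [Field F] [Fintype F] [AddCommGroup V] [Module F V]
    (h2 : (2 : F) = 0) (Q : QuadraticForm F V) (t : Module.End F V) (ht : IsInv2 Q t)
    (v₀ : V) (hv₀ : Q ((t - 1) v₀) ≠ 0) (v : V) :
    ∃ c : F, Q ((t - 1) (v + c • v₀)) = 0 := by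
  obtain ⟨c, hc⟩ := exists_sqrt h2 (Q ((t - 1) v) / Q ((t - 1) v₀))
  refine ⟨c, ?_⟩
  rw [Q_N_add h2 ht, Q_N_smul, hc, div_mul_cancel₀ _ hv₀]
  have : Q ((t - 1) v) + Q ((t - 1) v) = 2 * Q ((t - 1) v) := by ring
  rw [this, h2, zero_mul]

end CTYPE2

open CTYPE2

/-- CTYPE2: either there is a pair as in PAIRBLOCK, or the rank is 2 and `Q ∘ N ≠ 0` -/
theorem pair_or_ctype {F V : Type*} [Field F] [Fintype F] [AddCommGroup V] [Module F V]
    [FiniteDimensional F V] (h2 : (2 : F) = 0) (Q : QuadraticForm F V) (t : Module.End F V)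
    (ht : IsInv2 Q t) (M : Submodule F V) (hM : Nondeg (PB Q) M) (hMt : InvOn t M)
    (hrk : 2 ≤ rk t M) :
    (∃ u ∈ M, ∃ v ∈ M, Q ((t - 1) u) = 0 ∧ Q ((t - 1) v) = 0 ∧ PB Q u ((t - 1) v) ≠ 0) ∨
    (rk t M = 2 ∧ ∃ v ∈ M, Q ((t - 1) v) ≠ 0) := by
  classical
  by_cases hpair : ∃ u ∈ M, ∃ v ∈ M, Q ((t - 1) u) = 0 ∧ Q ((t - 1) v) = 0 ∧
      PB Q u ((t - 1) v) ≠ 0
  · exact Or.inl hpair
  right
  have hno : ∀ u ∈ M, ∀ v ∈ M, Q ((t - 1) u) = 0 → Q ((t - 1) v) = 0 →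
      PB Q u ((t - 1) v) = 0 := by
    intro u hu v hv hQu hQv
    by_contra hne
    exact hpair ⟨u, hu, v, hv, hQu, hQv, hne⟩
  have hNM : ∀ v ∈ M, (t - 1) v ∈ M := (invOn_iff_N t M).mp hMt
  -- Step 1: some `v₀` with `Q (N v₀) ≠ 0`
  have hv₀ex : ∃ v₀ ∈ M, Q ((t - 1) v₀) ≠ 0 := by
    by_contra hcon
    have hall : ∀ v ∈ M, Q ((t - 1) v) = 0 := by
      intro v hv
      by_contra hne
      exact hcon ⟨v, hv, hne⟩
    have hzero : ∀ v ∈ M, t v = v := by
      intro v hv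
      have hz : (t - 1) v = 0 := by
        apply eq_zero_of_orth (PB Q) M hM _ (hNM v hv)
        intro m hm
        rw [PB_comm]
        exact hno m hm v hv (hall m hm) (hall v hv)
      rwa [N_apply, sub_eq_zero] at hz
    have := (rk_eq_zero_iff t M).mpr hzero
    omega
  obtain ⟨v₀, hv₀M, hv₀⟩ := hv₀ex
  refine ⟨?_, v₀, hv₀M, hv₀⟩
  -- Step 3: all `N u` with `Q (N u) = 0` lie on one line
  have hline : ∃ x₀ : V, ∀ u ∈ M, Q ((t - 1) u) = 0 → ∃ c : F, (t - 1) u = c • x₀ := by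
    by_cases hex : ∃ u₀ ∈ M, Q ((t - 1) u₀) = 0 ∧ (t - 1) u₀ ≠ 0
    · obtain ⟨u₀, hu₀M, hQu₀, hu₀ne⟩ := hex
      refine ⟨(t - 1) u₀, ?_⟩
      -- a vector of `M.map N` over the `Q ∘ N`-singular vectors, orthogonal to `v₀`, vanishes
      have hperp : ∀ w ∈ M, Q ((t - 1) w) = 0 → PB Q ((t - 1) w) v₀ = 0 → (t - 1) w = 0 := by
        intro w hw hQw hwv₀
        apply eq_zero_of_orth (PB Q) M hM _ (hNM w hw)
        intro m hm
        obtain ⟨c, hc⟩ := exists_shift h2 Q t ht v₀ hv₀ m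
        have hm' : m = (m + c • v₀) + c • v₀ := by
          rw [add_assoc, add_self_of_two h2, add_zero]
        rw [hm', map_add, map_smul, hwv₀, smul_zero, add_zero, PB_comm]
        exact hno _ (M.add_mem hm (M.smul_mem c hv₀M)) w hw hc hQw
      have hb : PB Q ((t - 1) u₀) v₀ ≠ 0 := fun h => hu₀ne (hperp u₀ hu₀M hQu₀ h)
      intro u hu hQu
      refine ⟨PB Q ((t - 1) u) v₀ / PB Q ((t - 1) u₀) v₀, ?_⟩
      set c := PB Q ((t - 1) u) v₀ / PB Q ((t - 1) u₀) v₀ with hc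
      have hz : (t - 1) (u + c • u₀) = 0 := by
        apply hperp _ (M.add_mem hu (M.smul_mem c hu₀M))
        · rw [Q_N_add h2 ht, Q_N_smul, hQu, hQu₀, mul_zero, add_zero]
        · simp only [map_add, map_smul, LinearMap.add_apply, LinearMap.smul_apply, smul_eq_mul]
          rw [hc, div_mul_cancel₀ _ hb]
          have : PB Q ((t - 1) u) v₀ + PB Q ((t - 1) u) v₀ = 2 * PB Q ((t - 1) u) v₀ := by ring
          rw [this, h2, zero_mul]
      rw [map_add, map_smul] at hz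
      have := eq_neg_of_add_eq_zero_left hz
      rw [this, neg_eq_self_of_two h2]
    · refine ⟨0, fun u hu hQu => ⟨0, ?_⟩⟩
      rw [smul_zero]
      by_contra hne
      exact hex ⟨u, hu, hQu, hne⟩
  obtain ⟨x₀, hx₀⟩ := hline
  have hle : M.map (t - 1) ≤ Submodule.span F {x₀, (t - 1) v₀} := by
    rintro _ ⟨v, hv, rfl⟩
    obtain ⟨c, hc⟩ := exists_shift h2 Q t ht v₀ hv₀ v
    obtain ⟨c', hc'⟩ := hx₀ _ (M.add_mem hv (M.smul_mem c hv₀M)) hc
    have hv' : v = (v + c • v₀) + c • v₀ := by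
      rw [add_assoc, add_self_of_two h2, add_zero]
    have : (t - 1) v = c' • x₀ + c • (t - 1) v₀ := by
      conv_lhs => rw [hv']
      rw [map_add, hc', map_smul]
    show (t - 1) v ∈ _
    rw [this]
    exact Submodule.add_mem _ (Submodule.smul_mem _ _ (Submodule.subset_span (by simp)))
      (Submodule.smul_mem _ _ (Submodule.subset_span (by simp)))
  have h2' : Module.finrank F (Submodule.span F ({x₀, (t - 1) v₀} : Set V)) ≤ 2 := by
    have h := finrank_span_finset_le_card (R := F) ({x₀, (t - 1) v₀} : Finset V)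
    have hcoe : (({x₀, (t - 1) v₀} : Finset V) : Set V) = {x₀, (t - 1) v₀} := by
      rw [Finset.coe_insert, Finset.coe_singleton]
    rw [hcoe] at h
    exact h.trans Finset.card_le_two
  have : rk t M ≤ 2 := (Submodule.finrank_mono hle).trans h2'
  omega

end Cfsg.Agent.Inv2P
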