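import Mathlib

set_option autoImplicit false

namespace Cfsg.Agent.Helper13.InvolConj

open Module Polynomial

variable {F : Type*} [Field F] {V : Type*} [AddCommGroup V] [Module F V]

theorem sq_apply {f : Module.End F V} {c : F} (hf : f * f = c • (1 : Module.End F V)) (v : V) :
    f (f v) = c • v := by
  have := congrArg (fun g : Module.End F V => g v) hf
  simpa using this

/-- the two eigenspaces of an endomorphism with `f² = μ²` are complementary -/
theorem eig_isCompl (f : Module.End F V) (μ : F) (hμ : μ ≠ 0) (h2 : (2 : F) ≠ 0)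
    (hf : f * f = (μ * μ) • (1 : Module.End F V)) :
    IsCompl (End.eigenspace f μ) (End.eigenspace f (-μ)) := by
  have h2μ : (2 * μ) ≠ 0 := mul_ne_zero h2 hμ
  constructor
  · rw [Submodule.disjoint_def]
    intro v hv hv'
    rw [End.mem_eigenspace_iff] at hv hv'
    have h1 : (2 * μ) • v = 0 := by
      have : μ • v = (-μ) • v := by rw [← hv, hv']
      rw [neg_smul] at this
      rw [two_mul, add_smul]
      nth_rewrite 1 [this]
      exact neg_add_cancel _
    rcases smul_eq_zero.mp h1 with h | h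
    · exact absurd h h2μ
    · exact h
  · rw [codisjoint_iff, eq_top_iff]
    intro v _
    rw [Submodule.mem_sup]
    refine ⟨(2 * μ)⁻¹ • (f v + μ • v), ?_, (2 * μ)⁻¹ • (μ • v - f v), ?_, ?_⟩
    · apply Submodule.smul_mem
      rw [End.mem_eigenspace_iff, map_add, map_smul, sq_apply hf]
      module
    · apply Submodule.smul_mem
      rw [End.mem_eigenspace_iff, map_sub, map_smul, sq_apply hf]
      module
    · rw [← smul_add]
      have : f v + μ • v + (μ • v - f v) = (2 * μ) • v := by
        rw [two_mul, add_smul]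
        abel
      rw [this, smul_smul, inv_mul_cancel₀ h2μ, one_smul]

/-- two endomorphisms with `f² = μ²` and eigenspaces of the same dimensions are conjugate -/
theorem exists_intertwiner_split [FiniteDimensional F V] (f f' : Module.End F V) (μ : F)
    (hμ : μ ≠ 0) (h2 : (2 : F) ≠ 0)
    (hf : f * f = (μ * μ) • (1 : Module.End F V)) (hf' : f' * f' = (μ * μ) • (1 : Module.End F V))
    (hk : finrank F (End.eigenspace f (-μ)) = finrank F (End.eigenspace f' (-μ))) :
    ∃ H : V ≃ₗ[F] V, ∀ v, H (f v) = f' (H v) := by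
  have hc := eig_isCompl f μ hμ h2 hf
  have hc' := eig_isCompl f' μ hμ h2 hf'
  have hk' : finrank F (End.eigenspace f μ) = finrank F (End.eigenspace f' μ) := by
    have h1 := Submodule.finrank_add_eq_of_isCompl hc
    have h1' := Submodule.finrank_add_eq_of_isCompl hc'
    omega
  let e₁ : End.eigenspace f μ ≃ₗ[F] End.eigenspace f' μ := LinearEquiv.ofFinrankEq _ _ hk'
  let e₂ : End.eigenspace f (-μ) ≃ₗ[F] End.eigenspace f' (-μ) := LinearEquiv.ofFinrankEq _ _ hk
  let H : V ≃ₗ[F] V := (Submodule.prodEquivOfIsCompl _ _ hc).symm ≪≫ₗ (e₁.prodCongr e₂) ≪≫ₗ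
    (Submodule.prodEquivOfIsCompl _ _ hc')
  have hH1 : ∀ a : End.eigenspace f μ, H (a : V) = (e₁ a : V) := by
    intro a
    show (Submodule.prodEquivOfIsCompl _ _ hc') ((e₁.prodCongr e₂)
      ((Submodule.prodEquivOfIsCompl _ _ hc).symm (a : V))) = _
    rw [Submodule.prodEquivOfIsCompl_symm_apply_left]
    simp
  have hH2 : ∀ b : End.eigenspace f (-μ), H (b : V) = (e₂ b : V) := by
    intro b
    show (Submodule.prodEquivOfIsCompl _ _ hc') ((e₁.prodCongr e₂)
      ((Submodule.prodEquivOfIsCompl _ _ hc).symm (b : V))) = _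
    rw [Submodule.prodEquivOfIsCompl_symm_apply_right]
    simp
  refine ⟨H, ?_⟩
  intro v
  obtain ⟨a, ha, b, hb, rfl⟩ : ∃ a ∈ End.eigenspace f μ, ∃ b ∈ End.eigenspace f (-μ), a + b = v := by
    have : v ∈ End.eigenspace f μ ⊔ End.eigenspace f (-μ) := by
      rw [hc.sup_eq_top]; trivial
    exact Submodule.mem_sup.mp this
  have ha' := End.mem_eigenspace_iff.mp ha
  have hb' := End.mem_eigenspace_iff.mp hb
  have hHa := hH1 ⟨a, ha⟩
  have hHb := hH2 ⟨b, hb⟩
  have hea := End.mem_eigenspace_iff.mp (e₁ ⟨a, ha⟩).2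
  have heb := End.mem_eigenspace_iff.mp (e₂ ⟨b, hb⟩).2
  simp only at hHa hHb
  calc H (f (a + b)) = H (μ • a + (-μ) • b) := by rw [map_add, ha', hb']
    _ = μ • H a + (-μ) • H b := by rw [map_add, map_smul, map_smul]
    _ = f' (H a) + f' (H b) := by rw [hHa, hHb, hea, heb]
    _ = f' (H (a + b)) := by rw [map_add, map_add]


section ns

variable (c : F)

theorem torsion_of_sq (f : Module.End F V) (hf : f * f = c • (1 : Module.End F V)) :
    Module.IsTorsionBy F[X] (AEval' f) (X ^ 2 - C c : F[X]) := by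
  intro m
  obtain ⟨v, rfl⟩ := (AEval'.of f).surjective m
  rw [← AEval.of_aeval_smul]
  have : aeval f (X ^ 2 - C c : F[X]) = 0 := by
    rw [map_sub, map_pow, aeval_X, aeval_C, pow_two, hf, Algebra.algebraMap_eq_smul_one, sub_self]
  rw [this, zero_smul, map_zero]

/-- two endomorphisms with the same irreducible quadratic relation `f² = c` are conjugate -/
theorem exists_intertwiner_ns [FiniteDimensional F V] (hirr : Irreducible (X ^ 2 - C c : F[X]))
    (f f' : Module.End F V) (hf : f * f = c • (1 : Module.End F V))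
    (hf' : f' * f' = c • (1 : Module.End F V)) :
    ∃ H : V ≃ₗ[F] V, ∀ v, H (f v) = f' (H v) := by
  haveI : Fact (Irreducible (X ^ 2 - C c : F[X])) := ⟨hirr⟩
  letI m1 : Module (AdjoinRoot (X ^ 2 - C c : F[X])) (AEval' f) := (torsion_of_sq c f hf).module
  letI m2 : Module (AdjoinRoot (X ^ 2 - C c : F[X])) (AEval' f') := (torsion_of_sq c f' hf').module
  haveI : Module.Free (AdjoinRoot (X ^ 2 - C c : F[X])) (AEval' f) :=
    Module.Free.of_divisionRing _ _
  haveI : Module.Free (AdjoinRoot (X ^ 2 - C c : F[X])) (AEval' f') :=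
    Module.Free.of_divisionRing _ _
  haveI t1 : IsScalarTower F (AdjoinRoot (X ^ 2 - C c : F[X])) (AEval' f) :=
    Module.IsTorsionBySet.isScalarTower (I := Ideal.span {(X ^ 2 - C c : F[X])}) _
  haveI t2 : IsScalarTower F (AdjoinRoot (X ^ 2 - C c : F[X])) (AEval' f') :=
    Module.IsTorsionBySet.isScalarTower (I := Ideal.span {(X ^ 2 - C c : F[X])}) _
  haveI : Module.Finite F (AEval' f) := Module.Finite.equiv (AEval'.of f)
  haveI : Module.Finite F (AEval' f') := Module.Finite.equiv (AEval'.of f')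
  haveI : Module.Finite (AdjoinRoot (X ^ 2 - C c : F[X])) (AEval' f) :=
    Module.Finite.of_restrictScalars_finite F _ _
  haveI : Module.Finite (AdjoinRoot (X ^ 2 - C c : F[X])) (AEval' f') :=
    Module.Finite.of_restrictScalars_finite F _ _
  haveI : Module.Finite F (AdjoinRoot (X ^ 2 - C c : F[X])) :=
    (AdjoinRoot.powerBasis (f := (X ^ 2 - C c : F[X])) hirr.ne_zero).finite
  have hL : 0 < finrank F (AdjoinRoot (X ^ 2 - C c : F[X])) := Module.finrank_pos
  have h1 := Module.finrank_mul_finrank F (AdjoinRoot (X ^ 2 - C c : F[X])) (AEval' f)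
  have h2 := Module.finrank_mul_finrank F (AdjoinRoot (X ^ 2 - C c : F[X])) (AEval' f')
  have h3 : finrank F (AEval' f) = finrank F V := (AEval'.of f).finrank_eq.symm
  have h4 : finrank F (AEval' f') = finrank F V := (AEval'.of f').finrank_eq.symm
  have hfr : finrank (AdjoinRoot (X ^ 2 - C c : F[X])) (AEval' f) =
      finrank (AdjoinRoot (X ^ 2 - C c : F[X])) (AEval' f') := by
    have : finrank F (AdjoinRoot (X ^ 2 - C c : F[X])) *
        finrank (AdjoinRoot (X ^ 2 - C c : F[X])) (AEval' f) =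
        finrank F (AdjoinRoot (X ^ 2 - C c : F[X])) *
        finrank (AdjoinRoot (X ^ 2 - C c : F[X])) (AEval' f') := by
      rw [h1, h2, h3, h4]
    exact Nat.eq_of_mul_eq_mul_left hL this
  let e : AEval' f ≃ₗ[AdjoinRoot (X ^ 2 - C c : F[X])] AEval' f' :=
    LinearEquiv.ofFinrankEq _ _ hfr
  let H : V ≃ₗ[F] V := (AEval'.of f) ≪≫ₗ (e.restrictScalars F) ≪≫ₗ (AEval'.of f').symm
  refine ⟨H, ?_⟩
  intro v
  show (AEval'.of f').symm (e (AEval'.of f (f v))) = f' ((AEval'.of f').symm (e (AEval'.of f v)))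
  rw [← AEval'.X_smul_of, ← AEval'.of_symm_X_smul]
  congr 1
  have hX : ∀ (m : AEval' f), (X : F[X]) • m = (AdjoinRoot.root (X ^ 2 - C c : F[X])) • m :=
    fun m => rfl
  have hX' : ∀ (m : AEval' f'), (X : F[X]) • m = (AdjoinRoot.root (X ^ 2 - C c : F[X])) • m :=
    fun m => rfl
  rw [hX, hX', map_smul]

end ns

end Cfsg.Agent.Helper13.InvolConj
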