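import Mathlib
import Cfsg.Agent.Helper7.K2M.Defs

set_option autoImplicit false
set_option linter.unusedSectionVars false
set_option linter.unusedVariables false

/-! # S5694, `k = 2` minus blocks, chapter SPREAD (driver helper13): definitions. -/

namespace Cfsg.Agent.K2M

open Matrix Cfsg.Agent.OC2P Cfsg.Agent.Helper28.Sg Cfsg.Agent.Helper28.Spin
  Cfsg.Agent.Helper12.OrthGen

variable {F : Type*} [Field F] {t : ℕ} {Q : QuadraticForm F (Fin t × Fin 2 → F)}

/-- `u` is good for `I`: every block outside `I` lies in `Rad H u` -/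
def SP.Good (H : Subgroup (OG Q)) (I : Finset (Fin t)) (u : Fin t × Fin 2 → F) : Prop :=
  ∀ hu : Q u = 0, ∀ l : Fin t, l ∉ I → ∀ y : Fin 2 → F, binj l y ∈ Rad H u hu

/-- `Rad H u = u^⊥` -/
def SP.Full (H : Subgroup (OG Q)) (u : Fin t × Fin 2 → F) : Prop :=
  ∀ hu : Q u = 0, ∀ x : Fin t × Fin 2 → F, B Q u x = 0 → x ∈ Rad H u hu

end Cfsg.Agent.K2M
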