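import Mathlib
import Cfsg.Agent.Helper7.K2M.Defs
import Cfsg.Agent.Helper13.K2MSPDefs
import Cfsg.Agent.Helper3.K2MRACT

set_option autoImplicit false
set_option linter.unusedSectionVars false
set_option linter.unusedVariables false

/-! # S5694, `k = 2` minus blocks, chapter SPREAD: piece SPCOUNT. -/

namespace Cfsg.Agent.K2M

open Matrix Cfsg.Agent.OC2P Cfsg.Agent.Helper28.Sg Cfsg.Agent.Helper28.Spin
  Cfsg.Agent.Helper12.OrthGen

variable {F : Type*} [Field F] [Fintype F] {t : ℕ} {Q : QuadraticForm F (Fin t × Fin 2 → F)}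
  {q : QuadraticForm F (Fin 2 → F)}

namespace SPCOUNT

omit [Fintype F] in
/-- the displacement of a reflection lies in `A` -/
theorem step0 (A : AddSubgroup (Fin 2 → F))
    (hinv : ∀ y : Fin 2 → F, y ≠ 0 → ∀ a ∈ A, r2 q y a ∈ A) {y : Fin 2 → F} (hy : y ≠ 0)
    {a : Fin 2 → F} (ha : a ∈ A) : ((q y)⁻¹ * QuadraticMap.polar ⇑q y a) • y ∈ A := by
  have h := A.sub_mem ha (hinv y hy a ha)
  have e : a - r2 q y a = ((q y)⁻¹ * QuadraticMap.polar ⇑q y a) • y := by
    unfold r2; abel
  rwa [e] at h

omit [Fintype F] in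
/-- a partner with nonzero Gram determinant -/
theorem exists_b (haniso : ∀ y : Fin 2 → F, q y = 0 → y = 0)
    (hnd : (QuadraticMap.polarBilin q).Nondegenerate) {a : Fin 2 → F} (ha : a ≠ 0) :
    ∃ b : Fin 2 → F, 4 * q a * q b - (QuadraticMap.polar ⇑q a b) ^ 2 ≠ 0 := by
  have hqa : q a ≠ 0 := fun h => ha (haniso a h)
  have hex : ∃ z, QuadraticMap.polar ⇑q a z ≠ 0 := by
    by_contra hcon
    push Not at hcon
    apply ha
    apply hnd.1 a
    intro z
    rw [QuadraticMap.polarBilin_apply_apply]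
    exact hcon z
  by_cases h2 : (2 : F) = 0
  · -- characteristic 2
    obtain ⟨z, hz⟩ := hex
    refine ⟨z, ?_⟩
    have h4 : (4 : F) = 0 := by
      have : (4 : F) = 2 * 2 := by norm_num
      rw [this, h2, zero_mul]
    rw [h4, zero_mul, zero_mul, zero_sub]
    exact neg_ne_zero.mpr (pow_ne_zero 2 hz)
  · -- odd characteristic: a vector orthogonal to `a`
    set L : (Fin 2 → F) → F := fun x => QuadraticMap.polar ⇑q a x with hL
    set e₀ : Fin 2 → F := Pi.single 0 1 with he₀
    set e₁ : Fin 2 → F := Pi.single 1 1 with he₁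
    have hdec : ∀ x : Fin 2 → F, x = x 0 • e₀ + x 1 • e₁ := by
      intro x
      funext i
      fin_cases i <;> simp [he₀, he₁]
    have hLx : ∀ x : Fin 2 → F, L x = x 0 * L e₀ + x 1 * L e₁ := by
      intro x
      conv_lhs => rw [hdec x]
      simp only [hL]
      rw [QuadraticMap.polar_add_right, QuadraticMap.polar_smul_right,
        QuadraticMap.polar_smul_right, smul_eq_mul, smul_eq_mul]
    set b : Fin 2 → F := (-(L e₁)) • e₀ + (L e₀) • e₁ with hb
    have hb0 : b 0 = -(L e₁) := by simp [hb, he₀, he₁]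
    have hb1 : b 1 = L e₀ := by simp [hb, he₀, he₁]
    have hLb : QuadraticMap.polar ⇑q a b = 0 := by
      have := hLx b
      rw [hb0, hb1] at this
      simp only [hL] at this ⊢
      rw [this]; ring
    have hbne : b ≠ 0 := by
      intro hb'
      have h0 : L e₁ = 0 := by
        have := congrFun hb' 0
        rw [hb0] at this
        simpa using this
      have h1 : L e₀ = 0 := by
        have := congrFun hb' 1
        rw [hb1] at this
        simpa using this
      obtain ⟨z, hz⟩ := hex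
      apply hz
      have := hLx z
      rw [h0, h1] at this
      simpa [hL] using this
    refine ⟨b, ?_⟩
    rw [hLb]
    have hqb : q b ≠ 0 := fun h => hbne (haniso b h)
    have h4 : (4 : F) ≠ 0 := by
      have : (4 : F) = 2 * 2 := by norm_num
      rw [this]; exact mul_ne_zero h2 h2
    simp only [ne_eq, zero_pow, OfNat.ofNat_ne_zero, not_false_eq_true, sub_zero]
    exact mul_ne_zero (mul_ne_zero h4 hqa) hqb

/-- all scalar multiples of a nonzero member are members -/
theorem smul_mem (haniso : ∀ y : Fin 2 → F, q y = 0 → y = 0)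
    (hnd : (QuadraticMap.polarBilin q).Nondegenerate) (A : AddSubgroup (Fin 2 → F))
    (hinv : ∀ y : Fin 2 → F, y ≠ 0 → ∀ a ∈ A, r2 q y a ∈ A) {a₀ : Fin 2 → F} (ha₀ : a₀ ∈ A)
    (hne : a₀ ≠ 0) (c : F) : c • a₀ ∈ A := by
  classical
  have hqa : q a₀ ≠ 0 := fun h => hne (haniso a₀ h)
  obtain ⟨b, hΔ⟩ := exists_b haniso hnd hne
  set β := QuadraticMap.polar ⇑q a₀ b with hβ
  set Δ := 4 * q a₀ * q b - β ^ 2 with hΔdef
  -- the additive subgroup of coefficients
  let C : AddSubgroup F :=
    { carrier := {c | c • a₀ ∈ A}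
      zero_mem' := by show (0 : F) • a₀ ∈ A; rw [zero_smul]; exact A.zero_mem
      add_mem' := by
        intro x y hx hy
        show (x + y) • a₀ ∈ A
        rw [add_smul]; exact A.add_mem hx hy
      neg_mem' := by
        intro x hx
        show (-x) • a₀ ∈ A
        rw [neg_smul]; exact A.neg_mem hx }
  have hCmem : ∀ c : F, c ∈ C ↔ c • a₀ ∈ A := fun c => Iff.rfl
  -- the values `f(y)`
  have hval : ∀ y : Fin 2 → F, y ≠ 0 →
      (q a₀)⁻¹ * (((q y)⁻¹ * QuadraticMap.polar ⇑q y a₀) * QuadraticMap.polar ⇑q a₀ y) ∈ C := by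
    intro y hy
    have h1 := step0 A hinv hy ha₀
    have h2 := step0 A hinv hne h1
    rw [QuadraticMap.polar_smul_right, smul_eq_mul] at h2
    exact h2
  have h1C : (1 : F) ∈ C := by rw [hCmem, one_smul]; exact ha₀
  have h4C : (4 : F) ∈ C := by
    have : (4 : F) = 1 + 1 + 1 + 1 := by norm_num
    rw [this]
    exact C.add_mem (C.add_mem (C.add_mem h1C h1C) h1C) h1C
  -- the family `y s = s • a₀ + b`
  have hP : ∀ s : F, QuadraticMap.polar ⇑q a₀ (s • a₀ + b) = 2 * s * q a₀ + β := by
    intro s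
    rw [QuadraticMap.polar_add_right, QuadraticMap.polar_smul_right, QuadraticMap.polar_self,
      smul_eq_mul]
    ring
  have hD : ∀ s : F, q (s • a₀ + b) = q a₀ * s ^ 2 + β * s + q b := by
    intro s
    rw [QuadraticMap.map_add q (s • a₀) b, QuadraticMap.map_smul, QuadraticMap.polar_smul_left,
      smul_eq_mul, smul_eq_mul]
    ring
  have hid : ∀ s : F, (QuadraticMap.polar ⇑q a₀ (s • a₀ + b)) ^ 2 =
      4 * q a₀ * q (s • a₀ + b) - Δ := by
    intro s
    rw [hP, hD, hΔdef]; ring
  have hDne : ∀ s : F, q (s • a₀ + b) ≠ 0 := by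
    intro s h0
    have hy0 := haniso _ h0
    have := hid s
    rw [hy0, QuadraticMap.polar_zero_right, QuadraticMap.map_zero] at this
    apply hΔ
    have h' : Δ = 0 := by
      have : (0 : F) ^ 2 = 4 * q a₀ * 0 - Δ := this
      rw [mul_zero, zero_sub] at this
      have h'' : -Δ = 0 := by rw [← this]; ring
      exact neg_eq_zero.mp h''
    exact h'
  have hvs : ∀ s : F, 4 - Δ * (q a₀)⁻¹ * (q (s • a₀ + b))⁻¹ ∈ C := by
    intro s
    have hy : s • a₀ + b ≠ 0 := fun h => hDne s (by rw [h, QuadraticMap.map_zero])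
    have := hval _ hy
    have e : (q a₀)⁻¹ * (((q (s • a₀ + b))⁻¹ * QuadraticMap.polar ⇑q (s • a₀ + b) a₀) *
        QuadraticMap.polar ⇑q a₀ (s • a₀ + b)) = 4 - Δ * (q a₀)⁻¹ * (q (s • a₀ + b))⁻¹ := by
      rw [QuadraticMap.polar_comm ⇑q (s • a₀ + b) a₀]
      have h2 := hid s
      have hd := hDne s
      field_simp
      rw [h2]; ring
    rwa [e] at this
  -- counting
  set p : Polynomial F := Polynomial.C (q a₀) * Polynomial.X ^ 2 + Polynomial.C β * Polynomial.X +
    Polynomial.C (q b) with hp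
  have hdeg : p.natDegree = 2 := Polynomial.natDegree_quadratic hqa
  have hdeg' : 0 < p.degree := by
    rw [Polynomial.degree_quadratic hqa]; norm_num
  have hcard := FiniteField.card_image_polynomial_eval hdeg'
  rw [hdeg] at hcard
  have heval : ∀ s : F, Polynomial.eval s p = q (s • a₀ + b) := by
    intro s
    rw [hD, hp]
    simp
  set T : Finset F := Finset.univ.image (fun s => Polynomial.eval s p) with hT
  have hTne : ∀ τ ∈ T, τ ≠ 0 := by
    intro τ hτ
    obtain ⟨s, _, rfl⟩ := Finset.mem_image.mp hτ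
    rw [heval]; exact hDne s
  set g : F → F := fun τ => 4 - Δ * (q a₀)⁻¹ * τ⁻¹ with hg
  have hginj : Set.InjOn g (T : Set F) := by
    intro τ hτ τ' hτ' h
    simp only [hg] at h
    have h1 : Δ * (q a₀)⁻¹ * τ⁻¹ = Δ * (q a₀)⁻¹ * τ'⁻¹ := by
      have := congrArg (fun x => 4 - x) h
      simpa using this
    have h2 : τ⁻¹ = τ'⁻¹ := mul_left_cancel₀ (mul_ne_zero hΔ (inv_ne_zero hqa)) h1
    exact inv_injective h2
  set Cset : Finset F := Finset.univ.filter (fun c => c ∈ C) with hCset
  have hsub : insert (4 : F) (T.image g) ⊆ Cset := by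
    intro c hc
    rw [hCset, Finset.mem_filter]
    refine ⟨Finset.mem_univ _, ?_⟩
    rcases Finset.mem_insert.mp hc with rfl | hc
    · exact h4C
    · obtain ⟨τ, hτ, rfl⟩ := Finset.mem_image.mp hc
      obtain ⟨s, _, rfl⟩ := Finset.mem_image.mp hτ
      simp only [hg]
      rw [heval]; exact hvs s
  have h4not : (4 : F) ∉ T.image g := by
    intro h
    obtain ⟨τ, hτ, h⟩ := Finset.mem_image.mp h
    simp only [hg] at h
    have h1 : Δ * (q a₀)⁻¹ * τ⁻¹ = 0 := by
      have := congrArg (fun x => 4 - x) h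
      simpa using this
    exact mul_ne_zero (mul_ne_zero hΔ (inv_ne_zero hqa)) (inv_ne_zero (hTne τ hτ)) h1
  have hcardV : (insert (4 : F) (T.image g)).card = T.card + 1 := by
    rw [Finset.card_insert_of_notMem h4not, Finset.card_image_of_injOn hginj]
  have hle : T.card + 1 ≤ Cset.card := by
    rw [← hcardV]; exact Finset.card_le_card hsub
  have hCcard : Nat.card C = Cset.card := by
    rw [Nat.card_eq_fintype_card, hCset, ← Fintype.card_subtype]
  have hdvd : Nat.card C ∣ Nat.card F := AddSubgroup.card_addSubgroup_dvd_card C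
  have hN : Nat.card F = Fintype.card F := Nat.card_eq_fintype_card
  have hlt : Nat.card F < 2 * Nat.card C := by
    rw [hN, hCcard]; omega
  have hposF : 0 < Nat.card F := Nat.card_pos
  have hCtop : C = ⊤ := by
    obtain ⟨k, hk⟩ := hdvd
    have hk1 : k = 1 := by
      rcases k with _ | _ | k
      · rw [mul_zero] at hk
        omega
      · rfl
      · exfalso
        have : Nat.card C * 2 ≤ Nat.card C * (k + 1 + 1) := Nat.mul_le_mul_left _ (by omega)
        omega
    rw [hk1, mul_one] at hk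
    exact (AddSubgroup.card_eq_iff_eq_top C).mp hk.symm
  have : c ∈ C := by rw [hCtop]; trivial
  exact (hCmem c).mp this

omit [Fintype F] in
theorem span_pair {a y : Fin 2 → F} (h : ∀ s t : F, s • a + t • y = 0 → s = 0 ∧ t = 0)
    (x : Fin 2 → F) : ∃ s t : F, s • a + t • y = x := by
  have hli : LinearIndependent F ![a, y] := LinearIndependent.pair_iff.mpr h
  have hsp := hli.span_eq_top_of_card_eq_finrank' (by simp)
  have hx : x ∈ Submodule.span F (Set.range ![a, y]) := by rw [hsp]; trivial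
  have hr : Set.range ![a, y] = {a, y} := by
    ext z
    simp only [Set.mem_range, Set.mem_insert_iff, Set.mem_singleton_iff, Fin.exists_fin_two,
      Matrix.cons_val_zero, Matrix.cons_val_one]
    constructor
    · rintro (h | h)
      · exact Or.inl h.symm
      · exact Or.inr h.symm
    · rintro (h | h)
      · exact Or.inl h.symm
      · exact Or.inr h.symm
  rw [hr, Submodule.mem_span_pair] at hx
  exact hx

end SPCOUNT

/-- SPCOUNT (L): a nonzero additive subgroup of the anisotropic plane invariant under all reflections is everything. -/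
theorem SPCOUNT (haniso : ∀ y : Fin 2 → F, q y = 0 → y = 0)
    (hnd : (QuadraticMap.polarBilin q).Nondegenerate) (A : AddSubgroup (Fin 2 → F))
    (hA : ∃ a ∈ A, a ≠ 0)
    (hinv : ∀ y : Fin 2 → F, y ≠ 0 → ∀ a ∈ A, r2 q y a ∈ A) : A = ⊤ := by
  obtain ⟨a₀, ha₀, hne⟩ := hA
  have hqa : q a₀ ≠ 0 := fun h => hne (haniso a₀ h)
  obtain ⟨b, hΔ⟩ := SPCOUNT.exists_b haniso hnd hne
  -- a vector `y = s • a₀ + b` with `polar a₀ y ≠ 0`
  have hP : ∀ s : F, QuadraticMap.polar ⇑q a₀ (s • a₀ + b) =
      2 * s * q a₀ + QuadraticMap.polar ⇑q a₀ b := by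
    intro s
    rw [QuadraticMap.polar_add_right, QuadraticMap.polar_smul_right, QuadraticMap.polar_self,
      smul_eq_mul]
    ring
  obtain ⟨s, hs⟩ : ∃ s : F, QuadraticMap.polar ⇑q a₀ (s • a₀ + b) ≠ 0 := by
    by_cases hβ : QuadraticMap.polar ⇑q a₀ b = 0
    · refine ⟨1, ?_⟩
      rw [hP, hβ, add_zero, mul_one]
      intro h0
      apply hΔ
      rw [hβ]
      have : (4 : F) * q a₀ = 2 * (2 * q a₀) := by ring
      rw [this, h0]; ring
    · refine ⟨0, ?_⟩
      rw [hP]; simpa using hβ
  set y := s • a₀ + b with hy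
  -- independence
  have hind : ∀ s' t' : F, s' • a₀ + t' • y = 0 → s' = 0 ∧ t' = 0 := by
    intro s' t' h
    have ht' : t' = 0 := by
      by_contra ht'
      -- `b = κ • a₀`
      have hb : b = (-(s' + t' * s) / t') • a₀ := by
        have h1 : t' • b = (-(s' + t' * s)) • a₀ := by
          have : s' • a₀ + t' • (s • a₀ + b) = 0 := h
          rw [smul_add, smul_smul] at this
          have e : t' • b = -(s' • a₀ + (t' * s) • a₀) := by
            rw [eq_neg_iff_add_eq_zero]
            rw [← this]; abel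
          rw [e, neg_smul, add_smul]
        have : b = t'⁻¹ • (t' • b) := by rw [smul_smul, inv_mul_cancel₀ ht', one_smul]
        rw [this, h1, smul_smul]
        congr 1
        field_simp
      apply hΔ
      rw [hb, QuadraticMap.map_smul, QuadraticMap.polar_smul_right, QuadraticMap.polar_self,
        smul_eq_mul, smul_eq_mul]
      ring
    refine ⟨?_, ht'⟩
    rw [ht', zero_smul, add_zero] at h
    rcases smul_eq_zero.mp h with h | h
    · exact h
    · exact absurd h hne
  have hy0 : y ≠ 0 := by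
    intro h
    have := (hind 0 1 (by rw [zero_smul, one_smul, zero_add]; exact h)).2
    exact one_ne_zero this
  -- a nonzero multiple of `y` in `A`
  have h1 := SPCOUNT.step0 A hinv hy0 ha₀
  have hcoef : (q y)⁻¹ * QuadraticMap.polar ⇑q y a₀ ≠ 0 := by
    apply mul_ne_zero (inv_ne_zero (fun h => hy0 (haniso y h)))
    rw [QuadraticMap.polar_comm]; exact hs
  have hne1 : ((q y)⁻¹ * QuadraticMap.polar ⇑q y a₀) • y ≠ 0 :=
    smul_ne_zero hcoef hy0
  apply (AddSubgroup.eq_top_iff' A).mpr
  intro x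
  obtain ⟨s', t', hx⟩ := SPCOUNT.span_pair hind x
  rw [← hx]
  apply A.add_mem
  · exact SPCOUNT.smul_mem haniso hnd A hinv ha₀ hne s'
  · have := SPCOUNT.smul_mem haniso hnd A hinv h1 hne1
      (t' * ((q y)⁻¹ * QuadraticMap.polar ⇑q y a₀)⁻¹)
    rw [smul_smul, mul_assoc, inv_mul_cancel₀ hcoef, mul_one] at this
    exact this

end Cfsg.Agent.K2M
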