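import Mathlib
import Cfsg.Agent.Helper7.K2M.Defs
import Cfsg.Agent.Helper13.K2MSPDefs
import Cfsg.Agent.Helper4.K2MQB
import Cfsg.Agent.Helper19.K2MUNIV

set_option autoImplicit false
set_option linter.unusedSectionVars false
set_option linter.unusedVariables false

/-! # S5694, `k = 2` minus blocks, chapter SPREAD: piece SPSING (two-block vectors). -/

namespace Cfsg.Agent.K2M

open Matrix Cfsg.Agent.OC2P Cfsg.Agent.Helper28.Sg Cfsg.Agent.Helper28.Spin
  Cfsg.Agent.Helper12.OrthGen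

variable {F : Type*} [Field F] [Fintype F] {t : ℕ} {Q : QuadraticForm F (Fin t × Fin 2 → F)}
  {q : QuadraticForm F (Fin 2 → F)}

theorem SPSING.Q_pair (bm : BM Q q) {l l' : Fin t} (h : l ≠ l') (y y' : Fin 2 → F) :
    Q (binj l y + binj l' y') = q y + q y' := by
  rw [Q_add, QB.Q_binj bm, QB.Q_binj bm, QB.B_binj_binj_ne bm h, add_zero]

theorem SPSING.bproj_left {l l' : Fin t} (h : l ≠ l') (y y' : Fin 2 → F) :
    bproj l (binj l y + binj l' y' : Fin t × Fin 2 → F) = y := by
  rw [QB.bproj_add, bproj_binj, bproj_binj_ne h, add_zero]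

theorem SPSING.bproj_right {l l' : Fin t} (h : l ≠ l') (y y' : Fin 2 → F) :
    bproj l' (binj l y + binj l' y' : Fin t × Fin 2 → F) = y' := by
  rw [QB.bproj_add, bproj_binj, bproj_binj_ne h.symm, zero_add]

theorem SPSING.bproj_ne {l l' m : Fin t} (hl : m ≠ l) (hl' : m ≠ l') (y y' : Fin 2 → F) :
    bproj m (binj l y + binj l' y' : Fin t × Fin 2 → F) = 0 := by
  rw [QB.bproj_add, bproj_binj_ne hl, bproj_binj_ne hl', add_zero]

theorem SPSING.suppIn {l l' : Fin t} (y y' : Fin 2 → F) :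
    SuppIn ({l, l'} : Finset (Fin t)) (binj l y + binj l' y' : Fin t × Fin 2 → F) := by
  intro i hi
  have h1 : i ≠ l := fun h => hi (by rw [h]; exact Finset.mem_insert_self _ _)
  have h2 : i ≠ l' := fun h => hi (by
    rw [h]; exact Finset.mem_insert_of_mem (Finset.mem_singleton_self _))
  exact SPSING.bproj_ne h1 h2 y y'

/-- `UNIV.main` with `c = - q y` (`y = 0`: take `0`) -/
theorem SPSING.exists_neg (bm : BM Q q) (y : Fin 2 → F) : ∃ y' : Fin 2 → F, q y' = - q y := by
  by_cases hy : q y = 0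
  · exact ⟨0, by rw [hy, neg_zero, QuadraticMap.map_zero]⟩
  · exact UNIV.main bm (neg_ne_zero.mpr hy)

end Cfsg.Agent.K2M
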