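import Mathlib
import Cfsg.Agent.Helper7.K2M.Defs
import Cfsg.Agent.Helper13.K2MSPDefs
import Cfsg.Agent.Helper4.K2MQB
import Cfsg.Agent.Helper19.K2MUNIV
import Cfsg.Agent.Helper13.K2MSPSING

set_option autoImplicit false
set_option linter.unusedSectionVars false
set_option linter.unusedVariables false

/-! # S5694, `k = 2` minus blocks, chapter SPREAD: piece SPFULL. -/

namespace Cfsg.Agent.K2M

open Matrix Cfsg.Agent.OC2P Cfsg.Agent.Helper28.Sg Cfsg.Agent.Helper28.Spin
  Cfsg.Agent.Helper12.OrthGen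

variable {F : Type*} [Field F] [Fintype F] {t : ℕ} {Q : QuadraticForm F (Fin t × Fin 2 → F)}
  {q : QuadraticForm F (Fin 2 → F)}

namespace SPFULL

omit [Fintype F] in
/-- two distinct elements outside a small finset -/
theorem exists_two (I : Finset (Fin t)) (hI : I.card + 2 ≤ t) :
    ∃ l l' : Fin t, l ∉ I ∧ l' ∉ I ∧ l ≠ l' := by
  classical
  have hc : 2 ≤ (Finset.univ \ I).card := by
    rw [Finset.card_sdiff_of_subset (Finset.subset_univ I), Finset.card_univ, Fintype.card_fin]
    omega
  obtain ⟨l, hl, l', hl', hne⟩ := Finset.one_lt_card.mp hc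
  exact ⟨l, l', (Finset.mem_sdiff.mp hl).2, (Finset.mem_sdiff.mp hl').2, hne⟩

omit [Fintype F] in
/-- a vector all of whose components outside `I` ... : if `u` is good for `I`, every vector vanishing on `I` is in `Rad H u` -/
theorem out_mem {H : Subgroup (OG Q)} {I : Finset (Fin t)} {u : Fin t × Fin 2 → F} (hu : Q u = 0)
    (hgood : SP.Good H I u) (v : Fin t × Fin 2 → F) (hv : ∀ i ∈ I, bproj i v = 0) :
    v ∈ Rad H u hu := by
  classical
  rw [QB.eq_sum v]
  apply (Rad H u hu).sum_mem
  intro i _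
  by_cases hi : i ∈ I
  · rw [hv i hi, QB.binj_zero]; exact (Rad H u hu).zero_mem
  · exact hgood hu i hi _

end SPFULL

theorem SPFULL (bm : BM Q q) (ht : 7 ≤ t) {H : Subgroup (OG Q)} (hH : HasMO H)
    (hg2 : ∀ m m' : Fin t, m ≠ m' → ∀ y y' : Fin 2 → F,
      SP.Good H ({m, m'} : Finset (Fin t)) (binj m y + binj m' y'))
    (hg3 : ∀ (I' : Finset (Fin t)) (u' : Fin t × Fin 2 → F), I'.card ≤ 4 → SuppIn I' u' →
      SP.Good H I' u')
    {l l' : Fin t} (hll' : l ≠ l') (y y' : Fin 2 → F) :
    SP.Full H (binj l y + binj l' y') := by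
  classical
  intro hu x hx
  set u : Fin t × Fin 2 → F := binj l y + binj l' y' with hudef
  have hgood := hg2 l l' hll' y y'
  -- the inner and outer parts of `x`
  set xin : Fin t × Fin 2 → F := binj l (bproj l x) + binj l' (bproj l' x) with hxin
  have hout : x - xin ∈ Rad H u hu := by
    apply SPFULL.out_mem hu hgood
    intro i hi
    rcases Finset.mem_insert.mp hi with rfl | hi
    · rw [QB.bproj_sub, hxin, SPSING.bproj_left hll', sub_self]
    · rw [Finset.mem_singleton.mp hi, QB.bproj_sub, hxin, SPSING.bproj_right hll', sub_self]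
  have hBout : B Q u (x - xin) = 0 := Rad_perp hout
  have hBin : B Q u xin = 0 := by
    have h1 : B Q u x = B Q u xin + B Q u (x - xin) := by
      show QuadraticMap.polar ⇑Q u x = QuadraticMap.polar ⇑Q u xin + QuadraticMap.polar ⇑Q u (x - xin)
      rw [← QuadraticMap.polar_add_right]
      congr 1; abel
    rw [hx, hBout, add_zero] at h1
    exact h1.symm
  -- two more blocks
  obtain ⟨m, m', hm, hm', hmm'⟩ := SPFULL.exists_two ({l, l'} : Finset (Fin t)) (by
    have := Finset.card_le_two (a := l) (b := l')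
    omega)
  have hml : m ≠ l := fun h => hm (by rw [h]; exact Finset.mem_insert_self _ _)
  have hml' : m ≠ l' := fun h => hm (by
    rw [h]; exact Finset.mem_insert_of_mem (Finset.mem_singleton_self _))
  have hm'l : m' ≠ l := fun h => hm' (by rw [h]; exact Finset.mem_insert_self _ _)
  have hm'l' : m' ≠ l' := fun h => hm' (by
    rw [h]; exact Finset.mem_insert_of_mem (Finset.mem_singleton_self _))
  -- `y₀` with `q y₀ = - Q xin`
  obtain ⟨y₀, hy₀⟩ : ∃ y₀ : Fin 2 → F, q y₀ = - Q xin := by
    by_cases h0 : Q xin = 0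
    · exact ⟨0, by rw [h0, neg_zero, QuadraticMap.map_zero]⟩
    · exact UNIV.main bm (neg_ne_zero.mpr h0)
  set u' : Fin t × Fin 2 → F := xin + binj m y₀ with hu'def
  have hxin_m : bproj m xin = 0 := SPSING.bproj_ne hml hml' _ _
  have hxin_m' : bproj m' xin = 0 := SPSING.bproj_ne hm'l hm'l' _ _
  have hu' : Q u' = 0 := by
    rw [hu'def, Q_add, QB.Q_binj bm, QB.B_binj_right bm, hxin_m, QuadraticMap.polar_zero_left, hy₀]
    ring
  have hu'supp : SuppIn ({l, l', m} : Finset (Fin t)) u' := by
    intro i hi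
    have hil : i ≠ l := fun h => hi (by rw [h]; exact Finset.mem_insert_self _ _)
    have hil' : i ≠ l' := fun h => hi (by
      rw [h]; exact Finset.mem_insert_of_mem (Finset.mem_insert_self _ _))
    have him : i ≠ m := fun h => hi (by
      rw [h]
      exact Finset.mem_insert_of_mem (Finset.mem_insert_of_mem (Finset.mem_singleton_self _)))
    rw [hu'def, QB.bproj_add, hxin, SPSING.bproj_ne hil hil', bproj_binj_ne him, add_zero]
  have hgood' := hg3 ({l, l', m} : Finset (Fin t)) u' (by
    have := Finset.card_le_three (a := l) (b := l') (c := m)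
    omega) hu'supp
  have hm'I : m' ∉ ({l, l', m} : Finset (Fin t)) := by
    intro h
    rcases Finset.mem_insert.mp h with h | h
    · exact hm'l h
    rcases Finset.mem_insert.mp h with h | h
    · exact hm'l' h
    · exact hmm' (Finset.mem_singleton.mp h).symm
  -- the commutator relation
  have hy₁ : (Pi.single 0 1 : Fin 2 → F) ≠ 0 := by
    intro h
    have := congrFun h 0
    simp at this
  obtain ⟨y₂, hy₂⟩ := QB.exists_polar_ne bm hy₁
  have hv : binj m' (Pi.single 0 1 : Fin 2 → F) ∈ Rad H u hu := hgood hu m' hm' _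
  have hv' : binj m' y₂ ∈ Rad H u' hu' := hgood' hu' m' hm'I _
  have hu_m : bproj m u = 0 := SPSING.bproj_ne hml hml' _ _
  have hu_m' : bproj m' u = 0 := SPSING.bproj_ne hm'l hm'l' _ _
  have h1 : B Q u u' = 0 := by
    rw [hu'def]
    apply B_add_right_zero Q hBin
    rw [QB.B_binj_right bm, hu_m, QuadraticMap.polar_zero_left]
  have h2 : B Q u (binj m' y₂) = 0 := by
    rw [QB.B_binj_right bm, hu_m', QuadraticMap.polar_zero_left]
  have hu'_m' : bproj m' u' = 0 := hu'supp m' hm'I
  have h3 : B Q u' (binj m' (Pi.single 0 1 : Fin 2 → F)) = 0 := by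
    rw [QB.B_binj_right bm, hu'_m', QuadraticMap.polar_zero_left]
  have hcomm := Rad_comm hv hv' h1 h2 h3
  have hB1 : B Q (binj m' y₂) (binj m' (Pi.single 0 1 : Fin 2 → F)) = 1 := by
    rw [QB.B_binj_left bm, bproj_binj, QuadraticMap.polar_comm]
    exact hy₂
  rw [hB1, one_smul] at hcomm
  -- conclude
  have hmy₀ : binj m y₀ ∈ Rad H u hu := hgood hu m hm _
  have hxinR : xin ∈ Rad H u hu := by
    have := (Rad H u hu).sub_mem hcomm hmy₀
    rwa [hu'def, add_sub_cancel_right] at this
  have := (Rad H u hu).add_mem hxinR hout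
  rwa [add_sub_cancel] at this

end Cfsg.Agent.K2M
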