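import Mathlib
import Cfsg.Agent.Helper7.K2M.Defs
import Cfsg.Agent.Helper13.K2MSPDefs
import Cfsg.Agent.Helper4.K2MQB
import Cfsg.Agent.Helper13.K2MSPSING
import Cfsg.Agent.Helper18.K2MSPMOVE
import Cfsg.Agent.Helper18.K2MSPCORE
import Cfsg.Agent.Helper4.K2MSPSWAP
import Cfsg.Agent.Helper18.K2MSPGOOD3
import Cfsg.Agent.Helper13.K2MSPFULL
import Cfsg.Agent.Helper25.K2MSPHYP

set_option autoImplicit false
set_option linter.unusedSectionVars false
set_option linter.unusedVariables false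

/-! # S5694, `k = 2` minus blocks, chapter SPREAD (driver helper13): assembly `SPREAD.main`. -/

namespace Cfsg.Agent.K2M

open Matrix Cfsg.Agent.OC2P Cfsg.Agent.Helper28.Sg Cfsg.Agent.Helper28.Spin
  Cfsg.Agent.Helper12.OrthGen

variable {F : Type*} [Field F] [Fintype F] {t : ℕ} {Q : QuadraticForm F (Fin t × Fin 2 → F)}
  {q : QuadraticForm F (Fin 2 → F)}

/-- two distinct elements outside a small finset, avoiding one more finset -/
theorem SPMAIN.exists_two (I : Finset (Fin t)) (hI : I.card + 2 ≤ t) :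
    ∃ l l' : Fin t, l ∉ I ∧ l' ∉ I ∧ l ≠ l' := by
  classical
  have hc : 2 ≤ (Finset.univ \ I).card := by
    rw [Finset.card_sdiff_of_subset (Finset.subset_univ I), Finset.card_univ, Fintype.card_fin]
    omega
  obtain ⟨l, hl, l', hl', hne⟩ := Finset.one_lt_card.mp hc
  exact ⟨l, l', (Finset.mem_sdiff.mp hl).2, (Finset.mem_sdiff.mp hl').2, hne⟩

theorem SPMAIN.exists_one (I : Finset (Fin t)) (hI : I.card + 1 ≤ t) : ∃ l : Fin t, l ∉ I := by
  classical
  by_contra hcon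
  push Not at hcon
  have : I = Finset.univ := Finset.eq_univ_iff_forall.mpr hcon
  rw [this, Finset.card_univ, Fintype.card_fin] at hI
  omega

theorem SPREAD.main (bm : BM Q q) (ht : 7 ≤ t) {H : Subgroup (OG Q)} (hH : HasMO H)
    {z w : Fin t × Fin 2 → F} (hz : Q z = 0) (I : Finset (Fin t)) (p : Fin t) (hz0 : z ≠ 0)
    (hI : I.card ≤ 4) (hzI : SuppIn I z) (hp : p ∉ I) (hw : w ∈ Rad H z hz) (hwp : bproj p w ≠ 0) :
    S Q ≤ H := by
  classical
  have hgoodz : SP.Good H I z := SPCORE bm hH hz I (by omega) hzI hp hw hwp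
  obtain ⟨l₀, l₀', hl₀, hl₀', hne₀⟩ := SPMAIN.exists_two I (by omega)
  have hg2 : ∀ m m' : Fin t, m ≠ m' → ∀ y y' : Fin 2 → F,
      SP.Good H ({m, m'} : Finset (Fin t)) (binj m y + binj m' y') := by
    intro m m' hmm' y y'
    exact SPMOVE bm (by omega) hH hne₀ hmm' y y'
      (SPSWAP bm ht hH hz hz0 I hzI hgoodz hl₀ hl₀' hne₀ y y')
  have hg3 : ∀ (I' : Finset (Fin t)) (u' : Fin t × Fin 2 → F), I'.card ≤ 4 → SuppIn I' u' →
      SP.Good H I' u' := fun I' u' h1 h2 => SPGOOD3 bm ht hH hg2 I' h1 h2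
  -- the hyperbolic pair
  have h01 : (⟨0, by omega⟩ : Fin t) ≠ ⟨1, by omega⟩ := by
    intro h; simpa using congrArg Fin.val h
  obtain ⟨y, y', a, a', hp'⟩ := SPHYP bm (Q := Q) (q := q) h01
  have hE := SPFULL bm ht hH hg2 hg3 h01 y y' hp'.Qe
  have hF := SPFULL bm ht hH hg2 hg3 h01 a a' hp'.Qf
  -- a nonsingular vector orthogonal to both
  set m : Fin t := ⟨2, by omega⟩ with hm
  have hm0 : m ≠ ⟨0, by omega⟩ := by
    intro h; simpa [hm] using congrArg Fin.val h
  have hm1 : m ≠ ⟨1, by omega⟩ := by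
    intro h; simpa [hm] using congrArg Fin.val h
  have hy0 : (Pi.single 0 1 : Fin 2 → F) ≠ 0 := by
    intro h
    have := congrFun h 0
    simp at this
  have h0e : B Q (binj ⟨0, by omega⟩ y + binj ⟨1, by omega⟩ y') (binj m (Pi.single 0 1)) = 0 := by
    rw [QB.B_binj_right bm, SPSING.bproj_ne hm0 hm1]
    exact QuadraticMap.polar_zero_left _ _
  have h0f : B Q (binj ⟨0, by omega⟩ a + binj ⟨1, by omega⟩ a') (binj m (Pi.single 0 1)) = 0 := by
    rw [QB.B_binj_right bm, SPSING.bproj_ne hm0 hm1]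
    exact QuadraticMap.polar_zero_left _ _
  have h0 : Q (binj m (Pi.single 0 1 : Fin 2 → F)) ≠ 0 := by
    rw [QB.Q_binj bm]
    exact fun h => hy0 (bm.aniso _ h)
  exact S_le_of_rad bm.ndQ hp' (fun w h1 _ => hE w h1) (fun w _ h2 => hF w h2) h0e h0f h0

end Cfsg.Agent.K2M
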