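import Mathlib
import Cfsg.Agent.Helper13.SU33Spec

set_option autoImplicit false
set_option linter.style.haveILetI false

/-!
# An explicit embedding `SL₃(2) → SU₃(3)` (table over the model `F9`): data
-/

namespace Cfsg.Agent.Helper13.L27SU

open Cfsg.Agent.Helper13.SU33Spec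

abbrev M2 := Matrix (Fin 3) (Fin 3) (ZMod 2)
abbrev S2 := Matrix.SpecialLinearGroup (Fin 3) (ZMod 2)

def els : Fin 168 → M2 := ![
  !![1, 0, 0; 0, 1, 0; 0, 0, 1],
  !![1, 0, 0; 0, 0, 1; 0, 1, 0],
  !![0, 1, 0; 0, 1, 1; 1, 1, 1],
  !![0, 0, 1; 0, 1, 1; 1, 1, 1],
  !![0, 1, 0; 1, 1, 1; 0, 1, 1],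
  !![0, 1, 1; 1, 0, 0; 1, 1, 0],
  !![0, 0, 1; 1, 1, 1; 0, 1, 1],
  !![0, 1, 1; 1, 0, 0; 1, 0, 1],
  !![1, 1, 1; 1, 0, 0; 1, 1, 0],
  !![0, 1, 1; 1, 1, 0; 1, 0, 0],
  !![1, 1, 1; 1, 0, 0; 1, 0, 1],
  !![0, 1, 1; 1, 0, 1; 1, 0, 0],
  !![1, 1, 1; 1, 1, 0; 1, 0, 0],
  !![1, 0, 0; 0, 1, 0; 1, 0, 1],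
  !![1, 1, 0; 0, 1, 0; 0, 0, 1],
  !![1, 1, 1; 1, 0, 1; 1, 0, 0],
  !![1, 0, 0; 0, 0, 1; 1, 1, 0],
  !![1, 0, 1; 0, 0, 1; 0, 1, 0],
  !![1, 1, 0; 0, 1, 0; 1, 0, 1],
  !![1, 0, 0; 1, 0, 1; 0, 1, 0],
  !![1, 1, 0; 0, 0, 1; 0, 1, 0],
  !![0, 1, 0; 0, 1, 1; 1, 0, 1],
  !![1, 0, 1; 0, 0, 1; 1, 1, 0],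
  !![1, 0, 0; 1, 1, 0; 0, 0, 1],
  !![1, 0, 1; 0, 1, 0; 0, 0, 1],
  !![0, 0, 1; 0, 1, 1; 1, 1, 0],
  !![1, 1, 0; 1, 0, 1; 0, 1, 0],
  !![0, 1, 0; 1, 1, 1; 0, 0, 1],
  !![1, 0, 1; 1, 1, 1; 0, 1, 1],
  !![0, 0, 1; 0, 1, 1; 1, 0, 1],
  !![0, 1, 0; 1, 0, 1; 0, 1, 1],
  !![1, 0, 1; 1, 1, 0; 0, 0, 1],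
  !![0, 0, 1; 1, 1, 1; 0, 1, 0],
  !![1, 1, 0; 1, 1, 1; 0, 1, 1],
  !![0, 1, 0; 0, 1, 1; 1, 1, 0],
  !![0, 0, 1; 1, 1, 0; 0, 1, 1],
  !![1, 0, 1; 1, 1, 1; 0, 0, 1],
  !![0, 1, 0; 0, 0, 1; 1, 1, 1],
  !![1, 0, 1; 0, 1, 1; 1, 1, 1],
  !![1, 1, 1; 1, 0, 0; 0, 0, 1],
  !![0, 0, 1; 1, 0, 1; 0, 1, 1],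
  !![0, 1, 1; 1, 1, 0; 1, 1, 1],
  !![1, 0, 1; 1, 1, 0; 1, 0, 0],
  !![1, 1, 0; 1, 1, 1; 0, 1, 0],
  !![0, 0, 1; 0, 1, 0; 1, 1, 1],
  !![1, 1, 0; 0, 1, 1; 1, 1, 1],
  !![1, 1, 1; 1, 0, 0; 0, 1, 0],
  !![0, 1, 0; 1, 1, 0; 0, 1, 1],
  !![0, 1, 1; 1, 0, 1; 1, 1, 1],
  !![1, 1, 0; 1, 0, 1; 1, 0, 0],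
  !![1, 0, 1; 0, 0, 1; 1, 1, 1],
  !![1, 1, 1; 1, 1, 0; 0, 1, 1],
  !![0, 0, 1; 1, 1, 0; 1, 0, 0],
  !![0, 1, 1; 1, 0, 0; 0, 0, 1],
  !![1, 1, 1; 0, 0, 1; 1, 0, 0],
  !![1, 0, 1; 1, 1, 0; 1, 1, 1],
  !![0, 1, 1; 1, 1, 1; 1, 1, 0],
  !![1, 0, 1; 1, 0, 0; 1, 1, 0],
  !![1, 1, 0; 0, 1, 0; 1, 1, 1],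
  !![1, 1, 1; 1, 0, 1; 0, 1, 1],
  !![0, 1, 0; 1, 0, 1; 1, 0, 0],
  !![0, 1, 1; 1, 0, 0; 0, 1, 0],
  !![1, 1, 1; 0, 1, 0; 1, 0, 0],
  !![1, 1, 0; 1, 0, 1; 1, 1, 1],
  !![0, 1, 1; 1, 1, 1; 1, 0, 1],
  !![1, 1, 0; 1, 0, 0; 1, 0, 1],
  !![1, 1, 1; 0, 1, 1; 1, 1, 0],
  !![0, 0, 1; 1, 0, 0; 1, 1, 0],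
  !![1, 1, 0; 0, 1, 0; 0, 1, 1],
  !![0, 1, 1; 0, 0, 1; 1, 0, 0],
  !![1, 0, 0; 1, 0, 1; 1, 1, 0],
  !![0, 0, 1; 1, 0, 1; 0, 1, 0],
  !![1, 0, 1; 1, 1, 1; 1, 1, 0],
  !![1, 1, 0; 0, 0, 1; 1, 0, 0],
  !![1, 1, 1; 0, 0, 1; 0, 1, 0],
  !![1, 0, 0; 0, 1, 0; 1, 1, 1],
  !![1, 1, 1; 0, 1, 1; 1, 0, 1],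
  !![0, 1, 0; 1, 0, 0; 1, 0, 1],
  !![1, 0, 1; 0, 0, 1; 0, 1, 1],
  !![0, 1, 1; 0, 1, 0; 1, 0, 0],
  !![1, 0, 0; 1, 1, 0; 1, 0, 1],
  !![0, 1, 0; 1, 1, 0; 0, 0, 1],
  !![1, 1, 0; 1, 1, 1; 1, 0, 1],
  !![1, 0, 1; 0, 1, 0; 1, 0, 0],
  !![1, 1, 1; 0, 1, 0; 0, 0, 1],
  !![1, 0, 0; 0, 0, 1; 1, 1, 1],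
  !![0, 1, 1; 1, 0, 1; 0, 1, 0],
  !![1, 0, 0; 0, 1, 0; 0, 1, 1],
  !![1, 1, 0; 0, 1, 1; 0, 1, 0],
  !![0, 0, 1; 1, 0, 1; 1, 1, 0],
  !![0, 0, 1; 0, 1, 0; 1, 0, 1],
  !![1, 1, 0; 1, 0, 0; 0, 0, 1],
  !![0, 0, 1; 0, 1, 1; 1, 0, 0],
  !![1, 0, 0; 1, 1, 1; 0, 1, 0],
  !![0, 1, 0; 1, 0, 1; 0, 0, 1],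
  !![0, 1, 1; 1, 1, 0; 0, 0, 1],
  !![1, 0, 0; 0, 0, 1; 0, 1, 1],
  !![1, 0, 1; 0, 1, 1; 0, 0, 1],
  !![0, 1, 0; 1, 1, 0; 1, 0, 1],
  !![0, 1, 0; 0, 0, 1; 1, 1, 0],
  !![1, 0, 1; 1, 0, 0; 0, 1, 0],
  !![0, 1, 0; 0, 1, 1; 1, 0, 0],
  !![1, 0, 0; 1, 1, 1; 0, 0, 1],
  !![0, 0, 1; 1, 1, 0; 0, 1, 0],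
  !![0, 1, 1; 0, 1, 0; 1, 0, 1],
  !![1, 0, 1; 1, 1, 1; 1, 0, 0],
  !![1, 0, 0; 0, 1, 1; 0, 1, 0],
  !![0, 1, 0; 0, 0, 1; 1, 0, 1],
  !![0, 1, 1; 0, 0, 1; 1, 1, 1],
  !![0, 0, 1; 1, 1, 0; 1, 0, 1],
  !![1, 0, 1; 0, 1, 1; 0, 1, 0],
  !![0, 1, 0; 1, 1, 1; 1, 1, 0],
  !![1, 0, 0; 1, 0, 1; 0, 1, 1],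
  !![0, 0, 1; 1, 0, 0; 0, 1, 1],
  !![1, 1, 1; 1, 0, 1; 0, 0, 1],
  !![0, 1, 1; 0, 0, 1; 1, 1, 0],
  !![1, 1, 0; 1, 1, 1; 1, 0, 0],
  !![1, 0, 0; 0, 1, 1; 0, 0, 1],
  !![0, 0, 1; 0, 1, 0; 1, 1, 0],
  !![0, 1, 1; 0, 1, 0; 1, 1, 1],
  !![0, 1, 0; 1, 0, 1; 1, 1, 0],
  !![1, 1, 0; 0, 1, 1; 0, 0, 1],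
  !![0, 0, 1; 1, 1, 1; 1, 0, 1],
  !![1, 0, 0; 1, 1, 0; 0, 1, 1],
  !![0, 1, 0; 1, 0, 0; 0, 1, 1],
  !![1, 1, 1; 1, 1, 0; 0, 1, 0],
  !![0, 1, 0; 1, 1, 1; 1, 0, 0],
  !![1, 0, 1; 1, 0, 0; 1, 1, 1],
  !![0, 1, 1; 0, 0, 1; 1, 0, 1],
  !![0, 1, 1; 1, 1, 1; 0, 0, 1],
  !![1, 0, 1; 0, 1, 0; 0, 1, 1],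
  !![0, 1, 0; 1, 1, 0; 1, 1, 1],
  !![1, 1, 1; 0, 0, 1; 0, 1, 1],
  !![1, 0, 0; 0, 1, 1; 1, 0, 1],
  !![1, 0, 1; 1, 1, 0; 0, 1, 0],
  !![1, 0, 0; 1, 1, 1; 1, 1, 0],
  !![1, 1, 1; 0, 0, 1; 1, 0, 1],
  !![1, 0, 1; 1, 0, 0; 0, 1, 1],
  !![0, 0, 1; 1, 1, 1; 1, 0, 0],
  !![1, 1, 0; 1, 0, 0; 1, 1, 1],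
  !![0, 1, 1; 0, 1, 0; 1, 1, 0],
  !![0, 1, 1; 1, 1, 1; 0, 1, 0],
  !![1, 1, 0; 0, 0, 1; 0, 1, 1],
  !![0, 0, 1; 1, 0, 1; 1, 1, 1],
  !![1, 1, 1; 0, 1, 0; 0, 1, 1],
  !![1, 0, 0; 0, 1, 1; 1, 1, 0],
  !![1, 1, 0; 1, 0, 1; 0, 0, 1],
  !![1, 0, 0; 1, 1, 1; 1, 0, 1],
  !![1, 1, 1; 0, 1, 0; 1, 1, 0],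
  !![1, 1, 0; 1, 0, 0; 0, 1, 1],
  !![0, 1, 0; 1, 0, 0; 1, 1, 1],
  !![1, 1, 1; 0, 1, 1; 0, 0, 1],
  !![0, 1, 1; 1, 0, 1; 0, 0, 1],
  !![0, 0, 1; 1, 0, 0; 1, 1, 1],
  !![1, 1, 1; 1, 1, 0; 1, 0, 1],
  !![0, 1, 0; 0, 0, 1; 1, 0, 0],
  !![0, 1, 1; 1, 1, 0; 0, 1, 0],
  !![1, 0, 1; 0, 1, 0; 1, 1, 0],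
  !![1, 0, 0; 1, 1, 0; 1, 1, 1],
  !![1, 0, 1; 0, 1, 1; 1, 0, 0],
  !![1, 1, 1; 0, 1, 1; 0, 1, 0],
  !![1, 1, 1; 1, 0, 1; 1, 1, 0],
  !![0, 0, 1; 0, 1, 0; 1, 0, 0],
  !![1, 1, 0; 0, 0, 1; 1, 0, 1],
  !![1, 0, 0; 1, 0, 1; 1, 1, 1],
  !![1, 1, 0; 0, 1, 1; 1, 0, 0],
  !![0, 1, 0; 1, 0, 0; 0, 0, 1],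
  !![0, 0, 1; 1, 0, 0; 0, 1, 0]
]

def par : Fin 168 → Fin 168 := ![0, 0, 0, 1, 2, 2, 3, 3, 4, 5, 6, 7, 8, 8, 9, 10, 10, 11, 12, 13, 14, 14, 15, 16, 17, 17, 18, 18, 19, 20, 21, 22, 22, 23, 24, 25, 26, 27, 28, 28, 29, 29, 30, 31, 32, 33, 33, 34, 34, 35, 36, 36, 37, 38, 39, 40, 41, 42, 42, 43, 44, 45, 46, 47, 48, 49, 51, 52, 52, 53, 53, 54, 55, 55, 56, 57, 59, 60, 60, 61, 61, 62, 63, 63, 64, 65, 66, 67, 68, 69, 71, 73, 74, 75, 75, 76, 77, 78, 79, 81, 83, 84, 85, 85, 86, 86, 87, 87, 88, 89, 89, 90, 91, 92, 93, 95, 95, 96, 96, 97, 98, 98, 99, 100,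 101, 102, 104, 105, 106, 108, 110, 111, 111, 112, 112, 113, 114, 114, 115, 116, 117, 119, 121, 122, 122, 123, 123, 124, 125, 125, 126, 126, 128, 128, 129, 130, 133, 134, 135, 137, 138, 141, 142, 146, 147, 149, 155, 162]

def gen : Fin 168 → Bool := ![false, true, false, false, true, false, true, false, false, true, false, true, true, false, false, true, false, false, false, true, true, false, false, true, true, false, true, false, false, false, true, true, false, false, false, true, false, true, true, false, true, false, false, false, true,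 true, false, true, false, false, true, false, false, false, true, false, true, true, false, false, false, false, true, false, true, true, true, true, false, true, false, false, true, false, false, false, true, true, false, true, false, false, true, false, false, false, false, false, true, false, true, true, false, true, false, false, false, true, false, true, true, false, true, false, true, false, true, false, false, true, false, false, false, true, false, true, false, true, false, false, true, false, false, false, true, false, false, true,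 false, true, true, true, false, true, false, false, true, false, false, true, false, true, true, true, false, true, false, false, true, false, true, false, true, false, false, false, false, true, true, true, false, false, false, true, true, true, true, true]

def idx : Fin 8 → Fin 8 → Fin 8 → Fin 168 := ![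
  ![
    ![0, 0, 0, 0, 0, 0, 0, 0],
    ![0, 0, 0, 0, 0, 0, 0, 0],
    ![0, 0, 0, 0, 0, 0, 0, 0],
    ![0, 0, 0, 0, 0, 0, 0, 0],
    ![0, 0, 0, 0, 0, 0, 0, 0],
    ![0, 0, 0, 0, 0, 0, 0, 0],
    ![0, 0, 0, 0, 0, 0, 0, 0],
    ![0, 0, 0, 0, 0, 0, 0, 0]
  ],
  ![
    ![0, 0, 0, 0, 0, 0, 0, 0],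
    ![0, 0, 0, 0, 0, 0, 0, 0],
    ![0, 0, 0, 0, 162, 90, 118, 44],
    ![0, 0, 0, 0, 92, 29, 25, 3],
    ![0, 0, 167, 113, 0, 0, 67, 153],
    ![0, 0, 71, 40, 0, 0, 89, 143],
    ![0, 0, 103, 35, 52, 109, 0, 0],
    ![0, 0, 32, 6, 138, 122, 0, 0]
  ],
  ![
    ![0, 0, 0, 0, 0, 0, 0, 0],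
    ![0, 0, 0, 0, 155, 107, 99, 37],
    ![0, 0, 0, 0, 0, 0, 0, 0],
    ![0, 0, 0, 0, 101, 21, 34, 2],
    ![0, 166, 0, 124, 0, 77, 0, 150],
    ![0, 94, 0, 30, 60, 0, 120, 0],
    ![0, 81, 0, 47, 0, 98, 0, 131],
    ![0, 27, 0, 4, 126, 0, 111, 0]
  ],
  ![
    ![0, 0, 0, 0, 0, 0, 0, 0],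
    ![0, 0, 0, 0, 69, 128, 115, 108],
    ![0, 0, 0, 0, 79, 104, 140, 119],
    ![0, 0, 0, 0, 0, 0, 0, 0],
    ![0, 53, 61, 0, 0, 7, 5, 0],
    ![0, 152, 86, 0, 11, 0, 0, 48],
    ![0, 95, 156, 0, 9, 0, 0, 41],
    ![0, 129, 141, 0, 0, 64, 56, 0]
  ],
  ![
    ![0, 0, 0, 0, 0, 0, 0, 0],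
    ![0, 0, 1, 96, 0, 0, 16, 85],
    ![0, 0, 0, 87, 0, 13, 0, 75],
    ![0, 117, 106, 0, 0, 133, 145, 0],
    ![0, 0, 0, 0, 0, 0, 0, 0],
    ![0, 0, 19, 112, 0, 0, 70, 164],
    ![0, 23, 0, 123, 0, 80, 0, 158],
    ![0, 102, 93, 0, 0, 147, 135, 0]
  ],
  ![
    ![0, 0, 0, 0, 0, 0, 0, 0],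
    ![0, 0, 17, 78, 0, 0, 22, 50],
    ![0, 24, 0, 130, 83, 0, 157, 0],
    ![0, 97, 110, 0, 159, 0, 0, 38],
    ![0, 0, 100, 137, 0, 0, 57, 127],
    ![0, 0, 0, 0, 0, 0, 0, 0],
    ![0, 31, 134, 0, 42, 0, 0, 55],
    ![0, 36, 0, 28, 105, 0, 72, 0]
  ],
  ![
    ![0, 0, 0, 0, 0, 0, 0, 0],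
    ![0, 0, 20, 142, 73, 163, 0, 0],
    ![0, 14, 0, 68, 0, 18, 0, 58],
    ![0, 121, 88, 0, 165, 0, 0, 45],
    ![0, 91, 0, 149, 0, 65, 0, 139],
    ![0, 146, 26, 0, 49, 0, 0, 63],
    ![0, 0, 0, 0, 0, 0, 0, 0],
    ![0, 0, 43, 33, 116, 82, 0, 0]
  ],
  ![
    ![0, 0, 0, 0, 0, 0, 0, 0],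
    ![0, 0, 74, 132, 54, 136, 0, 0],
    ![0, 84, 0, 144, 62, 0, 148, 0],
    ![0, 151, 160, 0, 0, 76, 66, 0],
    ![0, 39, 46, 0, 0, 10, 8, 0],
    ![0, 114, 0, 59, 15, 0, 161, 0],
    ![0, 0, 125, 51, 12, 154, 0, 0],
    ![0, 0, 0, 0, 0, 0, 0, 0]
  ]
]

def img : Fin 168 → M9 := ![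
  !![⟨1, 0⟩, ⟨0, 0⟩, ⟨0, 0⟩; ⟨0, 0⟩, ⟨1, 0⟩, ⟨0, 0⟩; ⟨0, 0⟩, ⟨0, 0⟩, ⟨1, 0⟩],
  !![⟨1, 0⟩, ⟨2, 1⟩, ⟨0, 2⟩; ⟨2, 2⟩, ⟨0, 0⟩, ⟨1, 2⟩; ⟨0, 1⟩, ⟨1, 1⟩, ⟨1, 0⟩],
  !![⟨2, 0⟩, ⟨1, 0⟩, ⟨1, 2⟩; ⟨2, 2⟩, ⟨2, 2⟩, ⟨0, 0⟩; ⟨2, 0⟩, ⟨1, 0⟩, ⟨2, 1⟩],
  !![⟨2, 0⟩, ⟨0, 2⟩, ⟨2, 2⟩; ⟨2, 1⟩, ⟨2, 0⟩, ⟨0, 1⟩; ⟨0, 1⟩, ⟨2, 2⟩, ⟨0, 1⟩],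
  !![⟨1, 1⟩, ⟨0, 2⟩, ⟨2, 0⟩; ⟨0, 2⟩, ⟨0, 1⟩, ⟨1, 2⟩; ⟨2, 0⟩, ⟨1, 2⟩, ⟨0, 2⟩],
  !![⟨2, 0⟩, ⟨2, 1⟩, ⟨2, 0⟩; ⟨1, 0⟩, ⟨2, 1⟩, ⟨1, 0⟩; ⟨1, 1⟩, ⟨0, 0⟩, ⟨2, 2⟩],
  !![⟨0, 1⟩, ⟨0, 2⟩, ⟨2, 1⟩; ⟨2, 2⟩, ⟨0, 1⟩, ⟨1, 0⟩; ⟨1, 0⟩, ⟨2, 1⟩, ⟨0, 1⟩],
  !![⟨1, 2⟩, ⟨0, 1⟩, ⟨2, 0⟩; ⟨0, 1⟩, ⟨0, 2⟩, ⟨1, 1⟩; ⟨2, 0⟩, ⟨1, 1⟩, ⟨0, 1⟩],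
  !![⟨1, 2⟩, ⟨0, 0⟩, ⟨1, 1⟩; ⟨2, 2⟩, ⟨0, 0⟩, ⟨2, 1⟩; ⟨0, 0⟩, ⟨0, 1⟩, ⟨0, 0⟩],
  !![⟨2, 0⟩, ⟨2, 2⟩, ⟨0, 2⟩; ⟨0, 1⟩, ⟨2, 0⟩, ⟨2, 1⟩; ⟨2, 1⟩, ⟨0, 2⟩, ⟨0, 2⟩],
  !![⟨0, 0⟩, ⟨0, 1⟩, ⟨0, 0⟩; ⟨1, 1⟩, ⟨0, 0⟩, ⟨1, 2⟩; ⟨1, 2⟩, ⟨0, 0⟩, ⟨1, 1⟩],
  !![⟨0, 2⟩, ⟨2, 1⟩, ⟨1, 0⟩; ⟨0, 1⟩, ⟨0, 2⟩, ⟨2, 2⟩; ⟨2, 2⟩, ⟨1, 0⟩, ⟨0, 2⟩],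
  !![⟨0, 2⟩, ⟨1, 0⟩, ⟨1, 2⟩; ⟨1, 0⟩, ⟨1, 1⟩, ⟨0, 1⟩; ⟨1, 2⟩, ⟨0, 1⟩, ⟨0, 1⟩],
  !![⟨1, 0⟩, ⟨1, 1⟩, ⟨1, 0⟩; ⟨1, 2⟩, ⟨0, 0⟩, ⟨2, 1⟩; ⟨1, 0⟩, ⟨2, 2⟩, ⟨1, 0⟩],
  !![⟨1, 0⟩, ⟨2, 0⟩, ⟨1, 1⟩; ⟨2, 0⟩, ⟨1, 0⟩, ⟨1, 1⟩; ⟨1, 2⟩, ⟨1, 2⟩, ⟨0, 0⟩],
  !![⟨0, 2⟩, ⟨0, 1⟩, ⟨1, 1⟩; ⟨0, 1⟩, ⟨1, 2⟩, ⟨2, 0⟩; ⟨1, 1⟩, ⟨2, 0⟩, ⟨0, 1⟩],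
  !![⟨1, 2⟩, ⟨0, 2⟩, ⟨0, 2⟩; ⟨0, 1⟩, ⟨1, 2⟩, ⟨1, 0⟩; ⟨1, 0⟩, ⟨0, 2⟩, ⟨2, 2⟩],
  !![⟨1, 2⟩, ⟨2, 0⟩, ⟨0, 1⟩; ⟨0, 0⟩, ⟨1, 1⟩, ⟨2, 1⟩; ⟨2, 2⟩, ⟨0, 2⟩, ⟨2, 0⟩],
  !![⟨1, 2⟩, ⟨1, 2⟩, ⟨0, 0⟩; ⟨1, 0⟩, ⟨2, 0⟩, ⟨2, 2⟩; ⟨1, 0⟩, ⟨2, 0⟩, ⟨1, 1⟩],
  !![⟨1, 1⟩, ⟨0, 2⟩, ⟨1, 0⟩; ⟨0, 1⟩, ⟨1, 1⟩, ⟨0, 1⟩; ⟨0, 1⟩, ⟨1, 0⟩, ⟨2, 1⟩],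
  !![⟨1, 1⟩, ⟨0, 0⟩, ⟨2, 1⟩; ⟨2, 0⟩, ⟨1, 2⟩, ⟨0, 1⟩; ⟨0, 2⟩, ⟨2, 2⟩, ⟨2, 0⟩],
  !![⟨1, 1⟩, ⟨2, 1⟩, ⟨0, 0⟩; ⟨0, 0⟩, ⟨0, 0⟩, ⟨0, 2⟩; ⟨1, 2⟩, ⟨2, 2⟩, ⟨0, 0⟩],
  !![⟨2, 2⟩, ⟨0, 2⟩, ⟨2, 0⟩; ⟨0, 0⟩, ⟨2, 2⟩, ⟨1, 2⟩; ⟨1, 2⟩, ⟨2, 0⟩, ⟨0, 1⟩],
  !![⟨0, 0⟩, ⟨2, 1⟩, ⟨1, 1⟩; ⟨2, 2⟩, ⟨1, 0⟩, ⟨0, 1⟩; ⟨1, 2⟩, ⟨0, 2⟩, ⟨1, 0⟩],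
  !![⟨0, 0⟩, ⟨2, 0⟩, ⟨0, 0⟩; ⟨2, 0⟩, ⟨0, 0⟩, ⟨0, 0⟩; ⟨0, 0⟩, ⟨0, 0⟩, ⟨2, 0⟩],
  !![⟨0, 1⟩, ⟨1, 0⟩, ⟨1, 1⟩; ⟨1, 0⟩, ⟨1, 2⟩, ⟨0, 2⟩; ⟨1, 1⟩, ⟨0, 2⟩, ⟨0, 2⟩],
  !![⟨0, 2⟩, ⟨2, 2⟩, ⟨0, 2⟩; ⟨2, 2⟩, ⟨0, 1⟩, ⟨2, 0⟩; ⟨0, 2⟩, ⟨2, 0⟩, ⟨1, 2⟩],
  !![⟨1, 0⟩, ⟨0, 2⟩, ⟨1, 2⟩; ⟨0, 2⟩, ⟨2, 1⟩, ⟨0, 2⟩; ⟨2, 2⟩, ⟨2, 0⟩, ⟨0, 2⟩],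
  !![⟨0, 1⟩, ⟨2, 1⟩, ⟨2, 0⟩; ⟨1, 0⟩, ⟨2, 2⟩, ⟨0, 1⟩; ⟨1, 2⟩, ⟨0, 0⟩, ⟨2, 2⟩],
  !![⟨0, 1⟩, ⟨2, 2⟩, ⟨0, 1⟩; ⟨1, 2⟩, ⟨1, 0⟩, ⟨0, 2⟩; ⟨2, 0⟩, ⟨0, 2⟩, ⟨2, 2⟩],
  !![⟨0, 0⟩, ⟨1, 2⟩, ⟨1, 1⟩; ⟨0, 2⟩, ⟨0, 0⟩, ⟨0, 0⟩; ⟨0, 0⟩, ⟨1, 1⟩, ⟨1, 2⟩],
  !![⟨1, 1⟩, ⟨2, 0⟩, ⟨0, 2⟩; ⟨0, 0⟩, ⟨1, 2⟩, ⟨2, 2⟩; ⟨2, 1⟩, ⟨0, 1⟩, ⟨2, 0⟩],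
  !![⟨1, 2⟩, ⟨1, 1⟩, ⟨0, 0⟩; ⟨0, 2⟩, ⟨2, 0⟩, ⟨2, 1⟩; ⟨1, 0⟩, ⟨0, 2⟩, ⟨1, 1⟩],
  !![⟨2, 0⟩, ⟨1, 1⟩, ⟨0, 2⟩; ⟨0, 2⟩, ⟨1, 2⟩, ⟨1, 0⟩; ⟨2, 1⟩, ⟨0, 0⟩, ⟨1, 1⟩],
  !![⟨2, 0⟩, ⟨1, 0⟩, ⟨2, 1⟩; ⟨1, 1⟩, ⟨1, 1⟩, ⟨0, 0⟩; ⟨2, 0⟩, ⟨1, 0⟩, ⟨1, 2⟩],
  !![⟨0, 1⟩, ⟨0, 2⟩, ⟨1, 2⟩; ⟨0, 2⟩, ⟨1, 1⟩, ⟨2, 0⟩; ⟨1, 2⟩, ⟨2, 0⟩, ⟨0, 2⟩],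
  !![⟨1, 2⟩, ⟨0, 0⟩, ⟨2, 2⟩; ⟨2, 0⟩, ⟨1, 1⟩, ⟨0, 2⟩; ⟨0, 1⟩, ⟨2, 1⟩, ⟨2, 0⟩],
  !![⟨1, 2⟩, ⟨0, 1⟩, ⟨1, 0⟩; ⟨0, 2⟩, ⟨1, 2⟩, ⟨0, 2⟩; ⟨0, 2⟩, ⟨1, 0⟩, ⟨2, 2⟩],
  !![⟨1, 1⟩, ⟨1, 1⟩, ⟨0, 0⟩; ⟨1, 0⟩, ⟨2, 0⟩, ⟨2, 1⟩; ⟨1, 0⟩, ⟨2, 0⟩, ⟨1, 2⟩],
  !![⟨1, 0⟩, ⟨0, 1⟩, ⟨2, 1⟩; ⟨0, 1⟩, ⟨2, 2⟩, ⟨2, 0⟩; ⟨1, 1⟩, ⟨0, 1⟩, ⟨0, 1⟩],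
  !![⟨0, 1⟩, ⟨0, 0⟩, ⟨0, 0⟩; ⟨0, 0⟩, ⟨2, 1⟩, ⟨2, 2⟩; ⟨0, 0⟩, ⟨2, 2⟩, ⟨2, 1⟩],
  !![⟨0, 2⟩, ⟨1, 0⟩, ⟨1, 1⟩; ⟨2, 2⟩, ⟨2, 1⟩, ⟨0, 0⟩; ⟨2, 0⟩, ⟨0, 2⟩, ⟨2, 1⟩],
  !![⟨0, 2⟩, ⟨1, 1⟩, ⟨2, 0⟩; ⟨2, 1⟩, ⟨1, 0⟩, ⟨0, 1⟩; ⟨0, 2⟩, ⟨0, 1⟩, ⟨2, 1⟩],
  !![⟨2, 1⟩, ⟨0, 0⟩, ⟨1, 1⟩; ⟨0, 1⟩, ⟨2, 1⟩, ⟨2, 0⟩; ⟨2, 0⟩, ⟨1, 1⟩, ⟨0, 2⟩],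
  !![⟨2, 2⟩, ⟨1, 0⟩, ⟨1, 0⟩; ⟨2, 2⟩, ⟨2, 0⟩, ⟨2, 0⟩; ⟨0, 0⟩, ⟨1, 2⟩, ⟨2, 1⟩],
  !![⟨1, 2⟩, ⟨1, 0⟩, ⟨0, 2⟩; ⟨1, 0⟩, ⟨0, 1⟩, ⟨1, 1⟩; ⟨0, 2⟩, ⟨1, 1⟩, ⟨0, 2⟩],
  !![⟨1, 1⟩, ⟨0, 1⟩, ⟨0, 1⟩; ⟨0, 2⟩, ⟨1, 1⟩, ⟨1, 0⟩; ⟨1, 0⟩, ⟨0, 1⟩, ⟨2, 1⟩],
  !![⟨0, 1⟩, ⟨2, 2⟩, ⟨1, 0⟩; ⟨0, 2⟩, ⟨0, 1⟩, ⟨2, 1⟩; ⟨2, 1⟩, ⟨1, 0⟩, ⟨0, 1⟩],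
  !![⟨1, 2⟩, ⟨1, 0⟩, ⟨1, 0⟩; ⟨1, 2⟩, ⟨2, 0⟩, ⟨2, 0⟩; ⟨0, 0⟩, ⟨2, 2⟩, ⟨1, 1⟩],
  !![⟨0, 2⟩, ⟨0, 0⟩, ⟨0, 0⟩; ⟨0, 0⟩, ⟨2, 2⟩, ⟨2, 1⟩; ⟨0, 0⟩, ⟨2, 1⟩, ⟨2, 2⟩],
  !![⟨0, 1⟩, ⟨2, 1⟩, ⟨0, 1⟩; ⟨2, 1⟩, ⟨0, 2⟩, ⟨2, 0⟩; ⟨0, 1⟩, ⟨2, 0⟩, ⟨1, 1⟩],
  !![⟨2, 2⟩, ⟨1, 0⟩, ⟨0, 1⟩; ⟨2, 1⟩, ⟨0, 1⟩, ⟨2, 0⟩; ⟨0, 0⟩, ⟨1, 2⟩, ⟨2, 2⟩],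
  !![⟨1, 2⟩, ⟨2, 0⟩, ⟨0, 2⟩; ⟨0, 1⟩, ⟨2, 2⟩, ⟨1, 0⟩; ⟨0, 1⟩, ⟨0, 2⟩, ⟨1, 2⟩],
  !![⟨1, 1⟩, ⟨0, 0⟩, ⟨2, 2⟩; ⟨2, 0⟩, ⟨1, 2⟩, ⟨2, 0⟩; ⟨2, 0⟩, ⟨2, 1⟩, ⟨2, 0⟩],
  !![⟨1, 1⟩, ⟨0, 1⟩, ⟨1, 0⟩; ⟨1, 2⟩, ⟨2, 0⟩, ⟨0, 1⟩; ⟨0, 0⟩, ⟨2, 2⟩, ⟨1, 2⟩],
  !![⟨0, 2⟩, ⟨0, 1⟩, ⟨2, 1⟩; ⟨1, 2⟩, ⟨2, 0⟩, ⟨0, 2⟩; ⟨0, 2⟩, ⟨1, 1⟩, ⟨2, 0⟩],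
  !![⟨2, 0⟩, ⟨0, 1⟩, ⟨2, 2⟩; ⟨1, 2⟩, ⟨1, 1⟩, ⟨0, 0⟩; ⟨0, 1⟩, ⟨1, 0⟩, ⟨1, 2⟩],
  !![⟨2, 0⟩, ⟨1, 2⟩, ⟨2, 0⟩; ⟨1, 0⟩, ⟨1, 2⟩, ⟨1, 0⟩; ⟨2, 2⟩, ⟨0, 0⟩, ⟨1, 1⟩],
  !![⟨1, 1⟩, ⟨1, 0⟩, ⟨1, 0⟩; ⟨1, 1⟩, ⟨2, 0⟩, ⟨2, 0⟩; ⟨0, 0⟩, ⟨2, 1⟩, ⟨1, 2⟩],
  !![⟨0, 1⟩, ⟨1, 1⟩, ⟨0, 1⟩; ⟨0, 2⟩, ⟨2, 0⟩, ⟨1, 2⟩; ⟨2, 2⟩, ⟨0, 1⟩, ⟨2, 0⟩],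
  !![⟨0, 0⟩, ⟨1, 1⟩, ⟨1, 2⟩; ⟨0, 1⟩, ⟨0, 0⟩, ⟨0, 0⟩; ⟨0, 0⟩, ⟨1, 2⟩, ⟨1, 1⟩],
  !![⟨2, 0⟩, ⟨1, 1⟩, ⟨0, 1⟩; ⟨0, 2⟩, ⟨0, 1⟩, ⟨2, 2⟩; ⟨1, 2⟩, ⟨0, 1⟩, ⟨2, 0⟩],
  !![⟨2, 1⟩, ⟨2, 1⟩, ⟨0, 0⟩; ⟨1, 0⟩, ⟨2, 0⟩, ⟨1, 1⟩; ⟨1, 0⟩, ⟨2, 0⟩, ⟨2, 2⟩],
  !![⟨0, 0⟩, ⟨2, 1⟩, ⟨2, 2⟩; ⟨0, 0⟩, ⟨1, 1⟩, ⟨1, 2⟩; ⟨0, 2⟩, ⟨0, 0⟩, ⟨0, 0⟩],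
  !![⟨1, 1⟩, ⟨1, 0⟩, ⟨0, 1⟩; ⟨1, 0⟩, ⟨0, 2⟩, ⟨1, 2⟩; ⟨0, 1⟩, ⟨1, 2⟩, ⟨0, 1⟩],
  !![⟨0, 2⟩, ⟨0, 1⟩, ⟨2, 2⟩; ⟨2, 1⟩, ⟨0, 2⟩, ⟨1, 0⟩; ⟨1, 0⟩, ⟨2, 2⟩, ⟨0, 2⟩],
  !![⟨2, 0⟩, ⟨2, 1⟩, ⟨0, 1⟩; ⟨0, 2⟩, ⟨2, 0⟩, ⟨2, 2⟩; ⟨2, 2⟩, ⟨0, 1⟩, ⟨0, 1⟩],
  !![⟨1, 1⟩, ⟨0, 0⟩, ⟨1, 2⟩; ⟨2, 1⟩, ⟨0, 0⟩, ⟨2, 2⟩; ⟨0, 0⟩, ⟨0, 2⟩, ⟨0, 0⟩],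
  !![⟨0, 0⟩, ⟨2, 1⟩, ⟨1, 2⟩; ⟨2, 2⟩, ⟨1, 0⟩, ⟨1, 0⟩; ⟨1, 1⟩, ⟨1, 0⟩, ⟨1, 0⟩],
  !![⟨2, 1⟩, ⟨1, 0⟩, ⟨0, 2⟩; ⟨2, 2⟩, ⟨0, 2⟩, ⟨2, 0⟩; ⟨0, 0⟩, ⟨1, 1⟩, ⟨2, 1⟩],
  !![⟨0, 0⟩, ⟨1, 1⟩, ⟨2, 2⟩; ⟨1, 2⟩, ⟨1, 0⟩, ⟨1, 0⟩; ⟨2, 1⟩, ⟨1, 0⟩, ⟨1, 0⟩],
  !![⟨0, 1⟩, ⟨0, 2⟩, ⟨2, 2⟩; ⟨1, 1⟩, ⟨2, 0⟩, ⟨0, 1⟩; ⟨0, 1⟩, ⟨1, 2⟩, ⟨2, 0⟩],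
  !![⟨2, 1⟩, ⟨2, 2⟩, ⟨0, 0⟩; ⟨1, 0⟩, ⟨0, 2⟩, ⟨1, 1⟩; ⟨0, 2⟩, ⟨2, 0⟩, ⟨2, 1⟩],
  !![⟨0, 2⟩, ⟨1, 2⟩, ⟨0, 2⟩; ⟨0, 1⟩, ⟨2, 0⟩, ⟨1, 1⟩; ⟨2, 1⟩, ⟨0, 2⟩, ⟨2, 0⟩],
  !![⟨0, 0⟩, ⟨2, 2⟩, ⟨1, 2⟩; ⟨2, 1⟩, ⟨1, 0⟩, ⟨0, 2⟩; ⟨1, 1⟩, ⟨0, 1⟩, ⟨1, 0⟩],
  !![⟨0, 0⟩, ⟨0, 0⟩, ⟨1, 0⟩; ⟨0, 0⟩, ⟨2, 0⟩, ⟨0, 0⟩; ⟨1, 0⟩, ⟨0, 0⟩, ⟨0, 0⟩],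
  !![⟨0, 0⟩, ⟨0, 0⟩, ⟨0, 1⟩; ⟨2, 2⟩, ⟨1, 2⟩, ⟨0, 0⟩; ⟨2, 1⟩, ⟨1, 1⟩, ⟨0, 0⟩],
  !![⟨2, 2⟩, ⟨0, 0⟩, ⟨2, 1⟩; ⟨0, 0⟩, ⟨0, 2⟩, ⟨0, 0⟩; ⟨2, 1⟩, ⟨0, 0⟩, ⟨2, 2⟩],
  !![⟨0, 1⟩, ⟨2, 0⟩, ⟨1, 1⟩; ⟨1, 2⟩, ⟨0, 1⟩, ⟨1, 0⟩; ⟨0, 1⟩, ⟨2, 1⟩, ⟨0, 1⟩],
  !![⟨2, 0⟩, ⟨1, 0⟩, ⟨2, 2⟩; ⟨1, 2⟩, ⟨1, 2⟩, ⟨0, 0⟩; ⟨2, 0⟩, ⟨1, 0⟩, ⟨1, 1⟩],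
  !![⟨1, 0⟩, ⟨0, 1⟩, ⟨1, 2⟩; ⟨0, 2⟩, ⟨1, 0⟩, ⟨1, 1⟩; ⟨1, 1⟩, ⟨1, 2⟩, ⟨0, 0⟩],
  !![⟨0, 1⟩, ⟨2, 0⟩, ⟨2, 1⟩; ⟨1, 2⟩, ⟨0, 1⟩, ⟨0, 1⟩; ⟨1, 0⟩, ⟨1, 1⟩, ⟨0, 1⟩],
  !![⟨2, 0⟩, ⟨0, 1⟩, ⟨2, 1⟩; ⟨2, 2⟩, ⟨2, 0⟩, ⟨0, 2⟩; ⟨0, 2⟩, ⟨2, 1⟩, ⟨0, 2⟩],
  !![⟨2, 2⟩, ⟨2, 0⟩, ⟨2, 0⟩; ⟨0, 0⟩, ⟨2, 1⟩, ⟨1, 2⟩; ⟨1, 1⟩, ⟨2, 0⟩, ⟨2, 0⟩],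
  !![⟨1, 0⟩, ⟨2, 0⟩, ⟨2, 2⟩; ⟨2, 0⟩, ⟨1, 0⟩, ⟨2, 2⟩; ⟨2, 1⟩, ⟨2, 1⟩, ⟨0, 0⟩],
  !![⟨0, 1⟩, ⟨1, 1⟩, ⟨1, 0⟩; ⟨1, 1⟩, ⟨0, 0⟩, ⟨2, 1⟩; ⟨1, 0⟩, ⟨2, 1⟩, ⟨0, 2⟩],
  !![⟨2, 2⟩, ⟨1, 0⟩, ⟨0, 2⟩; ⟨0, 2⟩, ⟨0, 1⟩, ⟨1, 1⟩; ⟨0, 2⟩, ⟨2, 1⟩, ⟨1, 0⟩],
  !![⟨1, 0⟩, ⟨2, 2⟩, ⟨1, 0⟩; ⟨2, 1⟩, ⟨0, 0⟩, ⟨1, 2⟩; ⟨1, 0⟩, ⟨1, 1⟩, ⟨1, 0⟩],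
  !![⟨0, 2⟩, ⟨1, 1⟩, ⟨0, 2⟩; ⟨2, 0⟩, ⟨0, 2⟩, ⟨2, 2⟩; ⟨1, 2⟩, ⟨1, 0⟩, ⟨0, 2⟩],
  !![⟨0, 1⟩, ⟨1, 2⟩, ⟨2, 0⟩; ⟨2, 2⟩, ⟨1, 0⟩, ⟨0, 2⟩; ⟨0, 1⟩, ⟨0, 2⟩, ⟨2, 2⟩],
  !![⟨2, 1⟩, ⟨0, 0⟩, ⟨1, 2⟩; ⟨2, 0⟩, ⟨2, 2⟩, ⟨2, 0⟩; ⟨2, 0⟩, ⟨1, 1⟩, ⟨2, 0⟩],
  !![⟨0, 2⟩, ⟨1, 1⟩, ⟨1, 0⟩; ⟨2, 0⟩, ⟨0, 2⟩, ⟨1, 2⟩; ⟨2, 2⟩, ⟨0, 2⟩, ⟨0, 2⟩],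
  !![⟨1, 1⟩, ⟨0, 2⟩, ⟨0, 2⟩; ⟨2, 0⟩, ⟨2, 1⟩, ⟨0, 1⟩; ⟨0, 1⟩, ⟨1, 0⟩, ⟨1, 1⟩],
  !![⟨0, 2⟩, ⟨1, 2⟩, ⟨1, 0⟩; ⟨1, 2⟩, ⟨0, 0⟩, ⟨2, 2⟩; ⟨1, 0⟩, ⟨2, 2⟩, ⟨0, 1⟩],
  !![⟨1, 2⟩, ⟨2, 0⟩, ⟨2, 0⟩; ⟨0, 0⟩, ⟨1, 1⟩, ⟨2, 2⟩; ⟨2, 1⟩, ⟨2, 0⟩, ⟨2, 0⟩],
  !![⟨2, 1⟩, ⟨0, 2⟩, ⟨0, 2⟩; ⟨0, 2⟩, ⟨1, 0⟩, ⟨1, 2⟩; ⟨2, 0⟩, ⟨2, 2⟩, ⟨0, 2⟩],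
  !![⟨1, 0⟩, ⟨0, 2⟩, ⟨2, 2⟩; ⟨0, 2⟩, ⟨2, 1⟩, ⟨2, 0⟩; ⟨1, 2⟩, ⟨0, 2⟩, ⟨0, 2⟩],
  !![⟨1, 0⟩, ⟨2, 0⟩, ⟨1, 2⟩; ⟨2, 0⟩, ⟨1, 0⟩, ⟨1, 2⟩; ⟨1, 1⟩, ⟨1, 1⟩, ⟨0, 0⟩],
  !![⟨1, 0⟩, ⟨1, 1⟩, ⟨0, 1⟩; ⟨2, 1⟩, ⟨0, 2⟩, ⟨0, 2⟩; ⟨0, 1⟩, ⟨2, 0⟩, ⟨2, 1⟩],
  !![⟨0, 2⟩, ⟨2, 1⟩, ⟨2, 0⟩; ⟨2, 1⟩, ⟨0, 1⟩, ⟨0, 1⟩; ⟨2, 0⟩, ⟨0, 1⟩, ⟨1, 1⟩],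
  !![⟨0, 1⟩, ⟨2, 2⟩, ⟨2, 0⟩; ⟨2, 2⟩, ⟨0, 2⟩, ⟨0, 2⟩; ⟨2, 0⟩, ⟨0, 2⟩, ⟨1, 2⟩],
  !![⟨1, 2⟩, ⟨2, 2⟩, ⟨0, 0⟩; ⟨0, 0⟩, ⟨0, 0⟩, ⟨0, 1⟩; ⟨1, 1⟩, ⟨2, 1⟩, ⟨0, 0⟩],
  !![⟨1, 0⟩, ⟨2, 2⟩, ⟨0, 1⟩; ⟨2, 1⟩, ⟨0, 0⟩, ⟨1, 1⟩; ⟨0, 2⟩, ⟨1, 2⟩, ⟨1, 0⟩],
  !![⟨2, 2⟩, ⟨2, 1⟩, ⟨0, 0⟩; ⟨1, 0⟩, ⟨0, 1⟩, ⟨1, 2⟩; ⟨0, 1⟩, ⟨2, 0⟩, ⟨2, 2⟩],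
  !![⟨2, 0⟩, ⟨1, 0⟩, ⟨1, 1⟩; ⟨2, 1⟩, ⟨2, 1⟩, ⟨0, 0⟩; ⟨2, 0⟩, ⟨1, 0⟩, ⟨2, 2⟩],
  !![⟨0, 2⟩, ⟨2, 0⟩, ⟨2, 1⟩; ⟨2, 0⟩, ⟨0, 1⟩, ⟨2, 2⟩; ⟨2, 1⟩, ⟨2, 2⟩, ⟨0, 0⟩],
  !![⟨1, 0⟩, ⟨0, 1⟩, ⟨1, 1⟩; ⟨0, 1⟩, ⟨2, 2⟩, ⟨0, 1⟩; ⟨2, 1⟩, ⟨2, 0⟩, ⟨0, 1⟩],
  !![⟨2, 0⟩, ⟨0, 1⟩, ⟨1, 1⟩; ⟨1, 2⟩, ⟨0, 2⟩, ⟨0, 2⟩; ⟨0, 2⟩, ⟨2, 1⟩, ⟨2, 0⟩],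
  !![⟨2, 2⟩, ⟨0, 0⟩, ⟨1, 2⟩; ⟨0, 2⟩, ⟨2, 2⟩, ⟨2, 0⟩; ⟨2, 0⟩, ⟨1, 2⟩, ⟨0, 1⟩],
  !![⟨0, 1⟩, ⟨2, 0⟩, ⟨2, 2⟩; ⟨2, 0⟩, ⟨0, 2⟩, ⟨2, 1⟩; ⟨2, 2⟩, ⟨2, 1⟩, ⟨0, 0⟩],
  !![⟨0, 2⟩, ⟨2, 0⟩, ⟨2, 2⟩; ⟨1, 1⟩, ⟨0, 2⟩, ⟨0, 2⟩; ⟨1, 0⟩, ⟨1, 2⟩, ⟨0, 2⟩],
  !![⟨2, 0⟩, ⟨1, 2⟩, ⟨0, 2⟩; ⟨0, 1⟩, ⟨0, 2⟩, ⟨2, 1⟩; ⟨1, 1⟩, ⟨0, 2⟩, ⟨2, 0⟩],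
  !![⟨0, 1⟩, ⟨1, 0⟩, ⟨2, 1⟩; ⟨0, 2⟩, ⟨2, 2⟩, ⟨0, 2⟩; ⟨1, 1⟩, ⟨0, 2⟩, ⟨1, 0⟩],
  !![⟨0, 0⟩, ⟨0, 2⟩, ⟨0, 0⟩; ⟨1, 2⟩, ⟨0, 0⟩, ⟨1, 1⟩; ⟨1, 1⟩, ⟨0, 0⟩, ⟨1, 2⟩],
  !![⟨2, 2⟩, ⟨0, 1⟩, ⟨2, 0⟩; ⟨0, 1⟩, ⟨1, 0⟩, ⟨2, 1⟩; ⟨0, 1⟩, ⟨1, 1⟩, ⟨0, 1⟩],
  !![⟨0, 0⟩, ⟨1, 1⟩, ⟨2, 1⟩; ⟨1, 1⟩, ⟨0, 1⟩, ⟨1, 0⟩; ⟨2, 1⟩, ⟨1, 0⟩, ⟨0, 2⟩],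
  !![⟨0, 2⟩, ⟨2, 1⟩, ⟨0, 2⟩; ⟨1, 1⟩, ⟨1, 0⟩, ⟨0, 1⟩; ⟨2, 0⟩, ⟨0, 1⟩, ⟨2, 1⟩],
  !![⟨1, 0⟩, ⟨2, 0⟩, ⟨2, 1⟩; ⟨2, 0⟩, ⟨1, 0⟩, ⟨2, 1⟩; ⟨2, 2⟩, ⟨2, 2⟩, ⟨0, 0⟩],
  !![⟨2, 0⟩, ⟨1, 1⟩, ⟨2, 0⟩; ⟨1, 0⟩, ⟨1, 1⟩, ⟨1, 0⟩; ⟨2, 1⟩, ⟨0, 0⟩, ⟨1, 2⟩],
  !![⟨0, 0⟩, ⟨1, 0⟩, ⟨0, 0⟩; ⟨0, 0⟩, ⟨0, 0⟩, ⟨2, 0⟩; ⟨2, 0⟩, ⟨0, 0⟩, ⟨0, 0⟩],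
  !![⟨2, 1⟩, ⟨2, 0⟩, ⟨2, 0⟩; ⟨0, 0⟩, ⟨2, 2⟩, ⟨1, 1⟩; ⟨1, 2⟩, ⟨2, 0⟩, ⟨2, 0⟩],
  !![⟨2, 2⟩, ⟨1, 2⟩, ⟨0, 0⟩; ⟨1, 2⟩, ⟨2, 2⟩, ⟨0, 0⟩; ⟨0, 0⟩, ⟨0, 0⟩, ⟨0, 2⟩],
  !![⟨1, 0⟩, ⟨2, 1⟩, ⟨0, 1⟩; ⟨1, 1⟩, ⟨0, 2⟩, ⟨2, 0⟩; ⟨0, 1⟩, ⟨0, 2⟩, ⟨2, 1⟩],
  !![⟨1, 2⟩, ⟨0, 2⟩, ⟨1, 0⟩; ⟨1, 1⟩, ⟨2, 0⟩, ⟨0, 2⟩; ⟨0, 0⟩, ⟨2, 1⟩, ⟨1, 1⟩],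
  !![⟨2, 1⟩, ⟨0, 0⟩, ⟨2, 2⟩; ⟨0, 0⟩, ⟨0, 1⟩, ⟨0, 0⟩; ⟨2, 2⟩, ⟨0, 0⟩, ⟨2, 1⟩],
  !![⟨0, 0⟩, ⟨1, 2⟩, ⟨2, 2⟩; ⟨1, 2⟩, ⟨0, 2⟩, ⟨1, 0⟩; ⟨2, 2⟩, ⟨1, 0⟩, ⟨0, 1⟩],
  !![⟨2, 2⟩, ⟨2, 0⟩, ⟨0, 2⟩; ⟨0, 1⟩, ⟨1, 2⟩, ⟨0, 1⟩; ⟨1, 0⟩, ⟨0, 2⟩, ⟨1, 2⟩],
  !![⟨2, 2⟩, ⟨0, 0⟩, ⟨1, 1⟩; ⟨2, 0⟩, ⟨2, 1⟩, ⟨2, 0⟩; ⟨2, 0⟩, ⟨1, 2⟩, ⟨2, 0⟩],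
  !![⟨2, 0⟩, ⟨1, 2⟩, ⟨0, 1⟩; ⟨0, 1⟩, ⟨1, 1⟩, ⟨1, 0⟩; ⟨2, 2⟩, ⟨0, 0⟩, ⟨1, 2⟩],
  !![⟨0, 1⟩, ⟨1, 2⟩, ⟨0, 1⟩; ⟨2, 0⟩, ⟨0, 1⟩, ⟨2, 1⟩; ⟨1, 1⟩, ⟨1, 0⟩, ⟨0, 1⟩],
  !![⟨1, 1⟩, ⟨2, 0⟩, ⟨2, 0⟩; ⟨0, 0⟩, ⟨1, 2⟩, ⟨2, 1⟩; ⟨2, 2⟩, ⟨2, 0⟩, ⟨2, 0⟩],
  !![⟨2, 1⟩, ⟨1, 0⟩, ⟨0, 1⟩; ⟨0, 1⟩, ⟨0, 2⟩, ⟨1, 2⟩; ⟨0, 1⟩, ⟨2, 2⟩, ⟨1, 0⟩],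
  !![⟨0, 1⟩, ⟨1, 2⟩, ⟨1, 0⟩; ⟨2, 0⟩, ⟨0, 1⟩, ⟨1, 1⟩; ⟨2, 1⟩, ⟨0, 1⟩, ⟨0, 1⟩],
  !![⟨2, 1⟩, ⟨2, 0⟩, ⟨0, 1⟩; ⟨0, 2⟩, ⟨1, 1⟩, ⟨0, 2⟩; ⟨1, 0⟩, ⟨0, 1⟩, ⟨1, 1⟩],
  !![⟨2, 1⟩, ⟨0, 1⟩, ⟨2, 0⟩; ⟨0, 0⟩, ⟨2, 1⟩, ⟨1, 1⟩; ⟨1, 1⟩, ⟨2, 0⟩, ⟨0, 2⟩],
  !![⟨0, 2⟩, ⟨0, 1⟩, ⟨1, 2⟩; ⟨1, 0⟩, ⟨2, 1⟩, ⟨0, 1⟩; ⟨2, 2⟩, ⟨0, 1⟩, ⟨1, 0⟩],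
  !![⟨2, 1⟩, ⟨0, 1⟩, ⟨0, 1⟩; ⟨1, 0⟩, ⟨0, 2⟩, ⟨2, 2⟩; ⟨0, 1⟩, ⟨1, 2⟩, ⟨1, 0⟩],
  !![⟨2, 0⟩, ⟨0, 2⟩, ⟨1, 2⟩; ⟨1, 1⟩, ⟨0, 1⟩, ⟨0, 1⟩; ⟨0, 1⟩, ⟨2, 2⟩, ⟨2, 0⟩],
  !![⟨1, 0⟩, ⟨0, 2⟩, ⟨1, 1⟩; ⟨0, 1⟩, ⟨1, 0⟩, ⟨1, 2⟩; ⟨1, 2⟩, ⟨1, 1⟩, ⟨0, 0⟩],
  !![⟨1, 0⟩, ⟨2, 2⟩, ⟨0, 2⟩; ⟨1, 2⟩, ⟨0, 1⟩, ⟨2, 0⟩; ⟨0, 2⟩, ⟨0, 1⟩, ⟨2, 2⟩],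
  !![⟨2, 0⟩, ⟨0, 0⟩, ⟨0, 0⟩; ⟨0, 0⟩, ⟨0, 0⟩, ⟨1, 0⟩; ⟨0, 0⟩, ⟨1, 0⟩, ⟨0, 0⟩],
  !![⟨0, 1⟩, ⟨1, 0⟩, ⟨1, 2⟩; ⟨2, 1⟩, ⟨2, 2⟩, ⟨0, 0⟩; ⟨2, 0⟩, ⟨0, 1⟩, ⟨2, 2⟩],
  !![⟨2, 1⟩, ⟨0, 2⟩, ⟨2, 0⟩; ⟨0, 2⟩, ⟨1, 0⟩, ⟨2, 2⟩; ⟨0, 2⟩, ⟨1, 2⟩, ⟨0, 2⟩],
  !![⟨0, 0⟩, ⟨2, 2⟩, ⟨2, 1⟩; ⟨0, 0⟩, ⟨1, 2⟩, ⟨1, 1⟩; ⟨0, 1⟩, ⟨0, 0⟩, ⟨0, 0⟩],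
  !![⟨1, 2⟩, ⟨0, 0⟩, ⟨2, 1⟩; ⟨2, 0⟩, ⟨1, 1⟩, ⟨2, 0⟩; ⟨2, 0⟩, ⟨2, 2⟩, ⟨2, 0⟩],
  !![⟨2, 2⟩, ⟨2, 2⟩, ⟨0, 0⟩; ⟨1, 0⟩, ⟨2, 0⟩, ⟨1, 2⟩; ⟨1, 0⟩, ⟨2, 0⟩, ⟨2, 1⟩],
  !![⟨0, 2⟩, ⟨2, 0⟩, ⟨1, 2⟩; ⟨1, 1⟩, ⟨0, 2⟩, ⟨1, 0⟩; ⟨0, 2⟩, ⟨2, 2⟩, ⟨0, 2⟩],
  !![⟨2, 2⟩, ⟨0, 1⟩, ⟨1, 0⟩; ⟨2, 0⟩, ⟨1, 2⟩, ⟨0, 2⟩; ⟨0, 2⟩, ⟨0, 1⟩, ⟨1, 2⟩],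
  !![⟨2, 0⟩, ⟨2, 2⟩, ⟨2, 0⟩; ⟨1, 0⟩, ⟨2, 2⟩, ⟨1, 0⟩; ⟨1, 2⟩, ⟨0, 0⟩, ⟨2, 1⟩],
  !![⟨2, 2⟩, ⟨0, 2⟩, ⟨0, 2⟩; ⟨1, 0⟩, ⟨0, 1⟩, ⟨2, 1⟩; ⟨0, 2⟩, ⟨1, 1⟩, ⟨1, 0⟩],
  !![⟨1, 0⟩, ⟨1, 2⟩, ⟨1, 0⟩; ⟨1, 1⟩, ⟨0, 0⟩, ⟨2, 2⟩; ⟨1, 0⟩, ⟨2, 1⟩, ⟨1, 0⟩],
  !![⟨2, 1⟩, ⟨1, 1⟩, ⟨0, 0⟩; ⟨1, 1⟩, ⟨2, 1⟩, ⟨0, 0⟩; ⟨0, 0⟩, ⟨0, 0⟩, ⟨0, 1⟩],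
  !![⟨0, 0⟩, ⟨2, 2⟩, ⟨1, 1⟩; ⟨2, 1⟩, ⟨1, 0⟩, ⟨1, 0⟩; ⟨1, 2⟩, ⟨1, 0⟩, ⟨1, 0⟩],
  !![⟨2, 1⟩, ⟨0, 2⟩, ⟨1, 0⟩; ⟨2, 0⟩, ⟨1, 1⟩, ⟨0, 1⟩; ⟨0, 1⟩, ⟨0, 2⟩, ⟨1, 1⟩],
  !![⟨1, 2⟩, ⟨0, 1⟩, ⟨0, 1⟩; ⟨2, 0⟩, ⟨2, 2⟩, ⟨0, 2⟩; ⟨0, 2⟩, ⟨1, 0⟩, ⟨1, 2⟩],
  !![⟨0, 2⟩, ⟨1, 0⟩, ⟨2, 2⟩; ⟨0, 1⟩, ⟨2, 1⟩, ⟨0, 1⟩; ⟨1, 2⟩, ⟨0, 1⟩, ⟨1, 0⟩],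
  !![⟨2, 0⟩, ⟨0, 2⟩, ⟨2, 1⟩; ⟨1, 1⟩, ⟨1, 2⟩, ⟨0, 0⟩; ⟨0, 2⟩, ⟨1, 0⟩, ⟨1, 1⟩],
  !![⟨0, 0⟩, ⟨0, 0⟩, ⟨2, 0⟩; ⟨1, 0⟩, ⟨0, 0⟩, ⟨0, 0⟩; ⟨0, 0⟩, ⟨2, 0⟩, ⟨0, 0⟩],
  !![⟨1, 1⟩, ⟨1, 2⟩, ⟨0, 0⟩; ⟨0, 1⟩, ⟨2, 0⟩, ⟨2, 2⟩; ⟨1, 0⟩, ⟨0, 1⟩, ⟨1, 2⟩],
  !![⟨1, 0⟩, ⟨1, 2⟩, ⟨0, 2⟩; ⟨2, 2⟩, ⟨0, 1⟩, ⟨0, 1⟩; ⟨0, 2⟩, ⟨2, 0⟩, ⟨2, 2⟩],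
  !![⟨2, 2⟩, ⟨0, 1⟩, ⟨0, 1⟩; ⟨0, 1⟩, ⟨1, 0⟩, ⟨1, 1⟩; ⟨2, 0⟩, ⟨2, 1⟩, ⟨0, 1⟩],
  !![⟨1, 1⟩, ⟨2, 0⟩, ⟨0, 1⟩; ⟨0, 2⟩, ⟨2, 1⟩, ⟨1, 0⟩; ⟨0, 2⟩, ⟨0, 1⟩, ⟨1, 1⟩],
  !![⟨0, 0⟩, ⟨1, 2⟩, ⟨2, 1⟩; ⟨1, 1⟩, ⟨1, 0⟩, ⟨1, 0⟩; ⟨2, 2⟩, ⟨1, 0⟩, ⟨1, 0⟩],
  !![⟨0, 2⟩, ⟨2, 2⟩, ⟨2, 0⟩; ⟨1, 0⟩, ⟨2, 1⟩, ⟨0, 2⟩; ⟨1, 1⟩, ⟨0, 0⟩, ⟨2, 1⟩],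
  !![⟨2, 1⟩, ⟨1, 0⟩, ⟨1, 0⟩; ⟨2, 1⟩, ⟨2, 0⟩, ⟨2, 0⟩; ⟨0, 0⟩, ⟨1, 1⟩, ⟨2, 2⟩],
  !![⟨0, 0⟩, ⟨0, 0⟩, ⟨0, 2⟩; ⟨2, 1⟩, ⟨1, 1⟩, ⟨0, 0⟩; ⟨2, 2⟩, ⟨1, 2⟩, ⟨0, 0⟩],
  !![⟨1, 0⟩, ⟨2, 1⟩, ⟨1, 0⟩; ⟨2, 2⟩, ⟨0, 0⟩, ⟨1, 1⟩; ⟨1, 0⟩, ⟨1, 2⟩, ⟨1, 0⟩],
  !![⟨0, 1⟩, ⟨0, 2⟩, ⟨1, 1⟩; ⟨1, 0⟩, ⟨2, 2⟩, ⟨0, 2⟩; ⟨2, 1⟩, ⟨0, 2⟩, ⟨1, 0⟩]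
]

def gx : M2 := !![1, 0, 0; 0, 0, 1; 0, 1, 0]
def gy : M2 := !![0, 1, 0; 0, 1, 1; 1, 1, 1]

/-- the index of a row. -/
def rowIdx (A : M2) (i : Fin 3) : Fin 8 :=
  Fin.ofNat 8 ((A i 0).val * 4 + (A i 1).val * 2 + (A i 2).val)

/-- position of a matrix in the list `els`. -/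
def pos (A : M2) : Fin 168 := idx (rowIdx A 0) (rowIdx A 1) (rowIdx A 2)

/-- the table homomorphism, on matrices. -/
def rho (A : M2) : M9 := img (pos A)

/-- explicit `3 × 3` determinant. -/
def det3 {R : Type*} [CommRing R] (M : Matrix (Fin 3) (Fin 3) R) : R :=
  M 0 0 * M 1 1 * M 2 2 - M 0 0 * M 1 2 * M 2 1 - M 0 1 * M 1 0 * M 2 2 + M 0 1 * M 1 2 * M 2 0 +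
    M 0 2 * M 1 0 * M 2 1 - M 0 2 * M 1 1 * M 2 0

theorem det3_eq {R : Type*} [CommRing R] (M : Matrix (Fin 3) (Fin 3) R) : M.det = det3 M := by
  rw [Matrix.det_fin_three]
  rfl

def ofE (a b c d e f g h k : ZMod 2) : M2 := !![a, b, c; d, e, f; g, h, k]

set_option maxRecDepth 100000 in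
theorem cover : ∀ a b c d e f g h k : ZMod 2, det3 (ofE a b c d e f g h k) = 1 →
    els (pos (ofE a b c d e f g h k)) = ofE a b c d e f g h k := by decide +kernel

set_option maxRecDepth 100000 in
theorem step : ∀ i : Fin 168, i.val = 0 ∨
    ((par i).val < i.val ∧ els i = (if gen i then gx else gy) * els (par i)) := by decide +kernel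

set_option maxRecDepth 100000 in
theorem els_det : ∀ i : Fin 168, det3 (els i) = 1 := by decide +kernel

set_option maxRecDepth 100000 in
theorem pos_els : ∀ i : Fin 168, pos (els i) = i := by decide +kernel

set_option maxRecDepth 100000 in
theorem gens : ∀ j : Fin 168, rho (gx * els j) = rho gx * img j ∧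
    rho (gy * els j) = rho gy * img j := by decide +kernel

theorem els_zero : els 0 = 1 := by decide +kernel
theorem img_zero : img 0 = 1 := by decide +kernel

set_option maxRecDepth 100000 in
theorem img_det : ∀ i : Fin 168, det3 (img i) = 1 := by decide +kernel

set_option maxRecDepth 100000 in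
theorem img_U : ∀ i : Fin 168, IsU (img i) := by decide +kernel

set_option maxRecDepth 100000 in
theorem img_inj : ∀ i : Fin 168, img i = 1 → i.val = 0 := by decide +kernel

end Cfsg.Agent.Helper13.L27SU
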