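import Mathlib
import Cfsg.Agent.Helper13.L27SUData

set_option autoImplicit false
set_option linter.style.haveILetI false

/-!
# An explicit embedding `SL₃(2) → SU₃(3)`: multiplicativity of the table map
-/

namespace Cfsg.Agent.Helper13.L27SU

open Cfsg.Agent.Helper13.SU33Spec

theorem eq_ofE (A : M2) :
    A = ofE (A 0 0) (A 0 1) (A 0 2) (A 1 0) (A 1 1) (A 1 2) (A 2 0) (A 2 1) (A 2 2) := by
  ext i j
  fin_cases i <;> fin_cases j <;> rfl

/-- every determinant one matrix is in the list. -/
theorem els_pos (A : M2) (hA : A.det = 1) : els (pos A) = A := by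
  rw [det3_eq] at hA
  have h := cover (A 0 0) (A 0 1) (A 0 2) (A 1 0) (A 1 1) (A 1 2) (A 2 0) (A 2 1) (A 2 2)
  rw [← eq_ofE A] at h
  exact h hA

theorem rho_els (i : Fin 168) : rho (els i) = img i := by
  unfold rho
  rw [pos_els]

theorem els_det' (i : Fin 168) : (els i).det = 1 := by
  rw [det3_eq]
  exact els_det i

theorem rho_gen_mul (s : M2) (hs : s = gx ∨ s = gy) (j : Fin 168) :
    rho (s * els j) = rho s * img j := by
  rcases hs with rfl | rfl
  · exact (gens j).1
  · exact (gens j).2

theorem gx_eq : gx = els 1 := by decide +kernel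
theorem gy_eq : gy = els 2 := by decide +kernel

theorem rho_mul_els : ∀ (n : ℕ) (i : Fin 168), i.val = n → ∀ j : Fin 168,
    rho (els i * els j) = img i * img j := by
  intro n
  induction n using Nat.strong_induction_on with
  | _ n ih =>
    intro i hi j
    rcases step i with h0 | ⟨hlt, hstep⟩
    · have : i = 0 := Fin.ext h0
      rw [this, els_zero, one_mul, rho_els, img_zero, one_mul]
    · set s : M2 := if gen i then gx else gy with hs
      have hs' : s = gx ∨ s = gy := by
        rw [hs]
        split_ifs
        · exact Or.inl rfl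
        · exact Or.inr rfl
      have hdet : (els (par i) * els j).det = 1 := by
        rw [Matrix.det_mul, els_det', els_det', one_mul]
      have hk := els_pos _ hdet
      set k := pos (els (par i) * els j) with hk'
      have hIH := ih (par i).val (by rw [← hi]; exact hlt) (par i) rfl j
      have h1 : img k = img (par i) * img j := by
        rw [← rho_els k, hk, hIH]
      have h2 : img i = rho s * img (par i) := by
        rw [← rho_els i, hstep, rho_gen_mul s hs' (par i)]
      rw [hstep, mul_assoc, ← hk, rho_gen_mul s hs' k, h1, h2, mul_assoc]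

theorem rho_mul (A B : S2) : rho (A.1 * B.1) = rho A.1 * rho B.1 := by
  have hA := els_pos A.1 A.2
  have hB := els_pos B.1 B.2
  rw [← hA, ← hB, rho_mul_els _ _ rfl, rho_els, rho_els]

theorem rho_one : rho 1 = 1 := by
  rw [← els_zero, rho_els, img_zero]

theorem rho_det (A : S2) : (rho A.1).det = 1 := by
  rw [det3_eq]
  exact img_det _

theorem rho_U (A : S2) : IsU (rho A.1) := img_U _

theorem rho_inj (A : S2) (h : rho A.1 = 1) : A = 1 := by
  have h0 := img_inj _ h
  have hA := els_pos A.1 A.2
  apply Subtype.ext
  rw [← hA]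
  have : pos A.1 = 0 := Fin.ext h0
  rw [this, els_zero]
  rfl

end Cfsg.Agent.Helper13.L27SU
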