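import Mathlib

set_option autoImplicit false

namespace Cfsg.Agent.Helper13.LCh

open Matrix

theorem hammingNorm_eq_sum_val (v : Fin 24 → ZMod 2) :
    (hammingNorm v : ℤ) = ∑ i, ((v i).val : ℤ) := by
  have h1 : hammingNorm v = (Finset.univ.filter (fun i => v i ≠ 0)).card := rfl
  rw [h1, Finset.card_filter]
  push_cast
  apply Finset.sum_congr rfl
  intro i _
  generalize v i = x
  revert x
  decide

/-- Q4a: a doubly even binary linear code is self-orthogonal. -/
theorem doubly_even_self_orth (C : Submodule (ZMod 2) (Fin 24 → ZMod 2))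
    (h : ∀ c ∈ C, 4 ∣ hammingNorm c) : ∀ v ∈ C, ∀ w ∈ C, ∑ i, v i * w i = 0 := by
  intro v hv w hw
  have key : ∀ x y : ZMod 2,
      ((x + y).val : ℤ) = x.val + y.val - 2 * ((x.val * y.val : ℕ) : ℤ) := by decide
  have hprod : ∀ x y : ZMod 2, x * y = ((x.val * y.val : ℕ) : ZMod 2) := by decide
  have hvw : v + w ∈ C := C.add_mem hv hw
  obtain ⟨a, ha⟩ := h v hv
  obtain ⟨b, hb⟩ := h w hw
  obtain ⟨c, hc⟩ := h (v + w) hvw
  have e1 := hammingNorm_eq_sum_val v
  have e2 := hammingNorm_eq_sum_val w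
  have e3 := hammingNorm_eq_sum_val (v + w)
  have e4 : ∑ i, (((v + w) i).val : ℤ)
      = ∑ i, ((v i).val : ℤ) + ∑ i, ((w i).val : ℤ)
        - 2 * ∑ i, (((v i).val * (w i).val : ℕ) : ℤ) := by
    rw [Finset.mul_sum, ← Finset.sum_add_distrib, ← Finset.sum_sub_distrib]
    apply Finset.sum_congr rfl
    intro i _
    rw [Pi.add_apply, key]
  have e5 : (2 : ℤ) ∣ ∑ i, (((v i).val * (w i).val : ℕ) : ℤ) := by
    generalize (∑ i, (((v i).val * (w i).val : ℕ) : ℤ)) = S at e4 ⊢
    rw [← e1, ← e2, ← e3, ha, hb, hc] at e4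
    push_cast at e4
    exact ⟨(a : ℤ) + b - c, by linarith⟩
  have e6 : ∑ i, v i * w i = ((∑ i, ((v i).val * (w i).val : ℕ) : ℕ) : ZMod 2) := by
    rw [Nat.cast_sum]
    apply Finset.sum_congr rfl
    intro i _
    exact hprod _ _
  rw [e6, ZMod.natCast_eq_zero_iff]
  have e7 : ((2 : ℕ) : ℤ) ∣ ((∑ i, ((v i).val * (w i).val : ℕ) : ℕ) : ℤ) := by
    rw [Nat.cast_sum]
    exact_mod_cast e5
  exact Int.natCast_dvd_natCast.mp e7

/-- Q4b: a self-orthogonal binary code of length 24 has dimension at most 12. -/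
theorem finrank_le_of_self_orth (C : Submodule (ZMod 2) (Fin 24 → ZMod 2))
    (h : ∀ v ∈ C, ∀ w ∈ C, ∑ i, v i * w i = 0) : Module.finrank (ZMod 2) C ≤ 12 := by
  set B : LinearMap.BilinForm (ZMod 2) (Fin 24 → ZMod 2) :=
    Matrix.toBilin' (1 : Matrix (Fin 24) (Fin 24) (ZMod 2)) with hB_def
  have hBapp : ∀ v w : Fin 24 → ZMod 2, B v w = ∑ i, v i * w i := by
    intro v w
    rw [hB_def, Matrix.toBilin'_apply']
    simp [dotProduct]
  have hnd : B.Nondegenerate := by
    rw [hB_def]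
    apply LinearMap.BilinForm.nondegenerate_toBilin'_of_det_ne_zero'
    simp
  have hle : C ≤ B.orthogonal C := by
    intro w hw
    rw [LinearMap.BilinForm.mem_orthogonal_iff]
    intro v hv
    show B v w = 0
    rw [hBapp]
    exact h v hv w hw
  have h1 := LinearMap.BilinForm.finrank_orthogonal hnd C
  have h2 := Submodule.finrank_mono hle
  have h3 : Module.finrank (ZMod 2) (Fin 24 → ZMod 2) = 24 := by simp
  rw [h3] at h1
  omega

end Cfsg.Agent.Helper13.LCh
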