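import Mathlib
import Cfsg.Prelude.Def_OddOrderLocal

set_option autoImplicit false

namespace Cfsg.Agent.Helper13.MSup

open Cfsg Subgroup

/-- In a finite cyclic commutative group the `p`-torsion has at most `p` elements. -/
theorem card_ker_pow_le {C : Type*} [CommGroup C] [Finite C] [IsCyclic C] (p : ℕ) (hp : 0 < p) :
    Nat.card (powMonoidHom p : C →* C).ker ≤ p := by
  classical
  have : Fintype C := Fintype.ofFinite C
  have h1 := IsCyclic.card_pow_eq_one_le (α := C) hp
  have h2 : Nat.card (powMonoidHom p : C →* C).ker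
      = (Finset.univ.filter fun a : C => a ^ p = 1).card := by
    rw [Nat.card_eq_fintype_card, Fintype.card_subtype]
    congr 1
    ext a
    simp [MonoidHom.mem_ker]
  rw [h2]
  exact h1

/-- Auxiliary form of `card_torsion_le` with the torsion subgroup abstracted. -/
theorem card_torsion_le_aux {Y : Type*} [CommGroup Y] [Finite Y] (p : ℕ) (hp : 0 < p)
    (N : Subgroup Y) (hN : IsCyclic N) (hQ : IsCyclic (Y ⧸ N))
    (T : Subgroup Y) (hTmem : ∀ t : T, (t : Y) ^ p = 1) :
    Nat.card T ≤ p ^ 2 := by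
  classical
  let θ : T →* Y ⧸ N := (QuotientGroup.mk' N).comp T.subtype
  have hcard : Nat.card θ.ker * Nat.card θ.range = Nat.card T := by
    rw [← Subgroup.index_ker θ]
    exact Subgroup.card_mul_index θ.ker
  -- range bound
  have hr : Nat.card θ.range ≤ p := by
    have hle : θ.range ≤ (powMonoidHom p : (Y ⧸ N) →* (Y ⧸ N)).ker := by
      rintro z ⟨t, rfl⟩
      rw [MonoidHom.mem_ker, powMonoidHom_apply, ← map_pow]
      have ht : (t : Y) ^ p = 1 := hTmem t
      have : t ^ p = 1 := Subtype.ext (by simpa using ht)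
      rw [this, map_one]
    exact (Subgroup.card_le_of_le hle).trans (card_ker_pow_le p hp)
  -- kernel bound
  have hk : Nat.card θ.ker ≤ p := by
    have hmem : ∀ t : θ.ker, ((t : T) : Y) ∈ N := by
      intro t
      have := t.2
      rw [MonoidHom.mem_ker] at this
      have h2 : (QuotientGroup.mk' N) ((t : T) : Y) = 1 := this
      exact (QuotientGroup.eq_one_iff _).mp h2
    let f : θ.ker → (powMonoidHom p : N →* N).ker := fun t =>
      ⟨⟨((t : T) : Y), hmem t⟩, by
        rw [MonoidHom.mem_ker, powMonoidHom_apply]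
        apply Subtype.ext
        have ht : ((t : T) : Y) ^ p = 1 := hTmem (t : T)
        simpa using ht⟩
    have hf : Function.Injective f := by
      intro a b hab
      have : ((a : T) : Y) = ((b : T) : Y) := by
        have := congrArg (fun z => ((z : N) : Y)) (congrArg Subtype.val hab)
        simpa [f] using this
      exact Subtype.ext (Subtype.ext this)
    exact (Nat.card_le_card_of_injective f hf).trans (card_ker_pow_le p hp)
  calc Nat.card T = Nat.card θ.ker * Nat.card θ.range := hcard.symm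
    _ ≤ p * p := Nat.mul_le_mul hk hr
    _ = p ^ 2 := (sq p).symm

/-- In a finite commutative group with a cyclic subgroup `N` and cyclic quotient, the `p`-torsion
has at most `p ^ 2` elements. -/
theorem card_torsion_le {Y : Type*} [CommGroup Y] [Finite Y] (p : ℕ) (hp : 0 < p)
    (N : Subgroup Y) (hN : IsCyclic N) (hQ : IsCyclic (Y ⧸ N)) :
    Nat.card (powMonoidHom p : Y →* Y).ker ≤ p ^ 2 := by
  apply card_torsion_le_aux p hp N hN hQ
  intro t
  have := t.2
  rw [MonoidHom.mem_ker, powMonoidHom_apply] at this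
  exact this

/-- Piece AB of S5287. -/
theorem AB {X : Type*} [Group X] [Finite X] (p : ℕ) [Fact p.Prime] (hX : IsPGroup p X)
    (hm : Cfsg.IsMetacyclic X) (n : ℕ) (hn : 0 < n) (H : Type) [CommGroup H]
    (e : X ≃* (Multiplicative (ZMod (p ^ n)) × Multiplicative (ZMod (p ^ n))) × H) :
    Nonempty (X ≃* Multiplicative (ZMod (p ^ n)) × Multiplicative (ZMod (p ^ n))) := by
  classical
  have hp : p.Prime := Fact.out
  have : NeZero (p ^ n) := ⟨pow_ne_zero _ hp.ne_zero⟩
  set M := Multiplicative (ZMod (p ^ n)) with hM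
  set Y := (M × M) × H with hY
  have : Finite Y := Finite.of_equiv X e.toEquiv
  have : Finite H := Finite.of_surjective (fun y : Y => y.2) (fun h => ⟨((1, 1), h), rfl⟩)
  -- H is a p-group
  have hHp : IsPGroup p H := by
    intro h
    obtain ⟨k, hk⟩ := hX (e.symm ((1, 1), h))
    refine ⟨k, ?_⟩
    have := congrArg e hk
    rw [map_pow, e.apply_symm_apply, map_one] at this
    have h2 := congrArg Prod.snd this
    simpa using h2
  -- it suffices that H is trivial
  suffices hH : Subsingleton H by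
    have : Unique H := ⟨⟨1⟩, fun a => Subsingleton.elim _ _⟩
    exact ⟨e.trans MulEquiv.prodUnique⟩
  by_contra hns
  rw [not_subsingleton_iff_nontrivial] at hns
  -- element of order p in H
  have hdvdH : p ∣ Nat.card H := by
    obtain ⟨k, hk0, hk⟩ := hHp.nontrivial_iff_card.mp hns
    rw [hk]
    exact dvd_pow_self _ (ne_of_gt hk0)
  obtain ⟨h0, hh0⟩ := exists_prime_orderOf_dvd_card' p hdvdH
  -- element of order p in M
  have hcardM : Nat.card M = p ^ n := by
    rw [hM, Nat.card_eq_fintype_card, Fintype.card_multiplicative, ZMod.card]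
  have hdvdM : p ∣ Nat.card M := by
    rw [hcardM]
    exact dvd_pow_self _ (ne_of_gt hn)
  obtain ⟨g, hg⟩ := exists_prime_orderOf_dvd_card' p hdvdM
  -- transported metacyclic structure
  obtain ⟨N, hNn, hNc, hQc⟩ := hm
  have hN'c : IsCyclic (N.map e.toMonoidHom) := by
    have := hNc
    exact (e.subgroupMap N).isCyclic.mp hNc
  have hQ'c : IsCyclic (Y ⧸ (N.map e.toMonoidHom)) := by
    have := hQc
    have e2 : X ⧸ N ≃* Y ⧸ (N.map e.toMonoidHom) :=
      QuotientGroup.congr N (N.map e.toMonoidHom) e rfl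
    exact e2.isCyclic.mp hQc
  have hupper := card_torsion_le (Y := Y) p hp.pos (N.map e.toMonoidHom) hN'c hQ'c
  -- lower bound: p^3 torsion elements
  have hgp : g ^ p = 1 := by
    have h := pow_orderOf_eq_one g
    rwa [hg] at h
  have hhp : h0 ^ p = 1 := by
    have h := pow_orderOf_eq_one h0
    rwa [hh0] at h
  have hmemT : ∀ t : (zpowers g × zpowers g) × zpowers h0,
      ((((t.1.1 : zpowers g) : M), ((t.1.2 : zpowers g) : M)), ((t.2 : zpowers h0) : H))
        ∈ (powMonoidHom p : Y →* Y).ker := by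
    intro t
    rw [MonoidHom.mem_ker, powMonoidHom_apply]
    obtain ⟨⟨⟨a, ha⟩, ⟨b, hb⟩⟩, ⟨c, hc⟩⟩ := t
    obtain ⟨i, rfl⟩ := mem_zpowers_iff.mp ha
    obtain ⟨j, rfl⟩ := mem_zpowers_iff.mp hb
    obtain ⟨k, rfl⟩ := mem_zpowers_iff.mp hc
    have e1 : (g ^ i) ^ p = 1 := by
      rw [← zpow_natCast, ← zpow_mul, mul_comm, zpow_mul, zpow_natCast, hgp, one_zpow]
    have e2 : (g ^ j) ^ p = 1 := by
      rw [← zpow_natCast, ← zpow_mul, mul_comm, zpow_mul, zpow_natCast, hgp, one_zpow]
    have e3 : (h0 ^ k) ^ p = 1 := by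
      rw [← zpow_natCast, ← zpow_mul, mul_comm, zpow_mul, zpow_natCast, hhp, one_zpow]
    show ((g ^ i, g ^ j), h0 ^ k) ^ p = (1 : Y)
    rw [Prod.pow_mk, Prod.pow_mk, e1, e2, e3]
    rfl
  let F : (zpowers g × zpowers g) × zpowers h0 → (powMonoidHom p : Y →* Y).ker := fun t =>
    ⟨((((t.1.1 : zpowers g) : M), ((t.1.2 : zpowers g) : M)), ((t.2 : zpowers h0) : H)), hmemT t⟩
  have hF : Function.Injective F := by
    intro s t hst
    have h1 := congrArg (fun z : (powMonoidHom p : Y →* Y).ker => (z : Y)) hst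
    simp only [F] at h1
    have h2 := Prod.ext_iff.mp h1
    have h3 := Prod.ext_iff.mp h2.1
    apply Prod.ext
    · apply Prod.ext
      · exact Subtype.ext h3.1
      · exact Subtype.ext h3.2
    · exact Subtype.ext h2.2
  have hlow := Nat.card_le_card_of_injective F hF
  rw [Nat.card_prod, Nat.card_prod, Nat.card_zpowers, Nat.card_zpowers, hg, hh0] at hlow
  have : p * p * p ≤ p ^ 2 := hlow.trans hupper
  have h2 : p ^ 2 * p ≤ p ^ 2 * 1 := by
    calc p ^ 2 * p = p * p * p := by ring
      _ ≤ p ^ 2 := this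
      _ = p ^ 2 * 1 := (mul_one _).symm
  have h3 := Nat.le_of_mul_le_mul_left h2 (pow_pos hp.pos 2)
  exact absurd h3 (by have := hp.two_le; omega)

end Cfsg.Agent.Helper13.MSup
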