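import Mathlib
import Cfsg.Agent.Helper13.FqExt
import Cfsg.Agent.S2639

set_option autoImplicit false
set_option linter.style.haveILetI false

namespace Cfsg.Agent.Helper13

open Matrix Module Cfsg.Agent.S2639

section

variable {K F : Type*} [Field K] [Fintype K] [Field F] [Fintype F] {q : ℕ}

/-- surjectivity of the norm `x ↦ x ^ (q + 1)` onto the Frobenius-fixed elements. -/
theorem exists_pow_succ_eq (hK : Fintype.card K = q ^ 2) (y : K) (hy : y ^ q = y) :
    ∃ x : K, x ^ (q + 1) = y := by
  classical
  by_cases hy0 : y = 0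
  · exact ⟨0, by rw [hy0, zero_pow (Nat.succ_ne_zero q)]⟩
  have hq2 : 2 ≤ q := by
    by_contra hlt
    have h1 : q ^ 2 ≤ 1 := by
      have : q ≤ 1 := by omega
      calc q ^ 2 ≤ 1 ^ 2 := Nat.pow_le_pow_left this 2
        _ = 1 := one_pow 2
    have := Fintype.one_lt_card (α := K)
    omega
  obtain ⟨g, hg⟩ := IsCyclic.exists_generator (α := Kˣ)
  have hord : orderOf g = q ^ 2 - 1 := by
    rw [orderOf_eq_card_of_forall_mem_zpowers hg, Nat.card_eq_fintype_card, Fintype.card_units, hK]
  set yu : Kˣ := Units.mk0 y hy0 with hyu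
  obtain ⟨k, hk⟩ : ∃ k : ℕ, g ^ k = yu := by
    have := hg yu
    rw [← mem_powers_iff_mem_zpowers] at this
    exact (Submonoid.mem_powers_iff _ _).mp this
  have hy1 : yu ^ (q - 1) = 1 := by
    apply Units.ext
    rw [Units.val_pow_eq_pow_val, Units.val_one, hyu, Units.val_mk0]
    have h1 : y ^ (q - 1) * y = 1 * y := by
      rw [← pow_succ, one_mul, Nat.sub_add_cancel (by omega), hy]
    exact mul_right_cancel₀ hy0 h1
  rw [← hk, ← pow_mul] at hy1
  have hdvd : (q ^ 2 - 1) ∣ k * (q - 1) := by
    rw [← hord]; exact orderOf_dvd_of_pow_eq_one hy1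
  have hfac : q ^ 2 - 1 = (q - 1) * (q + 1) := by
    obtain ⟨r, rfl⟩ : ∃ r, q = r + 1 := ⟨q - 1, by omega⟩
    simp only [Nat.add_sub_cancel]
    ring_nf
    omega
  rw [hfac, mul_comm k] at hdvd
  have hdvd' : (q + 1) ∣ k := Nat.dvd_of_mul_dvd_mul_left (by omega) hdvd
  obtain ⟨j, rfl⟩ := hdvd'
  refine ⟨((g ^ j : Kˣ) : K), ?_⟩
  have : (g ^ j) ^ (q + 1) = yu := by rw [← pow_mul, mul_comm, hk]
  rw [← Units.val_pow_eq_pow_val, this, hyu, Units.val_mk0]

variable [Algebra F K] (hK : Fintype.card K = q ^ 2) (hF : Fintype.card F = q)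

local notation "ι" => algebraMap F K

include hK hF in
theorem exists_norm_neg_one : ∃ ε : K, ε ^ (q + 1) = -1 := by
  apply exists_pow_succ_eq hK
  rw [neg_pow_card_of_ringHom ι hF, one_pow]

include hK hF in
theorem exists_trace_one : ∃ κ : K, κ + κ ^ q = 1 := by
  obtain ⟨θ, hθ⟩ := exists_not_mem_range ι hK hF
  have hlam0 : θ - θ ^ q ≠ 0 := by
    intro h
    rw [sub_eq_zero] at h
    obtain ⟨x, hx⟩ := exists_of_pow_card_eq ι hF θ h.symm
    exact hθ x hx
  have hlamq : (θ - θ ^ q) ^ q = -(θ - θ ^ q) := by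
    rw [sub_pow_card_of_ringHom ι hF, pow_card_sq hK]; ring
  refine ⟨θ / (θ - θ ^ q), ?_⟩
  rw [div_pow, hlamq]
  field_simp
  ring

/-- an element of trace one. -/
noncomputable def kap : K := Classical.choose (exists_trace_one hK hF)

theorem kap_spec : kap hK hF + kap hK hF ^ q = 1 := Classical.choose_spec (exists_trace_one hK hF)

/-- the norm form `u ↦ Σ uᵢ^(q+1)` on `K^m` as a quadratic form over `F`. -/
noncomputable def normForm (m : ℕ) : QuadraticForm F (Fin m → K) :=
  LinearMap.BilinMap.toQuadraticMap (fV hK hF m (kap hK hF))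

omit [Algebra F K] in
theorem hermForm_pow (hK : Fintype.card K = q ^ 2) (ι₀ : F →+* K) (hF : Fintype.card F = q)
    (m : ℕ) (u v : Fin m → K) :
    Cfsg.hermForm m K q u v ^ q = Cfsg.hermForm m K q v u := by
  unfold Cfsg.hermForm
  induction (Finset.univ : Finset (Fin m)) using Finset.cons_induction with
  | empty =>
    simp only [Finset.sum_empty]
    rw [zero_pow (by rw [← hF]; exact Fintype.card_ne_zero)]
  | cons a s ha ih =>
    rw [Finset.sum_cons, Finset.sum_cons, add_pow_card_of_ringHom ι₀ hF, ih, mul_pow,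
      pow_card_sq hK]
    ring

theorem ι_normForm (m : ℕ) (u : Fin m → K) :
    ι (normForm hK hF m u) = Cfsg.hermForm m K q u u := by
  rw [normForm, LinearMap.BilinMap.toQuadraticMap_apply, fV_apply, ι_trF, mul_pow,
    hermForm_pow hK ι hF]
  have := kap_spec hK hF
  linear_combination (Cfsg.hermForm m K q u u) * this

theorem polar_normForm (m : ℕ) (u v : Fin m → K) :
    QuadraticMap.polar (normForm hK hF m) u v = trF ι hK hF (Cfsg.hermForm m K q u v) := by
  apply (algebraMap F K).injective
  rw [normForm, LinearMap.BilinMap.polar_toQuadraticMap, map_add, fV_apply, fV_apply, ι_trF, ι_trF,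
    ι_trF, mul_pow, mul_pow, hermForm_pow hK ι hF, hermForm_pow hK ι hF, ← hermForm_pow hK ι hF m u v]
  have := kap_spec hK hF
  linear_combination (Cfsg.hermForm m K q u v + Cfsg.hermForm m K q u v ^ q) * this

theorem normForm_nondeg (m : ℕ) :
    (QuadraticMap.polarBilin (normForm hK hF m)).Nondegenerate := by
  classical
  have hq0 : q ≠ 0 := by rw [← hF]; exact Fintype.card_ne_zero
  have hleft : ∀ u : Fin m → K,
      (∀ v, QuadraticMap.polar (normForm hK hF m) u v = 0) → u = 0 := by
    intro u hu
    funext i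
    by_contra hui
    have hui : u i ≠ 0 := hui
    have h1 := hu (Pi.single i ((kap hK hF / u i) ^ q))
    rw [polar_normForm] at h1
    have h2 : Cfsg.hermForm m K q u (Pi.single i ((kap hK hF / u i) ^ q)) = kap hK hF := by
      unfold Cfsg.hermForm
      rw [Finset.sum_eq_single i]
      · rw [Pi.single_eq_same, pow_card_sq hK]
        field_simp
      · intro j _ hj
        rw [Pi.single_eq_of_ne hj, zero_pow hq0, mul_zero]
      · intro h
        exact absurd (Finset.mem_univ _) h
    rw [h2] at h1
    have h3 := congrArg (algebraMap F K) h1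
    rw [ι_trF, kap_spec, map_zero] at h3
    exact one_ne_zero h3
  constructor
  · intro u hu
    exact hleft u (fun v => by rw [← QuadraticMap.polarBilin_apply_apply]; exact hu v)
  · intro v hv
    apply hleft v
    intro u
    rw [QuadraticMap.polar_comm, ← QuadraticMap.polarBilin_apply_apply]
    exact hv u

/-- restriction of scalars of the natural action of `GL_m(K)` on `K^m`. -/
noncomputable def glEnd (m : ℕ) : GL (Fin m) K →* Module.End F (Fin m → K) where
  toFun g := (Matrix.toLin' (g : Matrix (Fin m) (Fin m) K)).restrictScalars F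
  map_one' := by
    apply LinearMap.ext
    intro u
    simp
  map_mul' g h := by
    apply LinearMap.ext
    intro u
    simp [Matrix.mulVec_mulVec]

omit [Fintype K] [Fintype F] in
theorem glEnd_apply (m : ℕ) (g : GL (Fin m) K) (u : Fin m → K) :
    glEnd (F := F) m g u = (g : Matrix (Fin m) (Fin m) K) *ᵥ u := rfl

omit [Fintype K] [Fintype F] in
theorem glEnd_injective (m : ℕ) : Function.Injective (glEnd (F := F) (K := K) m) := by
  intro g h hgh
  apply Units.ext
  apply Matrix.mulVec_injective
  funext u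
  have := congrArg (fun f => f u) hgh
  simpa [glEnd_apply] using this

theorem normForm_GU (m : ℕ) (g : GL (Fin m) K) (hg : g ∈ Cfsg.GU m K q) (u : Fin m → K) :
    normForm hK hF m (glEnd (F := F) m g u) = normForm hK hF m u := by
  apply (algebraMap F K).injective
  rw [ι_normForm, ι_normForm, glEnd_apply]
  exact hg u u

include hK hF in
theorem finrank_pi (m : ℕ) : finrank F (Fin m → K) = 2 * m := by
  rw [Module.finrank_pi_fintype]
  simp [finrank_eq_two_of_card hK hF]
  ring

end

end Cfsg.Agent.Helper13
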