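import Cfsg.Agent.Helper3.OC2Q2.Defs

set_option autoImplicit false
set_option linter.unusedSectionVars false
set_option linter.unusedVariables false

/-! # S5694 chapter CHAR2, sub-chapter Q2, piece FINQ (helper13; driver helper3)

A singular vector of `Rad M v` is a multiple of `v` (blocks of Witt index 1). -/

namespace Cfsg.Agent.OC2K

open Matrix Cfsg.Agent.Helper28.Sg Cfsg.Agent.Helper28.Spin Cfsg.Agent.Helper12.OrthGen
  Cfsg.Agent.S2614 Cfsg.Agent.S5683P Cfsg.Agent.Helper28.NDM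

variable {F : Type*} [Field F] {t k : ℕ} {ι : Type} [Fintype ι] [DecidableEq ι] {Q : QuadraticForm F (ι → F)} [QHyp Q] {D : Fin t → Submodule F (ι → F)}
  {M : Subgroup (OGq Q)}

theorem Q2.FINQ.main (hD : HD Q k D) (hW : Q2.W1 Q D) (hHM : HS D ≤ M) (hG1 : ¬ G1 M D)
    {v : ι → F} (hv : NPV M D v) {y : ι → F} (hy : y ∈ Rad M v hv.Qv) (hQy : Q y = 0) :
    ∃ s : F, y = s • v := by
  obtain ⟨g, hg, c, u, hu, hu0, hQu, hguv⟩ := hv.img
  subst hguv
  obtain ⟨w, hw, hyw⟩ := (RADV.iff hD hHM hG1 hg hu hu0 hQu hv.Qv).1 hy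
  obtain ⟨hwD, huw⟩ := mem_Tu.1 hw
  have hQw : Q w = 0 := by
    rw [← Q_isom g w, ← hyw]
    exact hQy
  obtain ⟨s, hs⟩ := hW c u hu w hwD hQu hQw huw hu0
  refine ⟨s, ?_⟩
  rw [hyw, hs, Matrix.mulVec_smul]

end Cfsg.Agent.OC2K
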