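import Mathlib
import Cfsg.Prelude.Def_GeometricClasses
import Cfsg.Agent.Helper3.OC2.Defs

set_option autoImplicit false
set_option linter.unusedSectionVars false
set_option linter.unusedVariables false

/-! # S5692 / S5694, chapter TRANSPORT, piece BLKPLUS: a block of the model is of plus type iff `q` is -/

namespace Cfsg.Agent.OC2P

open Matrix Cfsg.Geo

variable {F : Type*} [Field F] {t k n : ℕ}

/-- `binj i` as a linear map -/
def BLKPLUS.binjL (F : Type*) [Field F] {t k : ℕ} (i : Fin t) :
    (Fin k → F) →ₗ[F] (Fin t × Fin k → F) where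
  toFun := binj i
  map_add' := by
    intro x y
    funext p
    simp only [binj, Pi.add_apply]
    split_ifs <;> simp
  map_smul' := by
    intro c x
    funext p
    simp only [binj, Pi.smul_apply, RingHom.id_apply]
    split_ifs <;> simp

/-- `bproj i` as a linear map -/
def BLKPLUS.bprojL (F : Type*) [Field F] {t k : ℕ} (i : Fin t) :
    (Fin t × Fin k → F) →ₗ[F] (Fin k → F) where
  toFun := bproj i
  map_add' := by
    intro x y
    funext j
    simp [bproj]
  map_smul' := by
    intro c x
    funext j
    simp [bproj]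

theorem BLKPLUS.binjL_injective (i : Fin t) :
    Function.Injective (BLKPLUS.binjL F (k := k) i) := by
  intro x y h
  have := congrArg (bproj i) h
  simpa [BLKPLUS.binjL, bproj_binj] using this

theorem BLKPLUS.binj_bproj {i : Fin t} {x : Fin t × Fin k → F} (hx : x ∈ Dblk F t k i) :
    binj i (bproj i x) = x := by
  funext p
  obtain ⟨i', j⟩ := p
  by_cases h : i' = i
  · subst h
    simp [binj, bproj]
  · simp only [binj, h, if_false]
    exact (hx i' j h).symm

theorem BLKPLUS.range_binjL (i : Fin t) :
    LinearMap.range (BLKPLUS.binjL F (k := k) i) = Dblk F t k i := by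
  apply le_antisymm
  · rintro _ ⟨y, rfl⟩
    exact binj_mem i y
  · intro x hx
    exact ⟨bproj i x, BLKPLUS.binj_bproj hx⟩

theorem BLKPLUS.q_zero {q : (Fin k → F) → F} (hq : IsNondegenerateQuadraticForm q) : q 0 = 0 := by
  have := hq.smul 0 0
  simpa using this

theorem BLKPLUS.Qblk_binj {q : (Fin k → F) → F} (hq : IsNondegenerateQuadraticForm q) (i : Fin t)
    (y : Fin k → F) : Qblk t q (binj i y) = q y := by
  classical
  rw [Qblk_eq, Finset.sum_eq_single i]
  · rw [bproj_binj]
  · intro i' _ hi'
    rw [bproj_binj_ne hi', BLKPLUS.q_zero hq]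
  · intro h
    exact absurd (Finset.mem_univ i) h

theorem BLKPLUS.finrank_Dblk (i : Fin t) : Module.finrank F (Dblk F t k i) = k := by
  rw [← BLKPLUS.range_binjL i, LinearMap.finrank_range_of_inj (BLKPLUS.binjL_injective i)]
  simp

theorem BLKPLUS.finrank_map_binjL (i : Fin t) (U : Submodule F (Fin k → F)) :
    Module.finrank F (U.map (BLKPLUS.binjL F (t := t) i)) = Module.finrank F U :=
  (LinearEquiv.finrank_eq (Submodule.equivMapOfInjective _ (BLKPLUS.binjL_injective i) U)).symm

theorem BLKPLUS.main (q : (Fin k → F) → F) (hq : IsNondegenerateQuadraticForm q) (i : Fin t) :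
    IsPlusTypeOn (Qblk t q) (Dblk F t k i) ↔ IsPlusTypeOn q ⊤ := by
  constructor
  · rintro ⟨U, hUD, hUs, hUr⟩
    refine ⟨U.map (BLKPLUS.bprojL F i), le_top, ?_, ?_⟩
    · rintro _ ⟨x, hx, rfl⟩
      have hxD : x ∈ Dblk F t k i := hUD hx
      have h1 : Qblk t q x = q (bproj i x) := by
        conv_lhs => rw [← BLKPLUS.binj_bproj hxD]
        exact BLKPLUS.Qblk_binj hq i _
      show q (bproj i x) = 0
      rw [← h1]
      exact hUs x hx
    · have hback : (U.map (BLKPLUS.bprojL F (k := k) i)).map (BLKPLUS.binjL F i) = U := by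
        apply le_antisymm
        · rintro _ ⟨_, ⟨x, hx, rfl⟩, rfl⟩
          have : binj i (bproj i x) = x := BLKPLUS.binj_bproj (hUD hx)
          show binj i (bproj i x) ∈ U
          rw [this]; exact hx
        · intro x hx
          refine ⟨bproj i x, ⟨x, hx, rfl⟩, ?_⟩
          exact BLKPLUS.binj_bproj (hUD hx)
      have hinj : Module.finrank F (U.map (BLKPLUS.bprojL F (k := k) i)) = Module.finrank F U := by
        conv_rhs => rw [← hback]
        exact (BLKPLUS.finrank_map_binjL i _).symm
      rw [hinj, hUr, BLKPLUS.finrank_Dblk]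
      simp
  · rintro ⟨U, -, hUs, hUr⟩
    refine ⟨U.map (BLKPLUS.binjL F i), ?_, ?_, ?_⟩
    · rintro _ ⟨y, _, rfl⟩
      exact binj_mem i y
    · rintro _ ⟨y, hy, rfl⟩
      show Qblk t q (binj i y) = 0
      rw [BLKPLUS.Qblk_binj hq]
      exact hUs y hy
    · rw [BLKPLUS.finrank_map_binjL, hUr, BLKPLUS.finrank_Dblk]
      simp

end Cfsg.Agent.OC2P
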