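import Mathlib
import Cfsg.Prelude.Def_Characters
import Cfsg.Agent.Helper12.LSLDefs
import Cfsg.Agent.Helper28.Siegel6
import Cfsg.Agent.Helper28.Spin9

/-!
# S2345 (smallest degree of `Ω⁺_{2n}(q)`, `q > 3`): shared definitions

`V = Vm (r+3) F` with the form `QfPlus (r+3) F`, `W = Vm (r+2) F` (the span of the last `r+2`
hyperbolic pairs), `e0`, `f0` the first hyperbolic pair.  `rE w` is the Siegel transformation
`ρ_{e0, w}`; `lev` embeds the isometry group of `W` into that of `V`.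
-/

set_option autoImplicit false
set_option linter.unusedSectionVars false

namespace Cfsg.Agent.Helper13.OP

open Matrix Cfsg Cfsg.Agent.Helper28.Sg Cfsg.Agent.Helper28.Spin Cfsg.Agent.Helper28.QPlus
  Cfsg.Agent.Helper28.IsoTransport

variable {F : Type*} [Field F]

/-- the isometry group of the plus type form in dimension `2m` -/
abbrev GO (m : ℕ) (F : Type*) [Field F] := ↥(Cfsg.isometryGroup F ⇑(QfPlus m F))

/-- `Ω⁺_{2m}(F)` -/
abbrev Om (m : ℕ) (F : Type*) [Field F] := ↥(Cfsg.Omega F ⇑(QfPlus m F))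

theorem Qf_apply (m : ℕ) (v : Vm m F) :
    QfPlus m F v = ∑ i, v (Sum.inl i) * v (Sum.inr i) := rfl

theorem B_eq (m : ℕ) (x y : Vm m F) : B (QfPlus m F) x y = pB m F x y := polar_QfPlus m x y

/-! ### the decomposition `V = F e0 ⊕ F f0 ⊕ W` -/

/-- `W → V` -/
def emb (r : ℕ) : Vm (r + 2) F →ₗ[F] Vm (r + 3) F where
  toFun w := Sum.elim (Fin.cons 0 (fun j => w (Sum.inl j))) (Fin.cons 0 (fun j => w (Sum.inr j)))
  map_add' w w' := by
    funext i
    rcases i with i | i <;> refine Fin.cases ?_ (fun j => ?_) i <;> simp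
  map_smul' c w := by
    funext i
    rcases i with i | i <;> refine Fin.cases ?_ (fun j => ?_) i <;> simp

@[simp] theorem emb_inl_zero (r : ℕ) (w : Vm (r + 2) F) : emb r w (Sum.inl 0) = 0 := rfl
@[simp] theorem emb_inr_zero (r : ℕ) (w : Vm (r + 2) F) : emb r w (Sum.inr 0) = 0 := rfl
@[simp] theorem emb_inl_succ (r : ℕ) (w : Vm (r + 2) F) (j : Fin (r + 2)) :
    emb r w (Sum.inl j.succ) = w (Sum.inl j) := rfl
@[simp] theorem emb_inr_succ (r : ℕ) (w : Vm (r + 2) F) (j : Fin (r + 2)) :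
    emb r w (Sum.inr j.succ) = w (Sum.inr j) := rfl

/-- `V → W` -/
def res (r : ℕ) : Vm (r + 3) F →ₗ[F] Vm (r + 2) F where
  toFun v := fun i => v (Sum.map Fin.succ Fin.succ i)
  map_add' _ _ := rfl
  map_smul' _ _ := rfl

@[simp] theorem res_inl (r : ℕ) (v : Vm (r + 3) F) (j : Fin (r + 2)) :
    res r v (Sum.inl j) = v (Sum.inl j.succ) := rfl
@[simp] theorem res_inr (r : ℕ) (v : Vm (r + 3) F) (j : Fin (r + 2)) :
    res r v (Sum.inr j) = v (Sum.inr j.succ) := rfl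

@[simp] theorem res_emb (r : ℕ) (w : Vm (r + 2) F) : res r (emb r w) = w := by
  funext i
  rcases i with i | i <;> rfl

/-- first vector of the first hyperbolic pair -/
def e0 (r : ℕ) : Vm (r + 3) F := Pi.single (Sum.inl 0) 1

/-- second vector of the first hyperbolic pair -/
def f0 (r : ℕ) : Vm (r + 3) F := Pi.single (Sum.inr 0) 1

@[simp] theorem res_e0 (r : ℕ) : res r (e0 r : Vm (r + 3) F) = 0 := by
  funext i
  rcases i with i | i <;> simp [res, e0, Pi.single_apply, Fin.succ_ne_zero]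

@[simp] theorem res_f0 (r : ℕ) : res r (f0 r : Vm (r + 3) F) = 0 := by
  funext i
  rcases i with i | i <;> simp [res, f0, Pi.single_apply, Fin.succ_ne_zero]

theorem decomp (r : ℕ) (v : Vm (r + 3) F) :
    v = v (Sum.inl 0) • e0 r + v (Sum.inr 0) • f0 r + emb r (res r v) := by
  funext i
  rcases i with i | i <;> refine Fin.cases ?_ (fun j => ?_) i <;>
    simp [e0, f0, Pi.single_apply, Fin.succ_ne_zero]

theorem Q_decomp (r : ℕ) (a b : F) (w : Vm (r + 2) F) :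
    QfPlus (r + 3) F (a • e0 r + b • f0 r + emb r w) = a * b + QfPlus (r + 2) F w := by
  rw [Qf_apply, Qf_apply, Fin.sum_univ_succ]
  simp [e0, f0, Pi.single_apply, Fin.succ_ne_zero]

theorem Q_emb (r : ℕ) (w : Vm (r + 2) F) : QfPlus (r + 3) F (emb r w) = QfPlus (r + 2) F w := by
  have h := Q_decomp r (0 : F) 0 w
  rw [zero_smul, zero_smul, zero_add, zero_add, zero_mul, zero_add] at h
  exact h

theorem Q_e0 (r : ℕ) : QfPlus (r + 3) F (e0 r) = 0 := by
  have h := Q_decomp r (1 : F) 0 0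
  rw [one_smul, zero_smul, add_zero, map_zero, add_zero, mul_zero, map_zero, add_zero] at h
  exact h

theorem Q_f0 (r : ℕ) : QfPlus (r + 3) F (f0 r) = 0 := by
  have h := Q_decomp r (0 : F) 1 0
  rw [one_smul, zero_smul, zero_add, map_zero, add_zero, zero_mul, map_zero, add_zero] at h
  exact h

theorem pB_decomp (r : ℕ) (a b a' b' : F) (w w' : Vm (r + 2) F) :
    pB (r + 3) F (a • e0 r + b • f0 r + emb r w) (a' • e0 r + b' • f0 r + emb r w') =
      a * b' + b * a' + pB (r + 2) F w w' := by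
  rw [pB_apply, pB_apply, Fin.sum_univ_succ]
  simp [e0, f0, Pi.single_apply, Fin.succ_ne_zero]

theorem B_e0_emb (r : ℕ) (w : Vm (r + 2) F) : B (QfPlus (r + 3) F) (e0 r) (emb r w) = 0 := by
  rw [B_eq]
  have h := pB_decomp r (1 : F) 0 0 0 0 w
  simp only [one_smul, zero_smul, add_zero, zero_add, map_zero, mul_zero, zero_mul,
    LinearMap.zero_apply] at h
  exact h

theorem B_f0_emb (r : ℕ) (w : Vm (r + 2) F) : B (QfPlus (r + 3) F) (f0 r) (emb r w) = 0 := by
  rw [B_eq]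
  have h := pB_decomp r (0 : F) 1 0 0 0 w
  simp only [one_smul, zero_smul, add_zero, zero_add, map_zero, mul_zero, zero_mul,
    LinearMap.zero_apply] at h
  exact h

theorem B_e0_f0 (r : ℕ) : B (QfPlus (r + 3) F) (e0 r) (f0 r) = 1 := by
  rw [B_eq]
  have h := pB_decomp r (1 : F) 0 0 1 0 0
  simp only [one_smul, zero_smul, add_zero, zero_add, map_zero, mul_zero, mul_one,
    LinearMap.zero_apply] at h
  exact h

theorem B_emb_emb (r : ℕ) (w w' : Vm (r + 2) F) :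
    B (QfPlus (r + 3) F) (emb r w) (emb r w') = B (QfPlus (r + 2) F) w w' := by
  rw [B_eq, B_eq]
  have h := pB_decomp r (0 : F) 0 0 0 w w'
  simp only [zero_smul, zero_add, mul_zero, zero_mul] at h
  exact h

/-! ### frames, generation, `Ω = S` -/

theorem nondeg (m : ℕ) : (QuadraticMap.polarBilin (QfPlus m F)).Nondegenerate := QfPlus_nondeg m

/-- the standard frame (first three hyperbolic pairs) -/
noncomputable def frm [Fintype F] (m : ℕ) (hm : 3 ≤ m) : Frame3 (QfPlus m F) :=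
  frameOf (fun j => Sum.inl (Fin.castLE hm j)) (fun j => Sum.inr (Fin.castLE hm j))
    (by
      intro x y h
      rcases x with x | x <;> rcases y with y | y <;>
        simp only [Sum.elim_inl, Sum.elim_inr, Sum.inl.injEq, Sum.inr.injEq, reduceCtorEq,
          Fin.castLE_inj] at h
      · rw [h]
      · rw [h])
    (fun _ => hypPair_plus' m _)

/-- reflections generate the isometry group (`|F| > 2`) -/
theorem hgenP [Fintype F] (m : ℕ) (h2 : Fintype.card F ≠ 2) :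
    ∀ (H : Subgroup (GO m F)),
      (∀ (v : Vm m F) (hv : QfPlus m F v ≠ 0), reflO (QfPlus m F) v hv ∈ H) → ∀ g, g ∈ H := by
  by_cases h : (2 : F) = 0
  · exact hgen_even h (nondeg m) (Or.inl h2)
  · exact hgen_odd h (nondeg m)

theorem Om_eq_S [Fintype F] (m : ℕ) (hm : 3 ≤ m) (h2 : Fintype.card F ≠ 2) :
    Cfsg.Omega F ⇑(QfPlus m F) = S (QfPlus m F) :=
  Omega_eq_S (nondeg m) (frm m hm) (hgenP m h2)

theorem S_le_Om [Fintype F] (m : ℕ) (hm : 3 ≤ m) : S (QfPlus m F) ≤ Cfsg.Omega F ⇑(QfPlus m F) :=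
  S_le_Omega (nondeg m) (frm m hm)

theorem siegO_mem_Om [Fintype F] (m : ℕ) (hm : 3 ≤ m) (u v : Vm m F) (hu : QfPlus m F u = 0)
    (huv : B (QfPlus m F) u v = 0) : siegO (QfPlus m F) u v hu huv ∈ Cfsg.Omega F ⇑(QfPlus m F) :=
  S_le_Om m hm (siegO_mem_S _ u v hu huv)

/-! ### the abelian group `A = {ρ_{e0, w}}` -/

/-- the Siegel transformation `ρ_{e0, w}`, `w ∈ W` -/
noncomputable def rE (r : ℕ) (w : Vm (r + 2) F) : GO (r + 3) F :=
  siegO (QfPlus (r + 3) F) (e0 r) (emb r w) (Q_e0 r) (B_e0_emb r w)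

theorem rE_mulVec (r : ℕ) (w : Vm (r + 2) F) (x : Vm (r + 3) F) :
    mt (QfPlus (r + 3) F) (rE r w) *ᵥ x =
      x + B (QfPlus (r + 3) F) (e0 r) x • emb r w - B (QfPlus (r + 3) F) (emb r w) x • e0 r -
        (QfPlus (r + 2) F w * B (QfPlus (r + 3) F) (e0 r) x) • e0 r := by
  rw [rE, siegO_mulVec, Q_emb]

theorem rE_add (r : ℕ) (w w' : Vm (r + 2) F) : rE r (w + w') = rE r w * rE r w' := by
  unfold rE
  rw [siegO_mul (QfPlus (r + 3) F) (Q_e0 r) (B_e0_emb r w) (B_e0_emb r w')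
    (by rw [← map_add]; exact B_e0_emb r (w + w'))]
  exact siegO_congr _ _ _ _ _ rfl (map_add _ _ _)

theorem rE_zero (r : ℕ) : rE r (0 : Vm (r + 2) F) = 1 := by
  rw [rE]
  have h : emb r (0 : Vm (r + 2) F) = 0 := map_zero _
  rw [siegO_congr (QfPlus (r + 3) F) (Q_e0 r) (B_e0_emb r 0) (Q_e0 r)
    (by rw [← h]; exact B_e0_emb r 0) rfl h]
  exact siegO_zero _ _ _ _

theorem rE_mem_Omega [Fintype F] (r : ℕ) (w : Vm (r + 2) F) :
    rE r w ∈ Cfsg.Omega F ⇑(QfPlus (r + 3) F) :=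
  siegO_mem_Om (r + 3) (by omega) _ _ _ _

/-- `w ↦ ρ_{e0, w}` as a homomorphism into `Ω(V)` -/
noncomputable def rEΩ [Fintype F] (r : ℕ) : Multiplicative (Vm (r + 2) F) →* Om (r + 3) F where
  toFun w := ⟨rE r (Multiplicative.toAdd w), rE_mem_Omega r _⟩
  map_one' := Subtype.ext (rE_zero r)
  map_mul' w w' := Subtype.ext (rE_add r _ _)

theorem rEΩ_coe [Fintype F] (r : ℕ) (w : Multiplicative (Vm (r + 2) F)) :
    ((rEΩ r w : Om (r + 3) F) : GO (r + 3) F) = rE r (Multiplicative.toAdd w) := rfl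

/-- the linear characters `w ↦ ψ (B(b, w))` of `W` -/
def lamW (m : ℕ) (ψ : AddChar F ℂ) (b : Vm m F) : Multiplicative (Vm m F) →* ℂ where
  toFun w := ψ (pB m F b (Multiplicative.toAdd w))
  map_one' := by
    show ψ (pB m F b 0) = 1
    rw [map_zero, AddChar.map_zero_eq_one]
  map_mul' w w' := by
    show ψ (pB m F b (Multiplicative.toAdd w + Multiplicative.toAdd w')) = _
    rw [map_add, AddChar.map_add_eq_mul]

theorem lamW_apply (m : ℕ) (ψ : AddChar F ℂ) (b : Vm m F) (w : Multiplicative (Vm m F)) :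
    lamW m ψ b w = ψ (pB m F b (Multiplicative.toAdd w)) := rfl

/-! ### the Levi factor -/

/-- the linear map `a e0 + b f0 + w ↦ a e0 + b f0 + g w` -/
noncomputable def levLin (r : ℕ) (g : GO (r + 2) F) : Vm (r + 3) F →ₗ[F] Vm (r + 3) F :=
  (LinearMap.proj (Sum.inl 0)).smulRight (e0 r) + (LinearMap.proj (Sum.inr 0)).smulRight (f0 r) +
    (emb r ∘ₗ Matrix.mulVecLin (mt (QfPlus (r + 2) F) g)) ∘ₗ res r

theorem levLin_apply (r : ℕ) (g : GO (r + 2) F) (v : Vm (r + 3) F) :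
    levLin r g v = v (Sum.inl 0) • e0 r + v (Sum.inr 0) • f0 r +
      emb r (mt (QfPlus (r + 2) F) g *ᵥ res r v) := rfl

theorem levLin_decomp (r : ℕ) (g : GO (r + 2) F) (a b : F) (w : Vm (r + 2) F) :
    levLin r g (a • e0 r + b • f0 r + emb r w) =
      a • e0 r + b • f0 r + emb r (mt (QfPlus (r + 2) F) g *ᵥ w) := by
  rw [levLin_apply]
  have h1 : (a • e0 r + b • f0 r + emb r w : Vm (r + 3) F) (Sum.inl 0) = a := by
    simp [e0, f0]
  have h2 : (a • e0 r + b • f0 r + emb r w : Vm (r + 3) F) (Sum.inr 0) = b := by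
    simp [e0, f0]
  have h3 : res r (a • e0 r + b • f0 r + emb r w) = w := by
    rw [map_add, map_add, map_smul, map_smul, res_e0, res_f0, res_emb, smul_zero, smul_zero,
      zero_add, zero_add]
  rw [h1, h2, h3]

theorem levLin_mul (r : ℕ) (g h : GO (r + 2) F) (v : Vm (r + 3) F) :
    levLin r (g * h) v = levLin r g (levLin r h v) := by
  rw [levLin_apply r h v, levLin_decomp, levLin_apply, mt_mul_mulVec]

theorem levLin_one (r : ℕ) (v : Vm (r + 3) F) : levLin r (1 : GO (r + 2) F) v = v := by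
  rw [levLin_apply, mt_one_mulVec]
  exact (decomp r v).symm

theorem Q_levLin (r : ℕ) (g : GO (r + 2) F) (v : Vm (r + 3) F) :
    QfPlus (r + 3) F (levLin r g v) = QfPlus (r + 3) F v := by
  rw [levLin_apply]
  conv_rhs => rw [decomp r v]
  rw [Q_decomp, Q_decomp, isom_apply]

/-- the Levi embedding `O(W) → O(V)` -/
noncomputable def lev (r : ℕ) : GO (r + 2) F →* GO (r + 3) F where
  toFun g := ⟨⟨LinearMap.toMatrix' (levLin r g), LinearMap.toMatrix' (levLin r g⁻¹), by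
      rw [← LinearMap.toMatrix'_comp, ← LinearMap.toMatrix'_id]
      congr 1
      apply LinearMap.ext
      intro v
      rw [LinearMap.comp_apply, ← levLin_mul, mul_inv_cancel, levLin_one, LinearMap.id_apply], by
      rw [← LinearMap.toMatrix'_comp, ← LinearMap.toMatrix'_id]
      congr 1
      apply LinearMap.ext
      intro v
      rw [LinearMap.comp_apply, ← levLin_mul, inv_mul_cancel, levLin_one, LinearMap.id_apply]⟩, by
    rw [mem_isometryGroup_iff]
    intro v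
    show QfPlus (r + 3) F (LinearMap.toMatrix' (levLin r g) *ᵥ v) = QfPlus (r + 3) F v
    rw [LinearMap.toMatrix'_mulVec]
    exact Q_levLin r g v⟩
  map_one' := by
    apply Subtype.ext
    apply Units.ext
    show LinearMap.toMatrix' (levLin r 1) = 1
    rw [← LinearMap.toMatrix'_id]
    congr 1
    apply LinearMap.ext
    intro v
    rw [levLin_one, LinearMap.id_apply]
  map_mul' g h := by
    apply Subtype.ext
    apply Units.ext
    show LinearMap.toMatrix' (levLin r (g * h)) =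
      LinearMap.toMatrix' (levLin r g) * LinearMap.toMatrix' (levLin r h)
    rw [← LinearMap.toMatrix'_comp]
    congr 1
    apply LinearMap.ext
    intro v
    rw [levLin_mul, LinearMap.comp_apply]

theorem lev_mulVec (r : ℕ) (g : GO (r + 2) F) (v : Vm (r + 3) F) :
    mt (QfPlus (r + 3) F) (lev r g) *ᵥ v = v (Sum.inl 0) • e0 r + v (Sum.inr 0) • f0 r +
      emb r (mt (QfPlus (r + 2) F) g *ᵥ res r v) := by
  show LinearMap.toMatrix' (levLin r g) *ᵥ v = _
  rw [LinearMap.toMatrix'_mulVec, levLin_apply]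

theorem lev_mulVec_decomp (r : ℕ) (g : GO (r + 2) F) (a b : F) (w : Vm (r + 2) F) :
    mt (QfPlus (r + 3) F) (lev r g) *ᵥ (a • e0 r + b • f0 r + emb r w) =
      a • e0 r + b • f0 r + emb r (mt (QfPlus (r + 2) F) g *ᵥ w) := by
  show LinearMap.toMatrix' (levLin r g) *ᵥ _ = _
  rw [LinearMap.toMatrix'_mulVec, levLin_decomp]

theorem lev_mulVec_emb (r : ℕ) (g : GO (r + 2) F) (w : Vm (r + 2) F) :
    mt (QfPlus (r + 3) F) (lev r g) *ᵥ emb r w = emb r (mt (QfPlus (r + 2) F) g *ᵥ w) := by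
  have h := lev_mulVec_decomp r g 0 0 w
  rw [zero_smul, zero_smul, zero_add, zero_add, zero_add] at h
  exact h

theorem lev_mulVec_e0 (r : ℕ) (g : GO (r + 2) F) :
    mt (QfPlus (r + 3) F) (lev r g) *ᵥ e0 r = e0 r := by
  have h := lev_mulVec_decomp r g 1 0 0
  rw [one_smul, zero_smul, Matrix.mulVec_zero, map_zero, add_zero, add_zero] at h
  exact h

theorem lev_mulVec_f0 (r : ℕ) (g : GO (r + 2) F) :
    mt (QfPlus (r + 3) F) (lev r g) *ᵥ f0 r = f0 r := by
  have h := lev_mulVec_decomp r g 0 1 0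
  rw [one_smul, zero_smul, Matrix.mulVec_zero, map_zero, add_zero, zero_add] at h
  exact h

/-- the Levi factor normalises `A` -/
theorem lev_conj_rE (r : ℕ) (g : GO (r + 2) F) (w : Vm (r + 2) F) :
    lev r g * rE r w * (lev r g)⁻¹ = rE r (mt (QfPlus (r + 2) F) g *ᵥ w) := by
  rw [rE, siegO_conj (QfPlus (r + 3) F) (lev r g) (Q_e0 r) (B_e0_emb r w)
    (by rw [lev_mulVec_e0]; exact Q_e0 r)
    (by rw [lev_mulVec_e0, lev_mulVec_emb]; exact B_e0_emb r _)]
  exact siegO_congr _ _ _ _ _ (lev_mulVec_e0 r g) (lev_mulVec_emb r g w)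

/-- `lev` maps Siegel transformations to Siegel transformations -/
theorem lev_siegO (r : ℕ) (u v : Vm (r + 2) F) (hu : QfPlus (r + 2) F u = 0)
    (huv : B (QfPlus (r + 2) F) u v = 0) :
    lev r (siegO (QfPlus (r + 2) F) u v hu huv) =
      siegO (QfPlus (r + 3) F) (emb r u) (emb r v) (by rw [Q_emb]; exact hu)
        (by rw [B_emb_emb]; exact huv) := by
  apply O_ext
  intro x
  rw [decomp r x, lev_mulVec_decomp, siegO_mulVec, siegO_mulVec, Q_emb]
  have h1 : ∀ y : Vm (r + 2) F, B (QfPlus (r + 3) F) (emb r y)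
      (x (Sum.inl 0) • e0 r + x (Sum.inr 0) • f0 r + emb r (res r x)) =
      B (QfPlus (r + 2) F) y (res r x) := by
    intro y
    rw [B_eq, B_eq]
    have h := pB_decomp r (0 : F) 0 (x (Sum.inl 0)) (x (Sum.inr 0)) y (res r x)
    simp only [zero_smul, zero_add, zero_mul] at h
    exact h
  rw [h1, h1]
  simp only [map_add, map_sub, map_smul]
  abel

theorem lev_mem_Omega (r : ℕ) (g : GO (r + 2) F) (hg : g ∈ Cfsg.Omega F ⇑(QfPlus (r + 2) F)) :
    lev r g ∈ Cfsg.Omega F ⇑(QfPlus (r + 3) F) := by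
  have h1 : lev r g ∈ (commutator (GO (r + 2) F)).map (lev r) := ⟨g, hg, rfl⟩
  rw [commutator_def, Subgroup.map_commutator] at h1
  exact Subgroup.commutator_mono le_top le_top h1

/-- the Levi embedding `Ω(W) → Ω(V)` -/
noncomputable def levΩ (r : ℕ) : Om (r + 2) F →* Om (r + 3) F where
  toFun g := ⟨lev r g.1, lev_mem_Omega r g.1 g.2⟩
  map_one' := Subtype.ext (map_one (lev r))
  map_mul' g h := Subtype.ext (map_mul (lev r) g.1 h.1)

theorem levΩ_coe (r : ℕ) (g : Om (r + 2) F) :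
    ((levΩ r g : Om (r + 3) F) : GO (r + 3) F) = lev r g.1 := rfl

/-! ### numerical functions -/

/-- the bound `B⁺(n) = (q^n - 1)(q^(n-1) + q)/(q^2 - 1)` -/
def Bp (q n : ℕ) : ℕ := (q ^ n - 1) * (q ^ (n - 1) + q) / (q ^ 2 - 1)

/-- the number `(q^m - 1)(q^(m-1) + 1)` of nonzero singular vectors of a plus type space of
dimension `2m` -/
def sg (q m : ℕ) : ℕ := (q ^ m - 1) * (q ^ (m - 1) + 1)

/-! ### standard vectors of `W`, the long root element `s1`, the torus -/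

/-- `e_0` of `W` -/
def a1 (r : ℕ) : Vm (r + 2) F := Pi.single (Sum.inl 0) 1

/-- `e_1` of `W` -/
def b1 (r : ℕ) : Vm (r + 2) F := Pi.single (Sum.inl 1) 1

theorem Q_a1 (r : ℕ) : QfPlus (r + 2) F (a1 r) = 0 := by
  rw [Qf_apply]
  apply Finset.sum_eq_zero
  intro i _
  simp [a1]

theorem Q_b1 (r : ℕ) : QfPlus (r + 2) F (b1 r) = 0 := by
  rw [Qf_apply]
  apply Finset.sum_eq_zero
  intro i _
  simp [b1]

theorem pB_a1 (r : ℕ) (x : Vm (r + 2) F) : pB (r + 2) F (a1 r) x = x (Sum.inr 0) := by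
  rw [pB_apply, Finset.sum_eq_single (0 : Fin (r + 2))]
  · simp [a1]
  · intro i _ hi
    simp [a1, hi]
  · intro h
    exact absurd (Finset.mem_univ _) h

theorem pB_b1 (r : ℕ) (x : Vm (r + 2) F) : pB (r + 2) F (b1 r) x = x (Sum.inr 1) := by
  rw [pB_apply, Finset.sum_eq_single (1 : Fin (r + 2))]
  · simp [b1]
  · intro i _ hi
    simp [b1, hi]
  · intro h
    exact absurd (Finset.mem_univ _) h

theorem B_a1_b1 (r : ℕ) : B (QfPlus (r + 2) F) (a1 r) (b1 r) = 0 := by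
  rw [B_eq, pB_a1]
  simp [b1]

/-- the long root element `ρ_{e_0, e_1}` of `O(W)` -/
noncomputable def s1 (r : ℕ) : GO (r + 2) F :=
  siegO (QfPlus (r + 2) F) (a1 r) (b1 r) (Q_a1 r) (B_a1_b1 r)

theorem s1_mem [Fintype F] (r : ℕ) (hr : 1 ≤ r) : (s1 r : GO (r + 2) F) ∈ Cfsg.Omega F ⇑(QfPlus (r + 2) F) :=
  siegO_mem_Om (r + 2) (by omega) _ _ _ _

/-- `s1` as an element of `Ω(W)` -/
noncomputable def s1Ω [Fintype F] (r : ℕ) (hr : 1 ≤ r) : Om (r + 2) F := ⟨s1 r, s1_mem r hr⟩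

theorem s1_mulVec (r : ℕ) (x : Vm (r + 2) F) :
    mt (QfPlus (r + 2) F) (s1 r) *ᵥ x = x + x (Sum.inr 0) • b1 r - x (Sum.inr 1) • a1 r := by
  rw [s1, siegO_mulVec, Q_b1, zero_mul, zero_smul, sub_zero, B_eq, B_eq, pB_a1, pB_b1]

/-- the torus element `diag(t, t⁻¹)` on `⟨e0, f0⟩` times `diag(t, t⁻¹)` on the first hyperbolic
pair of `W` -/
noncomputable def tor [Fintype F] (r : ℕ) (t : F) (ht : t ≠ 0) : GO (r + 3) F :=
  pj 0 t ht * lev r (pj 0 t ht)

/-! ### the orbit relation on the characters of `A` -/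

/-- `b ∼ b'` : some `g ∈ Ω(V)` normalises `A` and carries the character `λ_b` to `λ_b'` -/
def Rel [Fintype F] (r : ℕ) (b b' : Vm (r + 2) F) : Prop :=
  ∃ (g : Om (r + 3) F) (e : Multiplicative (Vm (r + 2) F) ≃ Multiplicative (Vm (r + 2) F)),
    (∀ a, rEΩ r (e a) = g * rEΩ r a * g⁻¹) ∧
    ∀ a, pB (r + 2) F b' (Multiplicative.toAdd (e a)) = pB (r + 2) F b (Multiplicative.toAdd a)

/-! ### the set of long root pairs -/

/-- pairs `(u, v)` of singular, orthogonal, independent vectors of `V` -/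
def Pair (r : ℕ) (F : Type*) [Field F] : Type _ :=
  {p : Vm (r + 3) F × Vm (r + 3) F // QfPlus (r + 3) F p.1 = 0 ∧ QfPlus (r + 3) F p.2 = 0 ∧
    B (QfPlus (r + 3) F) p.1 p.2 = 0 ∧ Indep p.1 p.2}

/-- the long root element of a pair -/
noncomputable def Pair.elt [Fintype F] {r : ℕ} (p : Pair r F) : Om (r + 3) F :=
  ⟨siegO (QfPlus (r + 3) F) p.1.1 p.1.2 p.2.1 p.2.2.2.1, siegO_mem_Om (r + 3) (by omega) _ _ _ _⟩

theorem indep_map {m : ℕ} (g : GO m F) {u v : Vm m F} (h : Indep u v) :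
    Indep (mt (QfPlus m F) g *ᵥ u) (mt (QfPlus m F) g *ᵥ v) := by
  intro x y hxy
  apply h x y
  have h1 : mt (QfPlus m F) g *ᵥ (x • u + y • v) = 0 := by
    rw [Matrix.mulVec_add, Matrix.mulVec_smul, Matrix.mulVec_smul]
    exact hxy
  have h2 := congrArg (fun z => mt (QfPlus m F) g⁻¹ *ᵥ z) h1
  simp only [mt_inv_mulVec, Matrix.mulVec_zero] at h2
  exact h2

/-- the action of `Ω(V)` on pairs -/
noncomputable def Pair.act {r : ℕ} (g : Om (r + 3) F) (p : Pair r F) : Pair r F :=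
  ⟨(mt (QfPlus (r + 3) F) g.1 *ᵥ p.1.1, mt (QfPlus (r + 3) F) g.1 *ᵥ p.1.2), by
    refine ⟨?_, ?_, ?_, ?_⟩
    · show QfPlus (r + 3) F (mt (QfPlus (r + 3) F) g.1 *ᵥ p.1.1) = 0
      rw [isom_apply]; exact p.2.1
    · show QfPlus (r + 3) F (mt (QfPlus (r + 3) F) g.1 *ᵥ p.1.2) = 0
      rw [isom_apply]; exact p.2.2.1
    · show B (QfPlus (r + 3) F) (mt (QfPlus (r + 3) F) g.1 *ᵥ p.1.1)
        (mt (QfPlus (r + 3) F) g.1 *ᵥ p.1.2) = 0
      rw [B_isom]; exact p.2.2.2.1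
    · exact indep_map g.1 p.2.2.2.2⟩

theorem Pair.elt_coe [Fintype F] {r : ℕ} (p : Pair r F) :
    ((p.elt : Om (r + 3) F) : GO (r + 3) F) =
      siegO (QfPlus (r + 3) F) p.1.1 p.1.2 p.2.1 p.2.2.2.1 := rfl

theorem Pair.elt_act [Fintype F] {r : ℕ} (g : Om (r + 3) F) (p : Pair r F) :
    (Pair.act g p).elt = g * p.elt * g⁻¹ := by
  apply Subtype.ext
  rw [Subgroup.coe_mul, Subgroup.coe_mul, Subgroup.coe_inv, Pair.elt_coe, Pair.elt_coe,
    siegO_conj (QfPlus (r + 3) F) g.1 p.2.1 p.2.2.2.1 (Pair.act g p).2.1 (Pair.act g p).2.2.2.1]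
  rfl

theorem Pair.act_injective {r : ℕ} (g : Om (r + 3) F) :
    Function.Injective (Pair.act g : Pair r F → Pair r F) := by
  intro p p' h
  have h1 := congrArg (fun z : Pair r F => z.1) h
  simp only [Pair.act, Prod.mk.injEq] at h1
  apply Subtype.ext
  apply Prod.ext
  · have := congrArg (fun z => mt (QfPlus (r + 3) F) g.1⁻¹ *ᵥ z) h1.1
    simpa only [mt_inv_mulVec] using this
  · have := congrArg (fun z => mt (QfPlus (r + 3) F) g.1⁻¹ *ᵥ z) h1.2
    simpa only [mt_inv_mulVec] using this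

noncomputable instance pairFintype [Fintype F] (r : ℕ) : Fintype (Pair r F) := by
  unfold Pair
  exact Fintype.ofFinite _

/-! ### isometries of `W` acting on `A` and its characters -/

theorem pB_isom {m : ℕ} (g : GO m F) (x y : Vm m F) :
    pB m F (mt (QfPlus m F) g *ᵥ x) (mt (QfPlus m F) g *ᵥ y) = pB m F x y := by
  rw [← B_eq, ← B_eq]
  exact B_isom (QfPlus m F) g x y

theorem pj_mulVec {m : ℕ} [Fintype F] (j : Fin m) (μ : F) (hμ : μ ≠ 0) (x : Vm m F)
    (i : Fin m ⊕ Fin m) :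
    (mt (QfPlus m F) (pj j μ hμ) *ᵥ x) i = dfun j μ i * x i := by
  show (((pj j μ hμ : GL (Fin m ⊕ Fin m) F) : Matrix _ _ F) *ᵥ x) i = _
  rw [pj_val, Matrix.mulVec_diagonal]

/-- `w ↦ h w` on `A` -/
def eqW {m : ℕ} (h : GO m F) : Multiplicative (Vm m F) ≃ Multiplicative (Vm m F) where
  toFun w := Multiplicative.ofAdd (mt (QfPlus m F) h *ᵥ Multiplicative.toAdd w)
  invFun w := Multiplicative.ofAdd (mt (QfPlus m F) h⁻¹ *ᵥ Multiplicative.toAdd w)
  left_inv w := by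
    show Multiplicative.ofAdd (mt (QfPlus m F) h⁻¹ *ᵥ (mt (QfPlus m F) h *ᵥ _)) = w
    rw [mt_inv_mulVec]
    rfl
  right_inv w := by
    show Multiplicative.ofAdd (mt (QfPlus m F) h *ᵥ (mt (QfPlus m F) h⁻¹ *ᵥ _)) = w
    rw [mt_mulVec_inv]
    rfl

theorem eqW_apply {m : ℕ} (h : GO m F) (w : Multiplicative (Vm m F)) :
    Multiplicative.toAdd (eqW h w) = mt (QfPlus m F) h *ᵥ Multiplicative.toAdd w := rfl

theorem rEΩ_eqW [Fintype F] (r : ℕ) (h : Om (r + 2) F) (a : Multiplicative (Vm (r + 2) F)) :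
    rEΩ r (eqW h.1 a) = levΩ r h * rEΩ r a * (levΩ r h)⁻¹ := by
  apply Subtype.ext
  rw [Subgroup.coe_mul, Subgroup.coe_mul, Subgroup.coe_inv, rEΩ_coe, rEΩ_coe, levΩ_coe,
    lev_conj_rE]
  rfl

theorem lamW_eqW {m : ℕ} (ψ : AddChar F ℂ) (h : GO m F) (b : Vm m F)
    (a : Multiplicative (Vm m F)) :
    lamW m ψ (mt (QfPlus m F) h *ᵥ b) (eqW h a) = lamW m ψ b a := by
  rw [lamW_apply, lamW_apply, eqW_apply, pB_isom]

theorem rel_lev [Fintype F] (r : ℕ) (h : Om (r + 2) F) (b : Vm (r + 2) F) :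
    Rel r b (mt (QfPlus (r + 2) F) h.1 *ᵥ b) :=
  ⟨levΩ r h, eqW h.1, rEΩ_eqW r h, fun a => by rw [eqW_apply, pB_isom]⟩

theorem levΩ_mem_fixer [Fintype F] (r : ℕ) (ψ : AddChar F ℂ) (b : Vm (r + 2) F)
    (δ : Om (r + 2) F) (hδ : mt (QfPlus (r + 2) F) δ.1 *ᵥ b = b) :
    levΩ r δ ∈ Cfsg.Agent.Helper12.LSL.fixer (rEΩ r) (lamW (r + 2) ψ b) := by
  refine ⟨eqW δ.1, rEΩ_eqW r δ, fun a => ?_⟩
  have h := lamW_eqW ψ δ.1 b a
  rw [hδ] at h
  exact h

theorem Rel.refl [Fintype F] (r : ℕ) (b : Vm (r + 2) F) : Rel r b b :=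
  ⟨1, Equiv.refl _, fun a => by simp, fun a => rfl⟩

theorem Rel.trans [Fintype F] {r : ℕ} {b b' b'' : Vm (r + 2) F} (h : Rel r b b')
    (h' : Rel r b' b'') : Rel r b b'' := by
  obtain ⟨g, e, he, hl⟩ := h
  obtain ⟨g', e', he', hl'⟩ := h'
  refine ⟨g' * g, e.trans e', fun a => ?_, fun a => ?_⟩
  · show rEΩ r (e' (e a)) = _
    rw [he', he, _root_.mul_inv_rev]
    group
  · show pB (r + 2) F b'' (Multiplicative.toAdd (e' (e a))) = _
    rw [hl', hl]

end Cfsg.Agent.Helper13.OP
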