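import Mathlib
import Cfsg.Agent.Helper13.FusionCrit

/-!
Sylow 2-subgroups of an extension `N.2` meet non-trivially when `N` has a self-normalising 2-subgroup `U` whose
"opposite" conjugates are permuted transitively by `U` (as for the upper unitriangular group of `GL_n(2)`).
-/

set_option autoImplicit false

namespace Cfsg.Agent.Helper13.OppSylow

open Subgroup
open scoped Pointwise

variable {G : Type*} [Group G] [Finite G]

theorem inter_ne_bot (N : Subgroup G) [hNn : N.Normal] (hidx : N.index = 2) (U : Subgroup G) (hUN : U ≤ N)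
    (hU2 : IsPGroup 2 U)
    (hnorm : ∀ y ∈ N, (∀ u, u ∈ U ↔ y * u * y⁻¹ ∈ U) → y ∈ U)
    (hopp : ∀ g ∈ N, ∀ h ∈ N, (∀ u ∈ U, g⁻¹ * u * g ∈ U → u = 1) → (∀ u ∈ U, h⁻¹ * u * h ∈ U → u = 1) →
      ∃ b ∈ U, ∀ u, g⁻¹ * u * g ∈ U ↔ h⁻¹ * (b * u * b⁻¹) * h ∈ U)
    (H : Sylow 2 G) (x : G) : (H : Subgroup G) ⊓ MulAut.conj x • (H : Subgroup G) ≠ ⊥ := by
  have h2 : Fact (Nat.Prime 2) := ⟨Nat.prime_two⟩
  -- the normaliser of `U`
  have hNU_mem : ∀ y, y ∈ normalizer (U : Set G) ↔ ∀ u, u ∈ U ↔ y * u * y⁻¹ ∈ U := fun y => mem_normalizer_iff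
  have hU_le : U ≤ normalizer (U : Set G) := le_normalizer
  have hNU_inf : ∀ y, y ∈ normalizer (U : Set G) → y ∈ N → y ∈ U := fun y hy hyN => hnorm y hyN ((hNU_mem y).mp hy)
  -- it is a 2-group
  have hNU2 : IsPGroup 2 (normalizer (U : Set G)) := by
    intro k
    have hk2 : (k : G) * k ∈ N := Subgroup.mul_self_mem_of_index_two hidx k
    have hkU : (k : G) * k ∈ U := hNU_inf _ (Subgroup.mul_mem _ k.2 k.2) hk2
    obtain ⟨j, hj⟩ := hU2 ⟨(k : G) * k, hkU⟩
    refine ⟨j + 1, ?_⟩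
    apply Subtype.ext
    have hj' : ((k : G) * k) ^ 2 ^ j = 1 := by
      have := congrArg Subtype.val hj
      simpa using this
    show ((k ^ 2 ^ (j + 1) : normalizer (U : Set G)) : G) = 1
    rw [Subgroup.coe_pow, pow_succ, pow_mul', ← hj', pow_two]
  -- it is self-normalising, hence a Sylow subgroup
  have hNN : normalizer ((normalizer (U : Set G) : Subgroup G) : Set G) ≤ normalizer (U : Set G) := by
    intro y hy
    rw [hNU_mem]
    intro u
    have hy' := mem_normalizer_iff.mp hy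
    constructor
    · intro hu
      apply hNU_inf
      · exact (hy' u).mp (hU_le hu)
      · exact hNn.conj_mem u (hUN hu) y
    · intro hu
      have h1 : u ∈ normalizer (U : Set G) := (hy' u).mpr (hU_le hu)
      apply hNU_inf _ h1
      have h3 : u = y⁻¹ * (y * u * y⁻¹) * y⁻¹⁻¹ := by group
      rw [h3]
      exact hNn.conj_mem _ (hUN hu) y⁻¹
  obtain ⟨S0, hS0⟩ := Cfsg.Agent.Helper13.FusionCrit.exists_sylow_of_normalizer_le _ hNU2 hNN
  -- an element of the normaliser outside `N`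
  obtain ⟨s1, hs1, hs1N⟩ : ∃ s1, s1 ∈ normalizer (U : Set G) ∧ s1 ∉ N := by
    by_contra hcon
    push Not at hcon
    have hle : normalizer (U : Set G) ≤ N := fun y hy => hcon y hy
    have hdvd := Subgroup.index_dvd_of_le hle
    rw [hidx, ← hS0] at hdvd
    exact S0.not_dvd_index hdvd
  -- the core
  have core : ∀ x' : G, ∃ s, s ≠ 1 ∧ s ∈ normalizer (U : Set G) ∧ x'⁻¹ * s * x' ∈ normalizer (U : Set G) := by
    intro x'
    by_cases hcase : ∃ u ∈ U, u ≠ 1 ∧ x'⁻¹ * u * x' ∈ U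
    · obtain ⟨u, hu, hu1, hux⟩ := hcase
      exact ⟨u, hu1, hU_le hu, hU_le hux⟩
    · push Not at hcase
      have hs1' := (hNU_mem s1).mp hs1
      have hs1inv : ∀ u, u ∈ U ↔ s1⁻¹ * u * s1 ∈ U := by
        intro u
        rw [hs1' (s1⁻¹ * u * s1)]
        have : s1 * (s1⁻¹ * u * s1) * s1⁻¹ = u := by group
        rw [this]
      -- `g ∈ N` with the same conjugate of `U` as `x'`
      obtain ⟨g, hgN, hg⟩ : ∃ g ∈ N, ∀ u, g⁻¹ * u * g ∈ U ↔ x'⁻¹ * u * x' ∈ U := by
        by_cases hx' : x' ∈ N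
        · exact ⟨x', hx', fun u => Iff.rfl⟩
        · refine ⟨x' * s1⁻¹, ?_, ?_⟩
          · rw [Subgroup.mul_mem_iff_of_index_two hidx]
            constructor
            · intro h; exact absurd h hx'
            · intro h; exact absurd (N.inv_mem_iff.mp h) hs1N
          · intro u
            have h3 : (x' * s1⁻¹)⁻¹ * u * (x' * s1⁻¹) = s1 * (x'⁻¹ * u * x') * s1⁻¹ := by group
            rw [h3]
            exact (hs1' _).symm
      have hgtriv : ∀ u ∈ U, g⁻¹ * u * g ∈ U → u = 1 := by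
        intro u hu hgu
        by_contra hne
        exact hcase u hu hne ((hg u).mp hgu)
      have hhN : s1 * g * s1⁻¹ ∈ N := hNn.conj_mem g hgN s1
      have hhtriv : ∀ u ∈ U, (s1 * g * s1⁻¹)⁻¹ * u * (s1 * g * s1⁻¹) ∈ U → u = 1 := by
        intro u hu hhu
        have h3 : (s1 * g * s1⁻¹)⁻¹ * u * (s1 * g * s1⁻¹) = s1 * (g⁻¹ * (s1⁻¹ * u * s1) * g) * s1⁻¹ := by group
        rw [h3, ← hs1'] at hhu
        have h4 := hgtriv _ ((hs1inv u).mp hu) hhu
        have h5 : u = s1 * (s1⁻¹ * u * s1) * s1⁻¹ := by group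
        rw [h5, h4]
        group
      obtain ⟨b, hb, hbeq⟩ := hopp _ hhN g hgN hhtriv hgtriv
      refine ⟨b * s1, ?_, Subgroup.mul_mem _ (hU_le hb) hs1, ?_⟩
      · intro h1
        apply hs1N
        have : s1 = b⁻¹ := eq_inv_of_mul_eq_one_right h1
        rw [this]
        exact N.inv_mem (hUN hb)
      · rw [hNU_mem]
        intro u
        -- with `v = x' u x'⁻¹`
        have key : ∀ v, g⁻¹ * v * g ∈ U ↔ g⁻¹ * (b * s1 * v * (b * s1)⁻¹) * g ∈ U := by
          intro v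
          have h6 := hbeq (s1 * v * s1⁻¹)
          have h7 : (s1 * g * s1⁻¹)⁻¹ * (s1 * v * s1⁻¹) * (s1 * g * s1⁻¹) = s1 * (g⁻¹ * v * g) * s1⁻¹ := by group
          have h8 : b * (s1 * v * s1⁻¹) * b⁻¹ = b * s1 * v * (b * s1)⁻¹ := by group
          rw [h7, h8, ← hs1'] at h6
          exact h6
        have h9 := key (x' * u * x'⁻¹)
        rw [hg, hg] at h9
        have h10 : x'⁻¹ * (x' * u * x'⁻¹) * x' = u := by group
        have h11 : x'⁻¹ * (b * s1 * (x' * u * x'⁻¹) * (b * s1)⁻¹) * x' =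
            x'⁻¹ * (b * s1) * x' * u * (x'⁻¹ * (b * s1) * x')⁻¹ := by group
        rw [h10, h11] at h9
        exact h9
  -- conclusion
  obtain ⟨c, hc⟩ := MulAction.exists_smul_eq G S0 H
  have hmemH : ∀ y : G, y ∈ (H : Subgroup G) ↔ c⁻¹ * y * c ∈ normalizer (U : Set G) := by
    intro y
    rw [← hc, Sylow.coe_subgroup_smul, Subgroup.mem_pointwise_smul_iff_inv_smul_mem, MulAut.smul_def,
      ← map_inv, MulAut.conj_apply, inv_inv, hS0]
  obtain ⟨s, hs1', hsN, hsx⟩ := core (c⁻¹ * x * c)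
  intro hbot
  have hmem : c * s * c⁻¹ ∈ (H : Subgroup G) ⊓ MulAut.conj x • (H : Subgroup G) := by
    refine Subgroup.mem_inf.mpr ⟨?_, ?_⟩
    · rw [hmemH]
      have : c⁻¹ * (c * s * c⁻¹) * c = s := by group
      rw [this]
      exact hsN
    · rw [Subgroup.mem_pointwise_smul_iff_inv_smul_mem, MulAut.smul_def, ← map_inv, MulAut.conj_apply, inv_inv,
        hmemH]
      have : c⁻¹ * (x⁻¹ * (c * s * c⁻¹) * x) * c = (c⁻¹ * x * c)⁻¹ * s * (c⁻¹ * x * c) := by group
      rw [this]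
      exact hsx
  rw [hbot, Subgroup.mem_bot] at hmem
  apply hs1'
  have : s = c⁻¹ * (c * s * c⁻¹) * c := by group
  rw [this, hmem]
  group

end Cfsg.Agent.Helper13.OppSylow
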