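import Mathlib

set_option autoImplicit false

/-!
# S2490 (a group of order 7920 with disconnected prime graph is simple): shared definitions

`Disc G S`: `|G| = 7920` and `S` is the side of the prime `11` in a partition of `{2, 3, 5, 11}`
into two non-empty parts without edges of the prime graph between them.
`L1 G`, `L2 G`: two general lemmas (fixed-point-free action; invariant Sylow subgroups), as
`Prop`s so that they can be passed as hypotheses.
-/

namespace Cfsg.Agent.Helper13.PG

/-- `|G| = 7920` and `S ∋ 11` is one side of a partition of `{2,3,5,11}` with no edge of the prime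
graph between `S` and its complement, the complement containing one of `2, 3, 5`. -/
structure Disc (G : Type*) [Group G] (S : Set ℕ) : Prop where
  card : Nat.card G = 7920
  mem11 : 11 ∈ S
  exB : ∃ q : ℕ, (q = 2 ∨ q = 3 ∨ q = 5) ∧ q ∉ S
  noedge : ∀ p q : ℕ, (p = 2 ∨ p = 3 ∨ p = 5 ∨ p = 11) → (q = 2 ∨ q = 3 ∨ q = 5 ∨ q = 11) →
    p ∈ S → q ∉ S → ∀ g : G, orderOf g ≠ p * q

/-- Fixed-point-free action: an `r`-group `R` normalizing an `s`-group `Q` (`r ≠ s`), in a group
without elements of order `r * s`, has `|R|` dividing `|Q| - 1`. -/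
def L1 (G : Type*) [Group G] : Prop :=
  ∀ r s : ℕ, r.Prime → s.Prime → r ≠ s → ∀ R Q : Subgroup G, IsPGroup r ↥R → IsPGroup s ↥Q →
    R ≤ Subgroup.normalizer (Q : Set G) → (∀ g : G, orderOf g ≠ r * s) →
    Nat.card ↥R ∣ Nat.card ↥Q - 1

/-- Invariant Sylow subgroups: an `r`-subgroup `R` of `G` normalizes some Sylow `s`-subgroup of a
normal subgroup `N` of order prime to `r`. -/
def L2 (G : Type*) [Group G] : Prop :=
  ∀ r s : ℕ, r.Prime → s.Prime → ∀ N : Subgroup G, N.Normal → ∀ R : Subgroup G, IsPGroup r ↥R →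
    ¬ r ∣ Nat.card ↥N → ∃ Q : Subgroup G, Q ≤ N ∧
      Nat.card ↥Q = s ^ (Nat.card ↥N).factorization s ∧ R ≤ Subgroup.normalizer (Q : Set G)

end Cfsg.Agent.Helper13.PG
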