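import Mathlib
import Cfsg.Agent.Helper13.PGDefs

set_option autoImplicit false

/-! # S2490 piece INV: invariant Sylow subgroups of a normal subgroup (`L2`) -/

namespace Cfsg.Agent.Helper13.PG

open Subgroup
open scoped Pointwise

variable {G : Type*} [Group G]

theorem normalizer_map_conj (Q : Subgroup G) (g : G) :
    normalizer ((Q.map (MulAut.conj g).toMonoidHom : Subgroup G) : Set G) =
      (normalizer (Q : Set G)).map (MulAut.conj g).toMonoidHom :=
  (map_equiv_normalizer_eq Q (MulAut.conj g)).symm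

theorem l2 [Finite G] : L2 G := by
  intro r s hr hs N hNn R hR hrN
  have := hNn
  have : Fact r.Prime := ⟨hr⟩
  have : Fact s.Prime := ⟨hs⟩
  classical
  -- a Sylow `s`-subgroup of `N`
  obtain ⟨P₀⟩ : Nonempty (Sylow s ↥N) := inferInstance
  set Q₀ : Subgroup G := (P₀ : Subgroup ↥N).map N.subtype with hQ₀
  have hQ₀N : Q₀ ≤ N := by
    rintro x ⟨y, -, rfl⟩
    exact y.2
  have hQ₀card : Nat.card ↥Q₀ = s ^ (Nat.card ↥N).factorization s := by
    rw [hQ₀, Subgroup.card_map_of_injective N.subtype_injective]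
    exact P₀.card_eq_multiplicity
  -- Frattini
  have hfr : normalizer (Q₀ : Set G) ⊔ N = ⊤ := Sylow.normalizer_sup_eq_top P₀
  set M : Subgroup G := normalizer (Q₀ : Set G) with hM
  -- `N.index` divides `|M|`
  have h1 : N.index ∣ Nat.card ↥M := by
    have h2 : N.relIndex (M ⊔ N) = N.relIndex M := relIndex_sup_right M N
    rw [hfr, relIndex_top_right] at h2
    rw [h2]
    exact relIndex_dvd_card N M
  -- the `r`-part of `|G|`
  have hGN : Nat.card G = Nat.card ↥N * N.index := (N.card_mul_index).symm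
  set v := (Nat.card G).factorization r with hv
  have hv1 : r ^ v ∣ N.index := by
    have h3 : r ^ v ∣ Nat.card ↥N * N.index := by
      rw [← hGN]; exact Nat.ordProj_dvd _ _
    have hcop : Nat.Coprime (r ^ v) (Nat.card ↥N) :=
      Nat.Coprime.pow_left _ ((Nat.Prime.coprime_iff_not_dvd hr).mpr hrN)
    exact hcop.dvd_of_dvd_mul_left h3
  have hv2 : r ^ v ∣ Nat.card ↥M := hv1.trans h1
  -- a Sylow `r`-subgroup of `M` is a Sylow `r`-subgroup of `G`
  obtain ⟨R₁, hR₁card⟩ := Sylow.exists_subgroup_card_pow_prime r hv2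
  set R₁G : Subgroup G := R₁.map M.subtype with hR₁G
  have hR₁Gcard : Nat.card ↥R₁G = r ^ v := by
    rw [hR₁G, Subgroup.card_map_of_injective M.subtype_injective, hR₁card]
  have hR₁M : R₁G ≤ M := by
    rintro x ⟨y, -, rfl⟩
    exact y.2
  let R₁S : Sylow r G := Sylow.ofCard R₁G hR₁Gcard
  obtain ⟨Rt, hRRt⟩ := hR.exists_le_sylow
  obtain ⟨g, hg⟩ := MulAction.exists_smul_eq G R₁S Rt
  refine ⟨Q₀.map (MulAut.conj g).toMonoidHom, ?_, ?_, ?_⟩
  · rintro x ⟨y, hy, rfl⟩
    simp only [MulEquiv.coe_toMonoidHom, MulAut.conj_apply]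
    exact hNn.conj_mem y (hQ₀N hy) g
  · rw [Subgroup.card_map_of_injective (MulAut.conj g).injective]
    exact hQ₀card
  · rw [normalizer_map_conj]
    intro x hx
    have hx' : x ∈ (Rt : Subgroup G) := hRRt hx
    rw [← hg] at hx'
    rw [Sylow.smul_def] at hx'
    have hx2 : x ∈ MulAut.conj g • (R₁S : Subgroup G) := hx'
    rw [Subgroup.mem_pointwise_smul_iff_inv_smul_mem] at hx2
    have hx'' : (MulAut.conj g)⁻¹ • x ∈ R₁G := hx2
    refine ⟨(MulAut.conj g)⁻¹ • x, hR₁M hx'', ?_⟩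
    simp
    group

end Cfsg.Agent.Helper13.PG
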