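import Mathlib
import Cfsg.Agent.Helper13.PGDefs

set_option autoImplicit false

/-! # S2490 piece RED: normalising the partition of the prime graph -/

namespace Cfsg.Agent.Helper13.PG

variable {G : Type*} [Group G]

theorem prime_dvd_7920 {p : ℕ} (hp : p.Prime) (h : p ∣ 7920) : p = 2 ∨ p = 3 ∨ p = 5 ∨ p = 11 := by
  have e : (7920 : ℕ) = 2 ^ 4 * 3 ^ 2 * 5 * 11 := by norm_num
  rw [e] at h
  rcases (Nat.Prime.dvd_mul hp).mp h with h | h
  · rcases (Nat.Prime.dvd_mul hp).mp h with h | h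
    · rcases (Nat.Prime.dvd_mul hp).mp h with h | h
      · left
        exact (Nat.prime_dvd_prime_iff_eq hp Nat.prime_two).mp (hp.dvd_of_dvd_pow h)
      · right; left
        exact (Nat.prime_dvd_prime_iff_eq hp Nat.prime_three).mp (hp.dvd_of_dvd_pow h)
    · right; right; left
      exact (Nat.prime_dvd_prime_iff_eq hp Nat.prime_five).mp h
  · right; right; right
    exact (Nat.prime_dvd_prime_iff_eq hp (by norm_num)).mp h

theorem exists_disc [Finite G] (hord : Nat.card G = 7920)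
    (hdisc : ∃ A : Set ℕ, (∃ a ∈ A, a.Prime ∧ a ∣ Nat.card G) ∧
      (∃ b ∉ A, b.Prime ∧ b ∣ Nat.card G) ∧
      ∀ a ∈ A, ∀ b ∉ A, a.Prime → b.Prime → a ∣ Nat.card G → b ∣ Nat.card G →
        ¬ ∃ g : G, orderOf g = a * b) :
    ∃ S : Set ℕ, Disc G S := by
  obtain ⟨A, ⟨a, haA, hap, had⟩, ⟨b, hbA, hbp, hbd⟩, hno⟩ := hdisc
  rw [hord] at had hbd hno
  have hpr : ∀ p : ℕ, (p = 2 ∨ p = 3 ∨ p = 5 ∨ p = 11) → p.Prime ∧ p ∣ 7920 := by
    rintro p (rfl | rfl | rfl | rfl) <;> constructor <;> norm_num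
  by_cases h11 : 11 ∈ A
  · refine ⟨A, hord, h11, ?_, ?_⟩
    · refine ⟨b, ?_, hbA⟩
      rcases prime_dvd_7920 hbp hbd with h | h | h | h
      · left; exact h
      · right; left; exact h
      · right; right; exact h
      · exfalso; rw [h] at hbA; exact hbA h11
    · intro p q hp hq hpS hqS g hg
      exact hno p hpS q hqS (hpr p hp).1 (hpr q hq).1 (hpr p hp).2 (hpr q hq).2 ⟨g, hg⟩
  · refine ⟨Aᶜ, hord, h11, ?_, ?_⟩
    · refine ⟨a, ?_, fun h => h haA⟩
      rcases prime_dvd_7920 hap had with h | h | h | h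
      · left; exact h
      · right; left; exact h
      · right; right; exact h
      · exfalso; rw [h] at haA; exact h11 haA
    · intro p q hp hq hpS hqS g hg
      have hqA : q ∈ A := by
        by_contra hq'
        exact hqS hq'
      apply hno q hqA p hpS (hpr q hq).1 (hpr p hp).1 (hpr q hq).2 (hpr p hp).2
      exact ⟨g, by rw [hg, mul_comm]⟩

end Cfsg.Agent.Helper13.PG
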