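import Mathlib
import Cfsg.Agent.Helper13.PGDefs
import Cfsg.Agent.Helper13.PGRED
import Cfsg.Agent.Helper13.PGINV
import Cfsg.Agent.Helper7.PGFPF
import Cfsg.Agent.Helper7.PGSYLN
import Cfsg.Agent.Helper14.PGCORE
import Cfsg.Agent.Helper14.PGN12
import Cfsg.Agent.Helper16.PGN45B
import Cfsg.Agent.Helper17.PGNO11
import Cfsg.Agent.Helper20.PGALEM
import Cfsg.Agent.Helper20.PGNOCOP
import Cfsg.Agent.Helper23.PGN45A
import Cfsg.Agent.Helper25.PGN144A
import Cfsg.Agent.Helper25.PGN144B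

set_option autoImplicit false

namespace Cfsg.Agent.Helper13.PG

variable {G : Type*} [Group G]

theorem main [Finite G] (hord : Nat.card G = 7920)
    (hdisc : ∃ A : Set ℕ, (∃ a ∈ A, a.Prime ∧ a ∣ Nat.card G) ∧
      (∃ b ∉ A, b.Prime ∧ b ∣ Nat.card G) ∧
      ∀ a ∈ A, ∀ b ∉ A, a.Prime → b.Prime → a ∣ Nat.card G → b ∣ Nat.card G →
        ¬ ∃ g : G, orderOf g = a * b) :
    IsSimpleGroup G := by
  haveI : Fact (Nat.Prime 11) := ⟨by norm_num⟩
  obtain ⟨S, hD⟩ := Cfsg.Agent.Helper13.PG.exists_disc hord hdisc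
  have h1 : L1 G := Cfsg.Agent.Helper7.PG.l1
  have h2 : L2 G := Cfsg.Agent.Helper13.PG.l2
  have hA := fun N hNn hN h11 => Cfsg.Agent.Helper20.PG.normal_coprime_card hD h1 h2 N hNn hN h11
  have hno := fun X hXn hX => Cfsg.Agent.Helper17.PG.no_normal_eleven hD h1 h2 X hXn hX
  have h11 : ∀ N : Subgroup G, N.Normal → N ≠ ⊥ → 11 ∣ Nat.card ↥N :=
    fun N hNn hN => Cfsg.Agent.Helper20.PG.eleven_dvd_of_normal hD h1 h2 hA hno N hNn hN
  obtain ⟨X⟩ : Nonempty (Sylow 11 G) := inferInstance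
  rcases Cfsg.Agent.Helper7.PG.card_sylow_eleven hord with hn | hn | hn | hn
  · -- a normal Sylow 11-subgroup
    exfalso
    have hsub : Subsingleton (Sylow 11 G) := by
      rw [← Finite.card_le_one_iff_subsingleton, hn]
    have hXn : (X : Subgroup G).Normal := Sylow.normal_of_subsingleton X
    apply hno (X : Subgroup G) hXn
    have h3 := X.card_eq_multiplicity
    rw [hord] at h3
    rw [h3]
    have : (7920 : ℕ).factorization 11 = 1 := by
      have e : (7920 : ℕ) = 11 ^ 1 * 720 := by norm_num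
      rw [e, Nat.factorization_mul (by norm_num) (by norm_num), Nat.Prime.factorization_pow (by norm_num)]
      simp
      rw [Nat.factorization_eq_zero_of_not_dvd (by norm_num)]
    rw [this, pow_one]
  · exfalso
    have hne : Nat.card (Sylow 11 G) ≠ 1 := by rw [hn]; norm_num
    exact Cfsg.Agent.Helper14.PG.not_card_sylow_twelve hord X (Cfsg.Agent.Helper14.PG.normalCore_eq_bot hord h11 X hne) hn
  · exfalso
    have hne : Nat.card (Sylow 11 G) ≠ 1 := by rw [hn]; norm_num
    obtain ⟨k, hk, hk1, hk2, hfix⟩ :=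
      Cfsg.Agent.Helper23.PG.exists_two_element_many_fixed hord X (Cfsg.Agent.Helper14.PG.normalCore_eq_bot hord h11 X hne) hn
    exact Cfsg.Agent.Helper16.PG.false_of_two_element_many_fixed hord X hn k hk hk1 hk2 hfix
  · exact Cfsg.Agent.Helper25.PG.simple_of_card_sylow hord h11
      (fun X N hNn hXN hNX => Cfsg.Agent.Helper25.PG.exists_normal_complement hord X N hNn hXN hNX) hn

end Cfsg.Agent.Helper13.PG
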