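import Mathlib
import Cfsg.Agent.Helper5.PUDefs2
import Cfsg.Agent.Helper13.PUB2_QLcore
import Cfsg.Agent.Helper3.PUB2ex
import Cfsg.Agent.Helper21.PUB2_S
import Cfsg.Agent.Helper21.PUB2_ded

/-! Board `pu3pieces`, row B2_QL: `s = 1`: `[Q, L] ≤ Z`.  (Core in `Helper13.PUB2_QLcore`; rows B2_ex, B2_S, B2_ded.) -/

set_option autoImplicit false

namespace Cfsg.Agent.PU

open Subgroup
open scoped commutatorElement

variable {X : Type*} [Group X] (D : Dat X)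

/-- `[Q, Z^n] = [Z, Z^n] ≤ Z`; `⟨(Z^n)^G⟩ Q ≥ S` is normal, so `= G` (`hB.c2`), so `L ≤ ⟨(Z^n)^G⟩` (`hB.c3`) -/
theorem B2_QL (hB : D.Base) (hN : D.NAT) (hs : D.IsS 1) : ⁅D.Q, D.L⁆ ≤ D.Z := by
  obtain ⟨n, hn, hc⟩ := B2_ex D hB hs
  obtain ⟨h1, _⟩ := B2_S D hB hN hs hn hc
  obtain ⟨h3, h4⟩ := B2_ded D hB hN hs hn hc
  exact B2_QL_aux_core D hB h1 h3 h4

end Cfsg.Agent.PU
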