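import Mathlib
import Cfsg.Prelude.Def_Transfer
import Cfsg.Agent.Helper9.PearlFB
import Cfsg.Agent.Helper1.PGroup

set_option autoImplicit false

/-! # S5239 piece X4: a nonabelian group of order `p^3` is extraspecial. -/

namespace Cfsg.Agent.Helper13.Pearl3

open scoped commutatorElement

theorem isExtraspecial_of_card_cube {P : Type*} [Group P] [Finite P] {p : ℕ} [Fact p.Prime]
    (hP : Nat.card P = p ^ 3) (hna : ¬ ∀ a b : P, a * b = b * a) : Cfsg.IsExtraspecial p P := by
  have hpp : p.Prime := Fact.out
  have hna' : ¬ IsMulCommutative P := fun h => hna (fun a b => h.is_comm.comm a b)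
  have hPG : IsPGroup p P := IsPGroup.of_card hP
  have hZ : Nat.card (Subgroup.center P) = p := Cfsg.Agent.Helper9.Pearl.cube_card_center hP hna'
  have hcomZ : commutator P ≤ Subgroup.center P := by
    rw [commutator_def, Subgroup.commutator_le]
    intro a _ b _
    rw [commutatorElement_def]
    exact Cfsg.Agent.Helper9.Pearl.cube_comm_mem_center hP hna' a b
  have hcomne : commutator P ≠ ⊥ := by
    intro h
    apply hna
    intro a b
    have h1 : ⁅a, b⁆ ∈ commutator P := by
      rw [commutator_def]
      exact Subgroup.commutator_mem_commutator (Subgroup.mem_top a) (Subgroup.mem_top b)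
    rw [h, Subgroup.mem_bot, commutatorElement_eq_one_iff_mul_comm] at h1
    exact h1
  have hcomcard : Nat.card (commutator P) = p := by
    have h1 : Nat.card (commutator P) ∣ p := hZ ▸ Subgroup.card_dvd_of_le hcomZ
    rcases (Nat.dvd_prime hpp).mp h1 with h | h
    · exact absurd (Subgroup.card_eq_one.mp h) hcomne
    · exact h
  have hcomeq : commutator P = Subgroup.center P :=
    Subgroup.eq_of_le_of_card_ge hcomZ (by rw [hZ, hcomcard])
  have hZfr : Subgroup.center P ≤ frattini P := by
    rw [← hcomeq]
    exact Cfsg.Agent.Helper1.IsPGroup.commutator_le_frattini hPG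
  -- the Frattini subgroup has order p
  have hfrcard : Nat.card (frattini P) = p := by
    have hdvd : Nat.card (frattini P) ∣ p ^ 3 := hP ▸ Subgroup.card_subgroup_dvd_card _
    obtain ⟨k, hk3, hk⟩ := (Nat.dvd_prime_pow hpp).mp hdvd
    have hge : p ∣ Nat.card (frattini P) := hZ ▸ Subgroup.card_dvd_of_le hZfr
    have hk1 : 1 ≤ k := by
      by_contra h0
      have : k = 0 := by omega
      rw [hk, this, pow_zero] at hge
      exact hpp.one_lt.ne' (Nat.dvd_one.mp hge)
    have hk3' : k ≠ 3 := by
      intro h3
      have htop : frattini P = ⊤ := by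
        apply Subgroup.eq_top_of_card_eq
        rw [hk, h3, hP]
      have h1 : (⊥ : Subgroup P) ⊔ frattini P = ⊤ := by rw [htop, bot_sup_eq]
      have h2 := frattini_nongenerating h1
      have h3 : Nat.card P = 1 := by
        have := Subgroup.card_top (G := P)
        rw [← h2, Subgroup.card_bot] at this
        exact this.symm
      rw [hP] at h3
      have := Nat.one_lt_pow (by norm_num : 3 ≠ 0) hpp.one_lt
      omega
    have hk2 : k ≠ 2 := by
      intro h2
      -- pick x outside the Frattini subgroup
      have hne : frattini P ≠ ⊤ := by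
        intro htop
        have := Subgroup.card_top (G := P)
        rw [← htop, hk, h2, hP] at this
        have h4 : p ^ 2 < p ^ 3 := Nat.pow_lt_pow_right hpp.one_lt (by norm_num)
        omega
      obtain ⟨x, hx⟩ : ∃ x : P, x ∉ frattini P := by
        by_contra hall
        apply hne
        rw [eq_top_iff]
        intro y _
        by_contra hy
        exact hall ⟨y, hy⟩
      have hlt : frattini P < Subgroup.zpowers x ⊔ frattini P := by
        refine lt_of_le_of_ne le_sup_right ?_
        intro heq
        apply hx
        rw [heq]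
        exact Subgroup.mem_sup_left (Subgroup.mem_zpowers x)
      have hcardlt : Nat.card (frattini P) < Nat.card ↥(Subgroup.zpowers x ⊔ frattini P) := by
        have h1 := Subgroup.card_dvd_of_le hlt.le
        have h3 : Nat.card (frattini P) ≠ Nat.card ↥(Subgroup.zpowers x ⊔ frattini P) := by
          intro heq
          exact hlt.ne (Subgroup.eq_of_le_of_card_ge hlt.le heq.ge)
        exact lt_of_le_of_ne (Nat.le_of_dvd Nat.card_pos h1) h3
      have hdvd2 : Nat.card ↥(Subgroup.zpowers x ⊔ frattini P) ∣ p ^ 3 :=
        hP ▸ Subgroup.card_subgroup_dvd_card _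
      obtain ⟨j, hj3, hj⟩ := (Nat.dvd_prime_pow hpp).mp hdvd2
      rw [hk, h2, hj] at hcardlt
      have hj2 : 2 < j := (Nat.pow_lt_pow_iff_right hpp.one_lt).mp hcardlt
      have hj3' : j = 3 := by omega
      have htop : Subgroup.zpowers x ⊔ frattini P = ⊤ := by
        apply Subgroup.eq_top_of_card_eq
        rw [hj, hj3', hP]
      have hcyc := frattini_nongenerating htop
      apply hna
      intro a b
      have ha : a ∈ Subgroup.zpowers x := by rw [hcyc]; trivial
      have hb : b ∈ Subgroup.zpowers x := by rw [hcyc]; trivial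
      obtain ⟨i, rfl⟩ := Subgroup.mem_zpowers_iff.mp ha
      obtain ⟨l, rfl⟩ := Subgroup.mem_zpowers_iff.mp hb
      rw [← zpow_add, ← zpow_add, add_comm]
    have : k = 1 := by omega
    rw [hk, this, pow_one]
  have hfreq : frattini P = Subgroup.center P :=
    (Subgroup.eq_of_le_of_card_ge hZfr (by rw [hZ, hfrcard])).symm
  exact ⟨⟨hPG, hfreq, hcomeq⟩, hZ⟩

end Cfsg.Agent.Helper13.Pearl3
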