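import Mathlib
import Cfsg.Prelude.Def_Characters
import Cfsg.Agent.Helper24.QP889Defs
import Cfsg.Agent.Helper24.QP889SUPP
import Cfsg.Agent.Helper24.Regular
import Cfsg.Agent.Helper8.CharComp

set_option autoImplicit false

namespace Cfsg.Agent.QP889

open Cfsg
open scoped ComplexConjugate

universe u

/-- `A ⊔ B₀` is normal when `A` is normal, `B₀` is normalized by `Hh` and `A ⊔ Hh = ⊤`. -/
theorem qph_normal_sup {Γ : Type u} [Group Γ] (A Hh B₀ : Subgroup Γ) [hA : A.Normal]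
    (hsup : A ⊔ Hh = ⊤) (hconj : ∀ h ∈ Hh, ∀ x ∈ B₀, h * x * h⁻¹ ∈ B₀) :
    (A ⊔ B₀).Normal := by
  constructor
  intro x hx g
  have hg : g ∈ A ⊔ Hh := by rw [hsup]; trivial
  obtain ⟨a, ha, h, hh, rfl⟩ := Subgroup.mem_sup_of_normal_left.mp hg
  obtain ⟨y, hy, z, hz, rfl⟩ := Subgroup.mem_sup_of_normal_left.mp hx
  have e : a * h * (y * z) * (a * h)⁻¹ = a * ((h * y * h⁻¹) * (h * z * h⁻¹)) * a⁻¹ := by group
  rw [e]
  have h1 : h * y * h⁻¹ ∈ A ⊔ B₀ := Subgroup.mem_sup_left (hA.conj_mem y hy h)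
  have h2 : h * z * h⁻¹ ∈ A ⊔ B₀ := Subgroup.mem_sup_right (hconj h hh z hz)
  have h3 : a ∈ A ⊔ B₀ := Subgroup.mem_sup_left ha
  exact Subgroup.mul_mem _ (Subgroup.mul_mem _ h3 (Subgroup.mul_mem _ h1 h2))
    (Subgroup.inv_mem _ h3)

theorem qprel_restrict_of_sup {Γ : Type u} [Group Γ] [Fintype Γ] (A Hh : Subgroup Γ) [A.Normal]
    (hsup : A ⊔ Hh = ⊤) (β : Γ → ℂ) (hβ : IsIrrCharacter Γ β) (hβA : InvOn A β)
    (hqp : QPrel A β) : QPrel (A.subgroupOf Hh) (fun h : Hh => β h) := by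
  classical
  intro B hB hAB
  set B₀ : Subgroup Γ := B.map Hh.subtype with hB₀
  set B₁ : Subgroup Γ := A ⊔ B₀ with hB₁
  have hAB₁ : A ≤ B₁ := le_sup_left
  have hB₀B₁ : B₀ ≤ B₁ := le_sup_right
  have hconjB₀ : ∀ h ∈ Hh, ∀ x ∈ B₀, h * x * h⁻¹ ∈ B₀ := by
    intro h hh x hx
    obtain ⟨b, hb, rfl⟩ := hx
    refine ⟨⟨h, hh⟩ * b * ⟨h, hh⟩⁻¹, hB.conj_mem b hb ⟨h, hh⟩, ?_⟩
    simp
  have hB₁n : B₁.Normal := qph_normal_sup A Hh B₀ hsup hconjB₀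
  obtain ⟨γ, e, hγ, he⟩ := hqp B₁ hB₁n hAB₁
  have he' : ∀ x : B₁, β (x : Γ) = (e : ℂ) * γ x := fun x => congrFun he x
  -- `e ≠ 0`
  have he0 : (e : ℂ) ≠ 0 := by
    intro h0
    have h1 := he' 1
    rw [h0, zero_mul] at h1
    exact Cfsg.Agent.Helper24.irr_one_ne_zero ⟨β, hβ⟩ h1
  -- `γ` is invariant under `A`
  have hγinv : InvOn (A.subgroupOf B₁) γ := by
    intro a ha g
    have h1 := he' (a * g)
    have h2 := he' g
    have h3 : β ((a * g : B₁) : Γ) = β (g : Γ) := by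
      rw [Subgroup.coe_mul]
      exact hβA _ (Subgroup.mem_subgroupOf.mp ha) _
    rw [h3, h2] at h1
    exact (mul_left_cancel₀ he0 h1).symm
  have hsup' : A.subgroupOf B₁ ⊔ B₀.subgroupOf B₁ = ⊤ := by
    rw [← Subgroup.subgroupOf_sup hAB₁ hB₀B₁]
    exact Subgroup.subgroupOf_self _
  letI : Fintype ↥B₁ := Fintype.ofFinite _
  have hirr : IsIrrCharacter ↥(B₀.subgroupOf B₁) (fun h : ↥(B₀.subgroupOf B₁) => γ h) :=
    isIrrCharacter_restrict_of_sup (A.subgroupOf B₁) (B₀.subgroupOf B₁) hsup' γ hγ hγinv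
  -- the isomorphism `B → B₀.subgroupOf B₁`
  have hmem : ∀ b : B, ((b : Hh) : Γ) ∈ B₀ := fun b => ⟨b, b.2, rfl⟩
  let f : ↥B →* ↥(B₀.subgroupOf B₁) :=
    { toFun := fun b => ⟨⟨((b : Hh) : Γ), hB₀B₁ (hmem b)⟩, Subgroup.mem_subgroupOf.mpr (hmem b)⟩
      map_one' := by ext; simp
      map_mul' := by intro x y; ext; simp }
  have hf : Function.Surjective f := by
    intro y
    have hy : ((y : ↥B₁) : Γ) ∈ B₀ := Subgroup.mem_subgroupOf.mp y.2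
    obtain ⟨b, hb, hby⟩ := hy
    refine ⟨⟨b, hb⟩, ?_⟩
    ext
    exact hby
  refine ⟨fun b => γ (f b : ↥B₁), e, ?_, ?_⟩
  · exact Cfsg.Agent.Helper8.isIrrCharacter_comp_surjective f hf hirr
  · funext b
    have := he' (f b : ↥B₁)
    change β ((b : Hh) : Γ) = (e : ℂ) * γ (f b : ↥B₁)
    exact this

end Cfsg.Agent.QP889
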