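import Mathlib
import Cfsg.Prelude.Def_Characters
import Cfsg.Agent.Helper24.QP889Defs
import Cfsg.Agent.Helper8.CharComp

set_option autoImplicit false

namespace Cfsg.Agent.QP889

open Cfsg
open scoped ComplexConjugate

universe u

theorem qprel_comp {G Γ : Type u} [Group G] [Group Γ] (p : Γ →* G) (hp : Function.Surjective p)
    (Z : Subgroup G) (χ : G → ℂ) (hqp : QPrel Z χ) (A : Subgroup Γ) (hA : Z ≤ A.map p) :
    QPrel A (fun g => χ (p g)) := by
  intro B hB hAB
  have hBn : (B.map p).Normal := hB.map p hp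
  have hZB : Z ≤ B.map p := hA.trans (Subgroup.map_mono hAB)
  obtain ⟨σ, e, hσ, he⟩ := hqp (B.map p) hBn hZB
  refine ⟨fun b => σ (p.subgroupMap B b), e, ?_, ?_⟩
  · exact Cfsg.Agent.Helper8.isIrrCharacter_comp_surjective (p.subgroupMap B)
      (p.subgroupMap_surjective B) hσ
  · funext b
    have := congrFun he (p.subgroupMap B b)
    simpa using this

end Cfsg.Agent.QP889
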