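import Mathlib
import Cfsg.Agent.Helper25.QPStar
import Cfsg.Agent.Helper25.QPDefs
import Cfsg.Agent.Helper7.QPP3W

set_option autoImplicit false
set_option linter.unusedSimpArgs false
set_option linter.unusedVariables false
set_option linter.unusedSectionVars false

/-! Quadratic pairs, S5074 / S5063, "Case 2" (note `departures/helper13_QP_CASE2.md`):
a member `a` of `QFam G` such that `a b` is nilpotent for every minimal member `b` commutes with
every minimal member. -/

noncomputable section

namespace Cfsg.Agent.QPP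

open Cfsg Cfsg.Agent.Helper25.QP Cfsg.Agent.Helper25.QuadPair

variable {k : Type*} [Field k] {M : Type*} [AddCommGroup M] [Module k M]

local notation "GLkM" => LinearMap.GeneralLinearGroup k M

/-- `a` is a member of `QFam G` which is nilpotent against every member of `Qd G d` -/
def NilAll (G : Subgroup GLkM) (d : ℕ) (a : Module.End k M) : Prop :=
  QFam G a ∧ ∀ b : Module.End k M, Qd G d b → IsNilpotent (a * b)

/-- every nonzero member of `Qd G d` has an opposite member -/
def HasOpp (G : Subgroup GLkM) (d : ℕ) : Prop :=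
  ∀ x : Module.End k M, Qd G d x → x ≠ 0 → ∃ y : Module.End k M, Qd G d y ∧ ¬ IsNilpotent (x * y)

section ring

variable {R : Type*} [Ring R]

theorem C2_aux_one_sub_add {y : R} (hy : y * y = 0) : (1 - y) * (1 + y) = 1 := by
  have : (1 - y) * (1 + y) = 1 - y * y := by noncomm_ring
  rw [this, hy, sub_zero]

theorem C2_aux_one_add_sub {y : R} (hy : y * y = 0) : (1 + y) * (1 - y) = 1 := by
  have : (1 + y) * (1 - y) = 1 - y * y := by noncomm_ring
  rw [this, hy, sub_zero]

theorem C2_aux_conj_pow {h h' x : R} (h1 : h * h' = 1) (n : ℕ) :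
    (h' * x * h) ^ n * h' = h' * x ^ n := by
  induction n with
  | zero => simp
  | succ n ih =>
    rw [pow_succ', mul_assoc, ih, pow_succ']
    calc h' * x * h * (h' * x ^ n) = h' * x * (h * h') * x ^ n := by simp only [mul_assoc]
      _ = h' * (x * x ^ n) := by rw [h1, mul_one]; simp only [mul_assoc]

theorem C2_aux_nilp_conj {h h' x : R} (h1 : h * h' = 1) (h2 : h' * h = 1) (hx : IsNilpotent x) :
    IsNilpotent (h' * x * h) := by
  obtain ⟨n, hn⟩ := hx
  refine ⟨n, ?_⟩
  have := C2_aux_conj_pow (x := x) h1 n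
  calc (h' * x * h) ^ n = (h' * x * h) ^ n * (h' * h) := by rw [h2, mul_one]
    _ = ((h' * x * h) ^ n * h') * h := by rw [← mul_assoc]
    _ = 0 := by rw [this, hn, mul_zero, zero_mul]

/-- the conjugate `(1 - y) a (1 + y)` when `y a y = 0` -/
theorem C2_aux_conj_eq {a y : R} (hyay : y * a * y = 0) :
    (1 - y) * a * (1 + y) = a + a * y - y * a := by
  have : (1 - y) * a * (1 + y) = a + a * y - y * a - y * a * y := by noncomm_ring
  rw [this, hyay, sub_zero]

/-- `(1 + a₁) a (1 - a₁) = a + 2 a y a` for `a₁ = a + a y - y a`, `a² = y² = y a y = 0` -/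
theorem C2_aux_second {a y : R} (haa : a * a = 0) (hyy : y * y = 0) (hyay : y * a * y = 0) :
    (1 + (a + a * y - y * a)) * a * (1 - (a + a * y - y * a)) = a + 2 * (a * y * a) := by
  have haa' : ∀ x : R, a * (a * x) = 0 := fun x => by rw [← mul_assoc, haa, zero_mul]
  have hyy' : ∀ x : R, y * (y * x) = 0 := fun x => by rw [← mul_assoc, hyy, zero_mul]
  have hyay1 : y * (a * y) = 0 := by rw [← mul_assoc]; exact hyay
  have hyay' : ∀ x : R, y * (a * (y * x)) = 0 := fun x => by
    rw [← mul_assoc, ← mul_assoc, hyay, zero_mul]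
  simp only [mul_add, add_mul, mul_sub, sub_mul, mul_one, one_mul, mul_assoc, haa, haa', hyy,
    hyy', hyay1, hyay', mul_zero, zero_mul, sub_zero, add_zero, zero_add, zero_sub, sub_self,
    neg_zero]
  rw [two_mul]
  abel

/-- products of `p = b a b` and `w = a b a b - b a b a` vanish when `b a b a b = 0` -/
theorem C2_aux_pw {a b : R} (haa : a * a = 0) (hbb : b * b = 0) (h5 : b * a * b * a * b = 0)
    (x1 y1 x2 y2 : R) (hx1 : x1 = b * a * b ∨ x1 = a * b * a * b - b * a * b * a)
    (hx2 : x2 = b * a * b ∨ x2 = a * b * a * b - b * a * b * a) : x1 * x2 = 0 := by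
  have haa' : ∀ x : R, a * (a * x) = 0 := fun x => by rw [← mul_assoc, haa, zero_mul]
  have hbb' : ∀ x : R, b * (b * x) = 0 := fun x => by rw [← mul_assoc, hbb, zero_mul]
  have h5' : b * (a * (b * (a * b))) = 0 := by simpa only [mul_assoc] using h5
  have h5'' : ∀ x : R, b * (a * (b * (a * (b * x)))) = 0 := fun x => by
    have := congrArg (· * x) h5'
    simpa only [mul_assoc, zero_mul] using this
  rcases hx1 with rfl | rfl <;> rcases hx2 with rfl | rfl <;>
  simp only [mul_add, add_mul, mul_sub, sub_mul, mul_assoc, haa, haa', hbb, hbb', h5', h5'',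
    mul_zero, zero_mul, sub_zero, sub_self]

/-- `b b' - b' b = -2 p + w` for `b' = b + (b a - a b) - a b a` -/
theorem C2_aux_comm {a b : R} (haa : a * a = 0) (hbb : b * b = 0) :
    b * (b + (b * a - a * b) - a * b * a) - (b + (b * a - a * b) - a * b * a) * b
      = -(2 * (b * a * b)) + (a * b * a * b - b * a * b * a) := by
  have haa' : ∀ x : R, a * (a * x) = 0 := fun x => by rw [← mul_assoc, haa, zero_mul]
  have hbb' : ∀ x : R, b * (b * x) = 0 := fun x => by rw [← mul_assoc, hbb, zero_mul]
  simp only [mul_add, add_mul, mul_sub, sub_mul, mul_assoc, haa, haa', hbb, hbb',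
    mul_zero, zero_mul, sub_zero, zero_sub, add_zero, zero_add]
  rw [two_mul]
  abel

/-- the commutator identity `(1+x)(1+y)(1-x)(1-y) = 1 + (x y - y x)` -/
theorem C2_aux_commf {x y : R} (hx : x * x = 0) (hy : y * y = 0)
    (h1 : x * y * x = 0) (h2 : y * x * y = 0) :
    (1 + x) * (1 + y) * (1 - x) * (1 - y) = 1 + (x * y - y * x) := by
  have e : (1 + x) * (1 + y) * (1 - x) * (1 - y)
      = 1 + (x * y - y * x) - x * x - y * y + (x * x) * y + y * x * y - x * y * x - x * (y * y)
        + (x * y * x) * y := by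
    noncomm_ring
  rw [e, hx, hy, h1, h2]
  simp

end ring

section mod

/-- conjugates of members of `Qd` -/
theorem C2_Qd_conj [FiniteDimensional k M] {G : Subgroup GLkM} {d : ℕ} {b y : Module.End k M}
    (hb : Qd G d b) (hy : QFam G y) : Qd G d ((1 - y) * b * (1 + y)) := by
  have h := hb.1.conj_fam hy 1
  rw [one_smul] at h
  refine ⟨h, ?_⟩
  rw [finrank_range_conj (C2_aux_one_add_sub hy.1) (C2_aux_one_sub_add hy.1)]
  exact hb.2

theorem C2_Qd_conj' [FiniteDimensional k M] {G : Subgroup GLkM} {d : ℕ} {b y : Module.End k M}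
    (hb : Qd G d b) (hy : QFam G y) : Qd G d ((1 + y) * b * (1 - y)) := by
  have h := C2_Qd_conj hb hy.neg
  rwa [sub_neg_eq_add, ← sub_eq_add_neg] at h

/-- conjugates of members of `NilAll` -/
theorem C2_NilAll_conj [FiniteDimensional k M] {G : Subgroup GLkM} {d : ℕ} {a y : Module.End k M}
    (ha : NilAll G d a) (hy : QFam G y) : NilAll G d ((1 - y) * a * (1 + y)) := by
  have h := ha.1.conj_fam hy 1
  rw [one_smul] at h
  refine ⟨h, fun b hb => ?_⟩
  have h1 := C2_aux_one_add_sub hy.1
  have h2 := C2_aux_one_sub_add hy.1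
  have hb' := C2_Qd_conj' hb hy
  have hn := ha.2 _ hb'
  have e : (1 - y) * a * (1 + y) * b = (1 - y) * (a * ((1 + y) * b * (1 - y))) * (1 + y) := by
    calc (1 - y) * a * (1 + y) * b = (1 - y) * a * (1 + y) * b * 1 := by rw [mul_one]
      _ = (1 - y) * a * (1 + y) * b * ((1 - y) * (1 + y)) := by rw [h2]
      _ = (1 - y) * (a * ((1 + y) * b * (1 - y))) * (1 + y) := by simp only [mul_assoc]
  rw [e]
  exact C2_aux_nilp_conj h1 h2 hn

theorem C2_NilAll_neg {G : Subgroup GLkM} {d : ℕ} {a : Module.End k M}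
    (ha : NilAll G d a) : NilAll G d (-a) := by
  refine ⟨ha.1.neg, fun b hb => ?_⟩
  rw [neg_mul]
  exact (ha.2 b hb).neg

/-- first step: `b a b a b = 0` and the commutators `1 + s (-2 p + w)` lie in `G` -/
theorem C2_key1 [FiniteDimensional k M] {G : Subgroup GLkM} {d : ℕ} (h2 : (2 : k) ≠ 0)
    (hmin : MinRank G d) {a b : Module.End k M} (ha : NilAll G d a) (hb : Qd G d b) :
    b * a * b * a * b = 0 ∧
      ∀ s : k, InG G (1 + s • (-(2 * (b * a * b)) + (a * b * a * b - b * a * b * a))) := by
  have haa := ha.1.1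
  have hbb := hb.1.1
  obtain ⟨hq', hr'⟩ := conj_one_mem hb.1 ha.1
  set b' : Module.End k M := b + (b * a - a * b) - a * b * a with hb'
  obtain ⟨m, hm⟩ := ha.2 b hb
  have hba : (b * a) ^ (m + 2 + 1) = 0 := by
    have h0 : (b * a) ^ (m + 1) = 0 := by
      rw [mul_pow_succ_shift, hm, mul_zero, zero_mul]
    exact pow_eq_zero_of_le (by omega) h0
  have hnil : (b * b') ^ (m + 2) = 0 := conj_pow_eq_zero hbb (by omega) hba
  obtain ⟨hs1, hs2⟩ := star h2 hmin (m + 2) hb.1 hq' hb.2 (hr'.trans hb.2) hnil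
  have h5 : b * a * b * a * b = 0 := by
    have := a_conj_a (a := b) (b := a) hbb
    rw [← hb', hs1] at this
    exact neg_eq_zero.mp this.symm
  refine ⟨h5, fun s => ?_⟩
  have hxx : (s • b) * (s • b) = 0 := (hb.1.smul s).1
  have hyy : b' * b' = 0 := hq'.1
  have h1 : (s • b) * b' * (s • b) = 0 := by
    rw [smul_mul_assoc, smul_mul_assoc, mul_smul_comm, hs1, smul_zero, smul_zero]
  have h2' : b' * (s • b) * b' = 0 := by
    rw [mul_smul_comm, smul_mul_assoc, hs2, smul_zero]
  have hc := C2_aux_commf hxx hyy h1 h2'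
  have e : (s • b) * b' - b' * (s • b)
      = s • (-(2 * (b * a * b)) + (a * b * a * b - b * a * b * a)) := by
    rw [smul_mul_assoc, mul_smul_comm, ← smul_sub, hb', C2_aux_comm haa hbb]
  rw [e] at hc
  rw [← hc]
  have i1 : InG G (1 + s • b) := hb.1.2 s
  have i2 : InG G (1 + b') := by simpa using hq'.2 1
  have i3 : InG G (1 - s • b) := by
    have := hb.1.2 (-s)
    rwa [neg_smul, ← sub_eq_add_neg] at this
  have i4 : InG G (1 - b') := by
    have := hq'.2 (-1)
    rwa [neg_smul, one_smul, ← sub_eq_add_neg] at this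
  exact ((i1.mul i2).mul i3).mul i4

/-- (F1): `b a b = 0` -/
theorem C2_bab [FiniteDimensional k M] {G : Subgroup GLkM} {d : ℕ} (h2 : (2 : k) ≠ 0)
    (hmin : MinRank G d) {a b : Module.End k M} (ha : NilAll G d a) (hb : Qd G d b) :
    b * a * b = 0 := by
  have haa := ha.1.1
  have hbb := hb.1.1
  obtain ⟨h5, hI⟩ := C2_key1 h2 hmin ha hb
  obtain ⟨-, hI'⟩ := C2_key1 h2 hmin (C2_NilAll_neg ha) hb
  have hz : (b * a) * (b * a * b) = 0 := by simpa only [mul_assoc] using h5
  set p : Module.End k M := b * a * b with hp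
  set w : Module.End k M := a * b * a * b - b * a * b * a with hw
  have e' : -(2 * (b * -a * b)) + (-a * b * -a * b - b * -a * b * -a) = 2 * p + w := by
    simp only [mul_neg, neg_mul, neg_neg, hp, hw]
  simp only [e'] at hI'
  have hpp : p * p = 0 := C2_aux_pw haa hbb h5 p p p p (Or.inl rfl) (Or.inl rfl)
  have hpw : p * w = 0 := C2_aux_pw haa hbb h5 p p w w (Or.inl rfl) (Or.inr rfl)
  have hwp : w * p = 0 := C2_aux_pw haa hbb h5 w w p p (Or.inr rfl) (Or.inl rfl)
  have hww : w * w = 0 := C2_aux_pw haa hbb h5 w w w w (Or.inr rfl) (Or.inr rfl)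
  have h4 : (4 : k) ≠ 0 := by
    have : (4 : k) = 2 * 2 := by norm_num
    rw [this]; exact mul_ne_zero h2 h2
  have hq : QFam G p := by
    refine ⟨hpp, fun c => ?_⟩
    have i1 := hI' (c / 4)
    have i2 := hI (-(c / 4))
    have e : (1 + (c / 4) • (2 * p + w)) * (1 + (-(c / 4)) • (-(2 * p) + w)) = 1 + c • p := by
      have hc : c = 4 * (c / 4) := by field_simp
      generalize c / 4 = t at hc ⊢
      rw [hc]
      simp only [mul_add, add_mul, mul_one, one_mul, smul_add, smul_mul_assoc, mul_smul_comm,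
        smul_neg, neg_smul, mul_neg, neg_mul, neg_neg, two_mul, hpp, hpw, hwp, hww, smul_zero,
        add_zero, neg_zero, zero_add]
      module
    rw [← e]
    exact i1.mul i2
  by_contra hne
  have h1 := hmin p hq hne
  have hle : LinearMap.range p ≤ LinearMap.range b := by
    rw [hp, mul_assoc]
    exact LinearMap.range_comp_le_range _ _
  have heq : LinearMap.range p = LinearMap.range b :=
    Submodule.eq_of_le_of_finrank_le hle (by rw [hb.2]; exact h1)
  apply hne
  apply LinearMap.ext
  intro m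
  have hm : b m ∈ LinearMap.range p := by rw [heq]; exact ⟨m, rfl⟩
  obtain ⟨m', hm'⟩ := hm
  have : p m = (b * a) (b m) := rfl
  rw [this, ← hm']
  have := LinearMap.congr_fun hz m'
  simpa using this

/-- (F2): `a b a` is zero or a member of `Qd` -/
theorem C2_aba_Qd [FiniteDimensional k M] {G : Subgroup GLkM} {d : ℕ} (h2 : (2 : k) ≠ 0)
    (hmin : MinRank G d) {a b : Module.End k M} (ha : NilAll G d a) (hb : Qd G d b)
    (hne : a * b * a ≠ 0) : Qd G d (a * b * a) := by
  have hbab := C2_bab h2 hmin ha hb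
  have h5a : a * b * a * b * a = 0 := by
    have : a * b * a * b * a = a * (b * a * b) * a := by simp only [mul_assoc]
    rw [this, hbab, mul_zero, zero_mul]
  have h5b : b * a * b * a * b = 0 := by
    have : b * a * b * a * b = b * a * b * (a * b) := by simp only [mul_assoc]
    rw [this, hbab, zero_mul]
  have hq := QFam_aba h2 ha.1 hb.1 h5a h5b
  refine ⟨hq, le_antisymm ?_ (hmin _ hq hne)⟩
  have h1 : LinearMap.range (a * b * a) ≤ LinearMap.range (a * b) :=
    LinearMap.range_comp_le_range _ _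
  have h2' : LinearMap.range (a * b) = (LinearMap.range b).map a := LinearMap.range_comp b a
  calc Module.finrank k (LinearMap.range (a * b * a))
      ≤ Module.finrank k (LinearMap.range (a * b)) := Submodule.finrank_mono h1
    _ = Module.finrank k ((LinearMap.range b).map a) := by rw [h2']
    _ ≤ Module.finrank k (LinearMap.range b) := Submodule.finrank_map_le _ _
    _ = d := hb.2

/-- (F5): `a b a = 0` -/
theorem C2_aba [FiniteDimensional k M] {G : Subgroup GLkM} {d : ℕ} (h2 : (2 : k) ≠ 0)
    (hmin : MinRank G d) (hopp : HasOpp G d) {a b : Module.End k M} (ha : NilAll G d a)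
    (hb : Qd G d b) : a * b * a = 0 := by
  by_contra hne
  have hq := C2_aba_Qd h2 hmin ha hb hne
  obtain ⟨y, hy, hny⟩ := hopp _ hq hne
  have haa := ha.1.1
  have hyy := hy.1.1
  have hyay := C2_bab h2 hmin ha hy
  -- the conjugate a₁ of a
  have ha1 := C2_NilAll_conj ha hy.1
  rw [C2_aux_conj_eq hyay] at ha1
  set a1 : Module.End k M := a + a * y - y * a with ha1def
  -- the conjugate b₂ of b
  have hb2 := C2_Qd_conj hb ha1.1
  have h0 := C2_bab h2 hmin ha hb2
  have h11 : (1 + a1) * (1 - a1) = 1 := C2_aux_one_add_sub ha1.1.1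
  have h12 : (1 - a1) * (1 + a1) = 1 := C2_aux_one_sub_add ha1.1.1
  have h3 : b * ((1 + a1) * a * (1 - a1)) * b = 0 := by
    have e : b * ((1 + a1) * a * (1 - a1)) * b
        = (1 + a1) * ((1 - a1) * b * (1 + a1) * a * ((1 - a1) * b * (1 + a1))) * (1 - a1) := by
      calc b * ((1 + a1) * a * (1 - a1)) * b
          = ((1 + a1) * (1 - a1)) * b * ((1 + a1) * a * (1 - a1)) * b * ((1 + a1) * (1 - a1)) := by
            rw [h11, one_mul, mul_one]
        _ = _ := by simp only [mul_assoc]
    rw [e, h0, mul_zero, zero_mul]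
  rw [ha1def, C2_aux_second haa hyy hyay] at h3
  have hbab := C2_bab h2 hmin ha hb
  have h4 : (2 : Module.End k M) * (b * (a * y * a) * b) = 0 := by
    have : b * (a + 2 * (a * y * a)) * b = b * a * b + 2 * (b * (a * y * a) * b) := by
      noncomm_ring
    rw [this, hbab, zero_add] at h3
    exact h3
  have h5 : b * (a * y * a) * b = 0 := by
    have h2e : (2 : Module.End k M) = (2 : k) • (1 : Module.End k M) := by
      rw [ofNat_smul_eq_nsmul, nsmul_eq_mul, mul_one]; norm_cast
    rw [h2e, smul_mul_assoc, one_mul] at h4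
    exact (smul_eq_zero.mp h4).resolve_left h2
  apply hny
  refine ⟨2, ?_⟩
  have : (a * b * a * y) ^ 2 = a * (b * (a * y * a) * b) * (a * y) := by
    rw [pow_two]; simp only [mul_assoc]
  rw [this, h5, mul_zero, zero_mul]

/-- (F7): `a b = b a` -/
theorem C2_comm [FiniteDimensional k M] {G : Subgroup GLkM} {d : ℕ} (h2 : (2 : k) ≠ 0)
    (hmin : MinRank G d) (hopp : HasOpp G d) {a b : Module.End k M} (ha : NilAll G d a)
    (hb : Qd G d b) : a * b = b * a := by
  have haa := ha.1.1
  have hbb := hb.1.1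
  have hbab := C2_bab h2 hmin ha hb
  have haba := C2_aba h2 hmin hopp ha hb
  have hbab1 : b * (a * b) = 0 := by rw [← mul_assoc]; exact hbab
  have haba1 : a * (b * a) = 0 := by rw [← mul_assoc]; exact haba
  have haa' : ∀ x : Module.End k M, a * (a * x) = 0 := fun x => by rw [← mul_assoc, haa, zero_mul]
  have hbb' : ∀ x : Module.End k M, b * (b * x) = 0 := fun x => by rw [← mul_assoc, hbb, zero_mul]
  have hbab' : ∀ x : Module.End k M, b * (a * (b * x)) = 0 := fun x => by
    rw [← mul_assoc, ← mul_assoc, hbab, zero_mul]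
  have haba' : ∀ x : Module.End k M, a * (b * (a * x)) = 0 := fun x => by
    rw [← mul_assoc, ← mul_assoc, haba, zero_mul]
  set δ : Module.End k M := a * b - b * a with hδ
  by_contra hcomm
  have hδne : δ ≠ 0 := fun h => hcomm (sub_eq_zero.mp h)
  have hδδ : δ * δ = 0 := by
    simp only [hδ, mul_sub, sub_mul, mul_assoc, haa, haa', hbb, hbb', hbab1, haba1, hbab', haba',
      mul_zero, sub_zero]
  have hδb : δ * b = 0 := by
    simp only [hδ, sub_mul, mul_assoc, hbb, hbab1, mul_zero, sub_zero]
  -- membership in QFam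
  have hδQ : QFam G δ := by
    refine ⟨hδδ, fun c => ?_⟩
    have hcf := hb.1.conj_fam ha.1 (-c)
    have hform := conj_formula (k := k) hbb haa (-c)
    rw [haba, smul_zero, sub_zero] at hform
    have hbc : (1 - (-c) • a) * b * (1 + (-c) • a) = b + c • δ := by
      rw [hform, hδ, neg_smul, ← smul_neg, neg_sub]
    rw [hbc] at hcf
    have i1 : InG G (1 + (b + c • δ)) := by simpa using hcf.2 1
    have i2 : InG G (1 - b) := by
      have := hb.1.2 (-1)
      rwa [neg_smul, one_smul, ← sub_eq_add_neg] at this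
    have e : (1 + (b + c • δ)) * (1 - b) = 1 + c • δ := by
      simp only [mul_sub, add_mul, mul_one, one_mul, smul_mul_assoc, hδb, hbb, smul_zero]
      abel
    rw [← e]
    exact i1.mul i2
  -- rank of δ
  have hrank : Module.finrank k (LinearMap.range δ) ≤ d := by
    have h3 := P3W (k := k) haba (⊤ : Submodule k M) le_top
    rw [Submodule.map_top, Submodule.map_top, Submodule.map_top] at h3
    have hle : LinearMap.range δ ≤ LinearMap.range (a * b) ⊔ LinearMap.range (b * a) := by
      rintro _ ⟨m, rfl⟩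
      rw [hδ, LinearMap.sub_apply, sub_eq_add_neg]
      exact Submodule.add_mem_sup ⟨m, rfl⟩ (Submodule.neg_mem _ ⟨m, rfl⟩)
    calc Module.finrank k (LinearMap.range δ)
        ≤ Module.finrank k ↥(LinearMap.range (a * b) ⊔ LinearMap.range (b * a)) :=
          Submodule.finrank_mono hle
      _ ≤ Module.finrank k (LinearMap.range (a * b)) + Module.finrank k (LinearMap.range (b * a)) :=
          Submodule.finrank_add_le_finrank_add_finrank _ _
      _ ≤ Module.finrank k (LinearMap.range b) := h3
      _ = d := hb.2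
  have hδd : Qd G d δ := ⟨hδQ, le_antisymm hrank (hmin _ hδQ hδne)⟩
  obtain ⟨y, hy, hny⟩ := hopp _ hδd hδne
  have ha2 := C2_NilAll_conj ha hb.1
  have e2 : (1 - b) * a * (1 + b) = a + δ := by
    have : (1 - b) * a * (1 + b) = a + (a * b - b * a) - b * a * b := by noncomm_ring
    rw [this, hbab, sub_zero]
  rw [e2] at ha2
  have h6 := C2_bab h2 hmin ha2 hy
  have h7 := C2_bab h2 hmin ha hy
  have h8 : y * δ * y = 0 := by
    have : y * (a + δ) * y = y * a * y + y * δ * y := by noncomm_ring
    rw [this, h7, zero_add] at h6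
    exact h6
  apply hny
  refine ⟨2, ?_⟩
  have : (δ * y) ^ 2 = δ * (y * δ * y) := by
    rw [pow_two]; simp only [mul_assoc]
  rw [this, h8, mul_zero]

end mod

end Cfsg.Agent.QPP

end
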