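import Mathlib
import Cfsg.Agent.Helper13.QPC2
import Cfsg.Agent.Helper18.QP68Main
import Cfsg.Agent.Helper7.QPOPP
import Cfsg.Agent.Helper9.QPS5065U

set_option autoImplicit false
set_option linter.unusedSimpArgs false
set_option linter.unusedVariables false
set_option linter.unusedSectionVars false

/-! Quadratic pairs, S5074 / S5063, "Case 2", group level: a quadratic element of `G` (with its
scalar family in `G`) which is nilpotent against every minimal quadratic element centralizes every
root subgroup. Note `departures/helper13_QP_CASE2.md`. -/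

noncomputable section

universe u v

namespace Cfsg.Agent.QPP

open Cfsg Cfsg.Agent.Helper25.QP Cfsg.Agent.Helper25.QuadPair Cfsg.Agent.QP68

variable {k : Type u} [Field k] {M : Type v} [AddCommGroup M] [Module k M]

local notation "GLkM" => LinearMap.GeneralLinearGroup k M

/-- an opposite pair with nonzero first member is not a unipotent pair -/
theorem C2_opp_not_nilp {x y : Module.End k M} (h : OppPair x y) (hx : x ≠ 0) :
    ¬ IsNilpotent (x * y) := by
  rintro ⟨n, hn⟩
  -- `y x` is injective on `range y`, `x y` injective on `range x`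
  have hinj : ∀ m ∈ LinearMap.range x, (x * y) m = 0 → m = 0 := by
    intro m hm h0
    have h1 : y m ∈ LinearMap.ker x ⊓ LinearMap.range y := ⟨h0, ⟨m, rfl⟩⟩
    rw [h.1.inf_eq_bot] at h1
    have h2 : m ∈ LinearMap.ker y ⊓ LinearMap.range x := ⟨h1, hm⟩
    rw [h.2.inf_eq_bot] at h2
    exact h2
  have hmem : ∀ m ∈ LinearMap.range x, (x * y) m ∈ LinearMap.range x := fun m _ => ⟨y m, rfl⟩
  have hpow : ∀ j : ℕ, ∀ m ∈ LinearMap.range x, ((x * y) ^ j) m = 0 → m = 0 := by
    intro j
    induction j with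
    | zero => intro m _ h0; simpa using h0
    | succ j ih =>
      intro m hm h0
      rw [pow_succ, Module.End.mul_apply] at h0
      exact hinj m hm (ih _ (hmem m hm) h0)
  apply hx
  apply LinearMap.ext
  intro m
  have := hpow n (x m) ⟨m, rfl⟩ (by rw [hn]; rfl)
  simpa using this

/-- the unit `1 + x` of a nonzero member `x` of `Qd` of minimal rank is a minimal quadratic element -/
theorem C2_unit_min [FiniteDimensional k M] {G : Subgroup GLkM} {σ0 : GLkM}
    (hσ0 : σ0 ∈ minimalQuadraticElements G) {x : Module.End k M}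
    (hx : Qd G (commutatorRank σ0) x) (hx0 : x ≠ 0) :
    unipUnit x hx.1.1 ∈ minimalQuadraticElements G ∧
      ((unipUnit x hx.1.1 : GLkM) : Module.End k M) - 1 = x := by
  have hval : ((unipUnit x hx.1.1 : GLkM) : Module.End k M) - 1 = x := by
    rw [val_unipUnit]; abel
  refine ⟨⟨hx.1.mem_quadraticElements hx0, fun τ hτ => ?_⟩, hval⟩
  have : commutatorRank (unipUnit x hx.1.1) = commutatorRank σ0 := by
    unfold commutatorRank
    have hval' : (((unipUnit x hx.1.1 : GLkM) : M →ₗ[k] M) - 1) = x := hval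
    rw [hval']
    exact hx.2
  rw [this]
  exact hσ0.2 τ hτ

/-- element level `OPP`: every nonzero member of `Qd` has an opposite member -/
theorem C2_hasOpp [FiniteDimensional k M] (hk2 : ringChar k ≠ 2) (hk3 : Nat.card k ≠ 3)
    {G : Subgroup GLkM} (hG : IsIrreducibleFor G) {σ0 : GLkM}
    (hσ0 : σ0 ∈ minimalQuadraticElements G) : HasOpp G (commutatorRank σ0) := by
  intro x hx hx0
  obtain ⟨hσ, hval⟩ := C2_unit_min hσ0 hx hx0
  set σ : GLkM := unipUnit x hx.1.1 with hσdef
  obtain ⟨g, hg, hnu⟩ := OPPN hG (S := quadraticRootSubgroups G) (fun A hA => SIG_le hA)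
    (fun A hA => SIG_ne_bot hA) (fun A hA g hg => SIG_conj hA hg) (SIG_mem hσ)
  obtain ⟨hτ, hconj⟩ := ROOT_conj hσ hg
  rw [hconj] at hnu
  have hN : ¬ AllUnip (sameActionSubgroup G σ) (sameActionSubgroup G (g * σ * g⁻¹)) :=
    fun h => hnu (S5065U hk2 hk3 hσ hτ h)
  have hopp := OPP hk2 hk3 hσ hτ hN
  rw [hval] at hopp
  refine ⟨((g * σ * g⁻¹ : GLkM) : Module.End k M) - 1, ?_, C2_opp_not_nilp hopp hx0⟩
  have h1 := (TRANS_Qd hτ).2
  have h2 : commutatorRank (g * σ * g⁻¹) = commutatorRank σ0 := by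
    rw [ROOT_aux_rank]
    unfold commutatorRank
    have hval' : (((σ : GLkM) : M →ₗ[k] M) - 1) = x := hval
    rw [hval']
    exact hx.2
  rwa [h2] at h1

/-- **Case 2**: a member of `𝒬(G)` which is nilpotent against every member of `𝒬_d(G)` commutes
with every element of every root subgroup. -/
theorem C2_centralizes [FiniteDimensional k M] (hk2 : ringChar k ≠ 2) (hk3 : Nat.card k ≠ 3)
    {G : Subgroup GLkM} (hG : IsIrreducibleFor G) {σ : GLkM} (hσ : σ ∈ quadraticElements G)
    (hnil : ∀ τ ∈ minimalQuadraticElements G,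
      IsNilpotent (((σ : Module.End k M) - 1) * ((τ : Module.End k M) - 1))) :
    ∀ A ∈ quadraticRootSubgroups G, ∀ x ∈ A, σ * x = x * σ := by
  rintro _ ⟨τ0, hτ0, rfl⟩ x hx
  by_cases hx1 : x = 1
  · rw [hx1, mul_one, one_mul]
  have h2 : (2 : k) ≠ 0 := Ring.two_ne_zero hk2
  obtain ⟨hmin, -⟩ := TRANS_Qd hτ0
  have hopp := C2_hasOpp hk2 hk3 hG hτ0
  have ha : NilAll G (commutatorRank τ0) ((σ : Module.End k M) - 1) := by
    refine ⟨QFam.of_mem_quadraticElements hσ, fun b hb => ?_⟩
    by_cases hb0 : b = 0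
    · rw [hb0, mul_zero]; exact IsNilpotent.zero
    obtain ⟨hτ, hval⟩ := C2_unit_min hτ0 hb hb0
    have := hnil _ hτ
    rwa [hval] at this
  have hb := (ROOT_Qd hτ0 hx hx1).1
  have hc := C2_comm h2 hmin hopp ha hb
  apply Units.ext
  rw [Units.val_mul, Units.val_mul]
  have e1 : (σ : Module.End k M) = 1 + ((σ : Module.End k M) - 1) := by abel
  have e2 : (x : Module.End k M) = 1 + ((x : Module.End k M) - 1) := by abel
  rw [e1, e2]
  generalize ((σ : Module.End k M) - 1) = a at hc ⊢
  generalize ((x : Module.End k M) - 1) = b at hc ⊢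
  rw [mul_add, add_mul, add_mul, mul_add, add_mul, add_mul, hc]
  simp only [mul_one, one_mul]
  abel

end Cfsg.Agent.QPP

end
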