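import Mathlib
import Cfsg.Agent.Helper9.QuatSylowSL23

/-! S3361 pieces (R) and (B2) for helper24: an element of order 3 normalizing but not
centralizing a subgroup `Q ≅ Q₈` yields an embedding `Q₈ ⋊ C₃ → X`; a group of order 24 with a
normal `Q₈` whose centralizer has order 2 is `SL(2,3)`. -/

set_option autoImplicit false
set_option linter.unusedSectionVars false
set_option linter.style.haveILetI false

namespace Cfsg.Agent.Helper13.RegR

open Subgroup QuaternionGroup Cfsg.Agent.Helper2.QLift Cfsg.Agent.Helper9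

universe u

/-- finite version of (R) -/
theorem exists_q8c3_injective_fin {X : Type u} [Group X] [Finite X] (Q : Subgroup X)
    (eQ : Q ≃* QuaternionGroup 2) (g : X) (hgN : g ∈ Subgroup.normalizer (Q : Set X))
    (hg3 : g ^ 3 = 1) (hgC : g ∉ Subgroup.centralizer (Q : Set X)) :
    ∃ φ : Cfsg.Agent.Helper9.Q8C3 →* X, Function.Injective φ := by
  classical
  have hg1 : g ≠ 1 := by
    intro h
    exact hgC (h ▸ one_mem _)
  have hog : orderOf g = 3 := orderOf_eq_prime hg3 hg1
  have hodd : Nat.Coprime (orderOf g) 2 := by rw [hog]; norm_num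
  obtain ⟨x, y, hx, hy, hx2, hyy, hyxy, hgx, hgy⟩ := q8sub_exists_adapted Q eQ g hgN hodd hgC
  have hx4 : x ^ (2 * 2) = 1 := q8sub_pow_four Q eQ hx
  have hox : orderOf x = 2 * 2 := q8sub_orderOf_eq_four Q eQ hx hx2
  have hynz : y ∉ zpowers x := not_mem_zpowers_of_sq_ne x y hyxy hx2
  set f := quaternionLift 2 x y hx4 hyy hyxy with hf
  have hfinj : Function.Injective f := quaternionLift_injective 2 x y hx4 hyy hyxy hox hynz
  have hfa : f (a 1) = x := by
    rw [hf, quaternionLift_a]
    have := zp_natCast 2 x hx4 1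
    rwa [Nat.cast_one, pow_one] at this
  have hfxa : f (xa 0) = y := by
    rw [hf, quaternionLift_xa, zp_zero, mul_one]
  have hrange : f.range = Q := by
    apply Subgroup.eq_of_le_of_card_ge (range_le 2 x y hx4 hyy hyxy Q hx hy)
    rw [q8sub_card Q eQ, ← Nat.card_congr (MonoidHom.ofInjective hfinj).toEquiv,
      Nat.card_eq_fintype_card, QuaternionGroup.card]
  have hfQ : ∀ q, f q ∈ Q := fun q => hrange ▸ (⟨q, rfl⟩ : f q ∈ f.range)
  have hcompat : ∀ q, g * f q * g⁻¹ = f (q8Sigma q) := by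
    have h : (MulAut.conj g).toMonoidHom.comp f = f.comp q8Sigma.toMonoidHom := by
      apply quaternion_hom_ext
      · simp only [MonoidHom.coe_comp, MulEquiv.coe_toMonoidHom, Function.comp_apply,
          MulAut.conj_apply, q8Sigma_a]
        rw [hfa, hfxa, hgx]
      · simp only [MonoidHom.coe_comp, MulEquiv.coe_toMonoidHom, Function.comp_apply,
          MulAut.conj_apply, q8Sigma_xa]
        rw [map_mul, hfa, hfxa, hgy]
    intro q
    exact DFunLike.congr_fun h q
  refine ⟨q8c3Lift f g hg3 hcompat, q8c3Lift_injective f g hg3 hcompat ?_⟩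
  intro q k hk hqk
  have hgk : g ^ k ∈ Q := by
    have : g ^ k = (f q)⁻¹ := eq_inv_of_mul_eq_one_right hqk
    rw [this]
    exact inv_mem (hfQ q)
  have hgk4 : (g ^ k) ^ 4 = 1 := q8sub_pow_four Q eQ hgk
  interval_cases k
  · refine ⟨?_, rfl⟩
    rw [pow_zero, mul_one] at hqk
    exact hfinj (by rw [hqk, map_one])
  · exfalso
    apply hg1
    rw [pow_one] at hgk4
    calc g = g ^ 4 * (g ^ 3)⁻¹ := by group
      _ = 1 := by rw [hgk4, hg3]; simp
  · exfalso
    apply hg1
    have h8 : g ^ 8 = 1 := by rw [← hgk4, ← pow_mul]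
    calc g = (g ^ 3) ^ 3 * (g ^ 8)⁻¹ := by group
      _ = 1 := by rw [h8, hg3]; simp

/-- (R) -/
theorem exists_q8c3_injective {X : Type*} [Group X] (Q : Subgroup X)
    (eQ : Q ≃* QuaternionGroup 2) (g : X) (hgN : g ∈ Subgroup.normalizer (Q : Set X))
    (hg3 : g ^ 3 = 1) (hgC : g ∉ Subgroup.centralizer (Q : Set X)) :
    ∃ φ : Cfsg.Agent.Helper9.Q8C3 →* X, Function.Injective φ := by
  classical
  set H : Subgroup X := Q ⊔ zpowers g with hH
  have hQH : Q ≤ H := le_sup_left
  have hgH : g ∈ H := (le_sup_right : zpowers g ≤ H) (mem_zpowers g)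
  have hQfin : Finite Q := Finite.of_equiv _ eQ.symm.toEquiv
  have hzfin : Finite (zpowers g) := by
    apply Nat.finite_of_card_ne_zero
    rw [Nat.card_zpowers]
    exact (orderOf_pos_iff.mpr (isOfFinOrder_iff_pow_eq_one.mpr ⟨3, by norm_num, hg3⟩)).ne'
  have hHfin : Finite H := by
    have hsub : (H : Set X) ⊆ Set.image2 (· * ·) (Q : Set X) (zpowers g : Set X) := by
      intro h hh
      obtain ⟨u, hu, i, rfl⟩ := exists_mul_zpow_of_mem_sup Q g hgN h hh
      exact ⟨u, hu, g ^ i, zpow_mem (mem_zpowers g) i, rfl⟩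
    have hfin : (Set.image2 (· * ·) (Q : Set X) (zpowers g : Set X)).Finite :=
      Set.Finite.image2 _ (Set.toFinite _) (Set.toFinite _)
    exact (hfin.subset hsub).to_subtype
  set Q' : Subgroup H := Q.subgroupOf H with hQ'
  let eQ' : Q' ≃* QuaternionGroup 2 := (Subgroup.subgroupOfEquivOfLe hQH).trans eQ
  set g' : H := ⟨g, hgH⟩ with hg'
  have hgN' : g' ∈ Subgroup.normalizer (Q' : Set H) := by
    rw [mem_normalizer_iff]
    intro h
    rw [hQ', mem_subgroupOf, mem_subgroupOf]
    exact mem_normalizer_iff.mp hgN h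
  have hg3' : g' ^ 3 = 1 := Subtype.ext (by simpa using hg3)
  have hgC' : g' ∉ Subgroup.centralizer (Q' : Set H) := by
    intro hc
    apply hgC
    rw [mem_centralizer_iff]
    intro u hu
    have := mem_centralizer_iff.mp hc ⟨u, hQH hu⟩ (by
      show (⟨u, hQH hu⟩ : H) ∈ Q.subgroupOf H
      rw [mem_subgroupOf]; exact hu)
    exact congrArg Subtype.val this
  obtain ⟨φ, hφ⟩ := exists_q8c3_injective_fin Q' eQ' g' hgN' hg3' hgC'
  exact ⟨H.subtype.comp φ, H.subtype_injective.comp hφ⟩

/-- (B2) -/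
theorem q8_normal_24 {H : Type*} [Group H] [Finite H] (N : Subgroup H) [N.Normal]
    (e : N ≃* QuaternionGroup 2) (hcard : Nat.card H = 24)
    (hD : Nat.card (Subgroup.centralizer (N : Set H)) = 2) :
    Nonempty (H ≃* Matrix.SpecialLinearGroup (Fin 2) (ZMod 3)) := by
  classical
  have : Fact (Nat.Prime 3) := ⟨Nat.prime_three⟩
  obtain ⟨g, hog⟩ := exists_prime_orderOf_dvd_card' (G := H) 3 (by rw [hcard]; norm_num)
  have hg3 : g ^ 3 = 1 := by rw [← hog]; exact pow_orderOf_eq_one g
  have hgN : g ∈ Subgroup.normalizer (N : Set H) := by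
    rw [Subgroup.normalizer_eq_top]; exact mem_top g
  have hgC : g ∉ Subgroup.centralizer (N : Set H) := by
    intro hc
    have := Subgroup.orderOf_dvd_natCard _ hc
    rw [hog, hD] at this
    omega
  obtain ⟨φ, hφ⟩ := exists_q8c3_injective N e g hgN hg3 hgC
  have : Finite Q8C3 := Nat.finite_of_card_ne_zero (by rw [card_Q8C3]; norm_num)
  have hb : Function.Bijective φ :=
    (Nat.bijective_iff_injective_and_card _).mpr ⟨hφ, by rw [card_Q8C3, hcard]⟩
  obtain ⟨E⟩ := nonempty_mulEquiv_q8c3_G3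
  exact ⟨(MulEquiv.ofBijective φ hb).symm.trans E⟩

end Cfsg.Agent.Helper13.RegR
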