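import Mathlib

set_option autoImplicit false

namespace Cfsg.Agent.Helper13

variable {F V : Type*} [Field F] [AddCommGroup V] [Module F V] [FiniteDimensional F V]

theorem finrank_comap_le (L : V →ₗ[F] V) (S : Submodule F V) :
    Module.finrank F (S.comap L) ≤ Module.finrank F (LinearMap.ker L) + Module.finrank F S := by
  have hT : ∀ x ∈ S.comap L, L x ∈ S := fun x hx => hx
  let f : (S.comap L) →ₗ[F] S := L.restrict hT
  have h1 := LinearMap.finrank_range_add_finrank_ker f
  have h2 : Module.finrank F (LinearMap.range f) ≤ Module.finrank F S := Submodule.finrank_le _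
  have hle : LinearMap.ker L ≤ S.comap L := by
    intro x hx
    rw [LinearMap.mem_ker] at hx
    show L x ∈ S
    rw [hx]
    exact S.zero_mem
  have h3 : Module.finrank F (LinearMap.ker f) = Module.finrank F (LinearMap.ker L) := by
    have : LinearMap.ker f = (LinearMap.ker L).comap (S.comap L).subtype := LinearMap.ker_restrict hT
    rw [this]
    exact (Submodule.comapSubtypeEquivOfLe hle).finrank_eq
  omega

theorem finrank_ker_pow_le (L : V →ₗ[F] V) (k : ℕ) :
    Module.finrank F (LinearMap.ker (L ^ k)) ≤ k * Module.finrank F (LinearMap.ker L) := by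
  induction k with
  | zero =>
    have : LinearMap.ker (L ^ 0) = ⊥ := by
      rw [pow_zero]
      exact LinearMap.ker_id
    rw [this]
    simp
  | succ k ih =>
    have : LinearMap.ker (L ^ (k + 1)) = (LinearMap.ker (L ^ k)).comap L := by
      rw [pow_succ]
      rfl
    rw [this]
    have := finrank_comap_le L (LinearMap.ker (L ^ k))
    nlinarith

theorem invariant_le_ker_pow (L : V →ₗ[F] V) (hL : IsNilpotent L) (W : Submodule F V)
    (hW : ∀ v ∈ W, L v ∈ W) : W ≤ LinearMap.ker (L ^ Module.finrank F W) := by
  let f : W →ₗ[F] W := L.restrict hW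
  have hfpow : ∀ (k : ℕ) (w : W), ((f ^ k) w : V) = (L ^ k) (w : V) := by
    intro k
    induction k with
    | zero => intro w; simp
    | succ k ih =>
      intro w
      rw [pow_succ', pow_succ', Module.End.mul_apply, Module.End.mul_apply]
      show L (((f ^ k) w : W) : V) = L ((L ^ k) (w : V))
      rw [ih]
  have hfnil : IsNilpotent f := by
    obtain ⟨m, hm⟩ := hL
    refine ⟨m, ?_⟩
    apply LinearMap.ext
    intro w
    apply Subtype.ext
    rw [hfpow, hm]
    simp
  have hf0 : f ^ Module.finrank F W = 0 := by
    have h1 := IsNilpotent.charpoly_eq_X_pow_finrank hfnil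
    have h2 := LinearMap.aeval_self_charpoly f
    rw [h1] at h2
    simpa using h2
  intro w hw
  rw [LinearMap.mem_ker]
  have := hfpow (Module.finrank F W) ⟨w, hw⟩
  rw [hf0] at this
  simpa using this.symm

theorem invariant_eq_ker_pow (L : V →ₗ[F] V) (hL : IsNilpotent L)
    (hker : Module.finrank F (LinearMap.ker L) ≤ 1) (W : Submodule F V)
    (hW : ∀ v ∈ W, L v ∈ W) : W = LinearMap.ker (L ^ Module.finrank F W) := by
  apply Submodule.eq_of_le_of_finrank_le (invariant_le_ker_pow L hL W hW)
  have := finrank_ker_pow_le L (Module.finrank F W)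
  nlinarith

end Cfsg.Agent.Helper13
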