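import Mathlib
import Cfsg.Agent.Helper18.S0747Defs

/-! Board `s0747pieces`, row B_ALT: a group containing the alternating group is `Good`. -/

set_option autoImplicit false

namespace Cfsg.Agent.S0747P

open MulAction

/-- B_ALT: a group containing the alternating group is `Good` (extend an even permutation of `Δ` by the identity:
`Equiv.Perm.ofSubtype`, `Equiv.Perm.sign_ofSubtype`). -/
theorem B_ALT {α : Type*} [Fintype α] [DecidableEq α] (G : Subgroup (Equiv.Perm α)) {k : ℕ}
    (hkn : k < Fintype.card α) (hA : alternatingGroup α ≤ G) : Good ↥G α k := by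
  obtain ⟨Δ, -, hΔ⟩ := Finset.exists_subset_card_eq (s := (Finset.univ : Finset α)) (n := k + 1)
    (by rw [Finset.card_univ]; omega)
  refine ⟨Δ, hΔ, fun σ hσ => ?_⟩
  have hsign : Equiv.Perm.sign (Equiv.Perm.ofSubtype σ : Equiv.Perm α) = 1 := by
    rw [Equiv.Perm.sign_ofSubtype]
    exact Equiv.Perm.mem_alternatingGroup.1 hσ
  have hmem : (Equiv.Perm.ofSubtype σ : Equiv.Perm α) ∈ G :=
    hA (Equiv.Perm.mem_alternatingGroup.2 hsign)
  refine ⟨⟨Equiv.Perm.ofSubtype σ, hmem⟩, fun x => ?_⟩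
  change (Equiv.Perm.ofSubtype σ : Equiv.Perm α) (x : α) = σ x
  exact Equiv.Perm.ofSubtype_apply_coe σ x

end Cfsg.Agent.S0747P
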