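import Mathlib
import Cfsg.Agent.Helper27.S0996Defs
import Cfsg.Agent.Lead.AISLPSL

set_option autoImplicit false

/-! # S0996 piece FB: `G ≅ SL(2,F) × Z(G)`, `G` perfect, `|F| = 2^a` ⟹ `G ≅ PSL(2,F)`. -/

namespace Cfsg.Agent.Helper13.S0996FB

/-- a perfect group has no non-trivial commutative direct factor -/
theorem subsingleton_of_perfect_prod {G A B : Type*} [Group G] [Group A] [Group B]
    (hB : ∀ a b : B, a * b = b * a)
    (hperf : commutator G = ⊤) (e : G ≃* A × B) : Subsingleton B := by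
  let f : G →* B := (MonoidHom.snd A B).comp e.toMonoidHom
  have hker : commutator G ≤ f.ker := by
    rw [commutator_def, Subgroup.commutator_le]
    intro x _ y _
    rw [MonoidHom.mem_ker, commutatorElement_def, map_mul, map_mul, map_mul, map_inv, map_inv]
    rw [hB (f x) (f y), mul_inv_cancel_right, mul_inv_cancel]
  rw [hperf] at hker
  refine ⟨fun b c => ?_⟩
  have hb : ∀ b : B, b = 1 := by
    intro b
    have h1 : f (e.symm (1, b)) = b := by
      show (MonoidHom.snd A B) (e (e.symm (1, b))) = b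
      rw [MulEquiv.apply_symm_apply]
      rfl
    have h2 : e.symm (1, b) ∈ f.ker := hker (Subgroup.mem_top _)
    rw [MonoidHom.mem_ker] at h2
    rw [← h1, h2]
  rw [hb b, hb c]

end Cfsg.Agent.Helper13.S0996FB

namespace Cfsg.Agent.S0996P

open Cfsg Cfsg.Agent.Helper24 Cfsg.Agent.Helper1.W2p

universe u

variable {G : Type u} [Group G]

section L7
variable [Finite G] {p : ℕ} [Fact p.Prime] {P : Subgroup G} {n : ℕ}

/-- FB -/
theorem psl_of_sl_prod (B : Basic p P n)
    (h : ∃ (a : ℕ) (F : Type) (_ : Field F) (_ : Fintype F), p = 2 ^ a + 1 ∧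
      Fintype.card F = 2 ^ a ∧
      Nonempty (G ≃* Matrix.SpecialLinearGroup (Fin 2) F × Subgroup.center G)) :
    ∃ (m : ℕ) (F : Type) (_ : Field F) (_ : Fintype F), Fintype.card F = 2 ^ m ∧ p = 2 ^ m + 1 ∧
      3 < p ∧ Nonempty (G ≃* Matrix.ProjectiveSpecialLinearGroup (Fin 2) F) := by
  obtain ⟨a, F, iF, iFt, hp, hF, ⟨e⟩⟩ := h
  have h5 : 5 ≤ p := B.five_le
  have ha : a ≠ 0 := by
    intro h0
    rw [h0] at hp
    omega
  have hchar : CharP F 2 := Cfsg.Agent.Lead.AI.charP_two_of_card ha hF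
  have hsub : Subsingleton (Subgroup.center G) :=
    Cfsg.Agent.Helper13.S0996FB.subsingleton_of_perfect_prod
      (fun x y => Subtype.ext (y.2.comm x.1).symm) B.perf e
  obtain ⟨e2⟩ := Cfsg.Agent.Lead.AI.nonempty_sl2_equiv_psl2 (F := F)
  have hun : Unique (Subgroup.center G) := ⟨⟨1⟩, fun x => Subsingleton.elim x 1⟩
  refine ⟨a, F, iF, iFt, hF, hp, by omega, ⟨?_⟩⟩
  exact (e.trans (MulEquiv.prodUnique)).trans e2

end L7

end Cfsg.Agent.S0996P
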