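import Mathlib
import Cfsg.Agent.Helper27.S0996Defs
import Cfsg.Agent.Helper8.DualGroup

set_option autoImplicit false

/-! # S0996 piece LN2: the dual group `L` of the cyclic group `N_G(P)/P`. -/

namespace Cfsg.Agent.Helper13.S0996LN2

/-- the dual group of a finite abelian group has the same order -/
theorem card_hom_units {W : Type*} [Group W] [Finite W] (hc : ∀ a b : W, a * b = b * a) :
    Nat.card (W →* ℂˣ) = Nat.card W := by
  let _ : CommGroup W := { ‹Group W› with mul_comm := hc }
  have := Cfsg.Agent.Helper8.hasEnoughRootsOfUnity_exponent W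
  exact CommGroup.card_monoidHom_of_hasEnoughRootsOfUnity W ℂ

/-- summing all linear characters at a non-trivial element gives zero -/
theorem sum_hom_units_apply {W : Type*} [Group W] [Finite W] (hc : ∀ a b : W, a * b = b * a)
    [Fintype (W →* ℂˣ)] (x : W) (hx : x ≠ 1) : ∑ φ : W →* ℂˣ, ((φ x : ℂˣ) : ℂ) = 0 := by
  classical
  have h := Cfsg.Agent.Helper8.sum_annihilator hc (⊥ : Subgroup W) x
  have hfil : Finset.univ.filter (fun φ : W →* ℂˣ => ∀ y ∈ (⊥ : Subgroup W), φ y = 1)
      = Finset.univ := by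
    apply Finset.filter_true_of_mem
    intro φ _ y hy
    rw [Subgroup.mem_bot] at hy
    rw [hy, map_one]
  rw [hfil, if_neg (by rw [Subgroup.mem_bot]; exact hx)] at h
  exact h

end Cfsg.Agent.Helper13.S0996LN2

namespace Cfsg.Agent.S0996P

open Cfsg Cfsg.Agent.Helper24 Cfsg.Agent.Helper1.W2p

universe u

variable {G : Type u} [Group G]

section L2
variable [Finite G] {P : Subgroup G}

/-- LN2a -/
theorem finite_Lin (hc : IsCyclic (QP P)) : Finite (Lin P) := by
  have hcomm : ∀ a b : QP P, a * b = b * a := by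
    intro a b
    obtain ⟨g, hg⟩ := hc.exists_generator
    obtain ⟨i, rfl⟩ := Subgroup.mem_zpowers_iff.mp (hg a)
    obtain ⟨j, rfl⟩ := Subgroup.mem_zpowers_iff.mp (hg b)
    rw [← zpow_add, ← zpow_add, add_comm]
  exact Cfsg.Agent.Helper8.finite_hom_units hcomm

/-- LN2b -/
theorem linFacts [Fintype (Lin P)] (hc : IsCyclic (QP P)) : LinFacts P := by
  have hcomm : ∀ a b : QP P, a * b = b * a := by
    intro a b
    obtain ⟨g, hg⟩ := hc.exists_generator
    obtain ⟨i, rfl⟩ := Subgroup.mem_zpowers_iff.mp (hg a)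
    obtain ⟨j, rfl⟩ := Subgroup.mem_zpowers_iff.mp (hg b)
    rw [← zpow_add, ← zpow_add, add_comm]
  have hcard : Fintype.card (Lin P) = eN P := by
    rw [← Nat.card_eq_fintype_card, Cfsg.Agent.Helper13.S0996LN2.card_hom_units hcomm]
    rfl
  have hmk : ∀ h : ↥(NP P), (QuotientGroup.mk h : QP P) = 1 ↔ (h : G) ∈ P := by
    intro h
    rw [QuotientGroup.eq_one_iff, Subgroup.mem_subgroupOf]
  refine ⟨hcard, ?_, ?_⟩
  · intro h hh
    have h1 : ∀ φ : Lin P, lam P φ h = 1 := by
      intro φ
      unfold lam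
      rw [(hmk h).mpr hh, map_one, Units.val_one]
    rw [Finset.sum_congr rfl (fun φ _ => h1 φ), Finset.sum_const, Finset.card_univ, hcard,
      nsmul_eq_mul, mul_one]
  · intro h hh
    have hne : (QuotientGroup.mk h : QP P) ≠ 1 := fun h0 => hh ((hmk h).mp h0)
    exact Cfsg.Agent.Helper13.S0996LN2.sum_hom_units_apply hcomm _ hne

end L2

end Cfsg.Agent.S0996P
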