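import Mathlib
import Cfsg.Agent.Helper27.S0996Defs

set_option autoImplicit false

/-! # S0996 piece LN3: an involution in the dual group `L` (`e` even); no self-inverse element
(`e` odd). -/

namespace Cfsg.Agent.S0996P

open Cfsg Cfsg.Agent.Helper24 Cfsg.Agent.Helper1.W2p

universe u

variable {G : Type u} [Group G]

section L2
variable [Finite G] {P : Subgroup G}

/-- LN3 -/
theorem exists_invol_Lin [Fintype (Lin P)] (LF : LinFacts P) (he : Even (eN P)) :
    ∃ φ₀ : Lin P, φ₀ ≠ 1 ∧ φ₀ * φ₀ = 1 := by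
  have h2 : 2 ∣ Fintype.card (Lin P) := by
    rw [LF.card]
    exact even_iff_two_dvd.mp he
  have : Fact (Nat.Prime 2) := ⟨Nat.prime_two⟩
  obtain ⟨φ₀, hφ₀⟩ := exists_prime_orderOf_dvd_card 2 h2
  refine ⟨φ₀, ?_, ?_⟩
  · intro h1
    rw [h1, orderOf_one] at hφ₀
    omega
  · have h3 : φ₀ ^ 2 = 1 := by
      rw [← hφ₀]
      exact pow_orderOf_eq_one φ₀
    exact (pow_two φ₀).symm.trans h3

/-- LN3' -/
theorem inv_ne_self_Lin [Fintype (Lin P)] (LF : LinFacts P) (he : Odd (eN P)) (φ : Lin P)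
    (hφ : φ ≠ 1) : φ⁻¹ ≠ φ := by
  intro h
  apply hφ
  have h2 : φ ^ 2 = 1 := by
    have h3 : φ⁻¹ * φ = 1 := inv_mul_cancel φ
    rw [h] at h3
    exact (pow_two φ).trans h3
  have hd2 : orderOf φ ∣ 2 := orderOf_dvd_of_pow_eq_one h2
  have hde : orderOf φ ∣ eN P := by
    rw [← LF.card]
    exact orderOf_dvd_card
  have hcop : Nat.Coprime 2 (eN P) := (Nat.coprime_two_left).mpr he
  have h1 : orderOf φ ∣ 1 := by
    have := Nat.dvd_gcd hd2 hde
    rwa [hcop] at this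
  exact orderOf_eq_one_iff.mp (Nat.dvd_one.mp h1)

end L2

end Cfsg.Agent.S0996P
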