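import Mathlib
import Cfsg.Agent.Helper8.S1904Defs

/-! Board `s1904pieces`, row A1ii (core): `Z = W` when `A` does not fix `W` pointwise.
The rows T5 and INV enter as hypotheses. -/

set_option autoImplicit false

namespace Cfsg.Agent.S1904P

open scoped IsMulCommutative

variable {X : Type*} [Group X] [Finite X] {A : Subgroup (MulAut X)}

omit [Finite X] in
/-- a central element whose square is not `1` has a power of order `4`. -/
theorem A1ii_aux_order4 (hX : IsPGroup 2 X) (z : X) (hz : z ∈ Subgroup.center X) (hz2 : z * z ≠ 1) :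
    ∃ u ∈ Subgroup.center X, u * u * (u * u) = 1 ∧ u * u ≠ 1 := by
  classical
  have hex : ∃ k, z ^ 2 ^ k = 1 := hX z
  obtain ⟨k, hk1, hmin⟩ : ∃ k, z ^ 2 ^ k = 1 ∧ ∀ m < k, z ^ 2 ^ m ≠ 1 :=
    ⟨Nat.find hex, Nat.find_spec hex, fun m hm => Nat.find_min hex hm⟩
  match k, hk1, hmin with
  | 0, hk1, _ =>
    exfalso
    rw [pow_zero, pow_one] at hk1
    rw [hk1, mul_one] at hz2
    exact hz2 rfl
  | 1, hk1, _ =>
    exfalso
    rw [pow_one, pow_two] at hk1
    exact hz2 hk1
  | n + 2, hk1, hmin =>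
    refine ⟨z ^ 2 ^ n, Subgroup.pow_mem _ hz _, ?_, ?_⟩
    · rw [← pow_add, ← pow_add, ← hk1]
      congr 1
      rw [pow_succ, pow_succ]; ring
    · rw [← pow_add]
      have := hmin (n + 1) (by omega)
      rw [pow_succ] at this
      rwa [show 2 ^ n + 2 ^ n = 2 ^ n * 2 by ring]

omit [Finite X] in
theorem A1ii_aux_aut_center (φ : MulAut X) {z : X} (hz : z ∈ Subgroup.center X) : φ z ∈ Subgroup.center X := by
  rw [Subgroup.mem_center_iff] at hz ⊢
  intro g
  have := hz (φ.symm g)
  have h2 := congrArg φ this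
  simpa using h2

/-- A1ii (core). -/
theorem A1ii_aux_core (H : Hyp A) (hc : ∀ x y : X, x * y * x⁻¹ * y⁻¹ ∈ WW X)
    (hs : ∀ x : X, x * x ∈ Subgroup.center X)
    (hT5 : Nat.card (WW X) = 4 ∧ (∀ w ∈ WW X, (∀ φ ∈ A, φ w = w) → w = 1) ∧
      ∀ K : Subgroup X, K ≤ WW X → Inv A K → K = ⊥ ∨ K = WW X)
    (hINV : ∀ t : X, t * t = 1 → (∀ x : X, t * x * t⁻¹ * x⁻¹ ∈ WW X) → t ∈ WW X) :
    ∀ z ∈ Subgroup.center X, z * z = 1 := by
  classical
  by_contra hne
  push Not at hne
  obtain ⟨z, hz, hz2⟩ := hne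
  obtain ⟨u, hu, hu4, hu2⟩ := A1ii_aux_order4 H.pX z hz hz2
  obtain ⟨h4, hfix, hmin⟩ := hT5
  have hcen : ∀ {z : X}, z ∈ Subgroup.center X → ∀ x : X, x * z = z * x :=
    fun hz => Subgroup.mem_center_iff.1 hz
  -- the subgroup `K` of squares of central elements of order dividing 4
  let sq : ↥(Subgroup.center X) →* ↥(Subgroup.center X) := powMonoidHom 2
  let K : Subgroup X :=
    ((MonoidHom.ker (powMonoidHom 4 : ↥(Subgroup.center X) →* ↥(Subgroup.center X))).map sq).map
      (Subgroup.center X).subtype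
  have hKmem : ∀ w : X, w ∈ K ↔ ∃ v : ↥(Subgroup.center X), v ^ 4 = 1 ∧ (v : X) ^ 2 = w := by
    intro w
    simp only [K, sq, Subgroup.mem_map, MonoidHom.mem_ker, powMonoidHom_apply, Subgroup.coe_subtype]
    constructor
    · rintro ⟨y, ⟨v, hv, rfl⟩, rfl⟩
      exact ⟨v, hv, by simp⟩
    · rintro ⟨v, hv, rfl⟩
      exact ⟨v ^ 2, ⟨v, hv, rfl⟩, by simp⟩
  have hKW : K ≤ WW X := by
    intro w hw
    obtain ⟨v, hv, rfl⟩ := (hKmem w).1 hw
    refine ⟨Subgroup.pow_mem _ v.2 _, ?_⟩
    have : ((v : X)) ^ 4 = 1 := by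
      have := congrArg Subtype.val hv
      simpa using this
    rw [← pow_add]; exact this
  have hKinv : Inv A K := by
    intro φ _ w hw
    obtain ⟨v, hv, rfl⟩ := (hKmem _).1 hw
    rw [hKmem]
    refine ⟨⟨φ (v : X), A1ii_aux_aut_center φ v.2⟩, ?_, ?_⟩
    · apply Subtype.ext
      have : ((v : X)) ^ 4 = 1 := by
        have := congrArg Subtype.val hv
        simpa using this
      simp only [Subgroup.coe_pow, Subgroup.coe_one]
      rw [← map_pow, this, map_one]
    · simp only [map_pow]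
  have huK : u * u ∈ K := by
    rw [hKmem]
    refine ⟨⟨u, hu⟩, ?_, by simp [pow_two]⟩
    apply Subtype.ext
    simp only [Subgroup.coe_pow, Subgroup.coe_one]
    rw [show (4 : ℕ) = 2 + 2 from rfl, pow_add, pow_two]
    exact hu4
  have hKeq : K = WW X := by
    rcases hmin K hKW hKinv with h | h
    · exfalso
      rw [h, Subgroup.mem_bot] at huK
      exact hu2 huK
    · exact h
  -- every element whose square lies in `W` is central
  have hstar : ∀ y : X, y * y ∈ WW X → y ∈ Subgroup.center X := by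
    intro y hy
    rw [← hKeq, hKmem] at hy
    obtain ⟨v, _, hv2⟩ := hy
    have hvc : ∀ x : X, x * (v : X) = (v : X) * x := hcen v.2
    have hvi : ∀ x : X, (v : X)⁻¹ * x * (v : X) = x := by
      intro x
      rw [mul_assoc, hvc x, ← mul_assoc, inv_mul_cancel, one_mul]
    have ht : y * (v : X)⁻¹ ∈ WW X := by
      apply hINV
      · have e : y * (v : X)⁻¹ * (y * (v : X)⁻¹) = y * ((v : X)⁻¹ * y * (v : X)) * ((v : X) ^ 2)⁻¹ := by
          group
        rw [e, hvi y, hv2, mul_inv_cancel]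
      · intro x
        have e : y * (v : X)⁻¹ * x * (y * (v : X)⁻¹)⁻¹ * x⁻¹ = y * ((v : X)⁻¹ * x * (v : X)) * y⁻¹ * x⁻¹ := by
          group
        rw [e, hvi x]
        exact hc y x
    have : y = y * (v : X)⁻¹ * (v : X) := by group
    rw [this]
    exact Subgroup.mul_mem _ ht.1 v.2
  -- `|Z : Z²| = 4`
  have hker4 : Nat.card ↥sq.ker = 4 := by
    rw [← h4]
    refine Nat.card_congr
      { toFun := fun z => ⟨(z.1 : X), ⟨z.1.2, ?_⟩⟩
        invFun := fun w => ⟨⟨w.1, w.2.1⟩, ?_⟩
        left_inv := fun z => rfl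
        right_inv := fun w => rfl }
    · have := z.2
      rw [MonoidHom.mem_ker, powMonoidHom_apply] at this
      have := congrArg Subtype.val this
      simpa [pow_two] using this
    · rw [MonoidHom.mem_ker, powMonoidHom_apply]
      apply Subtype.ext
      simp only [Subgroup.coe_pow, Subgroup.coe_one, pow_two]
      exact w.2.2
  have hRidx : sq.range.index = 4 := by
    have h1 := Subgroup.card_mul_index sq.ker
    have h2 := Subgroup.index_ker sq
    have h3 := Subgroup.card_mul_index sq.range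
    rw [hker4, h2] at h1
    have hpos : 0 < Nat.card ↥sq.range := Nat.card_pos
    have : Nat.card ↥sq.range * sq.range.index = Nat.card ↥sq.range * 4 := by
      rw [h3, ← h1, mul_comm]
    exact Nat.eq_of_mul_eq_mul_left hpos this
  -- the homomorphism `x ↦ x² Z²`
  have hmulmem : ∀ x y : X, (x * y * (x * y))⁻¹ * (x * x * (y * y)) ∈ WW X := by
    intro x y
    have h1 := hc x⁻¹ y⁻¹
    have hcc := hcen (WW_le_center h1)
    have e : (x * y * (x * y))⁻¹ * (x * x * (y * y)) = y⁻¹ * (x⁻¹ * y⁻¹ * x⁻¹⁻¹ * y⁻¹⁻¹) * y := by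
      group
    rw [e, mul_assoc, ← hcc y, ← mul_assoc, inv_mul_cancel, one_mul]
    exact h1
  let Qh : X →* ↥(Subgroup.center X) ⧸ sq.range :=
    { toFun := fun x => QuotientGroup.mk ⟨x * x, hs x⟩
      map_one' := by
        have : (⟨1 * 1, hs 1⟩ : ↥(Subgroup.center X)) = 1 := Subtype.ext (by simp)
        rw [this]; rfl
      map_mul' := by
        intro x y
        rw [← QuotientGroup.mk_mul, QuotientGroup.eq]
        have hk := hmulmem x y
        rw [← hKeq, hKmem] at hk
        obtain ⟨v, _, hv2⟩ := hk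
        refine ⟨v, ?_⟩
        apply Subtype.ext
        simp only [powMonoidHom_apply, Subgroup.coe_pow, Subgroup.coe_mul, Subgroup.coe_inv]
        exact hv2 }
  have hkerle : Qh.ker ≤ Subgroup.center X := by
    intro x hx
    rw [MonoidHom.mem_ker] at hx
    change (QuotientGroup.mk ⟨x * x, hs x⟩ : ↥(Subgroup.center X) ⧸ sq.range) = 1 at hx
    rw [QuotientGroup.eq_one_iff] at hx
    obtain ⟨v, hv⟩ := hx
    have hv' : v ^ 2 = (⟨x * x, hs x⟩ : ↥(Subgroup.center X)) := hv
    have hv2 : (v : X) ^ 2 = x * x := by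
      have := congrArg Subtype.val hv'
      simpa using this
    have hvc : ∀ y : X, y * (v : X) = (v : X) * y := hcen v.2
    have hvi : ∀ y : X, (v : X)⁻¹ * y * (v : X) = y := by
      intro y
      rw [mul_assoc, hvc y, ← mul_assoc, inv_mul_cancel, one_mul]
    have h1 : x * (v : X)⁻¹ ∈ Subgroup.center X := by
      apply hstar
      have e : x * (v : X)⁻¹ * (x * (v : X)⁻¹) = x * ((v : X)⁻¹ * x * (v : X)) * ((v : X) ^ 2)⁻¹ := by
        group
      rw [e, hvi x, hv2, mul_inv_cancel]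
      exact Subgroup.one_mem _
    have : x = x * (v : X)⁻¹ * (v : X) := by group
    rw [this]
    exact Subgroup.mul_mem _ h1 v.2
  have hidx : (Subgroup.center X).index ≤ 4 := by
    have h1 : (Subgroup.center X).index ∣ Qh.ker.index := Subgroup.index_dvd_of_le hkerle
    have h2 : Qh.ker.index = Nat.card ↥Qh.range := Subgroup.index_ker Qh
    have h3 : Nat.card ↥Qh.range ≤ Nat.card (↥(Subgroup.center X) ⧸ sq.range) :=
      Nat.card_le_card_of_injective _ Subtype.val_injective
    have h4' : Nat.card (↥(Subgroup.center X) ⧸ sq.range) = 4 := by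
      rw [← Subgroup.index_eq_card, hRidx]
    have hpos : 0 < Qh.ker.index := by
      rw [h2]; exact Nat.card_pos
    exact (Nat.le_of_dvd hpos h1).trans (by rw [h2]; exact h3.trans h4'.le)
  -- two non-commuting elements
  obtain ⟨a, b, hab⟩ := H.na
  have hcW : a * b * a⁻¹ * b⁻¹ ∈ WW X := hc a b
  have hc1 : a * b * a⁻¹ * b⁻¹ ≠ 1 := by
    intro h
    apply hab
    have : a * b = (a * b * a⁻¹ * b⁻¹) * (b * a) := by group
    rw [this, h, one_mul]
  have hcc : ∀ x : X, x * (a * b * a⁻¹ * b⁻¹) = (a * b * a⁻¹ * b⁻¹) * x := hcen (WW_le_center hcW)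
  have hc2 : (a * b * a⁻¹ * b⁻¹) * (a * b * a⁻¹ * b⁻¹) = 1 := hcW.2
  have hcinv : (a * b * a⁻¹ * b⁻¹)⁻¹ = a * b * a⁻¹ * b⁻¹ := inv_eq_of_mul_eq_one_right hc2
  have haZ : a ∉ Subgroup.center X := fun h => hab (hcen h b).symm
  have hbZ : b ∉ Subgroup.center X := fun h => hab (hcen h a)
  have habZ : a⁻¹ * b ∉ Subgroup.center X := by
    intro h
    apply hab
    have h1 := hcen h a
    calc a * b = a * (a * (a⁻¹ * b)) := by group
      _ = a * ((a⁻¹ * b) * a) := by rw [h1]
      _ = b * a := by group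
  have habZ' : a * b ∉ Subgroup.center X := by
    intro h
    apply hab
    have h1 := hcen h a
    calc a * b = a⁻¹ * (a * (a * b)) := by group
      _ = a⁻¹ * ((a * b) * a) := by rw [h1]
      _ = b * a := by group
  -- the four cosets of `Z`
  have hdec : ∀ x : X, ∃ g z : X, (g = 1 ∨ g = a ∨ g = b ∨ g = a * b) ∧ z ∈ Subgroup.center X ∧ x = g * z := by
    have : Fintype (X ⧸ Subgroup.center X) := Fintype.ofFinite _
    have i1 : (1 : X ⧸ Subgroup.center X) ≠ (a : X ⧸ Subgroup.center X) := by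
      intro h
      exact haZ ((QuotientGroup.eq_one_iff a).1 h.symm)
    have i2 : (1 : X ⧸ Subgroup.center X) ≠ (b : X ⧸ Subgroup.center X) := by
      intro h
      exact hbZ ((QuotientGroup.eq_one_iff b).1 h.symm)
    have i3 : (1 : X ⧸ Subgroup.center X) ≠ ((a * b : X) : X ⧸ Subgroup.center X) := by
      intro h
      exact habZ' ((QuotientGroup.eq_one_iff (a * b)).1 h.symm)
    have i4 : (a : X ⧸ Subgroup.center X) ≠ (b : X ⧸ Subgroup.center X) := by
      intro h
      exact habZ (QuotientGroup.eq.1 h)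
    have i5 : (a : X ⧸ Subgroup.center X) ≠ ((a * b : X) : X ⧸ Subgroup.center X) := by
      intro h
      have h' := QuotientGroup.eq.1 h
      have e : a⁻¹ * (a * b) = b := by group
      rw [e] at h'
      exact hbZ h'
    have i6 : (b : X ⧸ Subgroup.center X) ≠ ((a * b : X) : X ⧸ Subgroup.center X) := by
      intro h
      have h' := QuotientGroup.eq.1 h
      -- b⁻¹ * (a * b) central, so `a` is central
      have h1 := hcen h' b⁻¹
      have e : a = (b⁻¹ * (a * b)) := by
        calc a = b * (b⁻¹ * (b⁻¹ * (a * b))) * b * b⁻¹ * b⁻¹ * b := by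
              rw [h1]; group
          _ = b⁻¹ * (a * b) := by group
      rw [← e] at h'
      exact haZ h'
    have hS : ({1, (a : X ⧸ Subgroup.center X), (b : X ⧸ Subgroup.center X),
        ((a * b : X) : X ⧸ Subgroup.center X)} : Finset (X ⧸ Subgroup.center X)).card = 4 := by
      have n3 : (b : X ⧸ Subgroup.center X) ∉
          ({((a * b : X) : X ⧸ Subgroup.center X)} : Finset (X ⧸ Subgroup.center X)) := by
        rw [Finset.mem_singleton]; exact i6
      have n2 : (a : X ⧸ Subgroup.center X) ∉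
          ({(b : X ⧸ Subgroup.center X), ((a * b : X) : X ⧸ Subgroup.center X)} :
            Finset (X ⧸ Subgroup.center X)) := by
        rw [Finset.mem_insert, Finset.mem_singleton]
        rintro (h | h)
        · exact i4 h
        · exact i5 h
      have n1 : (1 : X ⧸ Subgroup.center X) ∉
          ({(a : X ⧸ Subgroup.center X), (b : X ⧸ Subgroup.center X),
            ((a * b : X) : X ⧸ Subgroup.center X)} : Finset (X ⧸ Subgroup.center X)) := by
        rw [Finset.mem_insert, Finset.mem_insert, Finset.mem_singleton]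
        rintro (h | h | h)
        · exact i1 h
        · exact i2 h
        · exact i3 h
      rw [Finset.card_insert_of_notMem n1, Finset.card_insert_of_notMem n2,
        Finset.card_insert_of_notMem n3, Finset.card_singleton]
    have hcard : Fintype.card (X ⧸ Subgroup.center X) ≤ 4 := by
      rw [← Nat.card_eq_fintype_card, ← Subgroup.index_eq_card]
      exact hidx
    have huniv := Finset.eq_univ_of_card _ (le_antisymm (Finset.card_le_univ _) (hS ▸ hcard))
    intro x
    have hx : ((x : X) : X ⧸ Subgroup.center X) ∈ ({1, (a : X ⧸ Subgroup.center X),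
        (b : X ⧸ Subgroup.center X), ((a * b : X) : X ⧸ Subgroup.center X)} :
          Finset (X ⧸ Subgroup.center X)) := by
      rw [huniv]; exact Finset.mem_univ _
    rw [Finset.mem_insert, Finset.mem_insert, Finset.mem_insert, Finset.mem_singleton] at hx
    rcases hx with h | h | h | h
    · exact ⟨1, x, Or.inl rfl, (QuotientGroup.eq_one_iff x).1 h, by rw [one_mul]⟩
    · exact ⟨a, a⁻¹ * x, Or.inr (Or.inl rfl), QuotientGroup.eq.1 h.symm, by group⟩
    · exact ⟨b, b⁻¹ * x, Or.inr (Or.inr (Or.inl rfl)), QuotientGroup.eq.1 h.symm, by group⟩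
    · exact ⟨a * b, (a * b)⁻¹ * x, Or.inr (Or.inr (Or.inr rfl)), QuotientGroup.eq.1 h.symm, by group⟩
  -- commutators are insensitive to central factors
  have hβz : ∀ g y z : X, z ∈ Subgroup.center X → (g * z) * y * (g * z)⁻¹ * y⁻¹ = g * y * g⁻¹ * y⁻¹ := by
    intro g y z hz
    have h1 : z * y * z⁻¹ = y := by
      rw [← hcen hz y, mul_assoc, mul_inv_cancel, mul_one]
    calc (g * z) * y * (g * z)⁻¹ * y⁻¹ = g * (z * y * z⁻¹) * g⁻¹ * y⁻¹ := by group
      _ = g * y * g⁻¹ * y⁻¹ := by rw [h1]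
  have hβz' : ∀ x g z : X, z ∈ Subgroup.center X → x * (g * z) * x⁻¹ * (g * z)⁻¹ = x * g * x⁻¹ * g⁻¹ := by
    intro x g z hz
    have h1 : z * x⁻¹ * z⁻¹ = x⁻¹ := by
      rw [← hcen hz x⁻¹, mul_assoc, mul_inv_cancel, mul_one]
    calc x * (g * z) * x⁻¹ * (g * z)⁻¹ = x * g * (z * x⁻¹ * z⁻¹) * g⁻¹ := by group
      _ = x * g * x⁻¹ * g⁻¹ := by rw [h1]
  -- the table of commutators of `1, a, b, ab`
  have hba : b * a * b⁻¹ * a⁻¹ = a * b * a⁻¹ * b⁻¹ := by
    rw [← hcinv]; group
  have haab : a * (a * b) * a⁻¹ * (a * b)⁻¹ = a * b * a⁻¹ * b⁻¹ := by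
    calc a * (a * b) * a⁻¹ * (a * b)⁻¹ = a * (a * b * a⁻¹ * b⁻¹) * a⁻¹ := by group
      _ = a * b * a⁻¹ * b⁻¹ := by rw [hcc a, mul_assoc, mul_inv_cancel, mul_one]
  have haba : (a * b) * a * (a * b)⁻¹ * a⁻¹ = a * b * a⁻¹ * b⁻¹ := by
    have : (a * b) * a * (a * b)⁻¹ * a⁻¹ = (a * (a * b) * a⁻¹ * (a * b)⁻¹)⁻¹ := by group
    rw [this, haab, hcinv]
  have hbab : b * (a * b) * b⁻¹ * (a * b)⁻¹ = a * b * a⁻¹ * b⁻¹ := by
    rw [← hba]; group
  have habb : (a * b) * b * (a * b)⁻¹ * b⁻¹ = a * b * a⁻¹ * b⁻¹ := by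
    group
  have hval : ∀ g g' : X, (g = 1 ∨ g = a ∨ g = b ∨ g = a * b) → (g' = 1 ∨ g' = a ∨ g' = b ∨ g' = a * b) →
      g * g' * g⁻¹ * g'⁻¹ = 1 ∨ g * g' * g⁻¹ * g'⁻¹ = a * b * a⁻¹ * b⁻¹ := by
    intro g g' hg hg'
    rcases hg with rfl | rfl | rfl | rfl <;> rcases hg' with rfl | rfl | rfl | rfl
    · left; group
    · left; group
    · left; group
    · left; group
    · left; group
    · left; group
    · right; rfl
    · right; exact haab
    · left; group
    · right; exact hba
    · left; group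
    · right; exact hbab
    · left; group
    · right; exact haba
    · right; exact habb
    · left; group
  -- `A` fixes the commutator `[a,b]`
  have hfixc : ∀ φ ∈ A, φ (a * b * a⁻¹ * b⁻¹) = a * b * a⁻¹ * b⁻¹ := by
    intro φ _
    obtain ⟨g, z, hg, hz, hga⟩ := hdec (φ a)
    obtain ⟨g', z', hg', hz', hgb⟩ := hdec (φ b)
    have e : φ (a * b * a⁻¹ * b⁻¹) = g * g' * g⁻¹ * g'⁻¹ := by
      rw [map_mul, map_mul, map_mul, map_inv, map_inv, hga, hgb, hβz g (g' * z') z hz, hβz' g g' z' hz']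
    rcases hval g g' hg hg' with h | h
    · exfalso
      rw [h] at e
      have : φ (a * b * a⁻¹ * b⁻¹) = φ 1 := by rw [e, map_one]
      exact hc1 (φ.injective this)
    · rw [e, h]
  exact hc1 (hfix _ hcW hfixc)

end Cfsg.Agent.S1904P
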