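import Mathlib
import Cfsg.Agent.Helper13.S1904A1iicore
import Cfsg.Agent.Helper15.S1904WCARD
import Cfsg.Agent.Helper19.S1904T5

/-! Board `s1904pieces`, row A1ii: `Z = W` when `A` does not fix `W` pointwise. -/

set_option autoImplicit false

namespace Cfsg.Agent.S1904P

variable {X : Type*} [Group X] [Finite X] {A : Subgroup (MulAut X)}

/-- A1ii: `Z = W` when `A` does not fix `W` pointwise. -/
theorem A1ii (H : Hyp A) (hc : ∀ x y : X, x * y * x⁻¹ * y⁻¹ ∈ WW X)
    (hs : ∀ x : X, x * x ∈ Subgroup.center X)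
    (hW : ¬ ∀ φ ∈ A, ∀ w ∈ WW X, φ w = w) : ∀ z ∈ Subgroup.center X, z * z = 1 :=
  A1ii_aux_core H hc hs (T5 H hW) (fun t => INV H (T5 H hW).1 t)

end Cfsg.Agent.S1904P
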