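import Mathlib
import Cfsg.Agent.Helper2.S2094.DefsC
import Cfsg.Agent.S2614

set_option autoImplicit false
set_option linter.unusedSectionVars false
set_option linter.unusedVariables false

/-! S2094 chapter C, piece CLCARB (helper13; driver helper2): the Clifford algebra of `x₀² + Σ x_i y_i`
carries a family satisfying the relations `CARB`. -/

namespace Cfsg.Agent.S2094P

open Cfsg.Agent.S3352P Cfsg.Agent.S3351P Cfsg.Agent.S2096P

universe u

namespace CLCARB

variable {F : Type u} [Field F]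

open Cfsg.Agent.S2614

theorem QfOdd_apply (m : ℕ) (v : Unit ⊕ (Fin m ⊕ Fin m) → F) :
    QfOdd m F v = v (Sum.inl ()) ^ 2 + ∑ j : Fin m, v (Sum.inr (Sum.inl j)) * v (Sum.inr (Sum.inr j)) := by
  have h := congrFun (QfOdd_coe (F := F) m) v
  rw [h]
  rfl

theorem polar_QfOdd (m : ℕ) (x y : Unit ⊕ (Fin m ⊕ Fin m) → F) :
    QuadraticMap.polar (QfOdd m F) x y =
      2 * x (Sum.inl ()) * y (Sum.inl ()) +
        ∑ j : Fin m, (x (Sum.inr (Sum.inl j)) * y (Sum.inr (Sum.inr j)) +
          y (Sum.inr (Sum.inl j)) * x (Sum.inr (Sum.inr j))) := by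
  unfold QuadraticMap.polar
  rw [QfOdd_apply, QfOdd_apply, QfOdd_apply]
  have : ∀ j : Fin m, (x + y) (Sum.inr (Sum.inl j)) * (x + y) (Sum.inr (Sum.inr j)) =
      x (Sum.inr (Sum.inl j)) * x (Sum.inr (Sum.inr j)) +
      y (Sum.inr (Sum.inl j)) * y (Sum.inr (Sum.inr j)) +
      (x (Sum.inr (Sum.inl j)) * y (Sum.inr (Sum.inr j)) +
          y (Sum.inr (Sum.inl j)) * x (Sum.inr (Sum.inr j))) := by
    intro j
    simp only [Pi.add_apply]
    ring
  rw [Finset.sum_congr rfl (fun j _ => this j)]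
  simp only [Finset.sum_add_distrib, Pi.add_apply]
  ring

theorem Q_single_inr (m : ℕ) (a : J m) :
    QfOdd m F (Pi.single (Sum.inr a) 1) = 0 := by
  classical
  rw [QfOdd_apply]
  rcases a with i | i <;> simp [Pi.single_apply]

theorem Q_single_inl (m : ℕ) :
    QfOdd m F (Pi.single (Sum.inl ()) 1) = 1 := by
  classical
  rw [QfOdd_apply]
  simp [Pi.single_apply]

theorem polar_single_inr (m : ℕ) (a b : J m) :
    QuadraticMap.polar (QfOdd m F) (Pi.single (Sum.inr a) (1 : F)) (Pi.single (Sum.inr b) 1) =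
      if b = ng a then 1 else 0 := by
  classical
  rw [polar_QfOdd]
  rcases a with i | i <;> rcases b with j | j <;>
    simp [Pi.single_apply, ng, eq_comm]

theorem polar_single_inl (m : ℕ) (a : J m) :
    QuadraticMap.polar (QfOdd m F) (Pi.single (Sum.inl ()) (1 : F)) (Pi.single (Sum.inr a) 1) =
      0 := by
  classical
  rw [polar_QfOdd]
  rcases a with i | i <;> simp [Pi.single_apply]

end CLCARB

/-- CLCARB -/
theorem exists_carB (n : ℕ) (F : Type u) [Field F] (h2 : (2 : F) ≠ 0) :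
    ∃ (A : Type u) (_ : Ring A) (_ : Algebra F A) (ψ : J n → A) (ψ0 : A),
      Nontrivial A ∧ CARB ψ ψ0 := by
  classical
  have : Invertible (2 : F) := invertibleOfNonzero h2
  set Q := Cfsg.Agent.S2614.QfOdd n F with hQ
  refine ⟨CliffordAlgebra Q, inferInstance, inferInstance,
    fun a => CliffordAlgebra.ι Q (Pi.single (Sum.inr a) 1),
    CliffordAlgebra.ι Q (Pi.single (Sum.inl ()) 1), inferInstance, ⟨⟨?_, ?_, ?_⟩, ?_, ?_⟩⟩
  · intro a
    show CliffordAlgebra.ι Q (Pi.single (Sum.inr a) 1) *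
      CliffordAlgebra.ι Q (Pi.single (Sum.inr a) 1) = 0
    rw [CliffordAlgebra.ι_sq_scalar, CLCARB.Q_single_inr, map_zero]
  · intro a b hb
    show CliffordAlgebra.ι Q (Pi.single (Sum.inr a) 1) *
        CliffordAlgebra.ι Q (Pi.single (Sum.inr b) 1) =
      -(CliffordAlgebra.ι Q (Pi.single (Sum.inr b) 1) *
        CliffordAlgebra.ι Q (Pi.single (Sum.inr a) 1))
    have := CliffordAlgebra.ι_mul_ι_add_swap (Q := Q) (Pi.single (Sum.inr a) (1 : F))
      (Pi.single (Sum.inr b) 1)
    rw [CLCARB.polar_single_inr, if_neg hb, map_zero] at this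
    exact eq_neg_of_add_eq_zero_left this
  · intro a
    show CliffordAlgebra.ι Q (Pi.single (Sum.inr a) 1) *
        CliffordAlgebra.ι Q (Pi.single (Sum.inr (ng a)) 1) +
      CliffordAlgebra.ι Q (Pi.single (Sum.inr (ng a)) 1) *
        CliffordAlgebra.ι Q (Pi.single (Sum.inr a) 1) = 1
    have := CliffordAlgebra.ι_mul_ι_add_swap (Q := Q) (Pi.single (Sum.inr a) (1 : F))
      (Pi.single (Sum.inr (ng a)) 1)
    rw [CLCARB.polar_single_inr, if_pos rfl, map_one] at this
    exact this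
  · show CliffordAlgebra.ι Q (Pi.single (Sum.inl ()) 1) *
      CliffordAlgebra.ι Q (Pi.single (Sum.inl ()) 1) = 1
    rw [CliffordAlgebra.ι_sq_scalar, CLCARB.Q_single_inl, map_one]
  · intro a
    show CliffordAlgebra.ι Q (Pi.single (Sum.inl ()) 1) *
        CliffordAlgebra.ι Q (Pi.single (Sum.inr a) 1) =
      -(CliffordAlgebra.ι Q (Pi.single (Sum.inr a) 1) *
        CliffordAlgebra.ι Q (Pi.single (Sum.inl ()) 1))
    have := CliffordAlgebra.ι_mul_ι_add_swap (Q := Q) (Pi.single (Sum.inl ()) (1 : F))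
      (Pi.single (Sum.inr a) 1)
    rw [CLCARB.polar_single_inl, map_zero] at this
    exact eq_neg_of_add_eq_zero_left this

end Cfsg.Agent.S2094P
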