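import Mathlib
import Cfsg.Agent.Helper2.S2099.DefsR
import Cfsg.Agent.Helper2.S2099.DefsN
import Cfsg.Agent.Helper2.S2099.DefsZ
import Cfsg.Agent.Helper2.S2096.Defs
import Cfsg.Agent.Helper23.S2099PIHALFQ
import Cfsg.Agent.Helper16.S2096DGH
import Cfsg.Agent.Helper20.S2096HALFSL
import Cfsg.Agent.Helper23.S2099PITQ
import Cfsg.Agent.Helper15.S2099KREFL

set_option autoImplicit false
set_option linter.unusedSectionVars false
set_option linter.unusedVariables false

/-! S2099 chapter Z, piece HEXQ: for `n` even and `-1` a nonsquare (`2 ≠ 0`) some element of the torus has the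
matrix `-1`. -/

namespace Cfsg.Agent.S2099P

open Matrix Cfsg.Agent.S3352P Cfsg.Agent.S3351P Cfsg.Agent.S2096P Cfsg.Agent.S2086P Cfsg.Agent.RGD
  Cfsg.Agent.Helper2
open Cfsg.Agent.S2094P (RB RootB sc NgEquivariant mapB reflB MD XD XD_coe isRoot_ng_right'
  isRoot_ng_left' sw_ngEquivariant sc_ngEquivariant)

namespace HEXQ

section fld

variable {F : Type*} [Field F] {a b : F} [Aniso a b]

/-- the discriminant of an anisotropic binary form is not a square -/
theorem disc_not_isSquare (h2 : (2 : F) ≠ 0) : ¬ IsSquare (a ^ 2 - 4 * b) := by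
  rintro ⟨s, hs⟩
  have h := (Aniso.out (a := a) (b := b) ((s - a) / 2) 1 (by
    field_simp
    linear_combination (-1 : F) * hs)).2
  exact one_ne_zero h

theorem ringChar_ne_two (h2 : (2 : F) ≠ 0) : ringChar F ≠ 2 := by
  intro h
  apply h2
  have := ringChar.Nat.cast_ringChar (R := F)
  rw [h] at this
  exact_mod_cast this

/-- the product of two nonsquares of a finite field of odd characteristic is a square -/
theorem isSquare_mul_of_not [Fintype F] (h2 : (2 : F) ≠ 0) {x y : F} (hx : ¬ IsSquare x)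
    (hy : ¬ IsSquare y) : IsSquare (x * y) := by
  have hc := ringChar_ne_two h2
  have hx0 : x ≠ 0 := by rintro rfl; exact hx ⟨0, by simp⟩
  have hy0 : y ≠ 0 := by rintro rfl; exact hy ⟨0, by simp⟩
  have ex : x ^ (Fintype.card F / 2) = -1 := by
    rcases FiniteField.pow_dichotomy hc hx0 with h | h
    · exact absurd ((FiniteField.isSquare_iff hc hx0).mpr h) hx
    · exact h
  have ey : y ^ (Fintype.card F / 2) = -1 := by
    rcases FiniteField.pow_dichotomy hc hy0 with h | h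
    · exact absurd ((FiniteField.isSquare_iff hc hy0).mpr h) hy
    · exact h
  rw [FiniteField.isSquare_iff hc (mul_ne_zero hx0 hy0), mul_pow, ex, ey]
  ring

/-- an element of `K` of norm one with `conj l = -l` -/
theorem exists_l [Fintype F] (h2 : (2 : F) ≠ 0) (hsq : ¬ IsSquare (-1 : F)) :
    ∃ l : QK a b, QK.nrm l = 1 ∧ QK.conj l = -l := by
  obtain ⟨s, hs⟩ := isSquare_mul_of_not h2 hsq (disc_not_isSquare (a := a) (b := b) h2)
  have hs0 : s ≠ 0 := by
    rintro rfl
    apply disc_not_isSquare (a := a) (b := b) h2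
    refine ⟨0, ?_⟩
    linear_combination (-1 : F) * hs
  refine ⟨⟨-a / s, 2 / s⟩, ?_, ?_⟩
  · simp only [QK.nrm]
    field_simp
    linear_combination hs
  · ext
    · simp only [QK.conj_re, QK.neg_re]
      field_simp
      ring
    · simp only [QK.conj_im, QK.neg_im]

theorem rotM_eq_neg_one {l : QK a b} (hn : QK.nrm l = 1) (hc : QK.conj l = -l) :
    rotM (qf2 a b) e1 (QK.toP l) = -1 := by
  have hl : l ≠ 0 := by
    rintro rfl
    simp [QK.nrm] at hn
  have e : l * (QK.conj l)⁻¹ = -1 := by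
    rw [hc, inv_neg, mul_neg, mul_inv_cancel₀ hl]
  ext k k'
  show rfl0 (qf2 a b) (QK.toP l) (rfl0 (qf2 a b) e1 (Pi.single k' 1)) k = (-1 : Matrix _ _ F) k k'
  have h1 : (Pi.single k' 1 : Fin 2 → F) = QK.toP (QK.ofP (Pi.single k' 1) : QK a b) :=
    (QK.toP_ofP _).symm
  rw [h1, rot_toP hl, e, neg_one_mul, QK.toP_neg, QK.toP_ofP, Pi.neg_apply, Matrix.neg_apply,
    Matrix.one_apply, Pi.single_apply]

end fld

section grp

variable {n : ℕ} {F : Type*} [Field F] {M : Type*} [Group M] {X : J n → J n → F → M}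

theorem Hh_le_HhQ {P : Type*} [AddCommGroup P] [Module F P] (Q0 : QuadraticForm F P)
    (Ys : J n → P → M) : Hh X ≤ HhQ Q0 X Ys := by
  unfold Hh
  rw [Subgroup.closure_le]
  rintro g ⟨a, b, t, hab, ht, rfl⟩
  exact tX_mem_HhQ hab ht

/-- the torus parameter with all entries `-1` (`n` even) -/
def dNeg (hev : Even n) : Tor n F :=
  ⟨fun _ => -1, by
    show ∏ _i : Fin n, (-1 : Fˣ) = 1
    rw [Finset.prod_const, Finset.card_univ, Fintype.card_fin, hev.neg_one_pow]⟩

theorem dgS_dNeg_coe (hev : Even n) :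
    ((dgS n F (dNeg hev) : Matrix.SpecialLinearGroup (Fin n) F) : Matrix (Fin n) (Fin n) F) = -1 := by
  rw [dgS_coe]
  ext i j
  simp only [dNeg, Matrix.diagonal_apply, Matrix.neg_apply, Matrix.one_apply, Units.val_neg,
    Units.val_one]
  split_ifs <;> simp

theorem dgS_dNeg_inv (hev : Even n) : (dgS n F (dNeg hev))⁻¹ = dgS n F (dNeg hev) := by
  apply inv_eq_of_mul_eq_one_right
  rw [← map_mul]
  have : dNeg (F := F) hev * dNeg hev = 1 := by
    apply Subtype.ext
    funext i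
    show (-1 : Fˣ) * (-1) = 1
    rw [neg_mul_neg, one_mul]
  rw [this, map_one]

end grp

end HEXQ

section field

variable {n : ℕ} {F : Type*} [Field F] {a b : F} [Aniso a b] {M : Type*} [Group M]
  {X : J n → J n → F → M} {Ys : J n → (Fin 2 → F) → M}

/-- HEXQ -/
theorem exists_pi_eq_neg_one [Fintype F] (π : M →* Matrix (IQ n (Fin 2)) (IQ n (Fin 2)) F)
    (hπX : ∀ a b, IsRoot a b → ∀ t : F, π (X a b t) = xmQ a b t)
    (hπY : ∀ c, ∀ w : Fin 2 → F, π (Ys c w) = ymQ (qf2 a b) c w) (hn : 3 ≤ n)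
    (h2 : (2 : F) ≠ 0) (hB : QRel (qf2 a b) X Ys) (hev : Even n)
    (hsq : ¬ IsSquare (-1 : F)) : ∃ h ∈ HhQ (qf2 a b) X Ys, π h = -1 := by
  classical
  obtain ⟨l, hl1, hlc⟩ := HEXQ.exists_l (a := a) (b := b) h2 hsq
  have hl0 : l ≠ 0 := by
    rintro rfl
    simp [QK.nrm] at hl1
  obtain ⟨Θ, hΘ0⟩ := exists_half_sl hn hB.dX (∅ : Finset (Fin n))
  have hΘ : ∀ (i j : Fin n) (hij : i ≠ j) (t : F),
      Θ (Matrix.SpecialLinearGroup.transvection hij t) = X (Sum.inl i) (Sum.inl j) t := by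
    intro i j hij t
    have := hΘ0 i j hij t
    simpa [half] using this
  let o : Fin n := ⟨0, by omega⟩
  refine ⟨Θ (dgS n F (HEXQ.dNeg hev)) * tK Ys (Sum.inl o) l, ?_, ?_⟩
  · apply Subgroup.mul_mem
    · exact HEXQ.Hh_le_HhQ (qf2 a b) Ys (Theta_dgS_mem_Hh Θ hΘ hn hB.dX (HEXQ.dNeg hev))
    · unfold tK
      refine tY_mem_HhQ e1 ?_ (Sum.inl o) ?_
      · intro h
        have := qf2_e1 a b
        rw [h, map_zero] at this
        exact zero_ne_one this
      · rw [Ne, QK.toP_eq_zero]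
        exact hl0
  · have hq : qf2 a b (QK.toP l) = 1 := by rw [QK.qf2_toP, hl1]
    have hq0 : qf2 a b (QK.toP l) ≠ 0 := by rw [hq]; exact one_ne_zero
    rw [map_mul, pi_Theta_Q π hπX Θ hΘ, HEXQ.dgS_dNeg_inv, HEXQ.dgS_dNeg_coe]
    unfold tK
    rw [pi_tY π hπY (qf2_e1 a b) (Sum.inl o) hq0, hq, HEXQ.rotM_eq_neg_one hl1 hlc]
    have hd : (Matrix.diagonal (fun c : J n =>
        if c = Sum.inl o then (1 : F) else if c = ng (Sum.inl o) then (1 : F)⁻¹ else 1)) = 1 := by
      ext i j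
      simp [Matrix.diagonal_apply, Matrix.one_apply]
    rw [hd]
    unfold blkQ
    rw [Matrix.transpose_neg, Matrix.transpose_one, Matrix.fromBlocks_multiply]
    have e1' : (Matrix.fromBlocks (-1 : Matrix (Fin n) (Fin n) F) 0 0 (-1)) =
        (-1 : Matrix (J n) (J n) F) := by
      have h1 : (1 : Matrix (J n) (J n) F) = Matrix.fromBlocks 1 0 0 1 :=
        Matrix.fromBlocks_one.symm
      rw [h1, Matrix.fromBlocks_neg, neg_zero]
    rw [e1']
    have h1 : (1 : Matrix (IQ n (Fin 2)) (IQ n (Fin 2)) F) = Matrix.fromBlocks 1 0 0 1 :=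
      Matrix.fromBlocks_one.symm
    rw [h1, Matrix.fromBlocks_neg, neg_zero]
    congr 1 <;> simp

end field

end Cfsg.Agent.S2099P
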