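import Mathlib
import Cfsg.Prelude.Def_LieClassical
import Cfsg.Agent.Helper13.S2263Defs
import Cfsg.Agent.Helper6.S2263REAL
import Cfsg.Agent.Helper26.S2263SUM
import Cfsg.Agent.Helper26.S2263KFORM
import Cfsg.Agent.Helper8.S2263LINEMF
import Cfsg.Agent.Helper6.S2263KTOR
import Cfsg.Agent.Helper4.S2496TORUS
import Cfsg.Agent.Helper16.S2496GENERATOR

/-! S2263 existence half, piece CASE1: `d` odd, an element of order `q^(d-1) - 1` of `PGU_d(q)`. -/

set_option autoImplicit false

namespace Cfsg.Agent.S2263P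

open Cfsg.Agent.S2496P

variable {F : Type*} [Field F] [Fintype F] {p : ℕ} [Fact p.Prime] [CharP F p] {f q : ℕ}

namespace CASE1

theorem tor_pow_eq_one_iff {K : Type*} [Field K] [Algebra F K] [Finite K] [CharP K p] (s : K)
    (k : ℕ) : (tor F K p f s) ^ k = 1 ↔ s ^ k = 1 := by
  rw [← tor_pow]
  constructor
  · intro h
    apply tor_injective (F := F) (p := p) (f := f)
    rw [h, tor_one]
    rfl
  · intro h
    rw [h, tor_one]
    rfl

theorem two_le_q (hF : Fintype.card F = q ^ 2) : 2 ≤ q := by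
  have h2 : 2 ≤ Fintype.card F := Fintype.one_lt_card
  rw [hF] at h2
  by_contra hcon
  have : q = 0 ∨ q = 1 := by omega
  rcases this with rfl | rfl <;> omega

end CASE1

/-- CASE1: `d` odd, the torus `q^(d-1) - 1` on a hyperplane -/
theorem exists_case1 (hq : q = p ^ f) (hF : Fintype.card F = q ^ 2) {d : ℕ} (hd : 3 ≤ d)
    (hodd : Odd d) :
    ∃ g : (↥(Cfsg.GU d F q) ⧸ Subgroup.center ↥(Cfsg.GU d F q)), orderOf g = q ^ (d - 1) - 1 := by
  classical
  obtain ⟨h, rfl⟩ := hodd
  have hh : 1 ≤ h := by omega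
  have hq2 : 2 ≤ q := CASE1.two_le_q hF
  have : NeZero h := ⟨by omega⟩
  let K := FiniteField.Extension F p h
  have hK : Module.finrank F K = h := FiniteField.finrank_extension F p h
  have : CharP K p := charP_of_injective_algebraMap (algebraMap F K).injective p
  obtain ⟨s, hs⟩ := exists_orderOf_eq (K := K) hq hF hK hh (q ^ (2 * h) - 1) dvd_rfl
  have hNpos : 0 < q ^ (2 * h) - 1 := by
    have : 2 ^ (2 * h) ≤ q ^ (2 * h) := Nat.pow_le_pow_left hq2 _
    have h4 : 2 ^ 2 ≤ 2 ^ (2 * h) := Nat.pow_le_pow_right (by norm_num) (by omega)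
    omega
  have hsN : s ^ (q ^ (2 * h) - 1) = 1 := by rw [← hs]; exact pow_orderOf_eq_one s
  have hs0 : s ≠ 0 := by
    intro h0
    rw [h0, zero_pow hNpos.ne'] at hsN
    exact zero_ne_one hsN
  have hH := isHerm_Hsum (isHerm_mform (K := K) hq hF) (isHerm_Hline hq hF)
  have hdim : Module.finrank F ((K × K) × F) = 2 * h + 1 := by
    rw [Module.finrank_prod, Module.finrank_prod, hK, Module.finrank_self]
    ring
  rw [Nat.add_sub_cancel]
  refine exists_pgu_orderOf hq hF hdim hH ((tor F K p f s).prodMap (1 : F →ₗ[F] F)) ?_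
    ((0 : K × K), (1 : F)) ?_ ?_ (q ^ (2 * h) - 1) hNpos ?_ ?_
  · exact Hsum_prodMap _ _ (mform_tor s hs0) (fun u v => rfl)
  · intro h
    have := congrArg Prod.snd h
    exact one_ne_zero this
  · rw [LinearMap.prodMap_apply, map_zero]
    rfl
  · rw [prodMap_pow_eq_one_iff, CASE1.tor_pow_eq_one_iff]
    exact ⟨hsN, one_pow _⟩
  · intro k hk
    rw [prodMap_pow_eq_one_iff, CASE1.tor_pow_eq_one_iff] at hk
    rw [← hs]
    exact orderOf_dvd_of_pow_eq_one hk.1

end Cfsg.Agent.S2263P
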