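import Mathlib
import Cfsg.Prelude.Def_LieClassical
import Cfsg.Agent.Helper13.S2263Defs
import Cfsg.Agent.Helper6.S2263REAL
import Cfsg.Agent.Helper26.S2263SUM
import Cfsg.Agent.Helper26.S2263KFORM
import Cfsg.Agent.Helper8.S2263LINEMF
import Cfsg.Agent.Helper6.S2263KTOR

/-! S2263 existence half, piece CASE3: `d` even, an element of order `q^(d-1) + 1` of `PGU_d(q)`. -/

set_option autoImplicit false

namespace Cfsg.Agent.S2263P

open Cfsg.Agent.S2496P

variable {F : Type*} [Field F] [Fintype F] {p : ℕ} [Fact p.Prime] [CharP F p] {f q : ℕ}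

/-- CASE3: `d` even, the torus `q^(d-1) + 1` on a hyperplane -/
theorem exists_case3 (hq : q = p ^ f) (hF : Fintype.card F = q ^ 2) {d : ℕ} (hd : 2 ≤ d)
    (heven : Even d) :
    ∃ g : (↥(Cfsg.GU d F q) ⧸ Subgroup.center ↥(Cfsg.GU d F q)), orderOf g = q ^ (d - 1) + 1 := by
  classical
  obtain ⟨m, rfl⟩ : ∃ m, d = m + 1 := ⟨d - 1, by omega⟩
  have hmodd : Odd m := by
    rw [Nat.even_add_one, Nat.not_even_iff_odd] at heven
    exact heven
  have hm1 : 1 ≤ m := by omega
  have : NeZero m := ⟨by omega⟩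
  let K := FiniteField.Extension F p m
  have hK : Module.finrank F K = m := FiniteField.finrank_extension F p m
  have : CharP K p := charP_of_injective_algebraMap (algebraMap F K).injective p
  obtain ⟨s, hs⟩ := exists_orderOf_Hk (K := K) hq hF hK hm1
  have hsN : s ^ (q ^ m + 1) = 1 := by rw [← hs]; exact pow_orderOf_eq_one s
  have hH := isHerm_Hsum (isHerm_Hk (K := K) hq hF hK hmodd) (isHerm_Hline hq hF)
  have hdim : Module.finrank F (K × F) = m + 1 := by
    rw [Module.finrank_prod, hK, Module.finrank_self]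
  rw [Nat.add_sub_cancel]
  refine exists_pgu_orderOf hq hF hdim hH ((LinearMap.mulLeft F s).prodMap (1 : F →ₗ[F] F)) ?_
    ((0 : K), (1 : F)) ?_ ?_ (q ^ m + 1) (Nat.succ_pos _) ?_ ?_
  · exact Hsum_prodMap _ _ (Hk_mulLeft hq hF hK hmodd s hsN) (fun u v => rfl)
  · intro h
    have := congrArg Prod.snd h
    exact one_ne_zero this
  · rw [LinearMap.prodMap_apply, LinearMap.mulLeft_apply, mul_zero]
    rfl
  · rw [prodMap_pow_eq_one_iff, mulLeft_pow_eq_one_iff]
    exact ⟨hsN, one_pow _⟩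
  · intro k hk
    rw [prodMap_pow_eq_one_iff, mulLeft_pow_eq_one_iff] at hk
    rw [← hs]
    exact orderOf_dvd_of_pow_eq_one hk.1

end Cfsg.Agent.S2263P
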