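import Mathlib
import Cfsg.Prelude.Def_LieClassical
import Cfsg.Agent.Helper29.S2263Defs
import Cfsg.Agent.Helper7.S2264FACS
import Cfsg.Agent.Helper6.S2263MULTSYM

/-! S2263 piece DIMSUM (driver helper29): the dimension count
`Σ_{s ∈ Dset} s + (Emax μ - 1) ≤ deg μ`. -/

set_option autoImplicit false

namespace Cfsg.Agent.S2263P

open Polynomial
open Cfsg.Agent.S2264P

variable {F : Type*} [Field F]

namespace DIMSUM

theorem natDegree_pos_of_mem {μ f : F[X]} (hμ : μ.Monic) (hf : f ∈ facs μ) : 1 ≤ f.natDegree :=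
  ((mem_facs hμ.ne_zero).1 hf).1.natDegree_pos

theorem facs_nonempty' {μ : F[X]} (hμ : μ.Monic) (hd1 : 1 ≤ μ.natDegree) : (facs μ).Nonempty := by
  by_contra hne
  rw [Finset.not_nonempty_iff_eq_empty] at hne
  have h := natDegree_eq_sum hμ
  rw [hne, Finset.sum_empty] at h
  omega

/-- the fibre of `sdeg` over `s` has degree sum at least `s` -/
theorem le_sum_fibre (σ : F ≃+* F) (hσ2 : ∀ x, σ (σ x) = x) {μ : F[X]} (hμ : UGood σ μ)
    {s : ℕ} (hs : s ∈ Dset σ μ) :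
    s ≤ ∑ φ ∈ (facs μ).filter (fun φ => sdeg σ φ = s), φ.natDegree := by
  classical
  unfold Dset at hs
  rw [Finset.mem_image] at hs
  obtain ⟨φ, hφ, rfl⟩ := hs
  have hφmem : φ ∈ (facs μ).filter (fun ψ => sdeg σ ψ = sdeg σ φ) :=
    Finset.mem_filter.mpr ⟨hφ, rfl⟩
  by_cases hsd : dag σ φ = φ
  · have h1 : sdeg σ φ = φ.natDegree := by unfold sdeg; rw [if_pos hsd]
    rw [h1]
    have := Finset.single_le_sum (f := fun ψ : F[X] => ψ.natDegree)
      (s := (facs μ).filter (fun ψ => sdeg σ ψ = φ.natDegree)) (fun i _ => Nat.zero_le _)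
      (by rw [← h1]; exact hφmem)
    exact this
  · obtain ⟨hd1, -, hd3, hd4⟩ := mult_dag σ hσ2 hμ hφ
    have h1 : sdeg σ φ = 2 * φ.natDegree := by unfold sdeg; rw [if_neg hsd]
    have hne2 : dag σ (dag σ φ) ≠ dag σ φ := by
      rw [hd3]
      exact fun h => hsd h.symm
    have h2 : sdeg σ (dag σ φ) = 2 * φ.natDegree := by
      unfold sdeg
      rw [if_neg hne2, hd4]
    have hdmem : dag σ φ ∈ (facs μ).filter (fun ψ => sdeg σ ψ = sdeg σ φ) :=
      Finset.mem_filter.mpr ⟨hd1, by rw [h2, h1]⟩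
    have hsub : ({φ, dag σ φ} : Finset F[X]) ⊆
        (facs μ).filter (fun ψ => sdeg σ ψ = sdeg σ φ) := by
      intro ψ hψ
      rw [Finset.mem_insert, Finset.mem_singleton] at hψ
      rcases hψ with rfl | rfl
      · exact hφmem
      · exact hdmem
    have h3 := Finset.sum_le_sum_of_subset (f := fun ψ : F[X] => ψ.natDegree) hsub
    rw [Finset.sum_pair (fun h => hsd h.symm)] at h3
    rw [hd4] at h3
    rw [h1] at h3 ⊢
    omega

/-- `Σ_{s ∈ Dset} s ≤ Σ_{φ ∈ facs} deg φ` -/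
theorem sum_dset_le (σ : F ≃+* F) (hσ2 : ∀ x, σ (σ x) = x) {μ : F[X]} (hμ : UGood σ μ) :
    ∑ s ∈ Dset σ μ, s ≤ ∑ φ ∈ facs μ, φ.natDegree := by
  classical
  have hmaps : ∀ φ ∈ facs μ, sdeg σ φ ∈ Dset σ μ := by
    intro φ hφ
    unfold Dset
    exact Finset.mem_image_of_mem _ hφ
  rw [← Finset.sum_fiberwise_of_maps_to hmaps (fun φ => φ.natDegree)]
  exact Finset.sum_le_sum (fun s hs => le_sum_fibre σ hσ2 hμ hs)

end DIMSUM

/-- DIMSUM -/
theorem dset_pos (σ : F ≃+* F) {μ : F[X]} (hμ : UGood σ μ) : ∀ s ∈ Dset σ μ, 1 ≤ s := by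
  classical
  intro s hs
  unfold Dset at hs
  rw [Finset.mem_image] at hs
  obtain ⟨φ, hφ, rfl⟩ := hs
  have h1 := DIMSUM.natDegree_pos_of_mem hμ.monic hφ
  unfold sdeg
  split_ifs <;> omega

theorem dim_sum (σ : F ≃+* F) (hσ2 : ∀ x, σ (σ x) = x) {μ : F[X]} (hμ : UGood σ μ)
    (hd : 1 ≤ μ.natDegree) :
    (∑ s ∈ Dset σ μ, s) + (Emax μ - 1) ≤ μ.natDegree ∧ 1 ≤ Emax μ ∧ (Dset σ μ).Nonempty := by
  classical
  have hne : (facs μ).Nonempty := DIMSUM.facs_nonempty' hμ.monic hd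
  obtain ⟨φ₀, hφ₀, hE⟩ := Finset.exists_mem_eq_sup (facs μ) hne (mult μ)
  have hE' : Emax μ = mult μ φ₀ := hE
  have hm0 : 1 ≤ mult μ φ₀ := mult_pos hφ₀
  have hd0 : 1 ≤ φ₀.natDegree := DIMSUM.natDegree_pos_of_mem hμ.monic hφ₀
  refine ⟨?_, by omega, ?_⟩
  · rw [natDegree_eq_sum hμ.monic]
    have h1 := DIMSUM.sum_dset_le σ hσ2 hμ
    -- `Σ mult * deg ≥ Σ deg + (mult φ₀ - 1)`
    have h2 : ∑ φ ∈ facs μ, φ.natDegree + (mult μ φ₀ - 1) ≤
        ∑ φ ∈ facs μ, mult μ φ * φ.natDegree := by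
      have h3 : ∀ φ ∈ facs μ, φ.natDegree + (if φ = φ₀ then mult μ φ₀ - 1 else 0) ≤
          mult μ φ * φ.natDegree := by
        intro φ hφ
        have hm : 1 ≤ mult μ φ := mult_pos hφ
        have hdφ : 1 ≤ φ.natDegree := DIMSUM.natDegree_pos_of_mem hμ.monic hφ
        by_cases h : φ = φ₀
        · subst h
          rw [if_pos rfl]
          obtain ⟨k, hk⟩ : ∃ k, mult μ φ = k + 1 := ⟨mult μ φ - 1, by omega⟩
          rw [hk, Nat.add_sub_cancel, add_mul, one_mul]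
          have : k ≤ k * φ.natDegree := Nat.le_mul_of_pos_right k hdφ
          omega
        · rw [if_neg h, add_zero]
          exact Nat.le_mul_of_pos_left _ hm
      have h4 := Finset.sum_le_sum h3
      rw [Finset.sum_add_distrib, Finset.sum_ite_eq' (facs μ) φ₀, if_pos hφ₀] at h4
      exact h4
    rw [hE']
    omega
  · unfold Dset
    exact hne.image _

end Cfsg.Agent.S2263P
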