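import Mathlib
import Cfsg.Agent.Helper13.S2276Defs
import Cfsg.Agent.Helper20.S2276RCYC
import Cfsg.Agent.Helper1.S2276FRAME
import Cfsg.Agent.Helper17.S2276DISTINCT
import Cfsg.Agent.Helper9.S2276GREEDY
import Cfsg.Agent.Helper11.S2276PARITY
import Cfsg.Agent.Helper11.S2276MODELR
import Cfsg.Agent.Helper5.S2276SMALL3

set_option autoImplicit false

/-! # S2276 piece MODELNW: the models when `lam` contains the largest part -/

namespace Cfsg.Agent.S2276P

open Equiv Equiv.Perm

theorem MODELNW.part_facts {p : ℕ} (hp : p.Prime) (hp3 : 3 ≤ p) {a y : ℕ}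
    (h : ∃ k, 1 ≤ k ∧ k ≤ a ∧ y = p ^ k) : Odd y ∧ 3 ≤ y ∧ y ≤ p ^ a ∧ 2 ≤ y := by
  obtain ⟨k, hk1, hk2, rfl⟩ := h
  have hp2 : p ≠ 2 := by omega
  have hpodd : Odd p := hp.odd_of_ne_two hp2
  have h3 : 3 ≤ p ^ k := le_trans hp3 (Nat.le_self_pow (by omega) p)
  exact ⟨hpodd.pow, h3, Nat.pow_le_pow_right hp.pos hk2, by omega⟩

theorem MODELNW.main {n : ℕ} (hn : 5 ≤ n) {p : ℕ} (hp : p.Prime) (hp3 : 3 ≤ p) (a : ℕ)
    (lam mu : Multiset ℕ) (hl : ∀ y ∈ lam, ∃ k, 1 ≤ k ∧ k ≤ a ∧ y = p ^ k)
    (hm : ∀ y ∈ mu, ∃ k, 1 ≤ k ∧ k ≤ a ∧ y = p ^ k) (hla : p ^ a ∈ lam) (ha : 1 ≤ a)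
    (hm0 : mu ≠ 0) (hls : lam.sum ≤ n) (hms : mu.sum ≤ n) :
    ∃ U W σ : Perm (Fin n), U.cycleType = lam ∧ W.cycleType = mu ∧ Perm.sign σ = -1 ∧
      Good p U W ∧ Good p U (σ * W * σ⁻¹) := by
  have hp2 : p ≠ 2 := by omega
  have hpodd : Odd p := hp.odd_of_ne_two hp2
  have hrodd : Odd (p ^ a) := hpodd.pow
  have hr3 : 3 ≤ p ^ a := le_trans hp3 (Nat.le_self_pow (by omega) p)
  have hrls : p ^ a ≤ lam.sum := Multiset.single_le_sum (fun _ _ => Nat.zero_le _) _ hla
  have hrn : p ^ a ≤ n := le_trans hrls hls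
  have hpr : p ∣ p ^ a := dvd_pow_self p (by omega)
  by_cases h5 : 5 ≤ p ^ a
  swap
  · -- `p ^ a = 3`
    have hr3' : p ^ a = 3 := by
      obtain ⟨k, hk⟩ := hrodd
      omega
    have hp3' : p = 3 := by
      have : p ≤ p ^ a := Nat.le_self_pow (by omega) p
      omega
    have hl3 : ∀ y ∈ lam, y = 3 := by
      intro y hy
      obtain ⟨_, h1, h2, _⟩ := MODELNW.part_facts hp hp3 (hl y hy)
      omega
    have hm3 : ∀ y ∈ mu, y = 3 := by
      intro y hy
      obtain ⟨_, h1, h2, _⟩ := MODELNW.part_facts hp hp3 (hm y hy)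
      omega
    have hlam : lam = Multiset.replicate (Multiset.card lam) 3 := Multiset.eq_replicate_card.mpr hl3
    have hmu : mu = Multiset.replicate (Multiset.card mu) 3 := Multiset.eq_replicate_card.mpr hm3
    have hcl : 1 ≤ Multiset.card lam := by
      rw [Nat.one_le_iff_ne_zero, Ne, Multiset.card_eq_zero]
      intro h0
      rw [h0] at hla
      exact absurd hla (Multiset.notMem_zero _)
    have hcm : 1 ≤ Multiset.card mu := by
      rw [Nat.one_le_iff_ne_zero, Ne, Multiset.card_eq_zero]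
      exact hm0
    have hsl : 3 * Multiset.card lam ≤ n := by
      have : lam.sum = Multiset.card lam * 3 := by
        conv_lhs => rw [hlam]
        rw [Multiset.sum_replicate, smul_eq_mul]
      omega
    have hsm : 3 * Multiset.card mu ≤ n := by
      have : mu.sum = Multiset.card mu * 3 := by
        conv_lhs => rw [hmu]
        rw [Multiset.sum_replicate, smul_eq_mul]
      omega
    have := SMALL3.main hn (Multiset.card lam) (Multiset.card mu) hcl hcm hsl hsm
    rw [← hlam, ← hmu] at this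
    rw [hp3']
    exact this
  · -- `p ^ a ≥ 5`
    have hc : (finRotate (p ^ a)).cycleType = {p ^ a} := cycleType_finRotate_of_le (by omega)
    obtain ⟨lam', hlam'⟩ := Multiset.exists_cons_of_mem hla
    have hl'2 : ∀ y ∈ lam', 2 ≤ y := by
      intro y hy
      have : y ∈ lam := by rw [hlam']; exact Multiset.mem_cons_of_mem hy
      exact (MODELNW.part_facts hp hp3 (hl y this)).2.2.2
    have hl's : lam'.sum + p ^ a ≤ n := by
      have : lam.sum = p ^ a + lam'.sum := by rw [hlam', Multiset.sum_cons]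
      omega
    by_cases hA : (lam.Nodup ∧ n ≤ lam.sum + 1) ∧ (mu.Nodup ∧ n ≤ mu.sum + 1)
    · -- both centralisers are even: `p ^ a ∈ mu`
      have hrmu : p ^ a ∈ mu := by
        by_contra hrm
        have hd := DISTINCT.main hp hp3 a ha mu (fun y hy => by
          obtain ⟨k, hk1, hk2, rfl⟩ := hm y hy
          refine ⟨k, hk1, ?_, rfl⟩
          rcases Nat.lt_or_ge k a with h | h
          · exact h
          · exfalso
            have : k = a := le_antisymm hk2 h
            subst this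
            exact hrm hy) hA.2.1
        have := hA.2.2
        omega
      obtain ⟨mu', hmu'⟩ := Multiset.exists_cons_of_mem hrmu
      have hm'2 : ∀ y ∈ mu', 2 ≤ y := by
        intro y hy
        have : y ∈ mu := by rw [hmu']; exact Multiset.mem_cons_of_mem hy
        exact (MODELNW.part_facts hp hp3 (hm y this)).2.2.2
      have hm's : mu'.sum + p ^ a ≤ n := by
        have : mu.sum = p ^ a + mu'.sum := by rw [hmu', Multiset.sum_cons]
        omega
      obtain ⟨v, σ, hv, hσ, hG1, hG2⟩ := RCYC.main hrodd h5 hp hp2 hpr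
      obtain ⟨U, W, hU, hW, hG, hσ'⟩ :=
        FRAME.main hrn hp (finRotate (p ^ a)) v lam' mu' hl'2 hm'2 hl's hm's hG1
      obtain ⟨σ', hs, hG'⟩ := hσ' σ hG2
      refine ⟨U, W, σ', ?_, ?_, by rw [hs, hσ], hG, hG'⟩
      · rw [hU, hc, hlam']; rfl
      · rw [hW, hv, hmu']; rfl
    · -- an odd element in a centraliser
      obtain ⟨m, hmle, hmsum, hm0', hrest⟩ :
          ∃ m, m ≤ mu ∧ m.sum ≤ p ^ a ∧ m ≠ 0 ∧ (mu - m).sum + p ^ a ≤ n := by
        by_cases hbig : p ^ a ≤ mu.sum
        · obtain ⟨m, hm1, hm2⟩ := GREEDY.main hp a mu hm hbig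
          refine ⟨m, hm1, hm2.le, ?_, ?_⟩
          · intro h0
            rw [h0, Multiset.sum_zero] at hm2
            omega
          · have : mu.sum = m.sum + (mu - m).sum := by
              conv_lhs => rw [← add_tsub_cancel_of_le hm1]
              rw [Multiset.sum_add]
            omega
        · refine ⟨mu, le_rfl, by omega, hm0, ?_⟩
          rw [tsub_self, Multiset.sum_zero]
          omega
      have hmparts : ∀ y ∈ m, Odd y ∧ 3 ≤ y := by
        intro y hy
        obtain ⟨h1, h2, _, _⟩ := MODELNW.part_facts hp hp3 (hm y (Multiset.mem_of_le hmle hy))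
        exact ⟨h1, h2⟩
      have h9 : (∀ y ∈ m, y = 3) → 9 ≤ p ^ a := by
        intro hall
        obtain ⟨y, hy⟩ := Multiset.exists_mem_of_ne_zero hm0'
        have hy3 := hall y hy
        obtain ⟨k, hk1, hk2, hyk⟩ := hm y (Multiset.mem_of_le hmle hy)
        have hdvd : p ∣ 3 := by
          rw [← hy3, hyk]
          exact dvd_pow_self p (by omega)
        have hp3' : p = 3 := (Nat.prime_dvd_prime_iff_eq hp Nat.prime_three).mp hdvd
        subst hp3'
        have ha2 : 2 ≤ a := by
          rcases Nat.lt_or_ge a 2 with h | h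
          · have : a = 1 := by omega
            subst this
            norm_num at h5
          · exact h
        calc 9 = 3 ^ 2 := by norm_num
          _ ≤ 3 ^ a := Nat.pow_le_pow_right (by norm_num) ha2
      obtain ⟨v, hv, hG⟩ := MODELR.main hrodd h5 hp hp2 m hmparts hm0' hmsum h9
      have hrest2 : ∀ y ∈ mu - m, 2 ≤ y := by
        intro y hy
        have : y ∈ mu := Multiset.mem_of_le (Multiset.sub_le_self _ _) hy
        exact (MODELNW.part_facts hp hp3 (hm y this)).2.2.2
      obtain ⟨U, W, hU, hW, hGG, -⟩ :=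
        FRAME.main hrn hp (finRotate (p ^ a)) v lam' (mu - m) hl'2 hrest2 hl's hrest hG
      have hUl : U.cycleType = lam := by rw [hU, hc, hlam']; rfl
      have hWm : W.cycleType = mu := by rw [hW, hv]; exact add_tsub_cancel_of_le hmle
      obtain ⟨σ, hσ, hG'⟩ := PARITY.main U W hGG (by
        rw [hUl, hWm]
        by_contra hcon
        push Not at hcon
        exact hA ⟨hcon.1, hcon.2⟩)
      exact ⟨U, W, σ, hUl, hWm, hσ, hGG, hG'⟩

end Cfsg.Agent.S2276P
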