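import Mathlib
import Cfsg.Agent.Helper13.S2276Defs
import Cfsg.Agent.Helper4.S2276SYMM
import Cfsg.Agent.Helper11.S2276CONJ
import Cfsg.Agent.Helper13.S2276MODELNW

set_option autoImplicit false

/-! # S2276 piece MODELN: the models in general -/

namespace Cfsg.Agent.S2276P

open Equiv Equiv.Perm

theorem MODELN.main {n : ℕ} (hn : 5 ≤ n) {p : ℕ} (hp : p.Prime) (hp3 : 3 ≤ p)
    (lam mu : Multiset ℕ) (hl : ∀ y ∈ lam, ∃ k, 1 ≤ k ∧ y = p ^ k)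
    (hm : ∀ y ∈ mu, ∃ k, 1 ≤ k ∧ y = p ^ k) (hl0 : lam ≠ 0) (hm0 : mu ≠ 0) (hls : lam.sum ≤ n)
    (hms : mu.sum ≤ n) :
    ∃ U W σ : Perm (Fin n), U.cycleType = lam ∧ W.cycleType = mu ∧ Perm.sign σ = -1 ∧
      Good p U W ∧ Good p U (σ * W * σ⁻¹) := by
  classical
  -- the largest part
  have hne : (lam + mu).toFinset.Nonempty := by
    obtain ⟨y, hy⟩ := Multiset.exists_mem_of_ne_zero hl0
    exact ⟨y, by simp [hy]⟩
  obtain ⟨M, hM, hmax⟩ := Finset.exists_max_image (lam + mu).toFinset id hne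
  simp only [Multiset.mem_toFinset, Multiset.mem_add, id] at hM hmax
  have hMpow : ∃ a, 1 ≤ a ∧ M = p ^ a := by
    rcases hM with h | h
    · exact hl M h
    · exact hm M h
  obtain ⟨a, ha, rfl⟩ := hMpow
  have hbound : ∀ y, (y ∈ lam ∨ y ∈ mu) → (∃ k, 1 ≤ k ∧ y = p ^ k) →
      ∃ k, 1 ≤ k ∧ k ≤ a ∧ y = p ^ k := by
    intro y hy ⟨k, hk1, hk⟩
    refine ⟨k, hk1, ?_, hk⟩
    have := hmax y hy
    rw [hk] at this
    exact (Nat.pow_le_pow_iff_right hp.one_lt).mp this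
  have hl' : ∀ y ∈ lam, ∃ k, 1 ≤ k ∧ k ≤ a ∧ y = p ^ k :=
    fun y hy => hbound y (Or.inl hy) (hl y hy)
  have hm' : ∀ y ∈ mu, ∃ k, 1 ≤ k ∧ k ≤ a ∧ y = p ^ k :=
    fun y hy => hbound y (Or.inr hy) (hm y hy)
  rcases hM with hM | hM
  · exact MODELNW.main hn hp hp3 a lam mu hl' hm' hM ha hm0 hls hms
  · obtain ⟨A, B, σ, hA, hB, hσ, hG1, hG2⟩ :=
      MODELNW.main hn hp hp3 a mu lam hm' hl' hM ha hl0 hms hls
    refine ⟨B, A, σ⁻¹, hB, hA, by rw [Perm.sign_inv, hσ], SYMM.main hG1, ?_⟩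
    have h1 := CONJ.main σ⁻¹ (SYMM.main hG2)
    have e1 : σ⁻¹ * (σ * B * σ⁻¹) * σ⁻¹⁻¹ = B := by group
    rw [e1] at h1
    exact h1

end Cfsg.Agent.S2276P
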