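import Mathlib
import Cfsg.Agent.Helper13.S2276Defs
import Cfsg.Agent.Helper9.S2276CTYPE
import Cfsg.Agent.Helper11.S2276CONJ
import Cfsg.Agent.Helper13.S2276MODELN

set_option autoImplicit false

/-! # S2276 piece PERMLEVEL: the statement for permutations -/

namespace Cfsg.Agent.S2276P

open Equiv Equiv.Perm

theorem PERMLEVEL.main {n : ℕ} (hn : 5 ≤ n) {p : ℕ} (hp : p.Prime) (hp3 : 3 ≤ p)
    (U W : Perm (Fin n)) (hU : U ≠ 1) (hW : W ≠ 1) (hU' : ∃ k : ℕ, orderOf U = p ^ k)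
    (hW' : ∃ k : ℕ, orderOf W = p ^ k) :
    ∃ G : Perm (Fin n), Perm.sign G = 1 ∧ Good p U (G * W * G⁻¹) := by
  obtain ⟨hU1, hU2, hU3⟩ := CTYPE.main hp U hU hU'
  obtain ⟨hW1, hW2, hW3⟩ := CTYPE.main hp W hW hW'
  obtain ⟨U0, W0, σ, hU0, hW0, hσ, hG1, hG2⟩ :=
    MODELN.main hn hp hp3 U.cycleType W.cycleType hU1 hW1 hU2 hW2 hU3 hW3
  obtain ⟨a, ha⟩ := isConj_iff.mp (isConj_iff_cycleType_eq.mpr hU0)
  obtain ⟨b, hb⟩ := isConj_iff.mp (isConj_iff_cycleType_eq.mpr hW0)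
  by_cases hs : Perm.sign (a * b⁻¹) = 1
  · refine ⟨a * b⁻¹, hs, ?_⟩
    have h1 := CONJ.main a hG1
    rw [ha] at h1
    have e : a * b⁻¹ * W * (a * b⁻¹)⁻¹ = a * W0 * a⁻¹ := by
      rw [← hb]; group
    rw [e]; exact h1
  · have hs' : Perm.sign (a * b⁻¹) = -1 := by
      rcases Int.units_eq_one_or (Perm.sign (a * b⁻¹)) with h | h
      · exact absurd h hs
      · exact h
    refine ⟨a * σ * b⁻¹, ?_, ?_⟩
    · have : Perm.sign (a * σ * b⁻¹) = Perm.sign (a * b⁻¹) * Perm.sign σ := by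
        simp only [Perm.sign_mul, Perm.sign_inv]
        rw [mul_assoc, mul_comm (Perm.sign σ), ← mul_assoc]
      rw [this, hs', hσ]; rfl
    · have h1 := CONJ.main a hG2
      rw [ha] at h1
      have e : a * σ * b⁻¹ * W * (a * σ * b⁻¹)⁻¹ = a * (σ * W0 * σ⁻¹) * a⁻¹ := by
        rw [← hb]; group
      rw [e]; exact h1

end Cfsg.Agent.S2276P
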