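import Mathlib
import Cfsg.Prelude.Def_Classical
import Cfsg.Agent.Helper21.S2289DEFS
import Cfsg.Agent.Helper2.HermCount

/-! S2289, piece CLOSURE: the closure argument in the norm-one group (pure field computation). -/

set_option autoImplicit false
set_option linter.unusedSectionVars false
set_option linter.unusedVariables false

namespace Cfsg.Agent.Helper21.S2289

open Cfsg.Agent.Helper21.S2286 Polynomial Multiplicative

namespace CLOSURE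

variable {F : Type*} [Field F]

/-- `β + β̄ = -1`: then `τ = -β/β̄` has norm one, is `≠ 1`, and `β = τ/(1-τ)` -/
theorem tau_facts (bar : F →+* F) (hbb : ∀ x, bar (bar x) = x) {β : F} (hβ : β + bar β = -1) :
    (-β / bar β) * bar (-β / bar β) = 1 ∧ (-β / bar β) ≠ 1 ∧
      (-β / bar β) / (1 - (-β / bar β)) = β := by
  have h1 : (-1 : F) ≠ 0 := neg_ne_zero.mpr one_ne_zero
  have hb0 : β ≠ 0 := by
    intro h
    rw [h, map_zero, add_zero] at hβ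
    exact h1 hβ.symm
  have hbb0 : bar β ≠ 0 := by
    intro h
    have := hbb β
    rw [h, map_zero] at this
    exact hb0 this.symm
  have e : bar β = -1 - β := by linear_combination hβ
  refine ⟨?_, ?_, ?_⟩
  · rw [map_div₀, map_neg, hbb]
    field_simp
  · intro h
    rw [div_eq_iff hbb0, one_mul] at h
    apply h1
    rw [← hβ, ← h]; ring
  · have h2 : (1 : F) - (-β / bar β) = -1 / bar β := by
      field_simp
      linear_combination hβ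
    rw [h2]
    field_simp

/-- the product rule -/
theorem step (bar : F →+* F) (hbb : ∀ x, bar (bar x) = x) (T : F → F → Prop)
    (hZ : ∀ v : F, v + bar v = 0 → T 0 v)
    (hrule : ∀ a₁ b₁ a₂ b₂ : F, b₁ + bar b₁ + a₁ * bar a₁ = 0 → b₂ + bar b₂ + a₂ * bar a₂ = 0 →
      b₁ ≠ 0 → b₂ ≠ 0 → T a₁ b₁ → T a₂ b₂ →
      T (-a₁ / b₁ + -a₂ / bar b₂) (1 / b₁ + 1 / b₂ - (-a₁ / b₁) * bar (-a₂ / bar b₂)) →
      T (a₁ + a₂) (b₁ + b₂ - a₁ * bar a₂))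
    {τ₁ τ₂ : F} (h1 : τ₁ * bar τ₁ = 1) (h2 : τ₂ * bar τ₂ = 1) (n1 : τ₁ ≠ 1) (n2 : τ₂ ≠ 1)
    (n12 : τ₁ * τ₂ ≠ 1)
    (P1 : ∀ x, x ≠ 0 → T x (τ₁ / (1 - τ₁) * (x * bar x)))
    (P2 : ∀ x, x ≠ 0 → T x (τ₂ / (1 - τ₂) * (x * bar x)))
    (a : F) (ha : a ≠ 0) : T a (τ₁ * τ₂ / (1 - τ₁ * τ₂) * (a * bar a)) := by
  have t1 : τ₁ ≠ 0 := left_ne_zero_of_mul_eq_one h1
  have t2 : τ₂ ≠ 0 := left_ne_zero_of_mul_eq_one h2
  have b1 : bar τ₁ = τ₁⁻¹ := eq_inv_of_mul_eq_one_right h1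
  have b2 : bar τ₂ = τ₂⁻¹ := eq_inv_of_mul_eq_one_right h2
  have d1 : (1 : F) - τ₁ ≠ 0 := sub_ne_zero.mpr (Ne.symm n1)
  have d2 : (1 : F) - τ₂ ≠ 0 := sub_ne_zero.mpr (Ne.symm n2)
  have d12 : (1 : F) - τ₁ * τ₂ ≠ 0 := sub_ne_zero.mpr (Ne.symm n12)
  have d1' : τ₁ - 1 ≠ 0 := sub_ne_zero.mpr n1
  have d2' : τ₂ - 1 ≠ 0 := sub_ne_zero.mpr n2
  have d12' : τ₁ * τ₂ - 1 ≠ 0 := sub_ne_zero.mpr n12
  have d1'' : -1 + τ₁ ≠ 0 := by rw [neg_add_eq_sub]; exact d1'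
  have d2'' : -1 + τ₂ ≠ 0 := by rw [neg_add_eq_sub]; exact d2'
  have d12'' : -1 + τ₁ * τ₂ ≠ 0 := by rw [neg_add_eq_sub]; exact d12'
  have d21 : (1 : F) - τ₂ * τ₁ ≠ 0 := by rw [mul_comm]; exact d12
  have d21' : τ₂ * τ₁ - 1 ≠ 0 := by rw [mul_comm]; exact d12'
  have d21'' : -1 + τ₂ * τ₁ ≠ 0 := by rw [mul_comm]; exact d12''
  obtain ⟨c, hc⟩ : ∃ c, bar a = c := ⟨_, rfl⟩
  have hca : bar c = a := by rw [← hc, hbb]
  have c0 : c ≠ 0 := by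
    intro h
    rw [h, map_zero] at hca
    exact ha hca.symm
  obtain ⟨a₁, ha₁⟩ : ∃ a₁, a₁ = a * τ₂ * (1 - τ₁) / (1 - τ₁ * τ₂) := ⟨_, rfl⟩
  obtain ⟨a₂, ha₂⟩ : ∃ a₂, a₂ = a * (1 - τ₂) / (1 - τ₁ * τ₂) := ⟨_, rfl⟩
  have ba₁ : bar a₁ = c * (1 - τ₁) / (1 - τ₁ * τ₂) := by
    rw [ha₁]
    simp only [map_div₀, map_mul, map_sub, map_one, b1, b2, hc]
    field_simp
    ring
  have ba₂ : bar a₂ = c * τ₁ * (1 - τ₂) / (1 - τ₁ * τ₂) := by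
    rw [ha₂]
    simp only [map_div₀, map_mul, map_sub, map_one, b1, b2, hc]
    field_simp
    ring
  have a₁0 : a₁ ≠ 0 := by
    rw [ha₁]
    exact div_ne_zero (mul_ne_zero (mul_ne_zero ha t2) d1) d12
  have a₂0 : a₂ ≠ 0 := by
    rw [ha₂]
    exact div_ne_zero (mul_ne_zero ha d2) d12
  obtain ⟨b₁, hb₁⟩ : ∃ b₁, b₁ = τ₁ / (1 - τ₁) * (a₁ * bar a₁) := ⟨_, rfl⟩
  obtain ⟨b₂, hb₂⟩ : ∃ b₂, b₂ = τ₂ / (1 - τ₂) * (a₂ * bar a₂) := ⟨_, rfl⟩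
  have e₁ : b₁ = a * c * τ₁ * τ₂ * (1 - τ₁) / (1 - τ₁ * τ₂) ^ 2 := by
    rw [hb₁, ba₁, ha₁]
    field_simp
  have e₂ : b₂ = a * c * τ₁ * τ₂ * (1 - τ₂) / (1 - τ₁ * τ₂) ^ 2 := by
    rw [hb₂, ba₂, ha₂]
    field_simp
  have bb₁ : bar b₁ = a * c * τ₂ * (τ₁ - 1) / (1 - τ₁ * τ₂) ^ 2 := by
    rw [e₁]
    simp only [map_div₀, map_mul, map_sub, map_one, map_pow, b1, b2, hc, hca]
    field_simp
    ring
  have bb₂ : bar b₂ = a * c * τ₁ * (τ₂ - 1) / (1 - τ₁ * τ₂) ^ 2 := by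
    rw [e₂]
    simp only [map_div₀, map_mul, map_sub, map_one, map_pow, b1, b2, hc, hca]
    field_simp
    ring
  have b₁0 : b₁ ≠ 0 := by
    rw [e₁]
    exact div_ne_zero (mul_ne_zero (mul_ne_zero (mul_ne_zero (mul_ne_zero ha c0) t1) t2) d1)
      (pow_ne_zero 2 d12)
  have b₂0 : b₂ ≠ 0 := by
    rw [e₂]
    exact div_ne_zero (mul_ne_zero (mul_ne_zero (mul_ne_zero (mul_ne_zero ha c0) t1) t2) d2)
      (pow_ne_zero 2 d12)
  have bb₂0 : bar b₂ ≠ 0 := by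
    rw [bb₂]
    exact div_ne_zero (mul_ne_zero (mul_ne_zero (mul_ne_zero ha c0) t1) d2') (pow_ne_zero 2 d12)
  have v1 : b₁ + bar b₁ + a₁ * bar a₁ = 0 := by
    rw [bb₁, ba₁, e₁, ha₁]
    field_simp
    ring
  have v2 : b₂ + bar b₂ + a₂ * bar a₂ = 0 := by
    rw [bb₂, ba₂, e₂, ha₂]
    field_simp
    ring
  have T1 : T a₁ b₁ := by rw [hb₁]; exact P1 a₁ a₁0
  have T2 : T a₂ b₂ := by rw [hb₂]; exact P2 a₂ a₂0
  have x0 : -a₁ / b₁ + -a₂ / bar b₂ = 0 := by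
    rw [bb₂, e₁, ha₁, ha₂]
    field_simp
    ring
  have T3 : T (-a₁ / b₁ + -a₂ / bar b₂) (1 / b₁ + 1 / b₂ - (-a₁ / b₁) * bar (-a₂ / bar b₂)) := by
    rw [x0]
    apply hZ
    simp only [map_sub, map_add, map_div₀, map_mul, map_neg, map_one, hbb]
    rw [bb₁, bb₂, ba₁, ba₂, e₁, e₂, ha₁, ha₂]
    field_simp
    ring
  have key := hrule a₁ b₁ a₂ b₂ v1 v2 b₁0 b₂0 T1 T2 T3
  have e3 : a₁ + a₂ = a := by
    rw [ha₁, ha₂]
    field_simp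
    ring
  have e4 : b₁ + b₂ - a₁ * bar a₂ = τ₁ * τ₂ / (1 - τ₁ * τ₂) * (a * bar a) := by
    rw [ba₂, e₁, e₂, ha₁, hc]
    field_simp
    ring
  rw [e3, e4] at key
  exact key

end CLOSURE

theorem closure_all {F : Type*} [Field F] [Fintype F] (q : ℕ) (hF : Fintype.card F = q ^ 2)
    (β₀ : F) (hβ : β₀ + β₀ ^ q = -1)
    (hgen : ∀ y : F, y ^ (q + 1) = 1 → ∃ m : ℕ, y = (-β₀ / β₀ ^ q) ^ m)
    (T : F → F → Prop)
    (hZ : ∀ v : F, v + v ^ q = 0 → T 0 v)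
    (hseed : ∀ a : F, a ≠ 0 → T a (β₀ * a ^ (q + 1)))
    (hrule : ∀ a₁ b₁ a₂ b₂ : F, Val q a₁ b₁ → Val q a₂ b₂ → b₁ ≠ 0 → b₂ ≠ 0 → T a₁ b₁ → T a₂ b₂ →
      T (-a₁ / b₁ + -a₂ / b₂ ^ q) (1 / b₁ + 1 / b₂ - (-a₁ / b₁) * (-a₂ / b₂ ^ q) ^ q) →
      T (a₁ + a₂) (b₁ + b₂ - a₁ * a₂ ^ q)) :
    ∀ a b : F, Val q a b → T a b := by
  have hq2 : 2 ≤ q := Cfsg.Agent.Helper2.Herm.two_le_q hF
  have hq0 : q ≠ 0 := by omega
  let bar : F →+* F :=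
    { toFun := fun x => x ^ q
      map_one' := one_pow q
      map_mul' := fun x y => mul_pow x y q
      map_zero' := zero_pow hq0
      map_add' := Cfsg.Agent.Helper2.Herm.add_pow_q hF }
  have hbar : ∀ x : F, x ^ q = bar x := fun x => rfl
  have hbb : ∀ x : F, bar (bar x) = x := by
    intro x
    show (x ^ q) ^ q = x
    rw [← pow_mul, ← sq]
    exact Cfsg.Agent.Helper2.Herm.pow_q_sq hF x
  have hN : ∀ x : F, x ^ (q + 1) = x * bar x := by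
    intro x
    rw [pow_succ, mul_comm, hbar]
  have hZ' : ∀ v : F, v + bar v = 0 → T 0 v := hZ
  have hrule' : ∀ a₁ b₁ a₂ b₂ : F, b₁ + bar b₁ + a₁ * bar a₁ = 0 → b₂ + bar b₂ + a₂ * bar a₂ = 0 →
      b₁ ≠ 0 → b₂ ≠ 0 → T a₁ b₁ → T a₂ b₂ →
      T (-a₁ / b₁ + -a₂ / bar b₂) (1 / b₁ + 1 / b₂ - (-a₁ / b₁) * bar (-a₂ / bar b₂)) →
      T (a₁ + a₂) (b₁ + b₂ - a₁ * bar a₂) := by
    intro a₁ b₁ a₂ b₂ v1 v2 n1 n2 T1 T2 T3
    refine hrule a₁ b₁ a₂ b₂ ?_ ?_ n1 n2 T1 T2 T3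
    · show b₁ + b₁ ^ q + a₁ ^ (q + 1) = 0
      rw [hN]; exact v1
    · show b₂ + b₂ ^ q + a₂ ^ (q + 1) = 0
      rw [hN]; exact v2
  have hβ' : β₀ + bar β₀ = -1 := hβ
  obtain ⟨f1, f2, f3⟩ := CLOSURE.tau_facts bar hbb hβ'
  -- the seed
  have P0 : ∀ x, x ≠ 0 → T x ((-β₀ / bar β₀) / (1 - (-β₀ / bar β₀)) * (x * bar x)) := by
    intro x hx
    rw [f3, ← hN]
    exact hseed x hx
  have hpow : ∀ m : ℕ, (-β₀ / bar β₀) ^ m * bar ((-β₀ / bar β₀) ^ m) = 1 := by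
    intro m
    rw [map_pow, ← mul_pow, f1, one_pow]
  have main : ∀ m : ℕ, (-β₀ / bar β₀) ^ m ≠ 1 → ∀ x, x ≠ 0 →
      T x ((-β₀ / bar β₀) ^ m / (1 - (-β₀ / bar β₀) ^ m) * (x * bar x)) := by
    intro m
    induction m with
    | zero => intro h; exact absurd (pow_zero _) h
    | succ m ih =>
      intro h
      by_cases hm : (-β₀ / bar β₀) ^ m = 1
      · rw [pow_succ, hm, one_mul]
        exact P0
      · rw [pow_succ] at h ⊢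
        exact CLOSURE.step bar hbb T hZ' hrule' (hpow m) f1 hm f2 h (ih hm) P0
  intro a b hab
  have hab' : b + bar b + a * bar a = 0 := by
    have : b + b ^ q + a ^ (q + 1) = 0 := hab
    rwa [hN] at this
  by_cases ha : a = 0
  · subst ha
    apply hZ'
    rw [zero_mul, add_zero] at hab'
    exact hab'
  · have hc0 : bar a ≠ 0 := by
      intro h
      have := hbb a
      rw [h, map_zero] at this
      exact ha this.symm
    have hn0 : a * bar a ≠ 0 := mul_ne_zero ha hc0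
    have hnb : bar (a * bar a) = a * bar a := by
      rw [map_mul, hbb, mul_comm]
    have hβ1 : b / (a * bar a) + bar (b / (a * bar a)) = -1 := by
      rw [map_div₀, hnb]
      field_simp
      linear_combination hab'
    obtain ⟨g1, g2, g3⟩ := CLOSURE.tau_facts bar hbb hβ1
    obtain ⟨m, hm⟩ := hgen _ (by rw [hN]; exact g1)
    have hm' : -(b / (a * bar a)) / bar (b / (a * bar a)) = (-β₀ / bar β₀) ^ m := hm
    have key := main m (by rw [← hm']; exact g2) a ha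
    rw [← hm', g3] at key
    have : b / (a * bar a) * (a * bar a) = b := div_mul_cancel₀ b hn0
    rw [this] at key
    exact key

end Cfsg.Agent.Helper21.S2289
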