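import Mathlib
import Cfsg.Prelude.Def_Classical
import Cfsg.Agent.Helper21.S2286DEFS
import Cfsg.Agent.Helper21.S2289DEFS
import Cfsg.Agent.Helper2.HermCount
import Cfsg.Agent.Helper13.S2289CLOSURE
import Cfsg.Agent.Lead.S2289MODELMAT
import Cfsg.Agent.Helper21.S2289GOOD

/-! S2289, piece BN1: every element of the lift of `U` is good (closure rule + `closure_all`). -/

set_option autoImplicit false
set_option linter.unusedSectionVars false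
set_option linter.unusedVariables false

namespace Cfsg.Agent.Helper21.S2289

open Cfsg.Agent.Helper21.S2286 Polynomial Multiplicative

section bn
variable {F : Type*} [Field F] [Fintype F] {q : ℕ} {G : Type*} [Group G] (D : U3Data F q G)

namespace BN1

section grp
variable {Γ : Type*} [Group Γ] {h n : Γ} {Us : Subgroup Γ}

/-- the same with the torus part in `zpowers h` -/
theorem good_of {x f k g : Γ} (hf : f ∈ Us) (hk : k ∈ Subgroup.zpowers h) (hg : g ∈ Us)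
    (e : n * x * n⁻¹ = f * k * n * g) : Good h n Us x := by
  obtain ⟨m, rfl⟩ := Subgroup.mem_zpowers_iff.mp hk
  exact Or.inr ⟨f, hf, m, g, hg, e⟩

theorem conjN (rN2 : n * h * n⁻¹ = (h ^ q)⁻¹) {k : Γ} (hk : k ∈ Subgroup.zpowers h) :
    n * k * n⁻¹ ∈ Subgroup.zpowers h := by
  obtain ⟨i, rfl⟩ := Subgroup.mem_zpowers_iff.mp hk
  rw [← conj_zpow, rN2]
  exact Subgroup.zpow_mem _ (Subgroup.inv_mem _ (Subgroup.pow_mem _ (Subgroup.mem_zpowers h) q)) i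

theorem normU (hUh : ∀ x ∈ Us, h * x * h⁻¹ ∈ Us) (hUh' : ∀ x ∈ Us, h⁻¹ * x * h ∈ Us)
    {k : Γ} (hk : k ∈ Subgroup.zpowers h) {x : Γ} (hx : x ∈ Us) : k * x * k⁻¹ ∈ Us := by
  have hn : h ∈ Subgroup.normalizer (Us : Set Γ) := by
    rw [Subgroup.mem_normalizer_iff]
    intro y
    constructor
    · exact hUh y
    · intro hy
      have := hUh' _ hy
      have e : h⁻¹ * (h * y * h⁻¹) * h = y := by group
      rwa [e] at this
  have hk' : k ∈ Subgroup.normalizer (Us : Set Γ) := (Subgroup.zpowers_le.mpr hn) hk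
  exact (Subgroup.mem_normalizer_iff.mp hk' x).mp hx

/-- `Good` is invariant under conjugation by the torus -/
theorem good_conj (hUh : ∀ x ∈ Us, h * x * h⁻¹ ∈ Us) (hUh' : ∀ x ∈ Us, h⁻¹ * x * h ∈ Us)
    (rN2 : n * h * n⁻¹ = (h ^ q)⁻¹) {x : Γ} (hx : Good h n Us x) {k : Γ}
    (hk : k ∈ Subgroup.zpowers h) : Good h n Us (k * x * k⁻¹) := by
  rcases hx with rfl | ⟨f, hf, m, g, hg, e⟩
  · left; group
  · have hk1 : n * k * n⁻¹ ∈ Subgroup.zpowers h := conjN rN2 hk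
    have hk2 : n * (n * k * n⁻¹)⁻¹ * n⁻¹ ∈ Subgroup.zpowers h :=
      conjN rN2 (Subgroup.inv_mem _ hk1)
    refine good_of (f := (n * k * n⁻¹) * f * (n * k * n⁻¹)⁻¹)
      (k := (n * k * n⁻¹) * h ^ m * (n * (n * k * n⁻¹)⁻¹ * n⁻¹))
      (g := (n * k * n⁻¹) * g * (n * k * n⁻¹)⁻¹)
      (normU hUh hUh' hk1 hf) ?_ (normU hUh hUh' hk1 hg) ?_
    · exact Subgroup.mul_mem _ (Subgroup.mul_mem _ hk1 (Subgroup.zpow_mem _ (Subgroup.mem_zpowers h) m)) hk2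
    · have : n * (k * x * k⁻¹) * n⁻¹ = (n * k * n⁻¹) * (n * x * n⁻¹) * (n * k * n⁻¹)⁻¹ := by group
      rw [this, e]
      group

/-- the closure rule, second case -/
theorem good_mul (hUh : ∀ x ∈ Us, h * x * h⁻¹ ∈ Us) (hUh' : ∀ x ∈ Us, h⁻¹ * x * h ∈ Us)
    (rN1 : n * n = 1) (rN2 : n * h * n⁻¹ = (h ^ q)⁻¹) {x₁ x₂ f₁ g₁ f₂ g₂ f₃ g₃ : Γ} {m₁ m₂ m₃ : ℤ}
    (hf₁ : f₁ ∈ Us) (hg₂ : g₂ ∈ Us) (hf₃ : f₃ ∈ Us) (hg₃ : g₃ ∈ Us)
    (e₁ : n * x₁ * n⁻¹ = f₁ * h ^ m₁ * n * g₁) (e₂ : n * x₂ * n⁻¹ = f₂ * h ^ m₂ * n * g₂)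
    (e₃ : n * (g₁ * f₂) * n⁻¹ = f₃ * h ^ m₃ * n * g₃) : Good h n Us (x₁ * x₂) := by
  have hn : n⁻¹ = n := inv_eq_of_mul_eq_one_left rN1
  have hz : ∀ i : ℤ, h ^ i ∈ Subgroup.zpowers h := fun i =>
    Subgroup.zpow_mem _ (Subgroup.mem_zpowers h) i
  -- `k = n h^m₂ n⁻¹`
  have hk : n * h ^ m₂ * n⁻¹ ∈ Subgroup.zpowers h := conjN rN2 (hz m₂)
  have hk' : n * (n * h ^ m₂ * n⁻¹) * n⁻¹ ∈ Subgroup.zpowers h := conjN rN2 hk
  refine good_of (f := f₁ * (h ^ m₁ * f₃ * (h ^ m₁)⁻¹))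
    (k := h ^ m₁ * h ^ m₃ * (n * (n * h ^ m₂ * n⁻¹) * n⁻¹))
    (g := ((n * h ^ m₂ * n⁻¹)⁻¹ * g₃ * (n * h ^ m₂ * n⁻¹)) * g₂) ?_ ?_ ?_ ?_
  · exact Subgroup.mul_mem _ hf₁ (normU hUh hUh' (hz m₁) hf₃)
  · exact Subgroup.mul_mem _ (Subgroup.mul_mem _ (hz m₁) (hz m₃)) hk'
  · refine Subgroup.mul_mem _ ?_ hg₂
    have := normU hUh hUh' (Subgroup.inv_mem _ hk) hg₃
    rwa [inv_inv] at this
  · have e : n * (x₁ * x₂) * n⁻¹ = (n * x₁ * n⁻¹) * (n * x₂ * n⁻¹) := by group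
    have e₃' : n * g₁ * f₂ = f₃ * h ^ m₃ * n * g₃ * n := by
      have : n * g₁ * f₂ = (n * (g₁ * f₂) * n⁻¹) * n := by group
      rw [this, e₃]
    rw [e, e₁, e₂]
    have : f₁ * h ^ m₁ * n * g₁ * (f₂ * h ^ m₂ * n * g₂)
        = f₁ * h ^ m₁ * (n * g₁ * f₂) * h ^ m₂ * n * g₂ := by group
    rw [this, e₃']
    have hnn : ∀ y : Γ, y * n * h ^ m₂ * n = y * (n * h ^ m₂ * n⁻¹) := by
      intro y
      rw [hn]; group
    calc f₁ * h ^ m₁ * (f₃ * h ^ m₃ * n * g₃ * n) * h ^ m₂ * n * g₂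
        = f₁ * h ^ m₁ * f₃ * h ^ m₃ * n * g₃ * (n * h ^ m₂ * n) * g₂ := by group
      _ = f₁ * h ^ m₁ * f₃ * h ^ m₃ * n * g₃ * (n * h ^ m₂ * n⁻¹) * g₂ := by rw [hn]
      _ = _ := by group

/-- the closure rule, first case: the product lies in the Borel subgroup -/
theorem borel_of_one (hUh : ∀ x ∈ Us, h * x * h⁻¹ ∈ Us) (hUh' : ∀ x ∈ Us, h⁻¹ * x * h ∈ Us)
    (rN1 : n * n = 1) (rN2 : n * h * n⁻¹ = (h ^ q)⁻¹) {x₁ x₂ f₁ g₁ f₂ g₂ : Γ} {m₁ m₂ : ℤ}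
    (hf₁ : f₁ ∈ Us) (hg₂ : g₂ ∈ Us)
    (e₁ : n * x₁ * n⁻¹ = f₁ * h ^ m₁ * n * g₁) (e₂ : n * x₂ * n⁻¹ = f₂ * h ^ m₂ * n * g₂)
    (e₃ : g₁ * f₂ = 1) : ∃ f ∈ Us, ∃ k ∈ Subgroup.zpowers h, n * (x₁ * x₂) * n⁻¹ = f * k := by
  have hn : n⁻¹ = n := inv_eq_of_mul_eq_one_left rN1
  have hz : ∀ i : ℤ, h ^ i ∈ Subgroup.zpowers h := fun i =>
    Subgroup.zpow_mem _ (Subgroup.mem_zpowers h) i
  have hk : n * h ^ m₂ * n⁻¹ ∈ Subgroup.zpowers h := conjN rN2 (hz m₂)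
  have hK : h ^ m₁ * (n * h ^ m₂ * n⁻¹) ∈ Subgroup.zpowers h := Subgroup.mul_mem _ (hz m₁) hk
  refine ⟨f₁ * ((h ^ m₁ * (n * h ^ m₂ * n⁻¹)) * g₂ * (h ^ m₁ * (n * h ^ m₂ * n⁻¹))⁻¹),
    Subgroup.mul_mem _ hf₁ (normU hUh hUh' hK hg₂), h ^ m₁ * (n * h ^ m₂ * n⁻¹), hK, ?_⟩
  have e : n * (x₁ * x₂) * n⁻¹ = (n * x₁ * n⁻¹) * (n * x₂ * n⁻¹) := by group
  rw [e, e₁, e₂]
  calc f₁ * h ^ m₁ * n * g₁ * (f₂ * h ^ m₂ * n * g₂)
      = f₁ * h ^ m₁ * n * (g₁ * f₂) * h ^ m₂ * n * g₂ := by group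
    _ = f₁ * h ^ m₁ * (n * h ^ m₂ * n) * g₂ := by rw [e₃]; group
    _ = f₁ * h ^ m₁ * (n * h ^ m₂ * n⁻¹) * g₂ := by rw [hn]
    _ = _ := by group

end grp

section model
variable {F : Type*} [Field F] [Fintype F] {q : ℕ} {G : Type*} [Group G] (D : U3Data F q G)

/-- the Frobenius `x ↦ x ^ q` -/
noncomputable def bar (hF : Fintype.card F = q ^ 2) : F →+* F where
  toFun := fun x => x ^ q
  map_one' := one_pow q
  map_mul' := fun x y => mul_pow x y q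
  map_zero' := zero_pow (by have := Cfsg.Agent.Helper2.Herm.two_le_q hF; omega)
  map_add' := Cfsg.Agent.Helper2.Herm.add_pow_q hF

theorem bar_apply (hF : Fintype.card F = q ^ 2) (x : F) : bar hF x = x ^ q := rfl

theorem bar_bar (hF : Fintype.card F = q ^ 2) (x : F) : bar hF (bar hF x) = x := by
  show (x ^ q) ^ q = x
  rw [← pow_mul, ← sq]
  exact Cfsg.Agent.Helper2.Herm.pow_q_sq hF x

theorem val_iff (hF : Fintype.card F = q ^ 2) (a b : F) :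
    Val q a b ↔ b + bar hF b + a * bar hF a = 0 := by
  unfold Val
  rw [pow_succ, mul_comm (a ^ q) a]
  rfl

theorem bar_ne_zero (hF : Fintype.card F = q ^ 2) {x : F} (hx : x ≠ 0) : bar hF x ≠ 0 :=
  pow_ne_zero q hx

theorem val_zero_iff' (hF : Fintype.card F = q ^ 2) (v : F) : Val q 0 v ↔ v + v ^ q = 0 := by
  rw [val_iff hF, zero_mul, add_zero]
  rfl

theorem val_mul' (hF : Fintype.card F = q ^ 2) {a b a' b' : F} (h : Val q a b) (h' : Val q a' b') :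
    Val q (a + a') (b + b' - a * a' ^ q) := by
  rw [val_iff hF] at h h' ⊢
  rw [← bar_apply hF]
  simp only [map_add, map_sub, map_mul, bar_bar]
  linear_combination h + h'

theorem val_hact' (hF : Fintype.card F = q ^ 2) {t a b : F} (ht : t ≠ 0) (h : Val q a b) :
    Val q (a * t ^ 2 / t ^ q) (b * t ^ (q + 1)) := by
  have ht' : bar hF t ≠ 0 := bar_ne_zero hF ht
  rw [val_iff hF] at h ⊢
  rw [pow_succ, mul_comm (t ^ q) t, ← bar_apply hF]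
  simp only [map_div₀, map_mul, map_pow, bar_bar]
  field_simp
  linear_combination (t * bar hF t) * h

theorem val_n1 (hF : Fintype.card F = q ^ 2) {a b : F} (h : Val q a b) (hb : b ≠ 0) :
    Val q (-a / b ^ q) (1 / b) := by
  have hb' : bar hF b ≠ 0 := bar_ne_zero hF hb
  rw [val_iff hF] at h ⊢
  rw [← bar_apply hF]
  simp only [map_div₀, map_neg, map_one, bar_bar]
  field_simp
  linear_combination h

theorem val_n2 (hF : Fintype.card F = q ^ 2) {a b : F} (h : Val q a b) (hb : b ≠ 0) :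
    Val q (-a / b) (1 / b) := by
  have hb' : bar hF b ≠ 0 := bar_ne_zero hF hb
  rw [val_iff hF] at h ⊢
  simp only [map_div₀, map_neg, map_one]
  field_simp
  linear_combination h

theorem val_zero_zero (hF : Fintype.card F = q ^ 2) : Val q (0 : F) 0 := by
  rw [val_iff hF]
  simp

theorem u_inj {a b a' b' : F} (h : Val q a b) (h' : Val q a' b') (e : D.uG a b = D.uG a' b') :
    a = a' ∧ b = b' := by
  have := D.inj_B a b 1 a' b' 1 h h' one_ne_zero one_ne_zero (by rw [D.h_one, mul_one, mul_one, e])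
  exact ⟨this.1, this.2.1⟩

/-- the torus as a homomorphism -/
noncomputable def hHom : Fˣ →* G where
  toFun t := D.hG (t : F)
  map_one' := by rw [Units.val_one, D.h_one]
  map_mul' s t := by rw [Units.val_mul]; exact D.h_mul _ _ s.ne_zero t.ne_zero

theorem hHom_apply (t : Fˣ) : hHom D t = D.hG (t : F) := rfl

theorem phi_zpowers {Γ : Type*} [Group Γ] {h : Γ} (Φ : Γ →* G) (ζ : Fˣ) (hΦh : Φ h = D.hG (ζ : F))
    {k : Γ} (hk : k ∈ Subgroup.zpowers h) : ∃ t : Fˣ, Φ k = D.hG (t : F) := by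
  obtain ⟨i, rfl⟩ := Subgroup.mem_zpowers_iff.mp hk
  refine ⟨ζ ^ i, ?_⟩
  rw [map_zpow, hΦh, ← hHom_apply, ← hHom_apply, map_zpow]

theorem phi_inj (hF : Fintype.card F = q ^ 2) {Γ : Type*} [Group Γ] (Φ : Γ →* G) (Us : Subgroup Γ)
    [Finite Us] (hUcard : Nat.card Us ≤ q ^ 3)
    (hUΦ : ∀ a b : F, Val q a b → ∃ x ∈ Us, Φ x = D.uG a b) :
    ∀ x ∈ Us, ∀ y ∈ Us, Φ x = Φ y → x = y := by
  classical
  choose ψ hψ1 hψ2 using hUΦ
  let Ψ : {p : F × F // Val q p.1 p.2} → Us := fun p => ⟨ψ p.1.1 p.1.2 p.2, hψ1 _ _ _⟩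
  have hΨ : ∀ p, Φ (Ψ p : Γ) = D.uG p.1.1 p.1.2 := fun p => hψ2 _ _ _
  have hinj : Function.Injective Ψ := by
    intro p p' hpp
    have e : D.uG p.1.1 p.1.2 = D.uG p'.1.1 p'.1.2 := by rw [← hΨ, ← hΨ, hpp]
    obtain ⟨e1, e2⟩ := u_inj D p.2 p'.2 e
    exact Subtype.ext (Prod.ext e1 e2)
  have hbij := hinj.bijective_of_nat_card_le (by rw [card_val hF]; exact hUcard)
  intro x hx y hy hxy
  obtain ⟨p, hp⟩ := hbij.2 ⟨x, hx⟩
  obtain ⟨p', hp'⟩ := hbij.2 ⟨y, hy⟩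
  have hx' : x = (Ψ p : Γ) := by rw [hp]
  have hy' : y = (Ψ p' : Γ) := by rw [hp']
  have e : D.uG p.1.1 p.1.2 = D.uG p'.1.1 p'.1.2 := by rw [← hΨ, ← hΨ, ← hx', ← hy', hxy]
  obtain ⟨e1, e2⟩ := u_inj D p.2 p'.2 e
  have : p = p' := Subtype.ext (Prod.ext e1 e2)
  rw [hx', hy', this]

/-- the action of the torus on the images -/
theorem phi_conj (hF : Fintype.card F = q ^ 2) {Γ : Type*} [Group Γ] (Φ : Γ →* G) {k x : Γ} {t : Fˣ}
    (hk : Φ k = D.hG (t : F)) {a b : F} (hv : Val q a b) (hx : Φ x = D.uG a b) :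
    Φ (k * x * k⁻¹) = D.uG (a * (t : F) ^ 2 / (t : F) ^ q) (b * (t : F) ^ (q + 1)) := by
  rw [map_mul, map_mul, map_inv, hk, hx]
  exact D.h_u _ _ _ t.ne_zero hv

theorem phi_zpow {Γ : Type*} [Group Γ] {h : Γ} (Φ : Γ →* G) (ζ : Fˣ) (hΦh : Φ h = D.hG (ζ : F))
    (i : ℤ) : Φ (h ^ i) = D.hG ((ζ ^ i : Fˣ) : F) := by
  rw [map_zpow, hΦh, ← hHom_apply, ← hHom_apply, map_zpow]

theorem val_seed (hF : Fintype.card F = q ^ 2) {β₀ : F} (hβ : β₀ + β₀ ^ q = -1) (a : F) :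
    Val q a (β₀ * a ^ (q + 1)) := by
  rw [val_iff hF]
  have hβ' : β₀ + bar hF β₀ = -1 := hβ
  have e : a ^ (q + 1) = a * bar hF a := by
    rw [pow_succ, mul_comm]; rfl
  rw [e]
  simp only [map_mul, bar_bar]
  linear_combination (a * bar hF a) * hβ'

theorem mu_norm (hF : Fintype.card F = q ^ 2) (z : F) (hz : z ≠ 0) :
    (z ^ 2 / z ^ q) ^ (q + 1) = z ^ (q + 1) := by
  have h1 : (z ^ q) ^ (q + 1) = z ^ (q + 1) := by
    rw [← pow_mul]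
    have : q * (q + 1) = q ^ 2 + q := by ring
    rw [this, pow_add, Cfsg.Agent.Helper2.Herm.pow_q_sq hF, pow_succ, mul_comm]
  rw [div_pow, h1, div_eq_iff (pow_ne_zero _ hz)]
  ring

end model

end BN1

/-- BN1 -/
theorem all_good (hF : Fintype.card F = q ^ 2) (ζ : Fˣ) (hζ : ∀ y : Fˣ, y ∈ Subgroup.zpowers ζ)
    (β₀ : F) (hβ : β₀ + β₀ ^ q = -1)
    (hgen : ∀ y : F, y ^ (q + 1) = 1 → ∃ m : ℕ, y = (-β₀ / β₀ ^ q) ^ m)
    {Γ : Type*} [Group Γ] (h n : Γ) (Φ : Γ →* G) (hΦh : Φ h = D.hG (ζ : F)) (hΦn : Φ n = D.nG)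
    (Us : Subgroup Γ) [Finite Us] (hUcard : Nat.card Us ≤ q ^ 3)
    (hUh : ∀ x ∈ Us, h * x * h⁻¹ ∈ Us) (hUh' : ∀ x ∈ Us, h⁻¹ * x * h ∈ Us)
    (hΦU : ∀ x ∈ Us, ∃ a b : F, Val q a b ∧ Φ x = D.uG a b)
    (hUΦ : ∀ a b : F, Val q a b → ∃ x ∈ Us, Φ x = D.uG a b)
    (rN1 : n * n = 1) (rN2 : n * h * n⁻¹ = (h ^ q)⁻¹)
    (hseedZ : ∃ v : F, v ≠ 0 ∧ v + v ^ q = 0 ∧ ∃ x ∈ Us, Φ x = D.uG 0 v ∧ Good h n Us x)
    (hseedU : ∀ i : ℕ, i < 3 → ∃ x ∈ Us,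
      Φ x = D.uG ((ζ : F) ^ i) (β₀ * ((ζ : F) ^ i) ^ (q + 1)) ∧ Good h n Us x)
    (hcos : ∀ a : F, a ≠ 0 → ∃ (i m : ℕ), i < 3 ∧
      a = 1 * (ζ : F) ^ i * ((ζ : F) ^ 2 / (ζ : F) ^ q) ^ m) :
    ∀ x ∈ Us, Good h n Us x := by
  have hq2 : 2 ≤ q := Cfsg.Agent.Helper2.Herm.two_le_q hF
  have inj := BN1.phi_inj D hF Φ Us hUcard hUΦ
  have one_of : ∀ x ∈ Us, Φ x = D.uG 0 0 → x = 1 := fun x hx e =>
    inj x hx 1 Us.one_mem (by rw [e, map_one, D.u_zero])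
  have hz : ∀ i : ℤ, h ^ i ∈ Subgroup.zpowers h := fun i =>
    Subgroup.zpow_mem _ (Subgroup.mem_zpowers h) i
  have hT : ∀ a b : F, Val q a b → ∀ x ∈ Us, Φ x = D.uG a b → Good h n Us x := by
    apply closure_all q hF β₀ hβ hgen (fun a b => ∀ x ∈ Us, Φ x = D.uG a b → Good h n Us x)
    · -- hZ
      intro v hv x hx e
      by_cases hv0 : v = 0
      · subst hv0
        exact Or.inl (one_of x hx e)
      · obtain ⟨v₀, hv₀, hv₀', x₀, hx₀, e₀, g₀⟩ := hseedZ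
        have hvq : v ^ q = -v := by linear_combination hv
        have hv₀q : v₀ ^ q = -v₀ := by linear_combination hv₀'
        have hr : v / v₀ ≠ 0 := div_ne_zero hv0 hv₀
        have hrq : (v / v₀) ^ q = v / v₀ := by rw [div_pow, hvq, hv₀q, neg_div_neg_eq]
        have hrq1 : (v / v₀) ^ (q - 1) = 1 := by
          have : (v / v₀) ^ (q - 1) * (v / v₀) = 1 * (v / v₀) := by
            rw [← pow_succ, one_mul]
            have : q - 1 + 1 = q := by omega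
            rw [this, hrq]
          exact mul_right_cancel₀ hr this
        have hker : Units.mk0 (v / v₀) hr ∈ (powMonoidHom (q - 1) : Fˣ →* Fˣ).ker := by
          rw [MonoidHom.mem_ker, powMonoidHom_apply]
          apply Units.ext
          rw [Units.val_pow_eq_pow_val, Units.val_mk0, hrq1, Units.val_one]
        rw [← Cfsg.Agent.Helper2.Herm.range_norm hF] at hker
        obtain ⟨tu, htu⟩ := hker
        rw [powMonoidHom_apply] at htu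
        have htu' : (tu : F) ^ (q + 1) = v / v₀ := by
          have := congrArg Units.val htu
          rwa [Units.val_pow_eq_pow_val, Units.val_mk0] at this
        obtain ⟨i, hi⟩ := Subgroup.mem_zpowers_iff.mp (hζ tu)
        have hk : Φ (h ^ i) = D.hG (tu : F) := by rw [BN1.phi_zpow D Φ ζ hΦh, hi]
        have hy : h ^ i * x₀ * (h ^ i)⁻¹ ∈ Us := BN1.normU hUh hUh' (hz i) hx₀
        have gy : Good h n Us (h ^ i * x₀ * (h ^ i)⁻¹) := BN1.good_conj hUh hUh' rN2 g₀ (hz i)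
        have ey := BN1.phi_conj D hF Φ hk ((BN1.val_zero_iff' hF v₀).mpr hv₀') e₀
        rw [zero_mul, zero_div, htu', mul_div_cancel₀ v hv₀] at ey
        rw [inj x hx _ hy (e.trans ey.symm)]
        exact gy
    · -- hseed
      intro a ha x hx e
      obtain ⟨i, m, hi, hai⟩ := hcos a ha
      obtain ⟨xi, hxi, exi, gxi⟩ := hseedU i hi
      have hk : Φ (h ^ (m : ℤ)) = D.hG ((ζ ^ m : Fˣ) : F) := by
        rw [BN1.phi_zpow D Φ ζ hΦh, zpow_natCast]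
      have hy : h ^ (m : ℤ) * xi * (h ^ (m : ℤ))⁻¹ ∈ Us := BN1.normU hUh hUh' (hz m) hxi
      have gy : Good h n Us (h ^ (m : ℤ) * xi * (h ^ (m : ℤ))⁻¹) :=
        BN1.good_conj hUh hUh' rN2 gxi (hz m)
      have ey := BN1.phi_conj D hF Φ hk (BN1.val_seed hF hβ ((ζ : F) ^ i)) exi
      have hζ0 : (ζ : F) ≠ 0 := ζ.ne_zero
      have c1 : (ζ : F) ^ i * (((ζ ^ m : Fˣ) : F)) ^ 2 / (((ζ ^ m : Fˣ) : F)) ^ q = a := by
        rw [hai, Units.val_pow_eq_pow_val, div_pow]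
        field_simp
        ring
      have c2 : β₀ * ((ζ : F) ^ i) ^ (q + 1) * (((ζ ^ m : Fˣ) : F)) ^ (q + 1) = β₀ * a ^ (q + 1) := by
        have hμ : ((((ζ : F)) ^ 2 / (ζ : F) ^ q) ^ m) ^ (q + 1) = ((ζ : F) ^ m) ^ (q + 1) := by
          rw [← pow_mul, mul_comm m (q + 1), pow_mul, BN1.mu_norm hF _ hζ0, ← pow_mul, ← pow_mul,
            mul_comm]
        rw [hai, Units.val_pow_eq_pow_val, one_mul, mul_pow, hμ]
        ring
      rw [c1, c2] at ey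
      rw [inj x hx _ hy (e.trans ey.symm)]
      exact gy
    · -- hrule
      intro a₁ b₁ a₂ b₂ hv₁ hv₂ hb₁ hb₂ T₁ T₂ T₃ x hx e
      obtain ⟨x₁, hx₁, e₁⟩ := hUΦ a₁ b₁ hv₁
      obtain ⟨x₂, hx₂, e₂⟩ := hUΦ a₂ b₂ hv₂
      have hxx : x = x₁ * x₂ := inj x hx _ (Us.mul_mem hx₁ hx₂)
        (by rw [e, map_mul, e₁, e₂, D.u_mul _ _ _ _ hv₁ hv₂])
      have ne₁ : x₁ ≠ 1 := by
        intro h1
        rw [h1, map_one, ← D.u_zero] at e₁
        exact hb₁ (BN1.u_inj D (BN1.val_zero_zero hF) hv₁ e₁).2.symm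
      have ne₂ : x₂ ≠ 1 := by
        intro h1
        rw [h1, map_one, ← D.u_zero] at e₂
        exact hb₂ (BN1.u_inj D (BN1.val_zero_zero hF) hv₂ e₂).2.symm
      rcases T₁ x₁ hx₁ e₁ with h1 | ⟨f₁, hf₁, m₁, g₁, hg₁, E₁⟩
      · exact absurd h1 ne₁
      rcases T₂ x₂ hx₂ e₂ with h1 | ⟨f₂, hf₂, m₂, g₂, hg₂, E₂⟩
      · exact absurd h1 ne₂
      -- the images of `g₁` and `f₂`
      have eg₁ : Φ g₁ = D.uG (-a₁ / b₁) (1 / b₁) := by
        obtain ⟨c, d, hcd, ef⟩ := hΦU f₁ hf₁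
        obtain ⟨c', d', hcd', eg⟩ := hΦU g₁ hg₁
        have I := congrArg Φ E₁
        rw [map_mul, map_mul, map_inv, map_mul, map_mul, map_mul, hΦn, e₁, ef, eg,
          BN1.phi_zpow D Φ ζ hΦh, D.n_u a₁ b₁ hv₁ hb₁] at I
        have J := D.inj_N _ _ _ _ _ _ _ _ _ _ (BN1.val_n1 hF hv₁ hb₁) hcd (BN1.val_n2 hF hv₁ hb₁)
          hcd' (one_div_ne_zero (pow_ne_zero q hb₁)) (Units.ne_zero _) I
        rw [eg, ← J.2.2.2.1, ← J.2.2.2.2]
      have ef₂ : Φ f₂ = D.uG (-a₂ / b₂ ^ q) (1 / b₂) := by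
        obtain ⟨c, d, hcd, ef⟩ := hΦU f₂ hf₂
        obtain ⟨c', d', hcd', eg⟩ := hΦU g₂ hg₂
        have I := congrArg Φ E₂
        rw [map_mul, map_mul, map_inv, map_mul, map_mul, map_mul, hΦn, e₂, ef, eg,
          BN1.phi_zpow D Φ ζ hΦh, D.n_u a₂ b₂ hv₂ hb₂] at I
        have J := D.inj_N _ _ _ _ _ _ _ _ _ _ (BN1.val_n1 hF hv₂ hb₂) hcd (BN1.val_n2 hF hv₂ hb₂)
          hcd' (one_div_ne_zero (pow_ne_zero q hb₂)) (Units.ne_zero _) I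
        rw [ef, ← J.1, ← J.2.1]
      have hw : g₁ * f₂ ∈ Us := Us.mul_mem hg₁ hf₂
      have ew : Φ (g₁ * f₂) = D.uG (-a₁ / b₁ + -a₂ / b₂ ^ q)
          (1 / b₁ + 1 / b₂ - (-a₁ / b₁) * (-a₂ / b₂ ^ q) ^ q) := by
        rw [map_mul, eg₁, ef₂, D.u_mul _ _ _ _ (BN1.val_n2 hF hv₁ hb₁) (BN1.val_n1 hF hv₂ hb₂)]
      rcases T₃ (g₁ * f₂) hw ew with w1 | ⟨f₃, hf₃, m₃, g₃, hg₃, E₃⟩
      · -- the product lies in the Borel subgroup, hence is trivial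
        obtain ⟨f, hf, k, hk, E⟩ := BN1.borel_of_one hUh hUh' rN1 rN2 hf₁ hg₂ E₁ E₂ w1
        have hvAB := BN1.val_mul' hF hv₁ hv₂
        by_cases hB : b₁ + b₂ - a₁ * a₂ ^ q = 0
        · left
          apply one_of x hx
          rw [e]
          have hA : a₁ + a₂ = 0 := by
            rw [hB] at hvAB
            unfold Val at hvAB
            rw [zero_pow (by omega), add_zero, zero_add] at hvAB
            exact (pow_eq_zero_iff (by omega)).mp hvAB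
          rw [hA, hB]
        · exfalso
          obtain ⟨c, d, hcd, ef⟩ := hΦU f hf
          obtain ⟨t, ek⟩ := BN1.phi_zpowers D Φ ζ hΦh hk
          have I := congrArg Φ E
          rw [← hxx, map_mul, map_mul, map_inv, map_mul, hΦn, e, ef, ek, D.n_u _ _ hvAB hB] at I
          exact D.disj _ _ _ _ _ _ _ _ hcd (BN1.val_n1 hF hvAB hB) (BN1.val_n2 hF hvAB hB) t.ne_zero
            (one_div_ne_zero (pow_ne_zero q hB)) I.symm
      · rw [hxx]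
        exact BN1.good_mul hUh hUh' rN1 rN2 hf₁ hg₂ hf₃ hg₃ E₁ E₂ E₃
  intro x hx
  obtain ⟨a, b, hv, e⟩ := hΦU x hx
  exact hT a b hv x hx e

end bn

end Cfsg.Agent.Helper21.S2289
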