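import Cfsg.Agent.Helper21.S2289GOOD

/-! S2289: re-export shim. The shared definition `Good` lives in `Cfsg.Agent.Helper21.S2289GOOD`
(helper21's module landed a minute before this one; no declarations here, to avoid a duplicate name). -/
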