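import Mathlib
import Cfsg.Prelude.Def_Characters
import Cfsg.Agent.Helper7.S2333Defs
import Cfsg.Agent.Helper7.S2333Basic
set_option autoImplicit false
namespace Cfsg.Agent.S2333P
open Matrix Cfsg Cfsg.Agent.Helper25
variable {F : Type*} [Field F] {n : ℕ}

theorem equiva_pairM_eq (N Y : Matrix (Fin n) (Fin n) F) :
    pairM N Y = ∑ i, ∑ j, N j i * Y j i := by
  unfold pairM
  simp only [Matrix.trace, Matrix.diag_apply, Matrix.mul_apply, transpose_apply]

theorem equiva_aux1 (M U A Y : Matrix (Fin n) (Fin n) F) (hM : M = Aᵀ * U * A) :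
    pairM U (A * Y * Aᵀ) = pairM M Y := by
  subst hM
  unfold pairM
  rw [transpose_mul, transpose_mul, transpose_transpose]
  rw [← Matrix.mul_assoc, ← Matrix.mul_assoc, Matrix.trace_mul_comm]
  rw [← Matrix.mul_assoc, ← Matrix.mul_assoc]

theorem equiva_aux2 (M Y : Matrix (Fin n) (Fin n) F) (hY : Yᵀ = Y) :
    pairM M Y = pairM (upp (symz M)) Y := by
  have hsym : ∀ i j, Y j i = Y i j := by
    intro i j
    have := congrFun (congrFun hY i) j
    rwa [transpose_apply] at this
  rw [equiva_pairM_eq, equiva_pairM_eq]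
  have key : ∑ i, ∑ j, (if j < i then M i j * Y j i else 0)
      = ∑ i, ∑ j, (if i < j then M j i * Y j i else 0) := by
    rw [Finset.sum_comm]
    refine Finset.sum_congr rfl fun i _ => Finset.sum_congr rfl fun j _ => ?_
    rw [hsym j i]
  have hL : ∀ i j : Fin n, M j i * Y j i = (if j < i then M j i * Y j i else 0)
      + (if j = i then M j i * Y j i else 0) + (if i < j then M j i * Y j i else 0) := by
    intro i j
    rcases lt_trichotomy j i with h | h | h
    · rw [if_pos h, if_neg (ne_of_lt h), if_neg (not_lt_of_gt h), add_zero, add_zero]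
    · subst h
      rw [if_neg (lt_irrefl _), if_pos rfl, zero_add, add_zero]
    · rw [if_neg (not_lt_of_gt h), if_neg (ne_of_gt h), if_pos h, zero_add, zero_add]
  have hR : ∀ i j : Fin n, upp (symz M) j i * Y j i = (if j < i then M j i * Y j i else 0)
      + (if j = i then M j i * Y j i else 0) + (if j < i then M i j * Y j i else 0) := by
    intro i j
    rw [upp_apply, symz_apply]
    rcases lt_trichotomy j i with h | h | h
    · simp only [if_pos (le_of_lt h), if_neg (ne_of_lt h), if_pos h]
      ring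
    · subst h
      simp only [if_pos (le_refl _), if_neg (lt_irrefl _), zero_add, add_zero, if_true]
    · simp only [if_neg (not_le_of_gt h), if_neg (not_lt_of_gt h), if_neg (ne_of_gt h), zero_mul,
        add_zero]
  simp_rw [hR]
  rw [Finset.sum_congr rfl (fun i _ => Finset.sum_congr rfl (fun j _ => hL i j))]
  simp only [Finset.sum_add_distrib]
  rw [key]

/-! ### EQUIVa -/
theorem pairM_cong (H Y : ↥(SymM n F)) (A : Matrix (Fin n) (Fin n) F) :
    pairM (upp H.1) (A * Y.1 * Aᵀ) = pairM (upp (symz (Aᵀ * upp H.1 * A))) Y.1 := by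
  rw [equiva_aux1 (Aᵀ * upp H.1 * A) (upp H.1) A Y.1 rfl]
  exact equiva_aux2 _ _ ((mem_SymM _).mp Y.2)

end Cfsg.Agent.S2333P
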