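import Mathlib
import Cfsg.Prelude.Def_Characters
import Cfsg.Agent.Helper7.S2333Defs
import Cfsg.Agent.Helper7.S2333Basic
set_option autoImplicit false
namespace Cfsg.Agent.S2333P
open Matrix Cfsg Cfsg.Agent.Helper25
variable {F : Type*} [Field F] {n : ℕ}

theorem polar0_single (M : Matrix (Fin n) (Fin n) F) (i j : Fin n) :
    polar (qf M) (Pi.single i 1) (Pi.single j 1) = M i j + M j i := by
  classical
  rw [polar_qf, Matrix.mulVec_single_one, single_one_dotProduct]
  rw [Matrix.col_apply, Matrix.add_apply, transpose_apply]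

/-! ### POLAR0 -/
theorem pairM_eq_zero_of_polar (H Y : ↥(SymM n F))
    (hH : ∀ x y : Fin n → F, polar (QH H.1) x y = 0) (hY : ∀ i, Y.1 i i = 0) :
    pairM (upp H.1) Y.1 = 0 := by
  classical
  have h0 : ∀ i j : Fin n, i < j → H.1 i j = 0 := by
    intro i j hij
    have h1 := hH (Pi.single i 1) (Pi.single j 1)
    unfold QH at h1
    rw [polar0_single, upp_apply, upp_apply, if_pos (le_of_lt hij), if_neg (not_le_of_gt hij),
      add_zero] at h1
    exact h1
  unfold pairM
  simp only [Matrix.trace, Matrix.diag_apply, Matrix.mul_apply, transpose_apply]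
  apply Finset.sum_eq_zero
  intro i _
  apply Finset.sum_eq_zero
  intro j _
  rw [upp_apply]
  rcases lt_trichotomy j i with h | h | h
  · rw [if_pos (le_of_lt h), h0 j i h, zero_mul]
  · subst h
    rw [hY j, mul_zero]
  · rw [if_neg (not_le_of_gt h), zero_mul]

end Cfsg.Agent.S2333P
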