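import Mathlib
import Cfsg.Prelude.Def_Classical
import Cfsg.Agent.Helper13.S2496Defs
import Cfsg.Agent.Helper11.S2496ONB
import Cfsg.Agent.Helper11.S2496SYLCARD
import Cfsg.Agent.Helper14.S2496CENTER
import Cfsg.Agent.Helper14.S2496CONJ
import Cfsg.Agent.Helper16.S2496FROB
import Cfsg.Agent.Helper16.S2496GENERATOR
import Cfsg.Agent.Helper16.S2496GENK
import Cfsg.Agent.Helper16.S2496SCHUR
import Cfsg.Agent.Helper16.S2496SYLOW
import Cfsg.Agent.Helper26.S2496CENT
import Cfsg.Agent.Helper26.S2496DETPOW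
import Cfsg.Agent.Helper3.S2496ARITH1
import Cfsg.Agent.Helper3.S2496ARITH2
import Cfsg.Agent.Helper3.S2496ARITH34
import Cfsg.Agent.Helper4.S2496ISODIAG
import Cfsg.Agent.Helper4.S2496MFORM
import Cfsg.Agent.Helper4.S2496TORUS
import Cfsg.Agent.Helper9.S2496SCALAR

/-! # S2496 assembly (helper13): transport of the model to `Cfsg.SU`, existence, necessity -/

set_option autoImplicit false

namespace Cfsg.Agent.S2496P

namespace ASM

section transport

variable {F K : Type*} [Field F] [Fintype F] [Field K] [Algebra F K] [Finite K] {p : ℕ}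
  [Fact p.Prime] [CharP F p] [CharP K p] {f q n : ℕ}

theorem mem_SU_iff' (g : Matrix.SpecialLinearGroup (Fin n) F) :
    g ∈ Cfsg.SU n F q ↔ ∀ u v : Fin n → F,
      Cfsg.hermForm n F q ((g : Matrix (Fin n) (Fin n) F).mulVec u)
        ((g : Matrix (Fin n) (Fin n) F).mulVec v) = Cfsg.hermForm n F q u v := Iff.rfl

/-- an isometry of the model gives a matrix preserving the standard Hermitian form -/
theorem herm_toMatrix (b : Module.Basis (Fin n) F (K × K))
    (hb : ∀ u v : K × K, mform F K p f u v = Cfsg.hermForm n F q ⇑(b.repr u) ⇑(b.repr v))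
    (X : K × K →ₗ[F] K × K) (hX : ∀ u v, mform F K p f (X u) (X v) = mform F K p f u v)
    (x y : Fin n → F) :
    Cfsg.hermForm n F q ((LinearMap.toMatrix b b X).mulVec x)
      ((LinearMap.toMatrix b b X).mulVec y) = Cfsg.hermForm n F q x y := by
  have hx : ⇑(b.repr (b.equivFun.symm x)) = x := by
    rw [← Module.Basis.equivFun_apply, LinearEquiv.apply_symm_apply]
  have hy : ⇑(b.repr (b.equivFun.symm y)) = y := by
    rw [← Module.Basis.equivFun_apply, LinearEquiv.apply_symm_apply]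
  have h1 := LinearMap.toMatrix_mulVec_repr b b X (b.equivFun.symm x)
  have h2 := LinearMap.toMatrix_mulVec_repr b b X (b.equivFun.symm y)
  rw [hx] at h1
  rw [hy] at h2
  rw [h1, h2, ← hb, hX, hb, hx, hy]

/-- a matrix preserving the standard Hermitian form gives an isometry of the model -/
theorem mform_toLin (b : Module.Basis (Fin n) F (K × K))
    (hb : ∀ u v : K × K, mform F K p f u v = Cfsg.hermForm n F q ⇑(b.repr u) ⇑(b.repr v))
    (M : Matrix (Fin n) (Fin n) F)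
    (hM : ∀ x y : Fin n → F,
      Cfsg.hermForm n F q (M.mulVec x) (M.mulVec y) = Cfsg.hermForm n F q x y)
    (u v : K × K) :
    mform F K p f (Matrix.toLin b b M u) (Matrix.toLin b b M v) = mform F K p f u v := by
  have h1 := LinearMap.toMatrix_mulVec_repr b b (Matrix.toLin b b M) u
  have h2 := LinearMap.toMatrix_mulVec_repr b b (Matrix.toLin b b M) v
  rw [LinearMap.toMatrix_toLin] at h1 h2
  rw [hb, ← h1, ← h2, hM, ← hb]

end transport

section torus

variable {F K : Type*} [Field F] [Fintype F] [Field K] [Algebra F K] [Finite K] {p : ℕ}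
  [Fact p.Prime] [CharP F p] [CharP K p] {f q n : ℕ}

/-- the torus element `tor s` as an element of `SU_n(q)` -/
noncomputable def torSU (b : Module.Basis (Fin n) F (K × K))
    (hb : ∀ u v : K × K, mform F K p f u v = Cfsg.hermForm n F q ⇑(b.repr u) ⇑(b.repr v))
    (s : K) (hs : s ≠ 0)
    (hdet : (frob F p f (Algebra.norm F s))⁻¹ * Algebra.norm F s = 1) : Cfsg.SU n F q :=
  ⟨⟨LinearMap.toMatrix b b (tor F K p f s), by rw [LinearMap.det_toMatrix, det_tor, hdet]⟩,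
    (mem_SU_iff' _).mpr (herm_toMatrix b hb _ (mform_tor s hs))⟩

theorem torSU_coe (b : Module.Basis (Fin n) F (K × K))
    (hb : ∀ u v : K × K, mform F K p f u v = Cfsg.hermForm n F q ⇑(b.repr u) ⇑(b.repr v))
    (s : K) (hs : s ≠ 0)
    (hdet : (frob F p f (Algebra.norm F s))⁻¹ * Algebra.norm F s = 1) :
    (((torSU b hb s hs hdet : Cfsg.SU n F q) : Matrix.SpecialLinearGroup (Fin n) F) :
      Matrix (Fin n) (Fin n) F) = LinearMap.toMatrix b b (tor F K p f s) := rfl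

theorem coe_pow_SU (g : Cfsg.SU n F q) (k : ℕ) :
    (((g ^ k : Cfsg.SU n F q) : Matrix.SpecialLinearGroup (Fin n) F) :
      Matrix (Fin n) (Fin n) F) =
    ((g : Matrix.SpecialLinearGroup (Fin n) F) : Matrix (Fin n) (Fin n) F) ^ k := by
  rw [Subgroup.coe_pow, Matrix.SpecialLinearGroup.coe_pow]

theorem torSU_pow_coe (b : Module.Basis (Fin n) F (K × K))
    (hb : ∀ u v : K × K, mform F K p f u v = Cfsg.hermForm n F q ⇑(b.repr u) ⇑(b.repr v))
    (s : K) (hs : s ≠ 0)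
    (hdet : (frob F p f (Algebra.norm F s))⁻¹ * Algebra.norm F s = 1) (k : ℕ) :
    (((torSU b hb s hs hdet ^ k : Cfsg.SU n F q) : Matrix.SpecialLinearGroup (Fin n) F) :
      Matrix (Fin n) (Fin n) F) = LinearMap.toMatrix b b (tor F K p f (s ^ k)) := by
  rw [coe_pow_SU, torSU_coe, tor_pow, LinearMap.toMatrix_pow]

/-- powers of `torSU s` that are trivial -/
theorem torSU_pow_eq_one_iff (b : Module.Basis (Fin n) F (K × K))
    (hb : ∀ u v : K × K, mform F K p f u v = Cfsg.hermForm n F q ⇑(b.repr u) ⇑(b.repr v))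
    (s : K) (hs : s ≠ 0)
    (hdet : (frob F p f (Algebra.norm F s))⁻¹ * Algebra.norm F s = 1) (k : ℕ) :
    torSU b hb s hs hdet ^ k = 1 ↔ s ^ k = 1 := by
  constructor
  · intro h
    have h1 := torSU_pow_coe b hb s hs hdet k
    rw [h] at h1
    have h2 : LinearMap.toMatrix b b (tor F K p f (s ^ k)) =
        LinearMap.toMatrix b b (tor F K p f (1 : K)) := by
      rw [← h1, tor_one, LinearMap.toMatrix_id]
      rfl
    exact tor_injective ((LinearMap.toMatrix b b).injective h2)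
  · intro h
    apply Subtype.ext
    apply Subtype.ext
    rw [torSU_pow_coe, h, tor_one, LinearMap.toMatrix_id]
    rfl

/-- powers of `torSU s` that are central -/
theorem mk_torSU_pow_eq_one_iff (hq : q = p ^ f) (hF : Fintype.card F = q ^ 2) (hn : 2 ≤ n)
    (b : Module.Basis (Fin n) F (K × K))
    (hb : ∀ u v : K × K, mform F K p f u v = Cfsg.hermForm n F q ⇑(b.repr u) ⇑(b.repr v))
    (s : K) (hs : s ≠ 0)
    (hdet : (frob F p f (Algebra.norm F s))⁻¹ * Algebra.norm F s = 1) (k : ℕ) :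
    (QuotientGroup.mk (torSU b hb s hs hdet) : Cfsg.PSU n F q) ^ k = 1 ↔
      s ^ (k * (q + 1)) = 1 := by
  rw [← QuotientGroup.mk_pow, QuotientGroup.eq_one_iff, mem_center_SU_iff hF hn, pow_mul,
    pow_succ_eq_one_iff hq hF]
  have hsk : s ^ k ≠ 0 := pow_ne_zero k hs
  constructor
  · rintro ⟨c, hc⟩
    rw [torSU_pow_coe] at hc
    have h2 : LinearMap.toMatrix b b (tor F K p f (s ^ k)) =
        LinearMap.toMatrix b b (c • (LinearMap.id : K × K →ₗ[F] K × K)) := by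
      rw [hc, map_smul, LinearMap.toMatrix_id]
    exact ⟨c, (tor_eq_smul_iff (s ^ k) hsk c).mp ((LinearMap.toMatrix b b).injective h2)⟩
  · rintro ⟨c, hc⟩
    refine ⟨c, ?_⟩
    rw [torSU_pow_coe, (tor_eq_smul_iff (s ^ k) hsk c).mpr hc, map_smul, LinearMap.toMatrix_id]

end torus

section main

variable {F K : Type*} [Field F] [Fintype F] [Field K] [Algebra F K] [Finite K] {p : ℕ}
  [Fact p.Prime] [CharP F p] [CharP K p] {f q n h : ℕ}

/-- existence: every divisor of `M₂ = M₁ / gcd(M₁, q + 1)` is an element order of `PSU_n(q)` -/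
theorem exists_orderOf_of_dvd (hq : q = p ^ f) (hF : Fintype.card F = q ^ 2)
    (hK : Module.finrank F K = h) (hn : n = 2 * h) (hh : 1 ≤ h) (hq2 : 2 ≤ q) (e : ℕ)
    (he : e ∣ ((q ^ (2 * h) - 1) / (q + 1)) / Nat.gcd ((q ^ (2 * h) - 1) / (q + 1)) (q + 1)) :
    ∃ g : Cfsg.PSU n F q, orderOf g = e := by
  obtain ⟨b, hb⟩ := exists_onb (K := K) hq hF hK hn
  obtain ⟨hd1, -, hM1pos, -⟩ := M1_facts q h hq2 hh
  set M₁ := (q ^ (2 * h) - 1) / (q + 1) with hM₁
  have hM1dvd : M₁ ∣ q ^ (2 * h) - 1 := Dvd.intro (q + 1) (Nat.div_mul_cancel hd1)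
  obtain ⟨s₀, hs₀⟩ := exists_orderOf_eq (K := K) hq hF hK hh M₁ hM1dvd
  have hs₀M : s₀ ^ M₁ = 1 := by rw [← hs₀]; exact pow_orderOf_eq_one s₀
  have hs₀0 : s₀ ≠ 0 := by
    intro h0
    rw [h0, zero_pow hM1pos.ne'] at hs₀M
    exact zero_ne_one hs₀M
  have hdet := (det_cond_iff hq hF hK hh s₀ hs₀0).mpr hs₀M
  have hn2 : 2 ≤ n := by omega
  have hord : orderOf (QuotientGroup.mk (torSU b hb s₀ hs₀0 hdet) : Cfsg.PSU n F q) =
      M₁ / Nat.gcd M₁ (q + 1) := by
    apply Nat.dvd_antisymm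
    · apply orderOf_dvd_of_pow_eq_one
      rw [mk_torSU_pow_eq_one_iff hq hF hn2, div_gcd_mul, pow_mul, hs₀M, one_pow]
    · have h1 := pow_orderOf_eq_one (QuotientGroup.mk (torSU b hb s₀ hs₀0 hdet) : Cfsg.PSU n F q)
      rw [mk_torSU_pow_eq_one_iff hq hF hn2] at h1
      have h2 := orderOf_dvd_of_pow_eq_one h1
      rw [hs₀] at h2
      exact div_gcd_dvd M₁ (q + 1) _ hM1pos h2
  obtain ⟨k, hk⟩ := he
  have hk0 : k ≠ 0 := by
    rintro rfl
    rw [mul_zero] at hk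
    have h1 : 0 < M₁ / Nat.gcd M₁ (q + 1) :=
      Nat.div_pos (Nat.le_of_dvd hM1pos (Nat.gcd_dvd_left _ _))
        (Nat.gcd_pos_of_pos_left _ hM1pos)
    omega
  refine ⟨(QuotientGroup.mk (torSU b hb s₀ hs₀0 hdet) : Cfsg.PSU n F q) ^ k, ?_⟩
  rw [orderOf_pow_of_dvd hk0 (by rw [hord, hk]; exact dvd_mul_left _ _), hord, hk,
    Nat.mul_div_cancel _ (Nat.pos_of_ne_zero hk0)]

theorem orderOf_conj' {G : Type*} [Group G] (x y : G) : orderOf (x * y * x⁻¹) = orderOf y := by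
  have := orderOf_injective (MulAut.conj x).toMonoidHom (MulAut.conj x).injective y
  simpa using this

/-- necessity: the order `e = q^h + (-1)^h` of an element of `PSU_n(q)` divides `M₂` -/
theorem dvd_of_orderOf (hq : q = p ^ f) (hF : Fintype.card F = q ^ 2)
    (hK : Module.finrank F K = h) (hn : n = 2 * h) (hh : 2 ≤ h) (hq3 : 3 ≤ q) (hqodd : Odd q)
    (g : Cfsg.PSU n F q)
    (hg : orderOf g = if Even h then q ^ h + 1 else q ^ h - 1) :
    (if Even h then q ^ h + 1 else q ^ h - 1) ∣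
      ((q ^ (2 * h) - 1) / (q + 1)) / Nat.gcd ((q ^ (2 * h) - 1) / (q + 1)) (q + 1) := by
  classical
  obtain ⟨b, hb⟩ := exists_onb (K := K) hq hF hK hn
  obtain ⟨hd1, -, hM1pos, -⟩ := M1_facts q h (by omega) (by omega)
  set M₁ := (q ^ (2 * h) - 1) / (q + 1) with hM₁
  obtain ⟨r, hr, hre, hrq, hi, hR, hri⟩ := exists_zsig_prime q h hq3 hqodd hh
  have hn2 : 2 ≤ n := by omega
  have h1h : 1 ≤ h := by omega
  have : Finite (Cfsg.SU n F q) := inferInstance
  obtain ⟨g', rfl⟩ := QuotientGroup.mk_surjective g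
  -- an element `B = g' ^ m` of order `r`
  have hdvd1 : orderOf (QuotientGroup.mk g' : Cfsg.PSU n F q) ∣ orderOf g' := by
    apply orderOf_dvd_of_pow_eq_one
    rw [← QuotientGroup.mk_pow, pow_orderOf_eq_one]
    rfl
  have hrN : r ∣ orderOf g' := by
    rw [hg] at hdvd1
    exact hre.trans hdvd1
  obtain ⟨m, hm⟩ := hrN
  have hN0 : orderOf g' ≠ 0 := (orderOf_pos g').ne'
  have hm0 : m ≠ 0 := by
    rintro rfl
    rw [mul_zero] at hm
    exact hN0 hm
  have hB : orderOf (g' ^ m) = r := by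
    rw [orderOf_pow_of_dvd hm0 (by rw [hm]; exact dvd_mul_left _ _), hm,
      Nat.mul_div_cancel _ (Nat.pos_of_ne_zero hm0)]
  -- the Sylow `r`-subgroup inside the torus
  have hqn0 : q ^ (2 * h) - 1 ≠ 0 := by
    have : 2 ≤ q ^ (2 * h) := by
      calc 2 ≤ q := by omega
        _ = q ^ 1 := (pow_one q).symm
        _ ≤ q ^ (2 * h) := Nat.pow_le_pow_right (by omega) (by omega)
    omega
  set a := (q ^ (2 * h) - 1).factorization r with ha
  have hra1 : r ^ a ∣ q ^ (2 * h) - 1 := Nat.ordProj_dvd _ _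
  have hra2 : ¬ r ^ (a + 1) ∣ q ^ (2 * h) - 1 := Nat.pow_succ_factorization_not_dvd hqn0 hr
  obtain ⟨s₁, hs₁⟩ := exists_orderOf_eq (K := K) hq hF hK h1h (r ^ a) hra1
  have hrq1 : ¬ r ∣ q + 1 := by
    have := hri 1 le_rfl (by omega)
    simpa using this
  have hraM : r ^ a ∣ M₁ := by
    have h1 : r ^ a ∣ M₁ * (q + 1) := by rw [hM₁, Nat.div_mul_cancel hd1]; exact hra1
    exact (Nat.Coprime.pow_left a ((Nat.Prime.coprime_iff_not_dvd hr).mpr hrq1)).dvd_of_dvd_mul_right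
      h1
  have hs₁M : s₁ ^ M₁ = 1 := by
    obtain ⟨c, hc⟩ := hraM
    rw [hc, pow_mul, ← hs₁, pow_orderOf_eq_one, one_pow]
  have hs₁0 : s₁ ≠ 0 := by
    intro h0
    rw [h0, zero_pow hM1pos.ne'] at hs₁M
    exact zero_ne_one hs₁M
  have hdet₁ := (det_cond_iff hq hF hK h1h s₁ hs₁0).mpr hs₁M
  have ht₁ : orderOf (torSU b hb s₁ hs₁0 hdet₁) = r ^ a := by
    rw [← hs₁]
    exact orderOf_eq_orderOf_iff.mpr (fun k => torSU_pow_eq_one_iff b hb s₁ hs₁0 hdet₁ k)
  have hmax : ¬ r ^ (a + 1) ∣ Nat.card (Cfsg.SU n F q) :=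
    not_dvd_card_SU hF hn2 ⟨h, by omega⟩ hr hrq (by rw [hn]; exact hri) (by rw [hn]; exact hra2)
  obtain ⟨x, hx⟩ := exists_conj_mem_zpowers hr (torSU b hb s₁ hs₁0 hdet₁) ht₁ hmax (g' ^ m) hB
  rw [← mem_powers_iff_mem_zpowers, Submonoid.mem_powers_iff] at hx
  obtain ⟨k, hk⟩ := hx
  have hs0 : s₁ ^ k ≠ 0 := pow_ne_zero _ hs₁0
  have hconj_ord : orderOf (x * g' ^ m * x⁻¹) = r := by rw [orderOf_conj', hB]
  have hsr : (s₁ ^ k) ^ r = 1 := by
    have h1 : (torSU b hb s₁ hs₁0 hdet₁ ^ k) ^ r = 1 := by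
      rw [hk, ← hconj_ord, pow_orderOf_eq_one]
    rw [← pow_mul] at h1
    have h2 := (torSU_pow_eq_one_iff b hb s₁ hs₁0 hdet₁ (k * r)).mp h1
    rwa [pow_mul] at h2
  have hs1 : s₁ ^ k ≠ 1 := by
    intro h1
    have h2 : torSU b hb s₁ hs₁0 hdet₁ ^ k = 1 :=
      (torSU_pow_eq_one_iff b hb s₁ hs₁0 hdet₁ k).mpr h1
    rw [hk] at h2
    rw [h2, orderOf_one] at hconj_ord
    exact hr.one_lt.ne hconj_ord
  -- the conjugate `g''` of `g'` commutes with `tor (s₁ ^ k)`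
  have hcomm : (x * g' * x⁻¹) * (x * g' ^ m * x⁻¹) = (x * g' ^ m * x⁻¹) * (x * g' * x⁻¹) := by
    have h1 : (x * g' * x⁻¹) * (x * g' ^ m * x⁻¹) = x * (g' * g' ^ m) * x⁻¹ := by group
    have h2 : (x * g' ^ m * x⁻¹) * (x * g' * x⁻¹) = x * (g' ^ m * g') * x⁻¹ := by group
    rw [h1, h2, ← pow_succ, ← pow_succ']
  have hMcomm : (((x * g' * x⁻¹ : Cfsg.SU n F q) : Matrix.SpecialLinearGroup (Fin n) F) :
      Matrix (Fin n) (Fin n) F) * LinearMap.toMatrix b b (tor F K p f (s₁ ^ k)) =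
      LinearMap.toMatrix b b (tor F K p f (s₁ ^ k)) *
        (((x * g' * x⁻¹ : Cfsg.SU n F q) : Matrix.SpecialLinearGroup (Fin n) F) :
          Matrix (Fin n) (Fin n) F) := by
    rw [← torSU_pow_coe b hb s₁ hs₁0 hdet₁ k, hk]
    have := congrArg (fun z : Cfsg.SU n F q =>
      ((z : Matrix.SpecialLinearGroup (Fin n) F) : Matrix (Fin n) (Fin n) F)) hcomm
    simpa only [Subgroup.coe_mul, Matrix.SpecialLinearGroup.coe_mul] using this
  set Mg : Matrix (Fin n) (Fin n) F :=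
    (((x * g' * x⁻¹ : Cfsg.SU n F q) : Matrix.SpecialLinearGroup (Fin n) F) :
      Matrix (Fin n) (Fin n) F) with hMg
  have hXcomm : Matrix.toLin b b Mg ∘ₗ tor F K p f (s₁ ^ k) =
      tor F K p f (s₁ ^ k) ∘ₗ Matrix.toLin b b Mg := by
    apply (LinearMap.toMatrix b b).injective
    rw [LinearMap.toMatrix_comp b b b, LinearMap.toMatrix_comp b b b, LinearMap.toMatrix_toLin]
    exact hMcomm
  have hXiso := mform_toLin b hb Mg ((mem_SU_iff' _).mp (x * g' * x⁻¹).2)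
  obtain ⟨a', b', hab⟩ := cent_tor hq hF hr hR (by rw [hi, hK]) (s₁ ^ k) hsr hs1
    (Matrix.toLin b b Mg) hXcomm
  obtain ⟨hb'0, hXtor⟩ := isom_diag a' b' (Matrix.toLin b b Mg) hab hXiso
  have hdetX : LinearMap.det (Matrix.toLin b b Mg) = 1 := by
    rw [LinearMap.det_toLin]
    exact (x * g' * x⁻¹).1.2
  rw [hXtor, det_tor] at hdetX
  have hg'' : x * g' * x⁻¹ = torSU b hb b' hb'0 hdetX := by
    apply Subtype.ext
    apply Subtype.ext
    rw [torSU_coe, ← hXtor, LinearMap.toMatrix_toLin]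
  have hb'M := (det_cond_iff hq hF hK h1h b' hb'0).mp hdetX
  have hpow : (QuotientGroup.mk (x * g' * x⁻¹) : Cfsg.PSU n F q) ^
      (M₁ / Nat.gcd M₁ (q + 1)) = 1 := by
    rw [hg'', mk_torSU_pow_eq_one_iff hq hF hn2, div_gcd_mul, pow_mul, hb'M, one_pow]
  have hord'' : orderOf (QuotientGroup.mk (x * g' * x⁻¹) : Cfsg.PSU n F q) =
      orderOf (QuotientGroup.mk g' : Cfsg.PSU n F q) := by
    rw [QuotientGroup.mk_mul, QuotientGroup.mk_mul, QuotientGroup.mk_inv, orderOf_conj']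
  rw [← hg, ← hord'']
  exact orderOf_dvd_of_pow_eq_one hpow

end main

end ASM

end Cfsg.Agent.S2496P
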