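import Mathlib
import Cfsg.Prelude.Def_Classical
import Cfsg.Prelude.Def_LieClassical
import Cfsg.Agent.Helper13.S2511Defs
import Cfsg.Agent.Helper29.S2263MINGU

/-! S2511 (driver helper13): small library: commuting elements of coprime orders in `G / Z(G)`;
the minimal polynomial of an element of `SU_n(q)` is `UGood`. -/

set_option autoImplicit false

namespace Cfsg.Agent.S2511P

open Polynomial Matrix
open Cfsg.Agent.S2263P Cfsg.Agent.S2264P

/-- GOODORD (generic): a non-central `t` with `t ^ r = 1` commuting with `A` multiplies the order of the image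
of `A` in `G / Z(G)` by `r` (if `r` does not divide it). -/
theorem orderOf_mk_twist_mul {G : Type*} [Group G] (r : ℕ) (hr : r.Prime) (A t : G)
    (hc : Commute t A) (ht : t ^ r = 1) (htc : t ∉ Subgroup.center G)
    (hrA : ¬ r ∣ orderOf (QuotientGroup.mk A : G ⧸ Subgroup.center G)) :
    orderOf (QuotientGroup.mk (t * A) : G ⧸ Subgroup.center G) =
      r * orderOf (QuotientGroup.mk A : G ⧸ Subgroup.center G) := by
  have h1 : (QuotientGroup.mk t : G ⧸ Subgroup.center G) ^ r = 1 := by
    rw [← QuotientGroup.mk_pow, ht]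
    rfl
  have h2 : (QuotientGroup.mk t : G ⧸ Subgroup.center G) ≠ 1 := by
    intro h
    exact htc ((QuotientGroup.eq_one_iff t).1 h)
  have hot : orderOf (QuotientGroup.mk t : G ⧸ Subgroup.center G) = r := by
    have := orderOf_dvd_of_pow_eq_one h1
    rcases (Nat.dvd_prime hr).1 this with h | h
    · exact absurd (orderOf_eq_one_iff.1 h) h2
    · exact h
  have hcomm : Commute (QuotientGroup.mk t : G ⧸ Subgroup.center G) (QuotientGroup.mk A) := by
    show (QuotientGroup.mk t : G ⧸ Subgroup.center G) * QuotientGroup.mk A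
      = QuotientGroup.mk A * QuotientGroup.mk t
    rw [← QuotientGroup.mk_mul, ← QuotientGroup.mk_mul, hc.eq]
  have hcop : Nat.Coprime (orderOf (QuotientGroup.mk t : G ⧸ Subgroup.center G))
      (orderOf (QuotientGroup.mk A : G ⧸ Subgroup.center G)) := by
    rw [hot]
    exact (Nat.Prime.coprime_iff_not_dvd hr).2 hrA
  rw [QuotientGroup.mk_mul, hcomm.orderOf_mul_eq_mul_orderOf_of_coprime hcop, hot]

section su

variable {F : Type*} [Field F] [Fintype F] {n q : ℕ}

/-- the `GL`-element of an element of `SU` -/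
theorem toGL_mem_GU (A : ↥(Cfsg.SU n F q)) :
    Matrix.SpecialLinearGroup.toGL (A : Matrix.SpecialLinearGroup (Fin n) F) ∈ Cfsg.GU n F q :=
  A.2

theorem coe_toGL (A : ↥(Cfsg.SU n F q)) :
    ((Matrix.SpecialLinearGroup.toGL (A : Matrix.SpecialLinearGroup (Fin n) F) : GL (Fin n) F) :
      Matrix (Fin n) (Fin n) F) = mat A := rfl

/-- the minimal polynomial of an element of `SU_n(q)` -/
theorem minpoly_SU (hF : Fintype.card F = q ^ 2) (σ : F ≃+* F) (hσ : ∀ x, σ x = x ^ q)
    (hn : 1 ≤ n) (A : ↥(Cfsg.SU n F q)) :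
    UGood σ (minpoly F (mat A)) ∧ (minpoly F (mat A)).natDegree ≤ n ∧
      1 ≤ (minpoly F (mat A)).natDegree := by
  have := minpoly_GU hF σ hσ hn _ (toGL_mem_GU A)
  rwa [coe_toGL] at this

end su

end Cfsg.Agent.S2511P
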