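import Mathlib
import Cfsg.Prelude.Def_Classical
import Cfsg.Agent.Helper13.S2511Defs
import Cfsg.Agent.Helper13.S2511REALSU
import Cfsg.Agent.Helper20.S2511TORODDA
import Cfsg.Agent.Helper18.S2511SUNUM
import Cfsg.Agent.Helper26.S2263KFORM
import Cfsg.Agent.Helper6.S2263KTOR
import Cfsg.Agent.Helper4.S2496TORUS

/-! S2511 piece TORODDB (helper13, hedge copy): the torus of order `suNum q n` of `PSU_n(q)`, `n` odd. -/

set_option autoImplicit false
set_option linter.unusedSectionVars false

namespace Cfsg.Agent.S2511P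

open Cfsg.Agent.S2263P Cfsg.Agent.S2496P

section layerT

variable {F : Type*} [Field F] [Fintype F] {p : ℕ} [Fact p.Prime] [CharP F p] {f q : ℕ}

/-- TORODDB -/
theorem exists_torus_odd (hq : q = p ^ f) (hF : Fintype.card F = q ^ 2) {n : ℕ} (hn : 3 ≤ n)
    (hodd : Odd n) : ∃ g : Cfsg.PSU n F q, orderOf g = suNum q n := by
  classical
  have : NeZero n := ⟨by omega⟩
  let K := FiniteField.Extension F p n
  have hK : Module.finrank F K = n := FiniteField.finrank_extension F p n
  have : CharP K p := charP_of_injective_algebraMap (algebraMap F K).injective p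
  obtain ⟨s, hs1, hs2, hs3⟩ := exists_norm_one (F := F) (K := K) hq hF hK hodd
  have hq2 : 2 ≤ q := by
    have h2 : 2 ≤ Fintype.card F := Fintype.one_lt_card
    rw [hF] at h2
    by_contra hcon
    have : q = 0 ∨ q = 1 := by omega
    rcases this with rfl | rfl <;> omega
  refine exists_psu_orderOf hq hF (by omega) hK (isHerm_Hk (K := K) hq hF hK hodd)
    (LinearMap.mulLeft F s) (Hk_mulLeft hq hF hK hodd s hs1) ?_ (suNum q n)
    (suNum_pos hq2 (by omega)) ?_
  · rw [TORUS.det_mulLeft, hs2]
  · intro j
    rw [← hs3 j, KTOR.mulLeft_pow]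
    constructor
    · rintro ⟨c, hc⟩
      refine ⟨c, ?_⟩
      have := congrArg (fun φ : K →ₗ[F] K => φ 1) hc
      simp only [LinearMap.mulLeft_apply, mul_one, LinearMap.smul_apply, Module.End.one_apply] at this
      rw [this, Algebra.algebraMap_eq_smul_one]
    · rintro ⟨c, hc⟩
      refine ⟨c, ?_⟩
      ext x
      rw [LinearMap.mulLeft_apply, hc, LinearMap.smul_apply, Module.End.one_apply, Algebra.smul_def]

end layerT

end Cfsg.Agent.S2511P
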