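import Mathlib
import Cfsg.Prelude.Def_Classical
import Cfsg.Agent.Helper13.S2511Defs
import Cfsg.Agent.Helper13.S2511REALSU
import Cfsg.Agent.Helper11.S2511CAYLEY
import Cfsg.Agent.Helper11.S2511URGEN
import Cfsg.Agent.Helper20.S2511NSKEW
import Cfsg.Agent.Helper23.S2511DETUNI
import Cfsg.Agent.Helper23.S2511HANTI
import Cfsg.Agent.Helper26.S2263SUM
import Cfsg.Agent.Helper16.S2496FROB
import Cfsg.Agent.Helper18.S2510ROOTR
import Cfsg.Agent.Helper9.S2263BASIS

/-! S2511 piece URSP (helper13): elements of order `p ^ k * r` of `PSU_n(q)`. -/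

set_option autoImplicit false
set_option linter.unusedSectionVars false

namespace Cfsg.Agent.S2511P

open Cfsg.Agent.S2263P Cfsg.Agent.S2496P
open scoped Matrix

namespace URSP

section gen

variable {F : Type*} [Field F] {V : Type*} [AddCommGroup V] [Module F V]

theorem smul_mul_pow (N w : V →ₗ[F] V) (hc : Commute w N) (c : F) (j : ℕ) :
    (c • (N * w)) ^ j = c ^ j • (N ^ j * w ^ j) := by
  rw [smul_pow, hc.symm.mul_pow]

theorem smul_mul_pow_eq_zero_iff (N w : V →ₗ[F] V) (hc : Commute w N) (hw : IsUnit w) (c : F)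
    (hc0 : c ≠ 0) (j : ℕ) : (c • (N * w)) ^ j = 0 ↔ N ^ j = 0 := by
  rw [smul_mul_pow N w hc c j, smul_eq_zero]
  have hwj : IsUnit (w ^ j) := hw.pow j
  constructor
  · rintro (h | h)
    · exact absurd h (pow_ne_zero j hc0)
    · exact (hwj.mul_left_eq_zero).1 h
  · intro h
    right
    rw [h, zero_mul]

end gen

section fin

variable {F : Type*} [Field F] [Fintype F] {p : ℕ} [Fact p.Prime] [CharP F p] {f q : ℕ}

theorem exists_theta (hq : q = p ^ f) (hF : Fintype.card F = q ^ 2) :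
    ∃ θ : F, θ + frob F p f θ ≠ 0 := by
  by_contra hcon
  push Not at hcon
  have h1 : (1 : F) + 1 = 0 := by
    have := hcon 1
    rwa [map_one] at this
  apply frob_F_ne_id (F := F) hq hF
  apply RingHom.ext
  intro c
  rw [RingHom.id_apply]
  have h2 := hcon c
  have h3 : c + c = 0 := by
    have : c + c = c * (1 + 1) := by ring
    rw [this, h1, mul_zero]
  have h4 : frob F p f c - c = 0 := by
    linear_combination h2 - h3
  exact sub_eq_zero.1 h4

theorem two_le_q (hF : Fintype.card F = q ^ 2) : 2 ≤ q := by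
  have h1 : 1 < Fintype.card F := Fintype.one_lt_card
  rw [hF] at h1
  by_contra h
  push Not at h
  interval_cases q <;> simp at h1

end fin

end URSP

section layerU

variable {F : Type*} [Field F] [Fintype F] {p : ℕ} [Fact p.Prime] [CharP F p] {f q : ℕ}

/-- URSP -/
theorem exists_orderOf_pow_mul (hq : q = p ^ f) (hF : Fintype.card F = q ^ 2) {n : ℕ} (hn : 2 ≤ n)
    (r : ℕ) (hr : r.Prime) (hrq : r ∣ q + 1) (hrn : ¬ r ∣ n) (k b : ℕ) (hb1 : 1 ≤ b)
    (hbn : b + 1 ≤ n) (hk : b ≤ p ^ k) (hk' : k = 0 ∨ p ^ (k - 1) < b) :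
    ∃ y : Cfsg.PSU n F q, orderOf y = p ^ k * r := by
  classical
  have hp : p.Prime := Fact.out
  have hσ : ∀ x : F, frob F p f x = x ^ q := fun x => by rw [frob_apply, hq]
  have hσ2 : ∀ x : F, frob F p f (frob F p f x) = x := frob_frob_F hq hF
  have hq2 : 2 ≤ q := URSP.two_le_q hF
  have hf0 : f ≠ 0 := by
    rintro rfl
    rw [pow_zero] at hq
    omega
  have hpq : p ∣ q := by
    rw [hq]
    exact dvd_pow_self p hf0
  have hrp : r ≠ p := by
    rintro rfl
    have : r ∣ 1 := (Nat.dvd_add_right hpq).1 hrq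
    exact hr.one_lt.ne' (Nat.dvd_one.1 this)
  have hcop : Nat.Coprime (p ^ k) r :=
    Nat.Coprime.pow_left k ((Nat.coprime_primes hp hr).2 (Ne.symm hrp))
  -- the forms
  obtain ⟨ε, hε0, hε⟩ := exists_eps (F := F) hq hF b
  have hH1 := isHerm_Hanti hq hF b ε hε0 hε
  have hH2 := isHerm_Hstd (F := F) hq hF (n - b)
  have hH := isHerm_Hsum hH1 hH2
  -- the unipotent part
  obtain ⟨θ, hθ⟩ := URSP.exists_theta (F := F) hq hF
  have hnil : IsNilpotent (Nsh F b) := ⟨b, (Nsh_pow_eq_zero_iff b b).2 le_rfl⟩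
  obtain ⟨u, w, hu, hwN, hw, huw⟩ :=
    exists_cayley hσ2 hH1 (Nsh F b) (Hanti_Nsh (frob F p f) b ε) hnil θ
  have hMpow : ∀ j : ℕ, ((θ + frob F p f θ) • (Nsh F b * w)) ^ j = 0 ↔ b ≤ j := by
    intro j
    rw [URSP.smul_mul_pow_eq_zero_iff (Nsh F b) w hwN hw _ hθ j, Nsh_pow_eq_zero_iff]
  have hu1 : ∀ j : ℕ, u ^ j = 1 ↔ p ^ k ∣ j := by
    intro j
    rw [huw]
    exact one_add_pow_eq_one_iff _ b k hMpow hb1 hk hk' j
  have hMnil : IsNilpotent ((θ + frob F p f θ) • (Nsh F b * w)) := ⟨b, (hMpow b).2 le_rfl⟩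
  have hdetu : LinearMap.det u = 1 := by
    rw [huw]
    exact det_one_add_nilpotent _ hMnil
  -- the scalars
  have hrq2 : r ∣ Fintype.card F - 1 := by
    rw [hF]
    have : q ^ 2 - 1 = (q + 1) * (q - 1) := by
      obtain ⟨c, rfl⟩ : ∃ c, q = c + 1 := ⟨q - 1, by omega⟩
      have : (c + 1) ^ 2 = (c + 1 + 1) * c + 1 := by ring
      rw [this]
      simp
    rw [this]
    exact Dvd.dvd.mul_right hrq _
  obtain ⟨ρ, hρ⟩ := Cfsg.Agent.S2510P.exists_orderOf_eq (F := F) r hr hrq2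
  have hρr : ρ ^ r = 1 := by rw [← hρ]; exact pow_orderOf_eq_one ρ
  have hρq : ρ ^ (q + 1) = 1 := by
    obtain ⟨c, hc⟩ := hrq
    rw [hc, pow_mul, hρr, one_pow]
  set lam : Fˣ := ρ ^ (n - b) with hlam
  set mu : Fˣ := ρ⁻¹ ^ b with hmu
  have hlamq : (lam : F) * frob F p f (lam : F) = 1 := by
    rw [hσ, ← pow_succ', ← Units.val_pow_eq_pow_val, hlam, ← pow_mul, mul_comm, pow_mul, hρq, one_pow]
    rfl
  have hmuq : (mu : F) * frob F p f (mu : F) = 1 := by
    rw [hσ, ← pow_succ', ← Units.val_pow_eq_pow_val, hmu, ← pow_mul, mul_comm, pow_mul, inv_pow, hρq,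
      inv_one, one_pow]
    rfl
  set X : ((Fin b → F) × (Fin (n - b) → F)) →ₗ[F] ((Fin b → F) × (Fin (n - b) → F)) :=
    ((lam : F) • u).prodMap ((mu : F) • (1 : (Fin (n - b) → F) →ₗ[F] (Fin (n - b) → F))) with hX
  have hX1 : ∀ x y, Hanti (frob F p f) b ε (((lam : F) • u) x) (((lam : F) • u) y)
      = Hanti (frob F p f) b ε x y := by
    intro x y
    rw [LinearMap.smul_apply, LinearMap.smul_apply, hH1.smul_left, BASIS.smul_right hq hF hH1, hu,
      ← mul_assoc, hlamq, one_mul]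
  have hX2 : ∀ x y, Hstd F q (n - b) (((mu : F) • (1 : (Fin (n - b) → F) →ₗ[F] (Fin (n - b) → F))) x)
      (((mu : F) • (1 : (Fin (n - b) → F) →ₗ[F] (Fin (n - b) → F))) y) = Hstd F q (n - b) x y := by
    intro x y
    rw [LinearMap.smul_apply, LinearMap.smul_apply, hH2.smul_left, BASIS.smul_right hq hF hH2,
      Module.End.one_apply, Module.End.one_apply, ← mul_assoc, hmuq, one_mul]
  have hXiso : ∀ x y, Hsum (Hanti (frob F p f) b ε) (Hstd F q (n - b)) (X x) (X y)
      = Hsum (Hanti (frob F p f) b ε) (Hstd F q (n - b)) x y :=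
    Hsum_prodMap _ _ hX1 hX2
  have hdim : Module.finrank F ((Fin b → F) × (Fin (n - b) → F)) = n := by
    rw [Module.finrank_prod, Module.finrank_fin_fun, Module.finrank_fin_fun]
    omega
  have hdetX : LinearMap.det X = 1 := by
    rw [hX, LinearMap.det_prodMap, LinearMap.det_smul, LinearMap.det_smul, hdetu, map_one,
      Module.finrank_fin_fun, Module.finrank_fin_fun, mul_one, mul_one, ← Units.val_pow_eq_pow_val,
      ← Units.val_pow_eq_pow_val, ← Units.val_mul, hlam, hmu, ← pow_mul, ← pow_mul, inv_pow,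
      mul_comm b (n - b), mul_inv_cancel, Units.val_one]
  -- fixed vector of u
  have hb0 : 0 < b := hb1
  set v₀ : Fin b → F := Pi.single ⟨0, hb0⟩ 1 with hv₀
  have hv₀0 : v₀ ≠ 0 := by
    intro h
    have := congrFun h ⟨0, hb0⟩
    rw [hv₀, Pi.single_eq_same, Pi.zero_apply] at this
    exact one_ne_zero this
  have hNv₀ : Nsh F b v₀ = 0 := by
    ext i
    rw [Nsh_apply, Pi.zero_apply]
    split_ifs with h
    · rw [hv₀, Pi.single_apply, if_neg]
      intro h2
      have := congrArg Fin.val h2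
      simp at this
    · rfl
  have hfix : u v₀ = v₀ := by
    rw [huw, LinearMap.add_apply, Module.End.one_apply, LinearMap.smul_apply, ← hwN.eq,
      Module.End.mul_apply, hNv₀, map_zero, smul_zero, add_zero]
  have hnb : 0 < n - b := by omega
  set w₀ : Fin (n - b) → F := Pi.single ⟨0, hnb⟩ 1 with hw₀
  have hw₀0 : w₀ ≠ 0 := by
    intro h
    have := congrFun h ⟨0, hnb⟩
    rw [hw₀, Pi.single_eq_same, Pi.zero_apply] at this
    exact one_ne_zero this
  have hlm : ∀ j : ℕ, (lam : F) ^ j = (mu : F) ^ j ↔ r ∣ j := by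
    intro j
    rw [← Units.val_pow_eq_pow_val, ← Units.val_pow_eq_pow_val, Units.val_inj]
    have h1 : lam ^ j = mu ^ j ↔ ρ ^ (n * j) = 1 := by
      rw [hlam, hmu, ← pow_mul, ← pow_mul, inv_pow, eq_inv_iff_mul_eq_one, ← pow_add, ← add_mul]
      have : n - b + b = n := by omega
      rw [this]
    rw [h1, ← orderOf_dvd_iff_pow_eq_one, hρ]
    constructor
    · intro h
      rcases (Nat.Prime.dvd_mul hr).1 h with h | h
      · exact absurd h hrn
      · exact h
    · intro h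
      exact Dvd.dvd.mul_left h _
  have hord : ∀ j : ℕ, (∃ c : F, X ^ j = c • (1 : _ →ₗ[F] _)) ↔ p ^ k * r ∣ j := by
    intro j
    rw [hX, prodMap_pow_scalar_iff u v₀ hv₀0 hfix w₀ hw₀0 (lam : F) (mu : F) lam.ne_zero j, hu1, hlm]
    constructor
    · rintro ⟨h1, h2⟩
      exact hcop.mul_dvd_of_dvd_of_dvd h1 h2
    · intro h
      exact ⟨dvd_trans (Dvd.intro _ rfl) h, dvd_trans (Dvd.intro_left _ rfl) h⟩
  exact exists_psu_orderOf hq hF hn hdim hH X hXiso hdetX (p ^ k * r)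
    (Nat.mul_pos (pow_pos hp.pos k) hr.pos) hord

end layerU

end Cfsg.Agent.S2511P
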