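import Mathlib
import Cfsg.Prelude.Def_Classical
import Cfsg.Agent.Helper13.S2511Defs
import Cfsg.Agent.Helper13.S2511Lib
import Cfsg.Agent.Helper13.S2511Frame
import Cfsg.Agent.Helper19.S2511MKPOWU
import Cfsg.Agent.Helper19.S2511SPLITU
import Cfsg.Agent.Helper10.S2511IDEMU
import Cfsg.Agent.Helper10.S2511TWISTU
import Cfsg.Agent.Helper1.S2511SHAPE
import Cfsg.Agent.Helper10.S2511SINGDVDU
import Cfsg.Agent.Helper18.S2511SUNUM
import Cfsg.Agent.Helper20.S2511TOREVEN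
import Cfsg.Agent.Helper13.S2511TORODDB
import Cfsg.Agent.Helper13.S2511URSP
import Cfsg.Agent.S2495
import Cfsg.Agent.Helper10.S2510BADLOW
import Cfsg.Agent.Helper10.S2510BADUP
import Cfsg.Agent.Helper29.S2263Upper

/-! S2511 (driver helper13): assembly: the dichotomy good/bad for `PSU_n(q)` and the main theorem. -/

set_option autoImplicit false

namespace Cfsg.Agent.S2511P

open Polynomial Matrix
open Cfsg.Agent.S2263P Cfsg.Agent.S2264P Cfsg.Agent.S2496P

section dich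

variable {F : Type*} [Field F] [Fintype F] {n q : ℕ}

/-- GOODU: an element whose minimal polynomial has two `dag`-orbits of factors is good -/
theorem good_of_not_single (hF : Fintype.card F = q ^ 2) (σ : F ≃+* F) (hσ : ∀ x, σ x = x ^ q)
    (hσ2 : ∀ x, σ (σ x) = x) (hn : 2 ≤ n) (r : ℕ) (hr : r.Prime) (hrq : r ∣ q + 1) (hrn : ¬ r ∣ n)
    (A : ↥(Cfsg.SU n F q)) (hns : ¬ Single σ (minpoly F (mat A)))
    (hrA : ¬ r ∣ orderOf (QuotientGroup.mk A : Cfsg.PSU n F q)) :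
    ∃ x' : Cfsg.PSU n F q, orderOf x' = r * orderOf (QuotientGroup.mk A : Cfsg.PSU n F q) := by
  obtain ⟨hμ, -, -⟩ := minpoly_SU hF σ hσ (by omega) A
  obtain ⟨g, h, hg, hh, hgh, hμe, hdg, hdh⟩ := exists_split σ hσ2 hμ hns
  have hA := mat_unitary (σ : F →+* F) hσ A
  obtain ⟨P, Q, h1, h2, h3, h4, h5, h6, h7, h8, h9⟩ :=
    exists_idem_unitary σ hσ2 (mat A) hA g h hg hh hgh hμe hdg hdh
  obtain ⟨t, ht1, ht2, ht3⟩ :=
    exists_twist_unitary hF σ hσ hn r hr hrq hrn A P Q h1 h2 h3 h4 h5 h6 h7 h8 h9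
  exact ⟨QuotientGroup.mk (t * A), orderOf_mk_twist_mul r hr A t ht1 ht2 ht3 hrA⟩

variable {p : ℕ} [Fact p.Prime] [CharP F p]

/-- BADU: an element whose minimal polynomial has a single `dag`-orbit of factors is bad -/
theorem bad_of_single (hF : Fintype.card F = q ^ 2) (σ : F ≃+* F) (hσ : ∀ x, σ x = x ^ q)
    (hσ2 : ∀ x, σ (σ x) = x) (hn : 2 ≤ n) (A : ↥(Cfsg.SU n F q))
    (hs : Single σ (minpoly F (mat A))) :
    ∃ k : ℕ, (k = 0 ∨ p ^ (k - 1) < n) ∧
      p ^ k ∣ orderOf (QuotientGroup.mk A : Cfsg.PSU n F q) ∧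
      orderOf (QuotientGroup.mk A : Cfsg.PSU n F q) ∣ p ^ k * suNum q n := by
  have hp : p.Prime := Fact.out
  obtain ⟨hμ, hdeg, hdeg1⟩ := minpoly_SU hF σ hσ (by omega) A
  obtain ⟨φ, e, hm, hirr, h0, he, hshape⟩ := single_shape σ hσ2 hμ hdeg1 hs
  have hφd : 1 ≤ φ.natDegree := hirr.natDegree_pos
  -- `φ ^ e` divides the minimal polynomial, and `e ≤ n`
  have hdvdμ : φ ^ e ∣ minpoly F (mat A) := by
    rcases hshape with ⟨-, h⟩ | ⟨-, -, -, h⟩
    · rw [h]
    · rw [h, mul_pow]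
      exact dvd_mul_right _ _
  have hen : e ≤ n := by
    have h1 : (φ ^ e).natDegree ≤ (minpoly F (mat A)).natDegree :=
      Polynomial.natDegree_le_of_dvd hdvdμ hμ.monic.ne_zero
    rw [Polynomial.natDegree_pow] at h1
    calc e = e * 1 := (mul_one e).symm
      _ ≤ e * φ.natDegree := Nat.mul_le_mul_left e hφd
      _ ≤ n := h1.trans hdeg
  refine ⟨Nat.clog p e, ?_, ?_, ?_⟩
  · rcases Nat.lt_or_ge 1 e with he1 | he1
    · right
      have h1 := Nat.pow_pred_clog_lt_self hp.one_lt he1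
      rw [Nat.pred_eq_sub_one] at h1
      omega
    · left
      have : e = 1 := by omega
      rw [this, Nat.clog_one_right]
  · obtain ⟨c, hc, hdvd⟩ := (mk_pow_eq_one_iff_dvd hF hn A _).1
      (pow_orderOf_eq_one (QuotientGroup.mk A : Cfsg.PSU n F q))
    exact Cfsg.Agent.S2510P.clog_dvd_of_pow_dvd hp φ hirr e _ he c hc (dvd_trans hdvdμ hdvd)
  · apply orderOf_dvd_of_pow_eq_one
    rw [mk_pow_eq_one_iff_dvd hF hn]
    have hμ' : (dag σ φ = φ ∧ minpoly F (mat A) = φ ^ e) ∨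
        (dag σ φ ≠ φ ∧ minpoly F (mat A) = (φ * dag σ φ) ^ e) := by
      rcases hshape with ⟨h1, h2⟩ | ⟨h1, -, -, h2⟩
      · exact Or.inl ⟨h1, h2⟩
      · exact Or.inr ⟨h1, h2⟩
    obtain ⟨c, hc, hd1, hd2⟩ := dvd_X_pow_suNum hF σ hσ hσ2 (by omega) A φ hm hirr h0 e he hμ'
    refine ⟨c ^ p ^ Nat.clog p e, pow_ne_zero _ hc, ?_⟩
    have hle := Nat.le_pow_clog hp.one_lt e
    have e1 := Cfsg.Agent.S2510P.pow_dvd_of_dvd hp φ e _ _ c hle hd1
    rcases hshape with ⟨-, h2⟩ | ⟨hne, hdm, hdirr, h2⟩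
    · rw [h2]
      exact e1
    · have e2 := Cfsg.Agent.S2510P.pow_dvd_of_dvd hp (dag σ φ) e _ _ c hle hd2
      rw [h2, mul_pow]
      have hcop : IsCoprime φ (dag σ φ) := by
        apply (hirr.coprime_iff_not_dvd).2
        intro hdvd
        have := (hirr.associated_of_dvd hdirr hdvd)
        exact hne (eq_of_monic_of_associated hdm hm this.symm)
      exact (hcop.pow).mul_dvd e1 e2

end dich

section main

variable {F : Type*} [Field F] [Fintype F]

instance instFinitePSU (n q : ℕ) : Finite (Cfsg.PSU n F q) := by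
  unfold Cfsg.PSU
  infer_instance

/-- the statement of S2511 -/
theorem main (p a n q r m : ℕ) (hp : p.Prime) (ha : 1 ≤ a) (hq : q = p ^ a)
    (hF : Fintype.card F = q ^ 2) (hn : 3 ≤ n) (hr : r.Prime) (hrq : r ∣ q + 1) (hrn : ¬ r ∣ n) :
    Set.range (orderOf : Cfsg.PSU n F q × Cfsg.PSU n F q × Cfsg.PSU n F q ×
        Multiplicative (Fin m → ZMod r) → ℕ) =
      Set.range (orderOf : Cfsg.PSU n F q × Cfsg.PSU n F q × Cfsg.PSU n F q → ℕ) ∧
    ((¬ ∃ j : ℕ, n - 1 = p ^ j) →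
      Set.range (orderOf : Cfsg.PSU n F q × Cfsg.PSU n F q ×
          Multiplicative (Fin m → ZMod r) → ℕ) =
        Set.range (orderOf : Cfsg.PSU n F q × Cfsg.PSU n F q → ℕ)) := by
  haveI : Fact p.Prime := ⟨hp⟩
  haveI : CharP F p := charP_of_card hq ha hF
  obtain ⟨σ, hσ, hσ2⟩ := exists_sigma hq ha hF
  have hpr : p ≠ r := by
    rintro rfl
    have h1 : p ∣ q := by rw [hq]; exact dvd_pow_self p (by omega)
    have h3 : p ∣ q + 1 - q := Nat.dvd_sub hrq h1
    have h4 : q + 1 - q = 1 := by omega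
    rw [h4] at h3
    exact hp.one_lt.ne' (Nat.dvd_one.1 h3)
  have hn2 : 2 ≤ n := by omega
  refine frame (L := Cfsg.PSU n F q) (p := p) (n := n) (r := r) (S := suNum q n) m hp hr hpr hn2
    (coprime_suNum hp a ha hq n (by omega)) ?_ ?_ ?_
  · intro x hrx
    obtain ⟨A, rfl⟩ := QuotientGroup.mk_surjective x
    by_cases hs : Single σ (minpoly F (mat A))
    · exact Or.inr (bad_of_single hF σ hσ hσ2 hn2 A hs)
    · exact Or.inl (good_of_not_single hF σ hσ hσ2 hn2 r hr hrq hrn A hs hrx)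
  · rcases Nat.even_or_odd n with he | ho
    · exact exists_torus_even hq hF hn2 he
    · exact exists_torus_odd hq hF hn ho
  · intro k b hb1 hbn hk hk'
    exact exists_orderOf_pow_mul hq hF hn2 r hr hrq hrn k b hb1 hbn hk hk'

end main

end Cfsg.Agent.S2511P
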