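import Mathlib
import Cfsg.Prelude.Def_Solvable
import Cfsg.Agent.Lead.S2553Defs

set_option autoImplicit false

/-! S2553 piece CENSUS, arithmetic core: the possible orders of a non-abelian simple subgroup of
`A₈`, from the numerical information (no group theory in this file). -/

namespace Cfsg.Agent.S2553P

namespace CENSUS

/-- the arithmetic core of CENSUS -/
theorem core (n : ℕ) (hdvd : n ∣ 20160) (hidx : n = 20160 ∨ 8 * n ≤ 20160)
    (hsmall : n ≤ 1092 → n = 60 ∨ n = 168 ∨ n = 360 ∨ n = 504 ∨ n = 660 ∨ n = 1092)
    (h7 : 7 ∣ n → 21 ∣ n ∧ (n / 21) % 7 = 1)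
    (h5 : 5 ∣ n → ∃ a : ℕ, (a = 10 ∨ a = 20 ∨ a = 30 ∨ a = 60) ∧ a ∣ n ∧ (n / a) % 5 = 1)
    (h1344 : n ≠ 1344) :
    n = 60 ∨ n = 168 ∨ n = 360 ∨ n = 2520 ∨ n = 20160 := by
  rcases hidx with h | hidx
  · right; right; right; right; exact h
  by_cases hle : n ≤ 1092
  · rcases hsmall hle with h | h | h | h | h | h
    · left; exact h
    · right; left; exact h
    · right; right; left; exact h
    · exfalso
      subst h
      have := h7 (by norm_num)
      omega
    · exfalso
      subst h
      omega
    · exfalso
      subst h
      omega
  · obtain ⟨k, hk⟩ := hdvd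
    have hk1 : 8 ≤ k := by
      by_contra hcon
      have h1 : k ≤ 7 := by omega
      have h2 : n * k ≤ 2520 * 7 := Nat.mul_le_mul (by omega) h1
      omega
    have hk2 : k ≤ 18 := by
      by_contra hcon
      have h1 : 19 ≤ k := by omega
      have h2 : 1093 * 19 ≤ n * k := Nat.mul_le_mul (by omega) h1
      omega
    interval_cases k
    · -- 2520
      right; right; right; left; omega
    · -- 2240
      exfalso
      have hn : n = 2240 := by omega
      subst hn
      have := h7 (by norm_num)
      omega
    · -- 2016
      exfalso
      have hn : n = 2016 := by omega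
      subst hn
      have := h7 (by norm_num)
      omega
    · exfalso; omega
    · -- 1680
      exfalso
      have hn : n = 1680 := by omega
      subst hn
      have := h7 (by norm_num)
      omega
    · exfalso; omega
    · -- 1440
      exfalso
      have hn : n = 1440 := by omega
      subst hn
      obtain ⟨a, ha, _, hmod⟩ := h5 (by norm_num)
      rcases ha with rfl | rfl | rfl | rfl <;> omega
    · -- 1344
      exfalso
      exact h1344 (by omega)
    · -- 1260
      exfalso
      have hn : n = 1260 := by omega
      subst hn
      have := h7 (by norm_num)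
      omega
    · exfalso; omega
    · -- 1120
      exfalso
      have hn : n = 1120 := by omega
      subst hn
      have := h7 (by norm_num)
      omega

end CENSUS

end Cfsg.Agent.S2553P
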