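import Mathlib
import Cfsg.Prelude.Def_Characters
import Cfsg.Prelude.Def_Blocks
import Cfsg.Agent.Helper24.Abelian
import Cfsg.Agent.Helper24.Linear
import Cfsg.Agent.Helper1.W2pDefs
import Cfsg.Agent.Lead.S4705Defs

set_option autoImplicit false

namespace Cfsg.Agent.Helper13.S4705INV

variable {G : Type*} [Group G]

/-- an element `t` normalizing `P` (of prime order `p`, abelian), with `t²` central and
`t ∉ C(P)`, inverts `P`. -/
theorem inverts_of_sq_central [Finite G] (p : ℕ) [Fact p.Prime] (P : Subgroup G)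
    (hP : Nat.card ↥P = p)
    (hab : ∀ a ∈ P, ∀ b ∈ P, a * b = b * a) (t : G)
    (htN : ∀ y ∈ P, t * y * t⁻¹ ∈ P) (ht2 : t ^ 2 ∈ Subgroup.center G)
    (htC : t ∉ Subgroup.centralizer (P : Set G)) :
    ∀ y ∈ P, t * y * t⁻¹ = y⁻¹ := by
  intro y hy
  set w : G := y * (t * y * t⁻¹) with hw
  have hwP : w ∈ P := P.mul_mem hy (htN y hy)
  have ht2c : ∀ g : G, t ^ 2 * g = g * t ^ 2 := fun g =>
    ((Subgroup.mem_center_iff.mp ht2) g).symm
  have hconj2 : t * (t * y * t⁻¹) * t⁻¹ = y := by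
    have e : t * (t * y * t⁻¹) * t⁻¹ = t ^ 2 * y * (t ^ 2)⁻¹ := by
      rw [pow_two]; group
    rw [e, ht2c y]
    group
  have hfix : t * w * t⁻¹ = w := by
    have e : t * w * t⁻¹ = (t * y * t⁻¹) * (t * (t * y * t⁻¹) * t⁻¹) := by
      rw [hw]; group
    rw [e, hconj2, hw]
    exact hab _ (htN y hy) _ hy
  by_cases hw1 : w = 1
  · -- `y * (t y t⁻¹) = 1`
    have : t * y * t⁻¹ = y⁻¹ * w := by rw [hw]; group
    rw [this, hw1, mul_one]
  · exfalso
    apply htC
    rw [Subgroup.mem_centralizer_iff]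
    intro y' hy'
    -- `y'` is a power of `w`
    have hne : (⟨w, hwP⟩ : ↥P) ≠ 1 := by
      intro h
      apply hw1
      exact congrArg Subtype.val h
    have hmem : (⟨y', hy'⟩ : ↥P) ∈ Subgroup.zpowers (⟨w, hwP⟩ : ↥P) :=
      mem_zpowers_of_prime_card hP hne
    obtain ⟨k, hk⟩ := Subgroup.mem_zpowers_iff.mp hmem
    have hk' : w ^ k = y' := by
      have := congrArg Subtype.val hk
      simpa using this
    have hcw : Commute t w := by
      have : t * w = w * t := by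
        have e : t * w = (t * w * t⁻¹) * t := by group
        rw [e, hfix]
      exact this
    have : Commute t y' := by
      rw [← hk']
      exact hcw.zpow_right k
    exact this.eq.symm

/-- for `t` inverting the element `y` with `y ^ p = 1`, `p` odd: `t * y` is conjugate to `t` by an
element of `⟨y⟩`. -/
theorem conj_of_inverts (p : ℕ) (hodd : Odd p) (t y : G) (hy : y ^ p = 1)
    (hinv : t * y * t⁻¹ = y⁻¹) :
    (y ^ ((p - 1) / 2)) * t * (y ^ ((p - 1) / 2))⁻¹ = t * y := by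
  obtain ⟨j, hj⟩ := hodd
  have hj' : (p - 1) / 2 = j := by omega
  rw [hj']
  -- `t * y^j * t⁻¹ = (y^j)⁻¹`
  have h1 : t * y ^ j * t⁻¹ = (y ^ j)⁻¹ := by
    have : t * y ^ j * t⁻¹ = (t * y * t⁻¹) ^ j := by
      rw [conj_pow]
    rw [this, hinv, inv_pow]
  have h2 : y ^ j * t = t * (y ^ j)⁻¹ := by
    have : t * (y ^ j)⁻¹ * t⁻¹ = y ^ j := by
      have e : t * (y ^ j)⁻¹ * t⁻¹ = (t * y ^ j * t⁻¹)⁻¹ := by group
      rw [e, h1, inv_inv]
    have e2 : t * (y ^ j)⁻¹ = (t * (y ^ j)⁻¹ * t⁻¹) * t := by group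
    rw [e2, this]
  rw [h2]
  have h3 : (y ^ j)⁻¹ * (y ^ j)⁻¹ = y := by
    have : y ^ j * y ^ j * y = y ^ p := by
      rw [hj, ← pow_add, ← pow_succ]
      congr 1
      omega
    rw [hy] at this
    have e : (y ^ j)⁻¹ * (y ^ j)⁻¹ = (y ^ j * y ^ j)⁻¹ := by group
    rw [e]
    exact inv_eq_of_mul_eq_one_right this
  rw [mul_assoc, h3]

end Cfsg.Agent.Helper13.S4705INV

namespace Cfsg.Agent.S4705P

open Cfsg Cfsg.Agent.Helper24 Cfsg.Agent.Helper1.W2p
open scoped ComplexConjugate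

universe u

variable {G : Type u} [Group G] [Finite G]

theorem exists_inverting (p : ℕ) [Fact p.Prime] (hp2 : p ≠ 2) (P : Sylow p G) (hP : Nat.card P = p)
    (hC : Subgroup.centralizer ((P : Subgroup G) : Set G) = (P : Subgroup G) ⊔ Subgroup.center G)
    (hN : (Subgroup.centralizer ((P : Subgroup G) : Set G)).relIndex
      (Subgroup.normalizer ((P : Subgroup G) : Set G)) = 2) :
    ∃ t : G, t ∈ Subgroup.normalizer ((P : Subgroup G) : Set G) ∧
      t ∉ Subgroup.centralizer ((P : Subgroup G) : Set G) ∧ ¬ p ∣ orderOf t ∧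
      t ^ 2 ∈ Subgroup.center G ∧ (∀ y ∈ (P : Subgroup G), t * y * t⁻¹ = y⁻¹) ∧
      (∀ y ∈ (P : Subgroup G), IsConj t (t * y)) ∧
      (∀ n ∈ Subgroup.normalizer ((P : Subgroup G) : Set G),
        n ∉ Subgroup.centralizer ((P : Subgroup G) : Set G) →
        ∃ y ∈ (P : Subgroup G), ∃ z ∈ Subgroup.center G, n = y * t * y⁻¹ * z) := by
  have hp : p.Prime := Fact.out
  have hodd : Odd p := hp.odd_of_ne_two hp2
  set N := Subgroup.normalizer ((P : Subgroup G) : Set G) with hNdef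
  set C := Subgroup.centralizer ((P : Subgroup G) : Set G) with hCdef
  have hCN : C ≤ N := Subgroup.centralizer_le_normalizer _
  have hPC : (P : Subgroup G) ≤ C := by rw [hC]; exact le_sup_left
  have hZC : Subgroup.center G ≤ C := by rw [hC]; exact le_sup_right
  have hab : ∀ a ∈ (P : Subgroup G), ∀ b ∈ (P : Subgroup G), a * b = b * a := by
    intro a ha b hb
    have := Subgroup.mem_centralizer_iff.mp (hPC hb) a ha
    exact this
  have hPcard : Nat.card ↥(P : Subgroup G) = p := hP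
  have hpow : ∀ y ∈ (P : Subgroup G), y ^ p = 1 := by
    intro y hy
    have h1 : (⟨y, hy⟩ : ↥(P : Subgroup G)) ^ Nat.card ↥(P : Subgroup G) = 1 := pow_card_eq_one'
    rw [hPcard] at h1
    exact congrArg Subtype.val h1
  -- index two inside `N`
  have hidx : (C.subgroupOf N).index = 2 := hN
  have hmul : ∀ a ∈ N, ∀ b ∈ N, (a * b ∈ C ↔ (a ∈ C ↔ b ∈ C)) := by
    intro a ha b hb
    have := Subgroup.mul_mem_iff_of_index_two hidx (a := (⟨a, ha⟩ : ↥N)) (b := ⟨b, hb⟩)
    simpa [Subgroup.mem_subgroupOf] using this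
  -- `P ∩ Z = 1`
  have hPZ : ∀ y ∈ (P : Subgroup G), y ∈ Subgroup.center G → y = 1 := by
    intro y hy hyz
    by_contra hy1
    have hPle : (P : Subgroup G) ≤ Subgroup.center G := by
      intro y' hy'
      have hne : (⟨y, hy⟩ : ↥(P : Subgroup G)) ≠ 1 := by
        intro h
        exact hy1 (congrArg Subtype.val h)
      have hmem : (⟨y', hy'⟩ : ↥(P : Subgroup G)) ∈ Subgroup.zpowers (⟨y, hy⟩ : ↥(P : Subgroup G)) :=
        mem_zpowers_of_prime_card hPcard hne
      obtain ⟨k, hk⟩ := Subgroup.mem_zpowers_iff.mp hmem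
      have hk' : y ^ k = y' := by
        have := congrArg Subtype.val hk
        simpa using this
      rw [← hk']
      exact Subgroup.zpow_mem _ hyz k
    have htop : C = ⊤ := Subgroup.centralizer_eq_top_iff_subset.mpr hPle
    have : C.relIndex N = 1 := by
      rw [Subgroup.relIndex_eq_one, htop]
      exact le_top
    rw [this] at hN
    omega
  -- an element of `N ∖ C`
  obtain ⟨n₀, hn₀N, hn₀C⟩ : ∃ n₀ ∈ N, n₀ ∉ C := by
    by_contra hcon
    have hle : N ≤ C := by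
      intro n hn
      by_contra hnC
      exact hcon ⟨n, hn, hnC⟩
    have : C.relIndex N = 1 := Subgroup.relIndex_eq_one.mpr hle
    rw [this] at hN
    omega
  have ho0 : orderOf n₀ ≠ 0 := (orderOf_pos n₀).ne'
  obtain ⟨a, m, hmodd, hom⟩ := Nat.exists_eq_two_pow_mul_odd ho0
  set t : G := n₀ ^ m with ht
  have htN : t ∈ N := Subgroup.pow_mem _ hn₀N m
  have hn₀sq : n₀ ^ 2 ∈ C := by
    rw [pow_two]
    exact (hmul n₀ hn₀N n₀ hn₀N).mpr Iff.rfl
  have htC : t ∉ C := by
    intro h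
    obtain ⟨j, hj⟩ := hmodd
    apply hn₀C
    have e : n₀ = ((n₀ ^ 2) ^ j)⁻¹ * t := by
      rw [ht, hj, pow_succ n₀ (2 * j), pow_mul, inv_mul_cancel_left]
    rw [e]
    exact C.mul_mem (C.inv_mem (C.pow_mem hn₀sq j)) h
  have hm0 : m ≠ 0 := by
    rintro rfl
    exact (Nat.not_odd_iff_even.mpr (by decide : Even 0)) hmodd
  have hto : orderOf t = 2 ^ a := by
    rw [ht, orderOf_pow_of_dvd hm0 (by rw [hom]; exact Dvd.intro_left _ rfl), hom]
    exact Nat.mul_div_cancel _ (Nat.pos_of_ne_zero hm0)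
  have hpt : ¬ p ∣ orderOf t := by
    rw [hto]
    intro hd
    have := hp.dvd_of_dvd_pow hd
    exact hp2 ((Nat.prime_dvd_prime_iff_eq hp Nat.prime_two).mp this)
  -- `t²` is central
  have ht2C : t ^ 2 ∈ C := by
    rw [pow_two]
    exact (hmul t htN t htN).mpr Iff.rfl
  have ht2 : t ^ 2 ∈ Subgroup.center G := by
    rw [hC] at ht2C
    obtain ⟨y, hy, z, hz, hyz⟩ := Subgroup.mem_sup_of_normal_right.mp ht2C
    have hcomm : Commute y z := ((Subgroup.mem_center_iff.mp hz) y)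
    have h1 : (t ^ 2) ^ (2 ^ a) = 1 := by
      rw [← pow_mul, mul_comm, pow_mul, ← hto, pow_orderOf_eq_one, one_pow]
    rw [← hyz, hcomm.mul_pow] at h1
    have hyz' : y ^ (2 ^ a) = (z ^ (2 ^ a))⁻¹ := eq_inv_of_mul_eq_one_left h1
    have hy1 : y ^ (2 ^ a) = 1 := by
      apply hPZ _ (Subgroup.pow_mem _ hy _)
      rw [hyz']
      exact Subgroup.inv_mem _ (Subgroup.pow_mem _ hz _)
    have hyone : y = 1 := by
      have hd1 : orderOf y ∣ 2 ^ a := orderOf_dvd_of_pow_eq_one hy1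
      have hd2 : orderOf y ∣ p := orderOf_dvd_of_pow_eq_one (hpow y hy)
      have hcop : Nat.Coprime (2 ^ a) p := by
        apply Nat.Coprime.pow_left
        rw [Nat.coprime_primes Nat.prime_two hp]
        exact fun h => hp2 h.symm
      have : orderOf y ∣ 1 := by
        have := Nat.dvd_gcd hd1 hd2
        rwa [hcop] at this
      exact orderOf_eq_one_iff.mp (Nat.dvd_one.mp this)
    rw [← hyz, hyone, one_mul]
    exact hz
  have htnorm : ∀ y ∈ (P : Subgroup G), t * y * t⁻¹ ∈ (P : Subgroup G) := by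
    intro y hy
    exact (Subgroup.mem_normalizer_iff.mp htN y).mp hy
  have hinv : ∀ y ∈ (P : Subgroup G), t * y * t⁻¹ = y⁻¹ :=
    Cfsg.Agent.Helper13.S4705INV.inverts_of_sq_central p (P : Subgroup G) hPcard hab t htnorm ht2 htC
  have hconj : ∀ y ∈ (P : Subgroup G), ∃ u ∈ (P : Subgroup G), u * t * u⁻¹ = t * y := by
    intro y hy
    exact ⟨y ^ ((p - 1) / 2), Subgroup.pow_mem _ hy _,
      Cfsg.Agent.Helper13.S4705INV.conj_of_inverts p hodd t y (hpow y hy) (hinv y hy)⟩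
  refine ⟨t, htN, htC, hpt, ht2, hinv, ?_, ?_⟩
  · intro y hy
    obtain ⟨u, _, hu⟩ := hconj y hy
    exact isConj_iff.mpr ⟨u, hu⟩
  · intro n hn hnC
    have htinvN : t⁻¹ ∈ N := N.inv_mem htN
    have htinvC : t⁻¹ ∉ C := fun h => htC (by simpa using C.inv_mem h)
    have hmem : t⁻¹ * n ∈ C := by
      rw [hmul t⁻¹ htinvN n hn]
      exact ⟨fun h => absurd h htinvC, fun h => absurd h hnC⟩
    rw [hC] at hmem
    obtain ⟨y₀, hy₀, z, hz, hyz⟩ := Subgroup.mem_sup_of_normal_right.mp hmem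
    obtain ⟨u, hu, hut⟩ := hconj y₀ hy₀
    refine ⟨u, hu, z, hz, ?_⟩
    rw [hut, mul_assoc, hyz]
    group

end Cfsg.Agent.S4705P
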