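import Mathlib
import Cfsg.Prelude.Def_Solvable
import Cfsg.Agent.Lead.S2553Defs
import Cfsg.Agent.S0998
import Cfsg.Agent.Helper18.CensusC

set_option autoImplicit false

/-! S2553 piece CENSUS, part b: there is no simple group of order 1344 (from S0998). -/

namespace Cfsg.Agent.S2553P

namespace CENSUS

theorem not_isCyclic {G : Type*} [Group G] (hna : ¬ IsMulCommutative G) : ¬ IsCyclic G := by
  intro hc
  apply hna
  apply IsMulCommutative.of_comm
  intro a b
  obtain ⟨g, hg⟩ := IsCyclic.exists_generator (α := G)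
  obtain ⟨m, rfl⟩ := Subgroup.mem_zpowers_iff.mp (hg a)
  obtain ⟨n, rfl⟩ := Subgroup.mem_zpowers_iff.mp (hg b)
  rw [← zpow_add, ← zpow_add, add_comm]

/-- no simple group of order 1344 -/
theorem card_ne_1344 {G : Type*} [Group G] [Finite G] [IsSimpleGroup G]
    (hna : ¬ IsMulCommutative G) : Nat.card G ≠ 1344 := by
  intro h
  rcases Cfsg.Agent.S0998.result (not_isCyclic hna) 3 2 7 6 (by norm_num) (by norm_num)
    (by norm_num) (by norm_num) (by norm_num) (by norm_num) (by rw [h]; norm_num) with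
    ⟨F, _, _, hF, ⟨e⟩⟩ | ⟨F, _, _, hF, ⟨e⟩⟩
  · have h1 := Cfsg.Agent.Helper18.Census.card_psl2_odd 5 hF (by norm_num) (by norm_num)
    have h2 := Nat.card_congr e.toEquiv
    omega
  · have h1 := Cfsg.Agent.Helper18.Census.card_psl2_odd 7 hF (by norm_num) (by norm_num)
    have h2 := Nat.card_congr e.toEquiv
    omega

end CENSUS

end Cfsg.Agent.S2553P
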