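import Mathlib
import Cfsg.Prelude.Def_Solvable
import Cfsg.Agent.Lead.S2553Defs
import Cfsg.Agent.Lead.S2553IDX
import Cfsg.Agent.Helper14.S2553C7
import Cfsg.Agent.Helper28.S2553C5
import Cfsg.Agent.S0496
import Cfsg.Agent.Helper13.S2553CENSUSa
import Cfsg.Agent.Helper13.S2553CENSUSb

set_option autoImplicit false

/-! S2553 piece CENSUS: the orders of the non-abelian simple subgroups of `A₈`. -/

namespace Cfsg.Agent.S2553P

/-- CENSUS: the orders of the non-abelian simple subgroups of `A₈` -/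
theorem card_of_simple (S : Subgroup Γ8) (hSA : S ≤ A8) (hs : IsSimpleGroup ↥S)
    (hna : ¬ IsMulCommutative ↥S) :
    Nat.card ↥S = 60 ∨ Nat.card ↥S = 168 ∨ Nat.card ↥S = 360 ∨ Nat.card ↥S = 2520 ∨
      Nat.card ↥S = 20160 := by
  apply CENSUS.core (Nat.card ↥S)
  · rw [← card_A8]; exact Subgroup.card_dvd_of_le hSA
  · by_cases h : S = A8
    · left; rw [h, card_A8]
    · right; exact card_le_of_ne S hSA h
  · intro hle; exact Cfsg.Agent.S0496.result hna hle
  · exact c7 S hSA hs hna
  · exact c5 S hSA hs hna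
  · exact CENSUS.card_ne_1344 hna

end Cfsg.Agent.S2553P
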