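import Mathlib
import Cfsg.Prelude.Def_Classical
import Cfsg.Agent.Helper13.S2558LDefs
import Cfsg.Agent.Helper7.OrthUni3
import Cfsg.Agent.Helper4.S5981STDEVEN

/-! S2558 chapter (L), pieces STDPLUS + STDMINUS (helper13): the Prelude forms `quadFormPlus`, `quadFormMinus` as
`QuadraticForm`s, with their discriminant classes. -/

set_option autoImplicit false

universe u

namespace Cfsg.Agent.S2558P.LOW

open Polynomial Cfsg.Agent.Helper7.OrthUni

namespace STD

variable {F : Type u} [Field F] [Fintype F]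

theorem two_ne_zero_of_odd (hodd : Odd (Fintype.card F)) : (2 : F) ≠ 0 := by
  apply Ring.two_ne_zero
  intro h
  rw [FiniteField.even_card_iff_char_two] at h
  rcases hodd with ⟨k, hk⟩
  omega

/-- in a finite field: the square class of a product of nonzero elements -/
theorem isSquare_mul_iff {x y : F} (hx : x ≠ 0) (hy : y ≠ 0) :
    IsSquare (x * y) ↔ (IsSquare x ↔ IsSquare y) := by
  classical
  rw [← quadraticChar_one_iff_isSquare (mul_ne_zero hx hy), ← quadraticChar_one_iff_isSquare hx,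
    ← quadraticChar_one_iff_isSquare hy, map_mul]
  rcases quadraticChar_dichotomy hx with h1 | h1 <;> rcases quadraticChar_dichotomy hy with h2 | h2 <;>
    rw [h1, h2] <;> decide

/-- from the square class of the Gram determinant to the statement of the pieces -/
theorem key (n : ℕ) {G : F} (hG : G ≠ 0) (d : F) (hd : d ≠ 0) :
    (IsSquare G ↔ IsSquare ((-1 : F) ^ n)) → (IsSquare (d * G) ↔ IsSquare ((-1) ^ n * d)) := by
  intro h
  have h1 : ((-1 : F) ^ n) ≠ 0 := pow_ne_zero _ (neg_ne_zero.2 one_ne_zero)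
  rw [isSquare_mul_iff hd hG, isSquare_mul_iff h1 hd, h]
  tauto

theorem key' (n : ℕ) {G : F} (hG : G ≠ 0) (d : F) (hd : d ≠ 0) :
    (IsSquare G ↔ ¬ IsSquare ((-1 : F) ^ n)) → (IsSquare (d * G) ↔ ¬ IsSquare ((-1) ^ n * d)) := by
  intro h
  have h1 : ((-1 : F) ^ n) ≠ 0 := pow_ne_zero _ (neg_ne_zero.2 one_ne_zero)
  rw [isSquare_mul_iff hd hG, isSquare_mul_iff h1 hd, h]
  tauto

end STD

section transport

variable {F : Type u} [Field F] [Fintype F]

open Cfsg.Agent.Helper2.Quad Cfsg.Agent.S5981P Cfsg.Agent.S5981P.STDEVEN in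
/-- STDPLUS -/
theorem std_plus (hodd : Odd (Fintype.card F)) (n : ℕ) (hn : 1 ≤ n) :
    ∃ Q₀ : QuadraticForm F (Fin n ⊕ Fin n → F), (∀ v, Q₀ v = Cfsg.quadFormPlus n F v) ∧
      (QuadraticMap.polarBilin Q₀).Nondegenerate ∧ (gram Q₀).det ≠ 0 ∧
      ∀ d : F, d ≠ 0 → (IsSquare (d * (gram Q₀).det) ↔ IsSquare ((-1) ^ n * d)) := by
  classical
  have h2 : (2 : F) ≠ 0 := STD.two_ne_zero_of_odd hodd
  have hpf : ∀ v, (plusModel F n).Q v = Cfsg.quadFormPlus n F v := by
    intro v; rw [quadFormPlus_eq]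
  have hp_nd : (QuadraticMap.polarBilin (plusModel F n).Q).Nondegenerate :=
    QFOF.nondeg_of_nonSing h2 _ (plusModel F n).nonSing
  have hdp := gram_det_ne_zero _ hp_nd
  have hsp : IsSquare (gram (plusModel F n).Q).det ↔ Even (n * (Fintype.card F - 1) / 2) := by
    rw [gram_det_eq _ _ hpf]
    exact Cfsg.Agent.S2620.result rfl hodd hn (Pi.basisFun F (Fin n ⊕ Fin n))
  refine ⟨(plusModel F n).Q, hpf, hp_nd, hdp, fun d hd => ?_⟩
  apply STD.key n hdp d hd
  rw [hsp, Cfsg.Agent.Helper13.isSquare_neg_one_pow_iff rfl hodd n]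

open Cfsg.Agent.Helper2.Quad Cfsg.Agent.S5981P Cfsg.Agent.S5981P.STDEVEN in
/-- STDMINUS -/
theorem std_minus (hodd : Odd (Fintype.card F)) (n : ℕ) (hn : 1 ≤ n) (a b : F)
    (hab : ∀ z₁ z₂ : F, z₁ ^ 2 + a * z₁ * z₂ + b * z₂ ^ 2 = 0 → z₁ = 0 ∧ z₂ = 0) :
    ∃ Q₀ : QuadraticForm F ((Fin (n - 1) ⊕ Fin (n - 1)) ⊕ Fin 2 → F),
      (∀ v, Q₀ v = Cfsg.quadFormMinus (n - 1) F a b v) ∧
      (QuadraticMap.polarBilin Q₀).Nondegenerate ∧ (gram Q₀).det ≠ 0 ∧
      ∀ d : F, d ≠ 0 → (IsSquare (d * (gram Q₀).det) ↔ ¬ IsSquare ((-1) ^ n * d)) := by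
  classical
  have h2 : (2 : F) ≠ 0 := STD.two_ne_zero_of_odd hodd
  have hmf : ∀ v, (minusModel (n - 1) a b hab).Q v = Cfsg.quadFormMinus (n - 1) F a b v := by
    intro v; rw [quadFormMinus_eq (n - 1) a b hab]
  have hm_nd : (QuadraticMap.polarBilin (minusModel (n - 1) a b hab).Q).Nondegenerate :=
    QFOF.nondeg_of_nonSing h2 _ (minusModel (n - 1) a b hab).nonSing
  have hdm := gram_det_ne_zero _ hm_nd
  have hsm : IsSquare (gram (minusModel (n - 1) a b hab).Q).det ↔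
      ¬ Even (n * (Fintype.card F - 1) / 2) := by
    rw [gram_det_eq _ _ hmf]
    exact Cfsg.Agent.S2621.result rfl hodd hn a b hab (Pi.basisFun F _)
  refine ⟨(minusModel (n - 1) a b hab).Q, hmf, hm_nd, hdm, fun d hd => ?_⟩
  apply STD.key' n hdm d hd
  rw [hsm, Cfsg.Agent.Helper13.isSquare_neg_one_pow_iff rfl hodd n]

end transport

end Cfsg.Agent.S2558P.LOW
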