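import Mathlib
import Cfsg.Prelude.Def_Classical
import Cfsg.Agent.Helper13.S2558LDefs
import Cfsg.Agent.Helper7.OrthUni3

/-! S2558 chapter (L), piece TRANSPORT (helper13): an abstract realisation gives an element of `GL ι F` preserving a given
quadratic form of the right discriminant class, with the same `charpoly (x + x⁻¹)`. -/

set_option autoImplicit false

universe u

namespace Cfsg.Agent.S2558P.LOW

open Polynomial Cfsg.Agent.Helper7.OrthUni

section transport

variable {F : Type u} [Field F] [Fintype F]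

/-- TRANSPORT -/
theorem Realizes.transport (h2 : (2 : F) ≠ 0) {ι : Type} [Fintype ι] [DecidableEq ι]
    (Q₀ : QuadraticForm F (ι → F)) (h₀ : (QuadraticMap.polarBilin Q₀).Nondegenerate) {P : F[X]} {D : F}
    (hR : Realizes F (Fintype.card ι) P D) (hsq : IsSquare (D * (gram Q₀).det)) :
    ∃ x : Matrix.GeneralLinearGroup ι F,
      (∀ v : ι → F, Q₀ ((x : Matrix ι ι F).mulVec v) = Q₀ v) ∧
      ((x : Matrix ι ι F) + ((x⁻¹ : Matrix.GeneralLinearGroup ι F) : Matrix ι ι F)).charpoly = P := by
  classical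
  obtain ⟨V, _, _, I, _, _, B, g, ginv, b, s, hcard, hsymm, hiso, hginv, hs, hD, hdet, hchar⟩ := hR
  have : Module.Finite F V := Module.Finite.of_basis b
  have : Module.Free F V := Module.Free.of_basis b
  set M : Matrix I I F := LinearMap.BilinForm.toMatrix b B with hM
  have hMt : M.transpose = M := by
    ext i j
    rw [Matrix.transpose_apply, hM, LinearMap.BilinForm.toMatrix_apply,
      LinearMap.BilinForm.toMatrix_apply, hsymm]
  have hMdet : M.det ≠ 0 := by
    rw [hdet]
    exact mul_ne_zero (pow_ne_zero 2 hs) hD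
  have hMu : IsUnit M := (Matrix.isUnit_iff_isUnit_det M).2 (isUnit_iff_ne_zero.2 hMdet)
  have hsq' : IsSquare ((gram (qf M)).det * (gram Q₀).det) := by
    rw [gram_qf h2 hMt, hdet]
    obtain ⟨r, hr⟩ := hsq
    refine ⟨s * r, ?_⟩
    have : s ^ 2 * D * (gram Q₀).det = s ^ 2 * (D * (gram Q₀).det) := by ring
    rw [this, hr]
    ring
  obtain ⟨φ, hφ⟩ := exists_isometry_of_disc h2 (qf M) Q₀ (qf_nondeg h2 hMt hMu) h₀ hcard hsq'
  set e : V ≃ₗ[F] (ι → F) := b.equivFun.trans φ with he
  -- the value of `Q₀` on `e v`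
  have hQe : ∀ v : V, Q₀ (e v) = (2 : F)⁻¹ * B v v := by
    intro v
    rw [he, LinearEquiv.trans_apply, hφ, qf_apply,
      LinearMap.BilinForm.apply_eq_dotProduct_toMatrix_mulVec b B v v]
    rfl
  have hginv' : ginv ∘ₗ g = LinearMap.id := by
    have h1 : g * ginv = 1 := hginv
    have h3 : ginv * g = 1 := mul_eq_one_comm.mp h1
    exact h3
  set T : (ι → F) →ₗ[F] (ι → F) := e.conj g with hT
  set Tinv : (ι → F) →ₗ[F] (ι → F) := e.conj ginv with hTinv
  have hTT : T ∘ₗ Tinv = LinearMap.id := by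
    apply LinearMap.ext
    intro w
    rw [LinearMap.comp_apply, hT, hTinv, LinearEquiv.conj_apply_apply, LinearEquiv.conj_apply_apply,
      LinearEquiv.symm_apply_apply, ← LinearMap.comp_apply, hginv, LinearMap.id_apply,
      LinearEquiv.apply_symm_apply, LinearMap.id_apply]
  have hTT' : Tinv ∘ₗ T = LinearMap.id := by
    apply LinearMap.ext
    intro w
    rw [LinearMap.comp_apply, hT, hTinv, LinearEquiv.conj_apply_apply, LinearEquiv.conj_apply_apply,
      LinearEquiv.symm_apply_apply, ← LinearMap.comp_apply, hginv', LinearMap.id_apply,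
      LinearEquiv.apply_symm_apply, LinearMap.id_apply]
  set X : Matrix ι ι F := LinearMap.toMatrix' T with hX
  set Xinv : Matrix ι ι F := LinearMap.toMatrix' Tinv with hXinv
  have hXX : X * Xinv = 1 := by
    rw [hX, hXinv, ← LinearMap.toMatrix'_comp, hTT, LinearMap.toMatrix'_id]
  have hXX' : Xinv * X = 1 := by
    rw [hX, hXinv, ← LinearMap.toMatrix'_comp, hTT', LinearMap.toMatrix'_id]
  set x : Matrix.GeneralLinearGroup ι F := ⟨X, Xinv, hXX, hXX'⟩ with hx
  have hxinv : ((x⁻¹ : Matrix.GeneralLinearGroup ι F) : Matrix ι ι F) = Xinv := rfl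
  refine ⟨x, ?_, ?_⟩
  · intro w
    have h1 : (x : Matrix ι ι F).mulVec w = T w := by
      show X.mulVec w = T w
      rw [hX, ← Matrix.toLin'_apply, Matrix.toLin'_toMatrix']
    rw [h1, hT, LinearEquiv.conj_apply_apply, hQe, hiso, ← hQe, LinearEquiv.apply_symm_apply]
  · rw [hxinv]
    show (X + Xinv).charpoly = P
    have h1 : X + Xinv = LinearMap.toMatrix (Pi.basisFun F ι) (Pi.basisFun F ι) (e.conj (g + ginv)) := by
      rw [LinearMap.toMatrix_eq_toMatrix', map_add, map_add]
    rw [h1, LinearMap.charpoly_toMatrix, LinearEquiv.charpoly_conj, ← hchar,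
      LinearMap.charpoly_toMatrix]

end transport

end Cfsg.Agent.S2558P.LOW
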