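import Mathlib
import Cfsg.Prelude.Def_Classical
import Cfsg.Agent.Helper13.S2558LDefs
import Cfsg.Agent.Helper5.S2558LREALH
import Cfsg.Agent.Helper11.S2558LFACTOR
import Cfsg.Agent.Helper11.S2558LREALD
import Cfsg.Agent.Helper11.S2558LSQHALF
import Cfsg.Agent.Helper13.S2558LSTD
import Cfsg.Agent.Helper13.S2558LTRANSPORT
import Cfsg.Agent.Helper16.S2558LEQUI
import Cfsg.Agent.Helper24.S2558LCLASSINV
import Cfsg.Agent.Helper24.S2558LCONGRSQ
import Cfsg.Agent.Helper24.S2558LREALSUM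
import Cfsg.Agent.Helper17.S2482Low
import Cfsg.Agent.Helper7.OrthUni3

/-! S2558 chapter (L) LOWER BOUND: assembly (helper13): REALIZE and FINAL (`lower_plus`, `lower_minus`). -/

set_option autoImplicit false

universe u

namespace Cfsg.Agent.S2558P.LOW

open Polynomial Cfsg.Agent.Helper7.OrthUni

namespace ASM

section real

variable {F : Type u} [Field F]

/-- a diagonal space with `g = ε`, `ε = ±1`, and prescribed discriminant -/
theorem realizes_pm (k : ℕ) (ε : F) (hε : ε = 1 ∨ ε = -1) (c : F) (hc : c ≠ 0)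
    (hk : k = 0 → c = 1) : Realizes F k ((X - C (2 * ε)) ^ k) c := by
  classical
  have h := realizes_diag (F := F) k (fun i => if (i : ℕ) = 0 then c else 1) (fun _ => ε)
    (fun i => by
      show (if (i : ℕ) = 0 then c else 1) ≠ 0
      split_ifs
      · exact hc
      · exact one_ne_zero) (fun _ => hε)
  have h1 : (∏ _i : Fin k, (X - C (2 * ε) : F[X])) = (X - C (2 * ε)) ^ k := by
    rw [Finset.prod_const, Finset.card_univ, Fintype.card_fin]
  have h2 : (∏ i : Fin k, (if (i : ℕ) = 0 then c else 1)) = c := by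
    rcases Nat.eq_zero_or_pos k with h0 | h0
    · subst h0
      rw [Finset.univ_eq_empty, Finset.prod_empty, hk rfl]
    · rw [Finset.prod_eq_single (⟨0, h0⟩ : Fin k)]
      · simp
      · intro i _ hi
        have : (i : ℕ) ≠ 0 := by
          intro h3
          apply hi
          exact Fin.ext h3
        rw [if_neg this]
      · intro h3
        exact absurd (Finset.mem_univ _) h3
  rw [h1, h2] at h
  exact h

/-- REALIZE -/
theorem realizes_all (h2 : (2 : F) ≠ 0) (h : F[X]) (hh : h.Monic) (n : ℕ) (hn : h.natDegree = n)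
    (D : F) (hD : D ≠ 0)
    (hcond : h.eval 2 * h.eval (-2) ≠ 0 →
      IsSquare (D * ((-1) ^ n * (h.eval 2 * h.eval (-2))))) :
    Realizes F (2 * n) (h * h) D := by
  obtain ⟨a, b, h₀, hm, hp2, hm2, hfac, hdeg⟩ := exists_factor h2 h hh
  set e := h₀.natDegree with he
  have R0 := realizes_h h2 h₀ hm e rfl hp2 hm2
  set D0 : F := (-1) ^ e * (h₀.eval 2 * h₀.eval (-2)) with hD0
  have hD00 : D0 ≠ 0 :=
    mul_ne_zero (pow_ne_zero _ (neg_ne_zero.2 one_ne_zero)) (mul_ne_zero hp2 hm2)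
  by_cases hab : a + b = 0
  · have ha : a = 0 := by omega
    have hb : b = 0 := by omega
    have hh0 : h = h₀ := by rw [hfac, ha, hb, pow_zero, pow_zero, one_mul, one_mul]
    have hen : e = n := by rw [← hn, hh0]
    have h3 : h.eval 2 * h.eval (-2) ≠ 0 := by
      rw [hh0]
      exact mul_ne_zero hp2 hm2
    have h4 := hcond h3
    rw [hh0, ← hen] at h4
    have h5 : IsSquare (D0 * D) := by rwa [mul_comm]
    have := Realizes.congr_sq R0 hD h5
    rw [hh0, ← hen]
    exact this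
  · -- a + b ≥ 1
    set c : F := D / D0 with hc
    have hc0 : c ≠ 0 := div_ne_zero hD hD00
    set c1 : F := if a = 0 then 1 else c with hc1
    set c2 : F := if a = 0 then c else 1 with hc2
    have hc10 : c1 ≠ 0 := by
      rw [hc1]; split_ifs
      · exact one_ne_zero
      · exact hc0
    have hc20 : c2 ≠ 0 := by
      rw [hc2]; split_ifs
      · exact hc0
      · exact one_ne_zero
    have hcc : D0 * (c1 * c2) = D := by
      rw [hc1, hc2]
      split_ifs
      · rw [one_mul, hc]; field_simp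
      · rw [mul_one, hc]; field_simp
    have R1 := realizes_pm (F := F) (2 * a) 1 (Or.inl rfl) c1 hc10 (by
      intro h0
      have : a = 0 := by omega
      rw [hc1, if_pos this])
    have R2 := realizes_pm (F := F) (2 * b) (-1) (Or.inr rfl) c2 hc20 (by
      intro h0
      have hb0 : b = 0 := by omega
      have : a ≠ 0 := by omega
      rw [hc2, if_neg this])
    have R := Realizes.sum R0 (Realizes.sum R1 R2)
    have hdim : 2 * e + (2 * a + 2 * b) = 2 * n := by
      rw [← hn, ← hdeg]; omega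
    have hP : h₀ * h₀ * ((X - C (2 * (1 : F))) ^ (2 * a) * (X - C (2 * (-1 : F))) ^ (2 * b)) = h * h := by
      rw [hfac, mul_one, mul_neg_one]
      ring
    rw [hdim, hP, hcc] at R
    exact R

end real

section final

variable {F : Type u} [Field F] [Fintype F]

theorem two_ne_zero_of_odd (hodd : Odd (Fintype.card F)) : (2 : F) ≠ 0 := by
  apply Ring.two_ne_zero
  intro h
  rw [FiniteField.even_card_iff_char_two] at h
  rcases hodd with ⟨k, hk⟩
  omega

/-- the generic lower bound -/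
theorem lower_generic (hodd : Odd (Fintype.card F)) (n : ℕ) (hn : 2 ≤ n) {ι : Type} [Fintype ι]
    [DecidableEq ι] (hι : Fintype.card ι = 2 * n) (Q₀ : QuadraticForm F (ι → F))
    (h₀ : (QuadraticMap.polarBilin Q₀).Nondegenerate) (hdet : (gram Q₀).det ≠ 0)
    (Q : (ι → F) → F) (hQ : ∀ v, Q₀ v = Q v)
    (S : Finset (F × F)) (hS : Fintype.card F ^ 2 ≤ 2 * S.card)
    (hreal : ∀ t : F, t ≠ 0 → (∃ p ∈ S, p.1 * p.2 = t) →
      IsSquare ((gram Q₀).det * ((-1) ^ n * t))) :
    Fintype.card F ^ n ≤ 2 * Nat.card (ConjClasses ↥(Cfsg.isometryGroup F Q)) := by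
  classical
  have h2 : (2 : F) ≠ 0 := two_ne_zero_of_odd hodd
  have key : ∀ f : {h : F[X] // h.Monic ∧ h.natDegree = n ∧ (h.eval 2, h.eval (-2)) ∈ S},
      ∃ x : ↥(Cfsg.isometryGroup F Q),
        (((x : Matrix.GeneralLinearGroup ι F) : Matrix ι ι F) +
          (((x⁻¹ : ↥(Cfsg.isometryGroup F Q)) : Matrix.GeneralLinearGroup ι F) :
            Matrix ι ι F)).charpoly = f.1 * f.1 := by
    rintro ⟨h, hm, hd, hS'⟩
    have hR : Realizes F (2 * n) (h * h) (gram Q₀).det :=
      realizes_all h2 h hm n hd _ hdet (fun hne => hreal _ hne ⟨_, hS', rfl⟩)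
    rw [← hι] at hR
    obtain ⟨x, hx1, hx2⟩ := Realizes.transport h2 Q₀ h₀ hR ⟨_, rfl⟩
    have hxm : x ∈ Cfsg.isometryGroup F Q := by
      intro u _
      show Q (((x : Matrix ι ι F)).mulVec u) = Q u
      rw [← hQ, ← hQ]
      exact hx1 u
    exact ⟨⟨x, hxm⟩, hx2⟩
  choose φ hφ using key
  have hfin : Finite ↥(Cfsg.isometryGroup F Q) := Subtype.finite
  have hinj : Function.Injective (fun f => ConjClasses.mk (φ f)) := by
    intro f f' h
    have h' : IsConj (φ f) (φ f') := ConjClasses.mk_eq_mk_iff_isConj.mp h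
    have h3 := charpoly_add_inv_of_isConj _ _ _ h'
    rw [hφ, hφ] at h3
    exact Subtype.ext
      (Cfsg.Agent.S2482P.LOW.monic_eq_of_sq_eq _ _ f.2.1 f'.2.1 h3)
  have h4 := Nat.card_le_card_of_injective _ hinj
  have h5 := card_eval_pair_ge h2 n hn S
  have h6 : Fintype.card F ^ n = Fintype.card F ^ (n - 2) * Fintype.card F ^ 2 := by
    rw [← pow_add]
    congr 1
    omega
  calc Fintype.card F ^ n = Fintype.card F ^ (n - 2) * Fintype.card F ^ 2 := h6
    _ ≤ Fintype.card F ^ (n - 2) * (2 * S.card) := Nat.mul_le_mul_left _ hS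
    _ = 2 * (Fintype.card F ^ (n - 2) * S.card) := by ring
    _ ≤ 2 * Nat.card (ConjClasses ↥(Cfsg.isometryGroup F Q)) :=
        Nat.mul_le_mul_left _ (le_trans h5 h4)

omit [Fintype F] in
theorem neg_one_pow_mul_self (n : ℕ) (t : F) : (-1 : F) ^ n * ((-1) ^ n * t) = t := by
  rw [← mul_assoc, ← pow_add, ← two_mul, pow_mul]
  simp

end final

end ASM

section final

variable {F : Type u} [Field F] [Fintype F]

/-- FINAL: `q^n ≤ 2 k(O⁺_2n(q))` -/
theorem lower_plus (hodd : Odd (Fintype.card F)) (n : ℕ) (hn : 2 ≤ n) :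
    Fintype.card F ^ n ≤
      2 * Nat.card (ConjClasses ↥(Cfsg.isometryGroup F (Cfsg.quadFormPlus n F))) := by
  classical
  obtain ⟨Q₀, hQ, hnd, hdet, hsq⟩ := std_plus (F := F) hodd n (by omega)
  have hι : Fintype.card (Fin n ⊕ Fin n) = 2 * n := by
    rw [Fintype.card_sum, Fintype.card_fin]; ring
  refine ASM.lower_generic hodd n hn hι Q₀ hnd hdet _ hQ
    (Finset.univ.filter fun p : F × F => IsSquare (p.1 * p.2)) (card_sq_half hodd).1 ?_
  rintro t ht ⟨p, hp, rfl⟩
  rw [Finset.mem_filter] at hp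
  rw [mul_comm, hsq _ (mul_ne_zero (pow_ne_zero _ (neg_ne_zero.2 one_ne_zero)) ht),
    ASM.neg_one_pow_mul_self]
  exact hp.2

/-- FINAL: `q^n ≤ 2 k(O⁻_2n(q))` -/
theorem lower_minus (hodd : Odd (Fintype.card F)) (n : ℕ) (hn : 2 ≤ n) (a b : F)
    (hab : ∀ z₁ z₂ : F, z₁ ^ 2 + a * z₁ * z₂ + b * z₂ ^ 2 = 0 → z₁ = 0 ∧ z₂ = 0) :
    Fintype.card F ^ n ≤
      2 * Nat.card (ConjClasses ↥(Cfsg.isometryGroup F (Cfsg.quadFormMinus (n - 1) F a b))) := by
  classical
  obtain ⟨Q₀, hQ, hnd, hdet, hsq⟩ := std_minus (F := F) hodd n (by omega) a b hab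
  have hι : Fintype.card ((Fin (n - 1) ⊕ Fin (n - 1)) ⊕ Fin 2) = 2 * n := by
    rw [Fintype.card_sum, Fintype.card_sum, Fintype.card_fin, Fintype.card_fin]; omega
  refine ASM.lower_generic hodd n hn hι Q₀ hnd hdet _ hQ
    (Finset.univ.filter fun p : F × F => p.1 * p.2 = 0 ∨ ¬ IsSquare (p.1 * p.2))
    (card_sq_half hodd).2 ?_
  rintro t ht ⟨p, hp, rfl⟩
  rw [Finset.mem_filter] at hp
  rw [mul_comm, hsq _ (mul_ne_zero (pow_ne_zero _ (neg_ne_zero.2 one_ne_zero)) ht),
    ASM.neg_one_pow_mul_self]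
  rcases hp.2 with h | h
  · exact absurd h ht
  · exact h

end final

end Cfsg.Agent.S2558P.LOW
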