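import Mathlib
import Cfsg.Prelude.Def_Classical
import Cfsg.Agent.Helper13.S2558LASM
import Cfsg.Agent.Helper28.POmegaCard
import Cfsg.Agent.S0292
import Cfsg.Agent.S2614
import Cfsg.Agent.S4200

/-! # S2560 (k(Ω_{2n+1}(q)) bounds, q odd), chapter (L) LOWER BOUND `q^n ≤ 2 k(Ω_{2n+1}(q))` (helper13).

`G = O_{2n+1}(q) = isometryGroup F (quadFormOdd n F)`.  The class invariant `charpoly (x + x⁻¹)` takes all the
`2 q^n` values `h² (X ∓ 2)`, `h` monic of degree `n`: realise `h²` on a space `V_h` of dimension `2n` (chapter (L) of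
S2558, `ASM.realizes_all`) and add a line `⟨c⟩` with `g = ±1`; the discriminant is adjusted by `c`.  Hence
`2 q^n ≤ k(G)`, and `k(G) ≤ [G : Ω] k(Ω) = 4 k(Ω)` (S4200 and helper28's `index_Omega_odd`). -/

set_option autoImplicit false

universe u

namespace Cfsg.Agent.S2560P.LOW

open Polynomial Cfsg.Agent.Helper7.OrthUni Cfsg.Agent.S2558P.LOW

section poly

variable {F : Type u} [Field F]

/-- the sign `±1` -/
def sgn (b : Bool) : F := if b then 1 else -1

theorem sgn_cases (b : Bool) : (sgn b : F) = 1 ∨ (sgn b : F) = -1 := by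
  cases b
  · right; rfl
  · left; rfl

theorem X_sub_ne_zero (a : F) : (X - C a : F[X]) ≠ 0 := X_sub_C_ne_zero a

/-- the parity of the multiplicity of the root `2 ε` separates `h² (X - 2ε)` from `h'² (X + 2ε)` -/
theorem not_eq_of_sgn_ne (h2 : (2 : F) ≠ 0) (f g : F[X]) (hf : f ≠ 0) (hg : g ≠ 0) (ε : F)
    (hε : ε ≠ 0) : f * f * (X - C (2 * ε)) ≠ g * g * (X - C (2 * -ε)) := by
  classical
  intro h
  have h1 : rootMultiplicity (2 * ε) (f * f * (X - C (2 * ε))) =
      2 * rootMultiplicity (2 * ε) f + 1 := by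
    rw [rootMultiplicity_mul (mul_ne_zero (mul_ne_zero hf hf) (X_sub_ne_zero _)),
      rootMultiplicity_mul (mul_ne_zero hf hf), rootMultiplicity_X_sub_C_self]
    ring
  have hne : (2 * ε : F) ≠ 2 * -ε := by
    intro h3
    have h4 : (2 : F) * (2 * ε) = 0 := by linear_combination h3
    rcases mul_eq_zero.1 h4 with h5 | h5
    · exact h2 h5
    · rcases mul_eq_zero.1 h5 with h6 | h6
      · exact h2 h6
      · exact hε h6
  have h2' : rootMultiplicity (2 * ε) (g * g * (X - C (2 * -ε))) =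
      2 * rootMultiplicity (2 * ε) g := by
    rw [rootMultiplicity_mul (mul_ne_zero (mul_ne_zero hg hg) (X_sub_ne_zero _)),
      rootMultiplicity_mul (mul_ne_zero hg hg), rootMultiplicity_X_sub_C,
      if_neg hne]
    ring
  rw [h] at h1
  omega

/-- `(h, ε) ↦ h² (X - 2ε)` is injective on monic `h` and `ε = ±1` -/
theorem pair_injective (h2 : (2 : F) ≠ 0) (f g : F[X]) (hf : f.Monic) (hg : g.Monic) (b b' : Bool)
    (h : f * f * (X - C (2 * sgn b)) = g * g * (X - C (2 * sgn b'))) : f = g ∧ b = b' := by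
  have hbb : b = b' := by
    by_contra hne
    cases b <;> cases b'
    · exact hne rfl
    · have : (sgn true : F) = -(sgn false) := by simp [sgn]
      rw [this] at h
      exact not_eq_of_sgn_ne h2 f g hf.ne_zero hg.ne_zero _
        (by simp [sgn]) h
    · have : (sgn false : F) = -(sgn true) := by simp [sgn]
      rw [this] at h
      exact not_eq_of_sgn_ne h2 f g hf.ne_zero hg.ne_zero _
        (by simp [sgn]) h
    · exact hne rfl
  refine ⟨?_, hbb⟩
  subst hbb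
  have h3 := mul_right_cancel₀ (X_sub_ne_zero _) h
  exact Cfsg.Agent.S2482P.LOW.monic_eq_of_sq_eq f g hf hg h3

end poly

section final

variable {F : Type u} [Field F] [Fintype F]

/-- every `h² (X - 2ε)` is the invariant of an element of `O_{2n+1}(q)` -/
theorem exists_isometry (hodd : Odd (Fintype.card F)) (n : ℕ) (h : F[X]) (hm : h.Monic)
    (hd : h.natDegree = n) (b : Bool) :
    ∃ x : ↥(Cfsg.isometryGroup F (Cfsg.quadFormOdd n F)),
      (((x : Matrix.GeneralLinearGroup (Unit ⊕ (Fin n ⊕ Fin n)) F) :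
          Matrix (Unit ⊕ (Fin n ⊕ Fin n)) (Unit ⊕ (Fin n ⊕ Fin n)) F) +
        (((x⁻¹ : ↥(Cfsg.isometryGroup F (Cfsg.quadFormOdd n F))) :
          Matrix.GeneralLinearGroup (Unit ⊕ (Fin n ⊕ Fin n)) F) :
            Matrix (Unit ⊕ (Fin n ⊕ Fin n)) (Unit ⊕ (Fin n ⊕ Fin n)) F)).charpoly =
        h * h * (X - C (2 * sgn b)) := by
  classical
  have h2 : (2 : F) ≠ 0 := ASM.two_ne_zero_of_odd hodd
  set Q₀ := Cfsg.Agent.S2614.QfOdd n F with hQ₀
  have hnd : (QuadraticMap.polarBilin Q₀).Nondegenerate := Cfsg.Agent.S0292.QfOdd_nondeg h2 n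
  have hdet : (gram Q₀).det ≠ 0 := Cfsg.Agent.S5981P.STDEVEN.gram_det_ne_zero Q₀ hnd
  have hQ : ∀ v, Q₀ v = Cfsg.quadFormOdd n F v := fun v => by
    rw [hQ₀, Cfsg.Agent.S2614.QfOdd_coe]
  set t : F := h.eval 2 * h.eval (-2) with ht
  set D₁ : F := if t ≠ 0 then (-1) ^ n * t else 1 with hD₁
  have hD₁0 : D₁ ≠ 0 := by
    rw [hD₁]
    split_ifs with h0
    · exact mul_ne_zero (pow_ne_zero _ (neg_ne_zero.2 one_ne_zero)) h0
    · exact one_ne_zero
  have R1 : Realizes F (2 * n) (h * h) D₁ := by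
    apply ASM.realizes_all h2 h hm n hd D₁ hD₁0
    intro hne
    rw [hD₁, if_pos hne]
    exact ⟨_, rfl⟩
  set c : F := (gram Q₀).det / D₁ with hc
  have hc0 : c ≠ 0 := div_ne_zero hdet hD₁0
  have R2 : Realizes F 1 ((X - C (2 * sgn b)) ^ 1) c :=
    ASM.realizes_pm (F := F) 1 (sgn b) (sgn_cases b) c hc0 (by intro h0; omega)
  have R := Realizes.sum R1 R2
  have hcard : Fintype.card (Unit ⊕ (Fin n ⊕ Fin n)) = 2 * n + 1 := by
    rw [Fintype.card_sum, Fintype.card_sum, Fintype.card_fin, Fintype.card_unit]; ring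
  have hDc : D₁ * c = (gram Q₀).det := by
    rw [hc]; field_simp
  rw [pow_one, hDc, ← hcard] at R
  obtain ⟨x, hx1, hx2⟩ := Realizes.transport h2 Q₀ hnd R ⟨_, rfl⟩
  have hxm : x ∈ Cfsg.isometryGroup F (Cfsg.quadFormOdd n F) := by
    intro u _
    show Cfsg.quadFormOdd n F (((x : Matrix _ _ F)).mulVec u) = Cfsg.quadFormOdd n F u
    rw [← hQ, ← hQ]
    exact hx1 u
  exact ⟨⟨x, hxm⟩, hx2⟩

/-- `2 q^n ≤ k(O_{2n+1}(q))` -/
theorem lower_G (hodd : Odd (Fintype.card F)) (n : ℕ) :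
    2 * Fintype.card F ^ n ≤
      Nat.card (ConjClasses ↥(Cfsg.isometryGroup F (Cfsg.quadFormOdd n F))) := by
  classical
  have h2 : (2 : F) ≠ 0 := ASM.two_ne_zero_of_odd hodd
  have key : ∀ p : {f : F[X] // f.Monic ∧ f.natDegree = n} × Bool,
      ∃ x : ↥(Cfsg.isometryGroup F (Cfsg.quadFormOdd n F)),
        (((x : Matrix.GeneralLinearGroup (Unit ⊕ (Fin n ⊕ Fin n)) F) :
            Matrix (Unit ⊕ (Fin n ⊕ Fin n)) (Unit ⊕ (Fin n ⊕ Fin n)) F) +
          (((x⁻¹ : ↥(Cfsg.isometryGroup F (Cfsg.quadFormOdd n F))) :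
            Matrix.GeneralLinearGroup (Unit ⊕ (Fin n ⊕ Fin n)) F) :
              Matrix (Unit ⊕ (Fin n ⊕ Fin n)) (Unit ⊕ (Fin n ⊕ Fin n)) F)).charpoly =
          p.1.1 * p.1.1 * (X - C (2 * sgn p.2)) :=
    fun p => exists_isometry hodd n p.1.1 p.1.2.1 p.1.2.2 p.2
  choose φ hφ using key
  have hfin : Finite ↥(Cfsg.isometryGroup F (Cfsg.quadFormOdd n F)) := Subtype.finite
  have hinj : Function.Injective (fun p => ConjClasses.mk (φ p)) := by
    intro p p' h
    have h' : IsConj (φ p) (φ p') := ConjClasses.mk_eq_mk_iff_isConj.mp h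
    have h3 := charpoly_add_inv_of_isConj _ _ _ h'
    rw [hφ, hφ] at h3
    obtain ⟨h4, h5⟩ := pair_injective h2 _ _ p.1.2.1 p'.1.2.1 _ _ h3
    exact Prod.ext (Subtype.ext h4) h5
  have h4 := Nat.card_le_card_of_injective _ hinj
  rw [Nat.card_prod, Cfsg.Agent.S2482P.LOW.card_monic_natDegree, Nat.card_eq_fintype_card,
    Fintype.card_bool, mul_comm] at h4
  exact h4

/-- FINAL: `q^n ≤ 2 k(Ω_{2n+1}(q))` (needs only `n ≥ 1`) -/
theorem lower_odd (hodd : Odd (Fintype.card F)) (n : ℕ) (hn : 1 ≤ n) :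
    Fintype.card F ^ n ≤
      2 * Nat.card (ConjClasses ↥(Cfsg.Omega F (Cfsg.quadFormOdd n F))) := by
  classical
  have h2 : (2 : F) ≠ 0 := ASM.two_ne_zero_of_odd hodd
  have hnd : (QuadraticMap.polarBilin (Cfsg.Agent.S2614.QfOdd n F)).Nondegenerate :=
    Cfsg.Agent.S0292.QfOdd_nondeg h2 n
  have hcard : Fintype.card (Unit ⊕ (Fin n ⊕ Fin n)) = 2 * n + 1 := by
    rw [Fintype.card_sum, Fintype.card_sum, Fintype.card_fin, Fintype.card_unit]; ring
  have hidx := Cfsg.Agent.Helper28.OC.index_Omega_odd (Cfsg.Agent.S2614.QfOdd n F) h2 hnd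
    (by rw [hcard]; omega)
  rw [Cfsg.Agent.S2614.QfOdd_coe] at hidx
  have hfin : Finite ↥(Cfsg.isometryGroup F (Cfsg.quadFormOdd n F)) := Subtype.finite
  have h1 := (Cfsg.Agent.S4200.result (Cfsg.Omega F (Cfsg.quadFormOdd n F))).2.1
  rw [hidx] at h1
  have h3 := lower_G hodd n
  omega

end final

end Cfsg.Agent.S2560P.LOW
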