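import Mathlib
import Cfsg.Agent.Helper7.S2862Defs
import Cfsg.Agent.Helper14.PCore
import Cfsg.Agent.Helper17.S2862CP9
import Cfsg.Agent.Helper22.S2862CP11
import Cfsg.Agent.Helper19.S2862CP3
import Cfsg.Agent.Helper22.S2862CP4

/-! Board `s2862pieces`, row S2a, CORE: a common nontrivial vector of all `F_n = [X, Y^n]`, `n ∈ L0`
(a fixed point of the `p`-group `O_p(L0) ≥ ⟨Y^n : n ∈ L0⟩` on `X_L = [X, L]`).
Hypotheses: `h6 = (B6 ..).1`, `h8 n = (B8 .. (l := n)).2`. -/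

set_option autoImplicit false
set_option linter.unusedVariables false

namespace Cfsg.Agent.S2862P

open Cfsg
open Cfsg.Agent.Helper14 (cj)
open Subgroup
open scoped commutatorElement

variable {G : Type*} [Group G] [Finite G] {p : ℕ} [Fact p.Prime]
variable {H Y D L L0 Vt Vb : Subgroup G}

/-- S2a core: with `B6.1` and `B8.2` (for `l ∈ L0`) as hypotheses. -/
theorem S2a_aux_core (K : KHyp p H Y D L L0) (C : ChiefPair p H Vt Vb)
    (h6 : commP Vt Vb Y ≠ Vb)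
    (h8 : ∀ n ∈ L0, commP Vt Vb L ⊓ fixP Vt Vb (cjs n Y) = commP Vt Vb (cjs n Y)) :
    ∃ v ∈ Vt, v ∉ Vb ∧ ∀ n ∈ L0, v ∈ commP Vt Vb (cjs n Y) := by
  have hYL : Y ≤ L := K.hYL0.trans K.hL0L
  -- conjugates of `Y` under `L0` lie in `L`
  have hcjL : ∀ n ∈ L0, cjs n Y ≤ L := by
    intro n hn x hx
    obtain ⟨y, hy, rfl⟩ := Subgroup.mem_map.mp hx
    rw [Cfsg.Agent.Helper14.cj_apply]
    exact L.mul_mem (L.mul_mem (K.hL0L hn) (hYL hy)) (L.inv_mem (K.hL0L hn))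
  -- the `p`-group `U0 = O_p(L0)`
  have hU0p : IsPGroup p ↥(pCoreOf p L0) := Cfsg.Agent.Helper14.pCoreOf_isPGroup p L0
  have hU0L : pCoreOf p L0 ≤ L := (Cfsg.Agent.Helper14.pCoreOf_le p L0).trans K.hL0L
  have hcjU0 : ∀ n ∈ L0, cjs n Y ≤ pCoreOf p L0 := fun n hn => K.hU0 n hn
  -- the section `X_L / Vb`
  have hXLt : commP Vt Vb L ≤ Vt := commP_le C K.hLH
  have hlt : Vb < commP Vt Vb L := by
    refine lt_of_le_of_ne (le_commP L) ?_
    intro heq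
    have h1 : commP Vt Vb Y ≤ Vb := (commP_mono (Vt := Vt) (Vb := Vb) hYL).trans heq.symm.le
    exact h6 (le_antisymm h1 (le_commP Y))
  have hUt : pCoreOf p L0 ≤ normalizer ((commP Vt Vb L : Subgroup G) : Set G) := hU0L.trans (commP_inv C K.hLH).1
  have hUb : pCoreOf p L0 ≤ normalizer (Vb : Set G) := hU0L.trans (K.hLH.trans C.nb)
  obtain ⟨v, hvXL, hvVb, hvfix⟩ := exists_fix C hU0p le_rfl hlt hXLt hUt hUb
  refine ⟨v, hXLt hvXL, hvVb, fun n hn => ?_⟩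
  have hcjH : cjs n Y ≤ H := (hcjL n hn).trans K.hLH
  have hvfixP : v ∈ fixP Vt Vb (cjs n Y) :=
    (mem_fixP C hcjH).mpr ⟨hXLt hvXL, fun a ha => hvfix a (hcjU0 n hn ha)⟩
  rw [← h8 n hn]
  exact Subgroup.mem_inf.mpr ⟨hvXL, hvfixP⟩

end Cfsg.Agent.S2862P
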