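import Mathlib
import Cfsg.Agent.Helper14.S2863Defs

/-! Board `s2863pieces`, row FPFCONJ: `FPF` is invariant under conjugation in `N(A) ∩ N(C)`. -/

set_option autoImplicit false

namespace Cfsg.Agent.S2863P

open Subgroup

/-- FPFCONJ : `FPF` is invariant under conjugation in `N(A) ∩ N(C)`. -/
theorem FPF.conj {G : Type*} [Group G] {A C : Subgroup G} {h x : G} (hxA : x ∈ normalizer (A : Set G))
    (hxC : x ∈ normalizer (C : Set G)) (hf : FPF A C (x⁻¹ * h * x)) : FPF A C h := by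
  intro a ha hc
  have hxA' : x⁻¹ ∈ normalizer (A : Set G) := (normalizer (A : Set G)).inv_mem hxA
  have hxC' : x⁻¹ ∈ normalizer (C : Set G) := (normalizer (C : Set G)).inv_mem hxC
  have ha' : x⁻¹ * a * x⁻¹⁻¹ ∈ A := (mem_normalizer_iff.mp hxA' a).mp ha
  have hc' : x⁻¹ * (h * a * h⁻¹ * a⁻¹) * x⁻¹⁻¹ ∈ C := (mem_normalizer_iff.mp hxC' _).mp hc
  have e : x⁻¹ * h * x * (x⁻¹ * a * x⁻¹⁻¹) * (x⁻¹ * h * x)⁻¹ * (x⁻¹ * a * x⁻¹⁻¹)⁻¹ =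
      x⁻¹ * (h * a * h⁻¹ * a⁻¹) * x⁻¹⁻¹ := by group
  have h1 : x⁻¹ * a * x⁻¹⁻¹ ∈ C := hf _ ha' (by rw [e]; exact hc')
  have h2 : x * (x⁻¹ * a * x⁻¹⁻¹) * x⁻¹ ∈ C := (mem_normalizer_iff.mp hxC _).mp h1
  have e2 : x * (x⁻¹ * a * x⁻¹⁻¹) * x⁻¹ = a := by group
  rw [e2] at h2
  exact h2

end Cfsg.Agent.S2863P
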