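import Mathlib
import Cfsg.Prelude.Def_Classical

set_option autoImplicit false

/-! Data for S2931, part A: a Sylow 2-subgroup of `A₈` and of `PSp₄(3)`, jointly enumerated by
`Fin 64` with a common Cayley step table. Generated by computer search. -/

namespace Cfsg.Agent.Helper13.S2931A

open Matrix

def stpL : List (List ℕ) := [[1,2,3],
  [0,4,5],
  [6,0,7],
  [8,9,0],
  [10,1,11],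
  [12,13,1],
  [2,14,15],
  [16,17,2],
  [3,18,19],
  [20,3,21],
  [4,22,23],
  [24,25,4],
  [5,26,27],
  [28,5,29],
  [22,6,30],
  [31,32,6],
  [7,33,34],
  [25,7,35],
  [36,8,37],
  [27,38,8],
  [9,30,39],
  [40,35,9],
  [14,10,41],
  [42,43,10],
  [11,44,45],
  [17,11,46],
  [47,12,48],
  [19,49,12],
  [13,41,50],
  [51,46,13],
  [52,20,14],
  [15,53,49],
  [43,15,54],
  [44,16,55],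
  [49,56,16],
  [57,21,17],
  [18,52,51],
  [50,57,18],
  [45,19,42],
  [48,54,20],
  [21,55,47],
  [58,28,22],
  [23,59,38],
  [32,23,60],
  [33,24,61],
  [38,62,24],
  [63,29,25],
  [26,58,40],
  [39,63,26],
  [34,27,31],
  [37,60,28],
  [29,61,36],
  [30,36,62],
  [59,31,63],
  [61,39,32],
  [60,40,33],
  [62,34,58],
  [35,37,59],
  [41,47,56],
  [53,42,57],
  [55,50,43],
  [54,51,44],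
  [56,45,52],
  [46,48,53]]
def parL : List ℕ := [0,0,0,0,1,1,2,2,3,3,4,4,5,5,6,6,7,7,8,8,9,9,10,10,11,11,12,12,13,13,14,15,15,16,16,17,18,18,19,20,21,22,23,23,24,24,25,26,26,27,28,29,30,31,32,33,34,35,41,42,43,44,45,46]
def gnL : List ℕ := [0,0,1,2,1,2,0,2,0,1,0,2,0,1,1,2,0,1,1,2,0,2,1,2,0,1,1,2,0,2,2,0,1,1,2,2,0,2,1,2,0,2,0,1,1,2,2,0,2,1,2,0,0,1,2,2,1,0,0,1,2,2,1,0]
def invL : List ℕ := [0,1,2,3,6,8,4,9,5,7,10,20,12,16,14,18,13,17,15,19,11,21,22,36,28,25,31,27,24,40,30,26,33,32,38,35,23,39,34,37,29,52,47,44,43,45,57,42,48,49,50,51,41,53,55,54,56,46,58,59,60,61,62,63]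
def pfL : List (List ℕ) := [[0,1,2,3,4,5,6,7],
  [1,0,2,3,4,5,7,6],
  [2,3,0,1,4,5,6,7],
  [4,5,6,7,0,1,2,3],
  [2,3,1,0,4,5,7,6],
  [4,5,7,6,1,0,2,3],
  [3,2,0,1,4,5,7,6],
  [4,5,6,7,2,3,0,1],
  [5,4,6,7,0,1,3,2],
  [6,7,4,5,0,1,2,3],
  [3,2,1,0,4,5,6,7],
  [4,5,7,6,2,3,1,0],
  [5,4,7,6,1,0,3,2],
  [7,6,4,5,1,0,2,3],
  [0,1,3,2,4,5,7,6],
  [4,5,7,6,3,2,0,1],
  [5,4,6,7,2,3,1,0],
  [6,7,4,5,2,3,0,1],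
  [6,7,5,4,0,1,3,2],
  [0,1,3,2,5,4,6,7],
  [7,6,4,5,0,1,3,2],
  [0,1,2,3,6,7,4,5],
  [1,0,3,2,4,5,6,7],
  [4,5,6,7,3,2,1,0],
  [5,4,7,6,2,3,0,1],
  [7,6,4,5,2,3,1,0],
  [7,6,5,4,1,0,3,2],
  [1,0,3,2,5,4,7,6],
  [6,7,4,5,1,0,3,2],
  [1,0,2,3,7,6,4,5],
  [4,5,7,6,0,1,3,2],
  [5,4,7,6,3,2,1,0],
  [7,6,4,5,3,2,0,1],
  [6,7,5,4,2,3,1,0],
  [2,3,1,0,5,4,6,7],
  [2,3,0,1,6,7,4,5],
  [7,6,5,4,0,1,2,3],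
  [0,1,3,2,6,7,5,4],
  [3,2,0,1,5,4,6,7],
  [0,1,3,2,7,6,4,5],
  [1,0,2,3,6,7,5,4],
  [4,5,6,7,1,0,3,2],
  [5,4,6,7,3,2,0,1],
  [6,7,4,5,3,2,1,0],
  [7,6,5,4,2,3,0,1],
  [2,3,0,1,5,4,7,6],
  [2,3,1,0,7,6,4,5],
  [6,7,5,4,1,0,2,3],
  [1,0,3,2,7,6,5,4],
  [3,2,1,0,5,4,7,6],
  [1,0,3,2,6,7,4,5],
  [0,1,2,3,7,6,5,4],
  [5,4,7,6,0,1,2,3],
  [7,6,5,4,3,2,1,0],
  [3,2,0,1,7,6,4,5],
  [2,3,1,0,6,7,5,4],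
  [1,0,2,3,5,4,6,7],
  [3,2,0,1,6,7,5,4],
  [5,4,6,7,1,0,2,3],
  [6,7,5,4,3,2,0,1],
  [3,2,1,0,6,7,4,5],
  [2,3,0,1,7,6,5,4],
  [0,1,2,3,5,4,7,6],
  [3,2,1,0,7,6,5,4]]
def mL : List (List ℕ) := [[1,0,0,0,0,1,0,0,0,0,1,0,0,0,0,1],
  [0,1,1,2,2,2,2,0,1,1,0,1,1,0,2,1],
  [0,0,0,1,0,0,2,0,0,2,0,0,1,0,0,0],
  [1,0,0,2,1,1,2,1,1,2,2,2,2,0,0,2],
  [1,1,1,0,0,2,2,1,2,0,1,2,2,2,0,2],
  [0,0,1,1,0,0,2,1,1,1,2,2,2,1,1,2],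
  [1,0,2,1,2,2,0,2,1,1,1,0,0,1,1,2],
  [1,0,0,1,1,2,2,2,1,1,2,1,2,0,0,1],
  [1,2,1,2,1,1,1,1,1,2,0,0,1,1,0,0],
  [1,0,0,2,2,2,1,2,1,2,2,2,1,0,0,1],
  [0,1,0,0,1,0,0,0,0,0,0,1,0,0,1,0],
  [0,0,1,2,0,0,2,2,1,2,2,1,2,2,1,1],
  [1,2,1,1,0,1,1,0,0,1,2,0,1,1,1,2],
  [1,2,0,0,1,1,0,0,2,1,2,1,2,2,2,2],
  [1,1,0,1,2,0,1,2,0,2,2,1,2,2,2,0],
  [1,2,2,1,1,1,2,2,0,0,2,1,0,0,2,2],
  [1,1,0,0,2,1,0,0,2,2,2,2,1,2,1,2],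
  [1,0,0,1,2,1,1,1,1,1,2,1,1,0,0,2],
  [1,1,2,2,2,1,1,2,0,0,2,2,0,0,1,2],
  [1,2,0,2,1,0,2,2,0,1,2,2,1,2,1,0],
  [1,2,1,2,2,2,2,2,1,2,0,0,2,2,0,0],
  [1,0,0,0,0,2,0,0,0,0,1,0,0,0,0,2],
  [0,0,1,0,0,0,0,2,2,0,0,0,0,1,0,0],
  [1,1,2,1,1,0,0,2,2,0,0,2,1,2,2,2],
  [0,1,1,0,1,2,1,1,1,1,1,2,0,1,2,0],
  [1,1,0,0,1,2,0,0,2,2,2,2,2,1,2,1],
  [1,2,1,1,0,2,2,0,0,1,2,0,2,2,2,1],
  [0,1,0,2,2,0,1,0,0,2,0,2,1,0,1,0],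
  [1,2,2,2,2,0,0,2,2,0,0,1,2,2,1,2],
  [0,1,2,2,1,2,1,0,2,1,0,1,2,0,1,1],
  [1,1,2,2,1,2,2,1,0,0,2,2,0,0,2,1],
  [1,1,1,2,0,2,1,0,0,2,2,0,1,2,1,1],
  [1,1,1,1,2,1,2,1,1,1,0,0,2,1,0,0],
  [0,0,1,2,0,0,1,1,1,2,2,1,1,1,2,2],
  [1,2,1,0,0,2,1,1,2,0,1,1,1,2,0,2],
  [0,0,0,1,0,0,1,0,0,2,0,0,2,0,0,0],
  [0,1,2,0,1,1,1,2,2,1,2,2,0,2,2,0],
  [1,1,0,1,1,0,2,1,0,2,2,1,1,1,1,0],
  [1,0,2,2,1,2,0,2,1,2,1,0,0,1,2,2],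
  [1,2,0,2,2,0,1,1,0,1,2,2,2,1,2,0],
  [0,1,1,2,1,1,1,0,1,1,0,1,2,0,1,2],
  [1,2,2,2,1,0,0,1,2,0,0,1,1,1,2,1],
  [1,1,1,1,1,2,1,2,1,1,0,0,1,2,0,0],
  [1,1,2,1,2,0,0,1,2,0,0,2,2,1,1,1],
  [0,1,1,0,2,1,2,2,1,1,1,2,0,2,1,0],
  [1,0,2,0,0,2,0,1,2,0,2,0,0,1,0,1],
  [1,2,1,0,0,1,2,2,2,0,1,1,2,1,0,1],
  [0,0,1,1,0,0,1,2,1,1,2,2,1,2,2,1],
  [0,1,0,2,1,0,2,0,0,2,0,2,2,0,2,0],
  [1,0,1,0,0,1,0,1,1,0,2,0,0,1,0,2],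
  [0,0,1,0,0,0,0,1,2,0,0,0,0,2,0,0],
  [0,1,0,1,2,0,2,0,0,1,0,2,2,0,1,0],
  [0,1,2,0,2,2,2,1,2,1,2,2,0,1,1,0],
  [1,1,1,2,0,1,2,0,0,2,2,0,2,1,2,2],
  [1,0,2,2,2,1,0,1,1,2,1,0,0,2,1,1],
  [1,1,1,0,0,1,1,2,2,0,1,2,1,1,0,1],
  [0,1,2,2,2,1,2,0,2,1,0,1,1,0,2,2],
  [1,0,2,1,1,1,0,1,1,1,1,0,0,2,2,1],
  [1,2,0,0,2,2,0,0,2,1,2,1,1,1,1,1],
  [1,2,2,1,2,2,1,1,0,0,2,1,0,0,1,1],
  [0,1,0,0,2,0,0,0,0,0,0,1,0,0,2,0],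
  [1,0,2,0,0,1,0,2,2,0,2,0,0,2,0,2],
  [0,1,0,1,1,0,1,0,0,1,0,2,1,0,2,0],
  [1,0,1,0,0,2,0,2,1,0,2,0,0,2,0,1]]

def stp (i : Fin 64) (k : Fin 3) : Fin 64 := Fin.ofNat 64 ((stpL.getD i.val []).getD k.val 0)
def par (i : Fin 64) : Fin 64 := Fin.ofNat 64 (parL.getD i.val 0)
def gn (i : Fin 64) : Fin 3 := Fin.ofNat 3 (gnL.getD i.val 0)
def inv (i : Fin 64) : Fin 64 := Fin.ofNat 64 (invL.getD i.val 0)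
def pf (i : Fin 64) (x : Fin 8) : Fin 8 := Fin.ofNat 8 ((pfL.getD i.val []).getD x.val 0)

abbrev I4 : Type := Fin 2 ⊕ Fin 2

def idx4 : I4 → ℕ
  | .inl a => a.val
  | .inr a => 2 + a.val

def M (i : Fin 64) : Matrix I4 I4 (ZMod 3) := fun a b =>
  (((mL.getD i.val []).getD (4 * idx4 a + idx4 b) 0 : ℕ) : ZMod 3)

set_option maxRecDepth 100000 in
theorem htree : ∀ i : Fin 64, i ≠ 0 → par i < i ∧ stp (par i) (gn i) = i := by decide +kernel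

set_option maxRecDepth 100000 in
theorem pf_inv_left : ∀ (i : Fin 64) (x : Fin 8), pf (inv i) (pf i x) = x := by decide +kernel

set_option maxRecDepth 100000 in
theorem pf_inv_right : ∀ (i : Fin 64) (x : Fin 8), pf i (pf (inv i) x) = x := by decide +kernel

set_option maxRecDepth 100000 in
theorem pf_zero : ∀ x : Fin 8, pf 0 x = x := by decide +kernel

set_option maxRecDepth 100000 in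
theorem pf_stp : ∀ (i : Fin 64) (k : Fin 3) (x : Fin 8), pf (stp i k) x = pf i (pf (stp 0 k) x) := by
  decide +kernel

set_option maxRecDepth 100000 in
theorem pf_inj : ∀ i j : Fin 64, (∀ x, pf i x = pf j x) → i = j := by decide +kernel

/-- the permutations -/
def perm (i : Fin 64) : Equiv.Perm (Fin 8) := ⟨pf i, pf (inv i), pf_inv_left i, pf_inv_right i⟩

set_option maxRecDepth 100000 in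
theorem sign_perm : ∀ i : Fin 64, Equiv.Perm.sign (perm i) = 1 := by decide +kernel

set_option maxRecDepth 100000 in
theorem M_zero : M 0 = 1 := by decide +kernel

set_option maxRecDepth 100000 in
theorem M_stp : ∀ (i : Fin 64) (k : Fin 3),
    M (stp i k) = M i * M (stp 0 k) ∨ M (stp i k) = -(M i * M (stp 0 k)) := by decide +kernel

set_option maxRecDepth 100000 in
theorem M_ker : ∀ k : Fin 64, M k = 1 ∨ M k = -1 → k = 0 := by decide +kernel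

set_option maxRecDepth 100000 in
theorem M_symp : ∀ i : Fin 64, M i * J (Fin 2) (ZMod 3) * (M i)ᵀ = J (Fin 2) (ZMod 3) := by
  decide +kernel

end Cfsg.Agent.Helper13.S2931A
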