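import Mathlib
import Cfsg.Prelude.Def_Classical

set_option autoImplicit false

/-! Data for S2931, part B: a Sylow 2-subgroup of `S₈` and of `GO₆⁻(2)`, jointly enumerated by
`Fin 128` with a common Cayley step table. Generated by computer search. -/

namespace Cfsg.Agent.Helper13.S2931B

open Matrix

def stpL : List (List ℕ) := [[1,2,3],
  [0,4,5],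
  [6,0,7],
  [8,9,0],
  [10,1,11],
  [12,13,1],
  [2,14,15],
  [16,17,2],
  [3,18,19],
  [20,3,21],
  [4,22,23],
  [24,25,4],
  [5,26,27],
  [28,5,29],
  [22,6,30],
  [31,32,6],
  [7,33,34],
  [35,7,36],
  [37,8,38],
  [27,34,8],
  [9,39,40],
  [29,36,9],
  [14,10,41],
  [42,43,10],
  [11,44,45],
  [46,11,47],
  [48,12,49],
  [19,45,12],
  [13,50,51],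
  [21,47,13],
  [52,53,14],
  [15,54,55],
  [56,15,57],
  [58,16,59],
  [55,19,16],
  [17,60,61],
  [57,21,17],
  [18,62,63],
  [49,59,18],
  [62,20,64],
  [51,61,20],
  [65,66,22],
  [23,67,68],
  [69,23,70],
  [71,24,72],
  [68,27,24],
  [25,73,74],
  [70,29,25],
  [26,75,76],
  [38,72,26],
  [75,28,77],
  [40,74,28],
  [30,78,79],
  [80,30,81],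
  [82,31,83],
  [34,79,31],
  [32,84,85],
  [36,81,32],
  [33,86,87],
  [83,38,33],
  [86,35,88],
  [85,40,35],
  [39,37,89],
  [76,87,37],
  [77,88,39],
  [41,90,91],
  [92,41,93],
  [94,42,95],
  [45,91,42],
  [43,96,97],
  [47,93,43],
  [44,98,99],
  [95,49,44],
  [98,46,100],
  [97,51,46],
  [50,48,101],
  [63,99,48],
  [64,100,50],
  [102,52,103],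
  [91,55,52],
  [53,104,105],
  [93,57,53],
  [54,106,107],
  [59,103,54],
  [106,56,108],
  [61,105,56],
  [60,58,109],
  [107,63,58],
  [108,64,60],
  [101,109,62],
  [110,65,111],
  [79,68,65],
  [66,112,113],
  [81,70,66],
  [67,114,115],
  [72,111,67],
  [114,69,116],
  [74,113,69],
  [73,71,117],
  [115,76,71],
  [116,77,73],
  [89,117,75],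
  [78,118,119],
  [111,83,78],
  [118,80,120],
  [113,85,80],
  [84,82,121],
  [87,119,82],
  [88,120,84],
  [121,89,86],
  [90,122,123],
  [103,95,90],
  [122,92,124],
  [105,97,92],
  [96,94,125],
  [99,123,94],
  [100,124,96],
  [125,101,98],
  [104,102,126],
  [123,107,102],
  [124,108,104],
  [109,126,106],
  [112,110,127],
  [119,115,110],
  [120,116,112],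
  [117,127,114],
  [127,121,118],
  [126,125,122]]
def parL : List ℕ := [0,0,0,0,1,1,2,2,3,3,4,4,5,5,6,6,7,7,8,8,9,9,10,10,11,11,12,12,13,13,14,15,15,16,16,17,17,18,18,20,20,22,23,23,24,24,25,25,26,26,28,28,30,30,31,31,32,32,33,33,35,35,37,37,39,41,41,42,42,43,43,44,44,46,46,48,48,50,52,52,53,53,54,54,56,56,58,58,60,62,65,65,66,66,67,67,69,69,71,71,73,75,78,78,80,80,82,82,84,86,90,90,92,92,94,94,96,98,102,102,104,106,110,110,112,114,118,122]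
def gnL : List ℕ := [0,0,1,2,1,2,0,2,0,1,0,2,0,1,1,2,0,1,1,2,0,2,1,2,0,1,1,2,0,2,2,0,1,1,2,0,2,0,2,1,2,2,0,1,1,2,0,2,0,2,1,2,0,1,1,2,0,2,0,2,1,2,1,2,2,0,1,1,2,0,2,0,2,1,2,1,2,2,1,2,0,2,0,2,1,2,1,2,2,2,1,2,0,2,0,2,1,2,1,2,2,2,0,2,1,2,1,2,2,2,0,2,1,2,1,2,2,2,1,2,2,2,1,2,2,2,2,2]
def invL : List ℕ := [0,1,2,3,6,8,4,9,5,7,10,20,12,16,14,18,13,17,15,19,11,21,22,37,28,35,31,27,24,29,39,26,33,32,34,25,36,23,40,30,38,62,48,58,56,55,46,57,42,51,52,49,50,60,54,45,44,47,43,61,53,59,41,63,64,75,86,82,68,71,70,69,85,80,83,65,76,77,84,79,73,81,67,74,78,72,66,87,88,89,106,91,98,93,94,97,102,95,92,107,108,101,96,105,104,103,90,99,100,109,114,113,118,111,110,115,116,121,112,119,120,117,122,123,124,125,126,127]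
def pfL : List (List ℕ) := [[0,1,2,3,4,5,6,7],
  [1,0,2,3,4,5,6,7],
  [2,3,0,1,4,5,6,7],
  [4,5,6,7,0,1,2,3],
  [2,3,1,0,4,5,6,7],
  [4,5,6,7,1,0,2,3],
  [3,2,0,1,4,5,6,7],
  [4,5,6,7,2,3,0,1],
  [5,4,6,7,0,1,2,3],
  [6,7,4,5,0,1,2,3],
  [3,2,1,0,4,5,6,7],
  [4,5,6,7,2,3,1,0],
  [5,4,6,7,1,0,2,3],
  [6,7,4,5,1,0,2,3],
  [0,1,3,2,4,5,6,7],
  [4,5,6,7,3,2,0,1],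
  [5,4,6,7,2,3,0,1],
  [6,7,4,5,2,3,0,1],
  [6,7,5,4,0,1,2,3],
  [0,1,2,3,5,4,6,7],
  [7,6,4,5,0,1,2,3],
  [0,1,2,3,6,7,4,5],
  [1,0,3,2,4,5,6,7],
  [4,5,6,7,3,2,1,0],
  [5,4,6,7,2,3,1,0],
  [6,7,4,5,2,3,1,0],
  [6,7,5,4,1,0,2,3],
  [1,0,2,3,5,4,6,7],
  [7,6,4,5,1,0,2,3],
  [1,0,2,3,6,7,4,5],
  [4,5,6,7,0,1,3,2],
  [5,4,6,7,3,2,0,1],
  [6,7,4,5,3,2,0,1],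
  [6,7,5,4,2,3,0,1],
  [2,3,0,1,5,4,6,7],
  [7,6,4,5,2,3,0,1],
  [2,3,0,1,6,7,4,5],
  [7,6,5,4,0,1,2,3],
  [0,1,2,3,6,7,5,4],
  [4,5,7,6,0,1,2,3],
  [0,1,2,3,7,6,4,5],
  [4,5,6,7,1,0,3,2],
  [5,4,6,7,3,2,1,0],
  [6,7,4,5,3,2,1,0],
  [6,7,5,4,2,3,1,0],
  [2,3,1,0,5,4,6,7],
  [7,6,4,5,2,3,1,0],
  [2,3,1,0,6,7,4,5],
  [7,6,5,4,1,0,2,3],
  [1,0,2,3,6,7,5,4],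
  [4,5,7,6,1,0,2,3],
  [1,0,2,3,7,6,4,5],
  [5,4,6,7,0,1,3,2],
  [6,7,4,5,0,1,3,2],
  [6,7,5,4,3,2,0,1],
  [3,2,0,1,5,4,6,7],
  [7,6,4,5,3,2,0,1],
  [3,2,0,1,6,7,4,5],
  [7,6,5,4,2,3,0,1],
  [2,3,0,1,6,7,5,4],
  [4,5,7,6,2,3,0,1],
  [2,3,0,1,7,6,4,5],
  [5,4,7,6,0,1,2,3],
  [0,1,2,3,7,6,5,4],
  [0,1,2,3,4,5,7,6],
  [5,4,6,7,1,0,3,2],
  [6,7,4,5,1,0,3,2],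
  [6,7,5,4,3,2,1,0],
  [3,2,1,0,5,4,6,7],
  [7,6,4,5,3,2,1,0],
  [3,2,1,0,6,7,4,5],
  [7,6,5,4,2,3,1,0],
  [2,3,1,0,6,7,5,4],
  [4,5,7,6,2,3,1,0],
  [2,3,1,0,7,6,4,5],
  [5,4,7,6,1,0,2,3],
  [1,0,2,3,7,6,5,4],
  [1,0,2,3,4,5,7,6],
  [6,7,5,4,0,1,3,2],
  [0,1,3,2,5,4,6,7],
  [7,6,4,5,0,1,3,2],
  [0,1,3,2,6,7,4,5],
  [7,6,5,4,3,2,0,1],
  [3,2,0,1,6,7,5,4],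
  [4,5,7,6,3,2,0,1],
  [3,2,0,1,7,6,4,5],
  [5,4,7,6,2,3,0,1],
  [2,3,0,1,7,6,5,4],
  [2,3,0,1,4,5,7,6],
  [0,1,2,3,5,4,7,6],
  [6,7,5,4,1,0,3,2],
  [1,0,3,2,5,4,6,7],
  [7,6,4,5,1,0,3,2],
  [1,0,3,2,6,7,4,5],
  [7,6,5,4,3,2,1,0],
  [3,2,1,0,6,7,5,4],
  [4,5,7,6,3,2,1,0],
  [3,2,1,0,7,6,4,5],
  [5,4,7,6,2,3,1,0],
  [2,3,1,0,7,6,5,4],
  [2,3,1,0,4,5,7,6],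
  [1,0,2,3,5,4,7,6],
  [7,6,5,4,0,1,3,2],
  [0,1,3,2,6,7,5,4],
  [4,5,7,6,0,1,3,2],
  [0,1,3,2,7,6,4,5],
  [5,4,7,6,3,2,0,1],
  [3,2,0,1,7,6,5,4],
  [3,2,0,1,4,5,7,6],
  [2,3,0,1,5,4,7,6],
  [7,6,5,4,1,0,3,2],
  [1,0,3,2,6,7,5,4],
  [4,5,7,6,1,0,3,2],
  [1,0,3,2,7,6,4,5],
  [5,4,7,6,3,2,1,0],
  [3,2,1,0,7,6,5,4],
  [3,2,1,0,4,5,7,6],
  [2,3,1,0,5,4,7,6],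
  [5,4,7,6,0,1,3,2],
  [0,1,3,2,7,6,5,4],
  [0,1,3,2,4,5,7,6],
  [3,2,0,1,5,4,7,6],
  [5,4,7,6,1,0,3,2],
  [1,0,3,2,7,6,5,4],
  [1,0,3,2,4,5,7,6],
  [3,2,1,0,5,4,7,6],
  [0,1,3,2,5,4,7,6],
  [1,0,3,2,5,4,7,6]]
def mL : List (List ℕ) := [[1,0,0,0,0,0,0,1,0,0,0,0,0,0,1,0,0,0,0,0,0,1,0,0,0,0,0,0,1,0,0,0,0,0,0,1],
  [1,0,0,0,0,0,0,1,0,0,0,0,1,0,1,0,1,0,0,0,0,1,0,0,0,0,0,0,1,0,1,0,0,0,1,1],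
  [0,0,1,0,0,0,0,1,0,0,0,0,1,0,0,0,0,0,0,0,0,1,0,0,0,0,0,0,0,1,0,0,0,0,1,0],
  [1,0,0,0,0,0,1,1,0,1,0,1,1,0,1,1,0,1,0,1,0,1,1,1,1,1,0,1,0,0,0,1,0,0,1,0],
  [0,0,1,0,0,0,0,1,0,0,0,0,1,0,1,0,0,1,0,0,0,1,0,0,0,0,0,0,0,1,0,0,1,0,1,1],
  [1,0,0,0,0,0,1,1,0,1,0,1,1,1,1,0,0,1,0,1,0,1,1,1,1,1,0,1,0,0,0,0,0,1,1,0],
  [1,0,1,0,1,0,0,1,0,0,0,0,1,0,0,0,0,0,0,0,0,1,0,0,1,0,0,0,1,1,0,0,0,0,1,0],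
  [1,0,1,1,0,1,1,1,0,1,0,1,1,0,0,0,0,0,0,1,0,1,1,1,0,1,0,0,1,0,1,1,0,1,0,0],
  [1,0,0,0,0,0,0,1,0,1,1,1,1,0,1,1,0,1,1,1,0,1,0,1,1,1,0,1,0,0,0,1,0,0,1,0],
  [0,0,1,0,0,0,0,1,1,1,1,0,1,0,1,1,1,0,0,1,0,1,1,1,0,1,1,1,0,0,0,1,0,0,0,1],
  [1,0,1,0,1,0,0,1,0,0,0,0,1,0,1,0,0,1,0,0,0,1,0,0,1,0,0,0,1,1,0,0,1,0,1,1],
  [1,0,1,1,0,1,1,1,0,1,0,1,0,1,1,1,1,1,0,1,0,1,1,1,0,1,0,0,1,0,0,0,1,0,1,1],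
  [1,0,0,0,0,0,0,1,0,1,1,1,1,1,1,0,0,1,1,1,0,1,0,1,1,1,0,1,0,0,0,0,0,1,1,0],
  [0,0,1,0,0,0,0,1,1,1,1,0,1,1,1,0,1,0,0,1,0,1,1,1,0,1,1,1,0,0,0,0,0,1,0,1],
  [1,0,1,0,0,1,0,1,0,0,0,0,0,0,1,0,0,0,0,0,0,1,0,0,0,0,1,0,1,1,0,0,0,0,0,1],
  [1,1,1,0,0,1,1,1,0,1,0,1,1,0,0,0,0,0,0,1,0,1,1,1,0,0,0,1,1,0,1,1,0,1,0,0],
  [1,0,1,1,0,1,0,1,0,1,1,1,1,0,0,0,0,0,1,1,0,1,0,1,0,1,0,0,1,0,1,1,0,1,0,0],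
  [1,0,1,1,1,0,0,1,1,1,1,0,0,0,1,0,0,0,0,1,0,1,1,1,0,1,0,0,0,1,0,1,1,1,0,0],
  [0,0,1,0,0,0,0,1,0,1,1,1,1,0,1,1,1,0,0,1,1,1,1,0,0,1,1,1,0,0,0,1,0,0,0,1],
  [1,0,0,0,0,0,0,0,0,1,0,0,0,0,1,0,0,0,0,1,0,0,0,0,0,0,0,0,1,0,0,0,0,0,0,1],
  [1,0,1,0,1,0,1,1,1,1,0,0,0,0,1,1,0,0,1,1,0,1,0,1,1,1,1,1,1,0,1,1,0,0,1,1],
  [1,0,1,1,0,1,1,1,1,0,1,1,1,0,1,1,1,0,0,0,0,1,0,0,0,0,1,1,1,1,1,0,0,1,1,1],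
  [1,0,1,0,0,1,0,1,0,0,0,0,1,0,1,0,1,0,0,0,0,1,0,0,0,0,1,0,1,1,1,0,0,0,1,1],
  [1,1,1,0,0,1,1,1,0,1,0,1,0,1,1,1,1,1,0,1,0,1,1,1,0,0,0,1,1,0,0,0,1,0,1,1],
  [1,0,1,1,0,1,0,1,0,1,1,1,0,1,1,1,1,1,1,1,0,1,0,1,0,1,0,0,1,0,0,0,1,0,1,1],
  [1,0,1,1,1,0,0,1,1,1,1,0,1,1,0,1,1,1,0,1,0,1,1,1,0,1,0,0,0,1,1,0,0,0,1,1],
  [0,0,1,0,0,0,0,1,0,1,1,1,1,1,1,0,1,0,0,1,1,1,1,0,0,1,1,1,0,0,0,0,0,1,0,1],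
  [1,0,0,0,0,0,0,0,0,1,0,0,1,0,1,0,1,0,0,1,0,0,0,0,0,0,0,0,1,0,1,0,0,0,1,1],
  [1,0,1,0,1,0,1,1,1,1,0,0,0,1,1,0,0,0,1,1,0,1,0,1,1,1,1,1,1,0,1,0,0,1,1,1],
  [1,0,1,1,0,1,1,1,1,0,1,1,0,0,1,1,0,0,0,0,0,1,0,0,0,0,1,1,1,1,0,0,0,1,0,1],
  [0,1,1,1,1,1,1,1,0,1,0,1,1,0,1,1,0,1,0,1,0,1,1,1,0,0,1,0,1,1,0,1,0,0,1,0],
  [1,1,1,0,0,1,0,1,0,1,1,1,1,0,0,0,0,0,1,1,0,1,0,1,0,0,0,1,1,0,1,1,0,1,0,0],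
  [1,1,1,0,1,0,0,1,1,1,1,0,0,0,1,0,0,0,0,1,0,1,1,1,0,0,0,1,0,1,0,1,1,1,0,0],
  [1,0,1,1,1,0,0,1,0,1,1,1,0,0,1,0,0,0,0,1,1,1,1,0,0,1,0,0,0,1,0,1,1,1,0,0],
  [0,0,1,0,0,0,0,0,0,1,0,0,1,0,0,0,0,0,0,1,0,0,0,0,0,0,0,0,0,1,0,0,0,0,1,0],
  [0,0,1,1,0,0,1,1,1,1,0,0,1,0,1,0,1,0,1,1,0,1,0,1,1,1,0,0,1,1,1,1,1,1,1,0],
  [1,0,1,1,1,0,1,1,1,0,1,1,1,0,1,1,0,1,0,0,0,1,0,0,1,0,0,1,1,1,0,0,1,1,1,1],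
  [1,0,1,0,1,0,1,1,0,1,0,1,0,0,1,1,0,0,1,1,1,1,0,0,1,1,1,1,1,0,1,1,0,0,1,1],
  [1,0,1,1,0,1,0,0,0,1,0,0,1,0,1,1,1,0,1,1,1,0,1,1,0,0,1,1,1,1,1,0,0,1,1,1],
  [1,0,1,0,0,1,1,1,1,1,0,0,1,0,0,1,0,0,0,1,1,1,1,0,1,1,1,1,0,1,0,1,1,0,1,1],
  [1,1,1,0,0,1,1,0,1,1,1,1,1,1,1,0,1,0,0,1,0,0,0,0,0,1,1,0,1,1,1,1,0,0,1,1],
  [0,1,1,1,1,1,1,1,0,1,0,1,1,1,1,0,0,1,0,1,0,1,1,1,0,0,1,0,1,1,0,0,0,1,1,0],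
  [1,1,1,0,0,1,0,1,0,1,1,1,0,1,1,1,1,1,1,1,0,1,0,1,0,0,0,1,1,0,0,0,1,0,1,1],
  [1,1,1,0,1,0,0,1,1,1,1,0,1,1,0,1,1,1,0,1,0,1,1,1,0,0,0,1,0,1,1,0,0,0,1,1],
  [1,0,1,1,1,0,0,1,0,1,1,1,1,1,0,1,1,1,0,1,1,1,1,0,0,1,0,0,0,1,1,0,0,0,1,1],
  [0,0,1,0,0,0,0,0,0,1,0,0,1,0,1,0,0,1,0,1,0,0,0,0,0,0,0,0,0,1,0,0,1,0,1,1],
  [0,0,1,1,0,0,1,1,1,1,0,0,0,1,0,1,0,1,1,1,0,1,0,1,1,1,0,0,1,1,0,0,0,0,0,1],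
  [1,0,1,1,1,0,1,1,1,0,1,1,1,0,0,1,0,0,0,0,0,1,0,0,1,0,0,1,1,1,0,0,0,1,1,0],
  [1,0,1,0,1,0,1,1,0,1,0,1,0,1,1,0,0,0,1,1,1,1,0,0,1,1,1,1,1,0,1,0,0,1,1,1],
  [1,0,1,1,0,1,0,0,0,1,0,0,0,0,1,1,0,0,1,1,1,0,1,1,0,0,1,1,1,1,0,0,0,1,0,1],
  [1,0,1,0,0,1,1,1,1,1,0,0,1,1,0,0,0,0,0,1,1,1,1,0,1,1,1,1,0,1,0,0,1,1,1,1],
  [1,1,1,0,0,1,1,0,1,1,1,1,0,1,1,0,0,0,0,1,0,0,0,0,0,1,1,0,1,1,0,1,0,0,0,1],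
  [0,1,1,1,1,1,0,1,0,1,1,1,1,0,1,1,0,1,1,1,0,1,0,1,0,0,1,0,1,1,0,1,0,0,1,0],
  [1,1,0,1,1,1,0,1,1,1,1,0,1,0,1,1,1,0,0,1,0,1,1,1,1,0,0,0,1,1,0,1,0,0,0,1],
  [1,1,1,0,1,0,0,1,0,1,1,1,0,0,1,0,0,0,0,1,1,1,1,0,0,0,0,1,0,1,0,1,1,1,0,0],
  [1,0,1,0,1,0,0,0,0,1,0,0,1,0,0,0,0,0,0,1,0,0,0,0,1,0,0,0,1,1,0,0,0,0,1,0],
  [0,1,1,0,0,0,1,1,1,1,0,0,1,0,1,0,1,0,1,1,0,1,0,1,1,0,0,1,1,1,1,1,1,1,1,0],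
  [0,0,1,1,0,0,1,1,1,0,1,1,1,0,1,1,0,1,0,0,0,1,0,0,0,0,0,1,0,1,0,0,1,1,1,1],
  [0,0,1,1,0,0,1,1,0,1,0,1,1,0,1,0,1,0,1,1,1,1,0,0,1,1,0,0,1,1,1,1,1,1,1,0],
  [1,0,1,1,1,0,0,0,0,1,0,0,1,0,1,1,0,1,1,1,1,0,1,1,1,0,0,1,1,1,0,0,1,1,1,1],
  [1,0,0,1,0,0,1,1,1,1,0,0,1,0,1,0,0,1,0,1,1,1,1,0,0,1,1,0,1,1,1,1,1,1,0,1],
  [1,1,1,0,1,0,1,0,1,1,1,1,1,1,1,0,0,1,0,1,0,0,0,0,1,1,0,0,1,1,0,1,1,0,1,1],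
  [1,0,1,0,0,1,0,1,1,1,1,0,1,0,0,1,0,0,1,1,1,1,0,0,1,1,1,1,0,1,0,1,1,0,1,1],
  [1,1,1,0,0,1,0,1,0,0,0,0,1,1,1,0,1,0,1,0,1,1,1,1,0,1,1,0,1,1,1,1,0,0,1,1],
  [0,1,1,1,1,1,1,0,1,1,1,1,1,1,0,1,1,1,1,1,1,0,1,1,1,1,1,1,0,1,1,1,1,1,1,0],
  [0,1,1,1,1,1,0,1,0,1,1,1,1,1,1,0,0,1,1,1,0,1,0,1,0,0,1,0,1,1,0,0,0,1,1,0],
  [1,1,0,1,1,1,0,1,1,1,1,0,1,1,1,0,1,0,0,1,0,1,1,1,1,0,0,0,1,1,0,0,0,1,0,1],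
  [1,1,1,0,1,0,0,1,0,1,1,1,1,1,0,1,1,1,0,1,1,1,1,0,0,0,0,1,0,1,1,0,0,0,1,1],
  [1,0,1,0,1,0,0,0,0,1,0,0,1,0,1,0,0,1,0,1,0,0,0,0,1,0,0,0,1,1,0,0,1,0,1,1],
  [0,1,1,0,0,0,1,1,1,1,0,0,0,1,0,1,0,1,1,1,0,1,0,1,1,0,0,1,1,1,0,0,0,0,0,1],
  [0,0,1,1,0,0,1,1,1,0,1,1,1,0,0,1,0,0,0,0,0,1,0,0,0,0,0,1,0,1,0,0,0,1,1,0],
  [0,0,1,1,0,0,1,1,0,1,0,1,0,1,0,1,0,1,1,1,1,1,0,0,1,1,0,0,1,1,0,0,0,0,0,1],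
  [1,0,1,1,1,0,0,0,0,1,0,0,1,0,0,1,0,0,1,1,1,0,1,1,1,0,0,1,1,1,0,0,0,1,1,0],
  [1,0,0,1,0,0,1,1,1,1,0,0,0,1,0,1,1,0,0,1,1,1,1,0,0,1,1,0,1,1,0,0,0,0,1,0],
  [1,1,1,0,1,0,1,0,1,1,1,1,1,1,0,0,0,0,0,1,0,0,0,0,1,1,0,0,1,1,0,1,0,0,1,0],
  [1,0,1,0,0,1,0,1,1,1,1,0,1,1,0,0,0,0,1,1,1,1,0,0,1,1,1,1,0,1,0,0,1,1,1,1],
  [1,1,1,0,0,1,0,1,0,0,0,0,0,1,1,0,0,0,1,0,1,1,1,1,0,1,1,0,1,1,0,1,0,0,0,1],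
  [0,1,1,1,1,1,1,0,1,1,1,1,0,1,0,1,0,1,1,1,1,0,1,1,1,1,1,1,0,1,0,1,1,1,0,0],
  [1,1,0,1,1,1,0,1,0,1,1,1,1,0,1,1,1,0,0,1,1,1,1,0,1,0,0,0,1,1,0,1,0,0,0,1],
  [1,0,1,0,0,1,0,0,0,1,0,0,0,0,1,0,0,0,0,1,0,0,0,0,0,0,1,0,1,1,0,0,0,0,0,1],
  [0,1,0,1,0,1,1,1,1,1,0,0,0,0,1,1,0,0,1,1,0,1,0,1,0,0,0,0,0,1,1,1,0,0,1,1],
  [1,0,0,1,0,0,1,1,1,0,1,1,1,0,1,1,1,0,0,0,0,1,0,0,0,0,0,1,1,0,1,0,0,1,1,1],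
  [0,1,1,0,0,0,1,1,0,1,0,1,1,0,1,0,1,0,1,1,1,1,0,0,1,0,0,1,1,1,1,1,1,1,1,0],
  [0,0,1,1,0,0,0,0,0,1,0,0,1,0,1,1,0,1,1,1,1,0,1,1,0,0,0,1,0,1,0,0,1,1,1,1],
  [1,1,0,0,0,0,1,1,1,1,0,0,1,0,1,0,0,1,0,1,1,1,1,0,0,0,1,1,1,1,1,1,1,1,0,1],
  [0,1,1,0,0,0,1,0,1,1,1,1,1,1,1,0,0,1,0,1,0,0,0,0,0,1,0,0,0,1,0,1,1,0,1,1],
  [1,0,0,1,0,0,0,1,1,1,1,0,1,0,1,0,0,1,1,1,1,1,0,0,0,1,1,0,1,1,1,1,1,1,0,1],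
  [1,1,1,0,1,0,0,1,0,0,0,0,1,1,1,0,0,1,1,0,1,1,1,1,1,1,0,0,1,1,0,1,1,0,1,1],
  [1,1,0,1,1,1,1,0,1,1,1,1,0,1,1,1,1,1,1,1,1,0,1,1,1,1,1,1,1,0,1,1,1,1,0,1],
  [0,1,1,1,1,1,1,1,1,0,1,1,1,1,0,1,1,1,1,0,1,1,1,1,1,1,1,1,0,1,1,1,1,1,1,0],
  [1,1,0,1,1,1,0,1,0,1,1,1,1,1,1,0,1,0,0,1,1,1,1,0,1,0,0,0,1,1,0,0,0,1,0,1],
  [1,0,1,0,0,1,0,0,0,1,0,0,1,0,1,0,1,0,0,1,0,0,0,0,0,0,1,0,1,1,1,0,0,0,1,1],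
  [0,1,0,1,0,1,1,1,1,1,0,0,0,1,1,0,0,0,1,1,0,1,0,1,0,0,0,0,0,1,1,0,0,1,1,1],
  [1,0,0,1,0,0,1,1,1,0,1,1,0,0,1,1,0,0,0,0,0,1,0,0,0,0,0,1,1,0,0,0,0,1,0,1],
  [0,1,1,0,0,0,1,1,0,1,0,1,0,1,0,1,0,1,1,1,1,1,0,0,1,0,0,1,1,1,0,0,0,0,0,1],
  [0,0,1,1,0,0,0,0,0,1,0,0,1,0,0,1,0,0,1,1,1,0,1,1,0,0,0,1,0,1,0,0,0,1,1,0],
  [1,1,0,0,0,0,1,1,1,1,0,0,0,1,0,1,1,0,0,1,1,1,1,0,0,0,1,1,1,1,0,0,0,0,1,0],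
  [0,1,1,0,0,0,1,0,1,1,1,1,1,1,0,0,0,0,0,1,0,0,0,0,0,1,0,0,0,1,0,1,0,0,1,0],
  [1,0,0,1,0,0,0,1,1,1,1,0,0,1,0,1,1,0,1,1,1,1,0,0,0,1,1,0,1,1,0,0,0,0,1,0],
  [1,1,1,0,1,0,0,1,0,0,0,0,1,1,0,0,0,0,1,0,1,1,1,1,1,1,0,0,1,1,0,1,0,0,1,0],
  [1,1,0,1,1,1,1,0,1,1,1,1,0,1,0,1,1,0,1,1,1,0,1,1,1,1,1,1,1,0,1,1,0,1,0,0],
  [0,1,1,1,1,1,1,1,1,0,1,1,0,1,0,1,0,1,1,0,1,1,1,1,1,1,1,1,0,1,0,1,1,1,0,0],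
  [0,1,0,1,0,1,1,1,0,1,0,1,0,0,1,1,0,0,1,1,1,1,0,0,0,0,0,0,0,1,1,1,0,0,1,1],
  [1,0,0,1,0,0,0,0,0,1,0,0,1,0,1,1,1,0,1,1,1,0,1,1,0,0,0,1,1,0,1,0,0,1,1,1],
  [0,1,0,1,1,0,1,1,1,1,0,0,1,0,0,1,0,0,0,1,1,1,1,0,0,0,0,0,1,0,0,1,1,0,1,1],
  [1,1,0,0,0,0,1,0,1,1,1,1,1,1,1,0,1,0,0,1,0,0,0,0,0,1,0,0,1,0,1,1,0,0,1,1],
  [1,1,0,0,0,0,0,1,1,1,1,0,1,0,1,0,0,1,1,1,1,1,0,0,0,0,1,1,1,1,1,1,1,1,0,1],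
  [0,1,1,0,0,0,0,1,0,0,0,0,1,1,1,0,0,1,1,0,1,1,1,1,0,1,0,0,0,1,0,1,1,0,1,1],
  [0,1,0,1,0,1,1,0,1,1,1,1,0,1,1,1,1,1,1,1,1,0,1,1,0,1,1,1,0,0,1,1,1,1,0,1],
  [1,1,0,1,1,1,1,1,1,0,1,1,0,1,1,1,1,1,1,0,1,1,1,1,1,1,1,1,1,0,1,1,1,1,0,1],
  [0,1,0,1,0,1,1,1,0,1,0,1,0,1,1,0,0,0,1,1,1,1,0,0,0,0,0,0,0,1,1,0,0,1,1,1],
  [1,0,0,1,0,0,0,0,0,1,0,0,0,0,1,1,0,0,1,1,1,0,1,1,0,0,0,1,1,0,0,0,0,1,0,1],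
  [0,1,0,1,1,0,1,1,1,1,0,0,1,1,0,0,0,0,0,1,1,1,1,0,0,0,0,0,1,0,0,0,1,1,1,1],
  [1,1,0,0,0,0,1,0,1,1,1,1,0,1,1,0,0,0,0,1,0,0,0,0,0,1,0,0,1,0,0,1,0,0,0,1],
  [1,1,0,0,0,0,0,1,1,1,1,0,0,1,0,1,1,0,1,1,1,1,0,0,0,0,1,1,1,1,0,0,0,0,1,0],
  [0,1,1,0,0,0,0,1,0,0,0,0,1,1,0,0,0,0,1,0,1,1,1,1,0,1,0,0,0,1,0,1,0,0,1,0],
  [0,1,0,1,0,1,1,0,1,1,1,1,0,1,0,1,1,0,1,1,1,0,1,1,0,1,1,1,0,0,1,1,0,1,0,0],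
  [1,1,0,1,1,1,1,1,1,0,1,1,0,1,0,1,1,0,1,0,1,1,1,1,1,1,1,1,1,0,1,1,0,1,0,0],
  [0,1,0,1,1,0,0,1,1,1,1,0,1,0,0,1,0,0,1,1,1,1,0,0,0,0,0,0,1,0,0,1,1,0,1,1],
  [1,1,0,0,0,0,0,1,0,0,0,0,1,1,1,0,1,0,1,0,1,1,1,1,0,1,0,0,1,0,1,1,0,0,1,1],
  [0,1,0,1,1,0,1,0,1,1,1,1,1,1,0,1,1,1,1,1,1,0,1,1,1,1,0,1,0,0,1,1,1,1,1,0],
  [0,1,0,1,0,1,1,1,1,0,1,1,0,1,1,1,1,1,1,0,1,1,1,1,0,1,1,1,0,0,1,1,1,1,0,1],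
  [0,1,0,1,1,0,0,1,1,1,1,0,1,1,0,0,0,0,1,1,1,1,0,0,0,0,0,0,1,0,0,0,1,1,1,1],
  [1,1,0,0,0,0,0,1,0,0,0,0,0,1,1,0,0,0,1,0,1,1,1,1,0,1,0,0,1,0,0,1,0,0,0,1],
  [0,1,0,1,1,0,1,0,1,1,1,1,0,1,0,1,0,1,1,1,1,0,1,1,1,1,0,1,0,0,0,1,1,1,0,0],
  [0,1,0,1,0,1,1,1,1,0,1,1,0,1,0,1,1,0,1,0,1,1,1,1,0,1,1,1,0,0,1,1,0,1,0,0],
  [0,1,0,1,1,0,1,1,1,0,1,1,1,1,0,1,1,1,1,0,1,1,1,1,1,1,0,1,0,0,1,1,1,1,1,0],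
  [0,1,0,1,1,0,1,1,1,0,1,1,0,1,0,1,0,1,1,0,1,1,1,1,1,1,0,1,0,0,0,1,1,1,0,0]]

def stp (i : Fin 128) (k : Fin 3) : Fin 128 := Fin.ofNat 128 ((stpL.getD i.val []).getD k.val 0)
def par (i : Fin 128) : Fin 128 := Fin.ofNat 128 (parL.getD i.val 0)
def gn (i : Fin 128) : Fin 3 := Fin.ofNat 3 (gnL.getD i.val 0)
def inv (i : Fin 128) : Fin 128 := Fin.ofNat 128 (invL.getD i.val 0)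
def pf (i : Fin 128) (x : Fin 8) : Fin 8 := Fin.ofNat 8 ((pfL.getD i.val []).getD x.val 0)

abbrev I6 : Type := (Fin 2 ⊕ Fin 2) ⊕ Fin 2

def idx6 : I6 → ℕ
  | .inl (.inl a) => a.val
  | .inl (.inr a) => 2 + a.val
  | .inr a => 4 + a.val

def M (i : Fin 128) : Matrix I6 I6 (ZMod 2) := fun a b =>
  (((mL.getD i.val []).getD (6 * idx6 a + idx6 b) 0 : ℕ) : ZMod 2)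

set_option maxRecDepth 100000 in
theorem htree : ∀ i : Fin 128, i ≠ 0 → par i < i ∧ stp (par i) (gn i) = i := by decide +kernel

set_option maxRecDepth 100000 in
theorem pf_inv_left : ∀ (i : Fin 128) (x : Fin 8), pf (inv i) (pf i x) = x := by decide +kernel

set_option maxRecDepth 100000 in
theorem pf_inv_right : ∀ (i : Fin 128) (x : Fin 8), pf i (pf (inv i) x) = x := by decide +kernel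

set_option maxRecDepth 100000 in
theorem pf_zero : ∀ x : Fin 8, pf 0 x = x := by decide +kernel

set_option maxRecDepth 100000 in
theorem pf_stp : ∀ (i : Fin 128) (k : Fin 3) (x : Fin 8), pf (stp i k) x = pf i (pf (stp 0 k) x) := by
  decide +kernel

set_option maxRecDepth 100000 in
theorem pf_inj : ∀ i j : Fin 128, (∀ x, pf i x = pf j x) → i = j := by decide +kernel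

/-- the permutations -/
def perm (i : Fin 128) : Equiv.Perm (Fin 8) := ⟨pf i, pf (inv i), pf_inv_left i, pf_inv_right i⟩

set_option maxRecDepth 100000 in
theorem M_zero : M 0 = 1 := by decide +kernel

set_option maxRecDepth 100000 in
theorem M_stp : ∀ (i : Fin 128) (k : Fin 3), M (stp i k) = M i * M (stp 0 k) := by decide +kernel

set_option maxRecDepth 100000 in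
theorem M_ker : ∀ k : Fin 128, M k = 1 → k = 0 := by decide +kernel

set_option maxRecDepth 100000 in
theorem M_iso : ∀ (k : Fin 3) (u : I6 → ZMod 2),
    Cfsg.quadFormMinus 2 (ZMod 2) 1 1 (M (stp 0 k) *ᵥ u) = Cfsg.quadFormMinus 2 (ZMod 2) 1 1 u := by
  decide +kernel

end Cfsg.Agent.Helper13.S2931B
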