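import Mathlib
import Cfsg.Agent.Helper29.TV2_TR1
import Cfsg.Agent.Helper24.TV2_DE
import Cfsg.Agent.Helper12.S3000F6

/-! Board `s2981pieces`, row `Q2_B2`, CORE: (B2) for `q = 2`: exact offenders of `P` lie in `E`.
Hypotheses = the rows `TR3_card_W`, `TR3_card_fix` and `OFF2` (fed with `TR3_hF2`, `TR3_hS`). -/

set_option autoImplicit false

namespace Cfsg.Agent.S2981P

open Cfsg.Agent.TV2 Cfsg.Agent.S2789P Cfsg.Agent.S2999P Cfsg.Agent.S3000P
open scoped commutatorElement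

variable {G : Type*} [Group G] [Finite G] {V P : Subgroup G} {hV : Cfsg.IsElementaryAbelian 2 V}
  {hPV : P ≤ Subgroup.normalizer (V : Set G)}

/-- Q2_B2 core. `hcW = TR3_card_W`, `hcF = TR3_card_fix`, `hOFF = OFF2 C (TR3_hF2 ..) (TR3_hS ..)`. -/
theorem Q2_B2_aux_core (C : Ctx ↥P (WV V P hV hPV)) (Hy : Hyp 2 V P C.T C.M)
    (hcW : Nat.card (WV V P hV hPV) = Nat.card ↥V)
    (hcF : ∀ H : Subgroup ↥P, Nat.card ↥(fixS (WV V P hV hPV) H) = Nat.card ↥(fixV V (H.map P.subtype)))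
    (hOFF : ∀ B' : Subgroup ↥P, B' ≤ (C.T : Subgroup ↥P) → (∀ b ∈ B', b * b = 1) →
      Nat.card ↥B' * Nat.card ↥(fixS (WV V P hV hPV) B') = Nat.card (WV V P hV hPV) → B' ≤ C.E)
    {B : Subgroup G} (hB : Off 2 V P B) :
    B ≤ (C.E).map P.subtype := by
  obtain ⟨h, hhP, hh⟩ := F2_aux_conj_into P C.T hB.le (F2_aux_isPGroup hB.hel)
  have hcjP : cjs h B ≤ P := cj_le_of_mem hhP hB.le
  have hmap : ((cjs h B).subgroupOf P).map P.subtype = cjs h B := by
    rw [Subgroup.subgroupOf_map_subtype]; exact inf_eq_left.mpr hcjP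
  have hB'T : (cjs h B).subgroupOf P ≤ (C.T : Subgroup ↥P) := by
    intro b hb
    have hb' : (b : G) ∈ cjs h B := Subgroup.mem_subgroupOf.mp hb
    obtain ⟨t, ht, hte⟩ := hh hb'
    have e : t = b := Subtype.ext hte
    rwa [← e]
  have hel' : Cfsg.IsElementaryAbelian 2 (cjs h B) := F2_aux_elab_cj hB.hel h
  have hexp : ∀ b ∈ (cjs h B).subgroupOf P, b * b = 1 := by
    intro b hb
    have h1 := hel'.2 (b : G) (Subgroup.mem_subgroupOf.mp hb)
    apply Subtype.ext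
    rw [Subgroup.coe_mul, Subgroup.coe_one, ← pow_two]
    exact h1
  have hcard : Nat.card ↥((cjs h B).subgroupOf P) = Nat.card ↥B := by
    rw [← cj_card h B]
    exact Nat.card_congr (Subgroup.subgroupOfEquivOfLe hcjP).toEquiv
  have hval : Nat.card ↥((cjs h B).subgroupOf P) * Nat.card ↥(fixS (WV V P hV hPV) ((cjs h B).subgroupOf P)) =
      Nat.card (WV V P hV hPV) := by
    rw [hcW, hcF, hmap, cj_fix B (Hy.hPV hhP), cj_card, hcard]
    exact hB.val
  have hle : (cjs h B).subgroupOf P ≤ C.E := hOFF _ hB'T hexp hval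
  have hEn : C.E.Normal := DE_normal C
  intro b hb
  have h1 : h * b * h⁻¹ ∈ cjs h B := cj_mem_conj.mpr hb
  have h2 : (⟨h * b * h⁻¹, hcjP h1⟩ : ↥P) ∈ C.E := hle (Subgroup.mem_subgroupOf.mpr h1)
  have h3 := hEn.conj_mem _ h2 (⟨h, hhP⟩⁻¹ : ↥P)
  refine ⟨_, h3, ?_⟩
  simp only [Subgroup.subtype_apply, Subgroup.coe_mul, Subgroup.coe_inv, inv_inv]
  group

end Cfsg.Agent.S2981P
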