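import Mathlib

/-! Board `s3001pieces`, row CHAR6, stub-free core: in a group `K` of order 6 the elements of order 3 generate a nontrivial subgroup of
odd order (the normal Sylow 3-subgroup); the choice `K ↦ closure {x ∈ K | orderOf x = 3}` commutes with conjugation. -/

set_option autoImplicit false
set_option linter.style.haveILetI false
set_option linter.unusedSimpArgs false

namespace Cfsg.Agent.S3001P

universe u
variable {G : Type u} [Group G]

/-- the subgroup generated by the elements of order 3 of `K` -/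
def CHAR6_aux_c (K : Subgroup G) : Subgroup G := Subgroup.closure {x : G | x ∈ K ∧ orderOf x = 3}

theorem CHAR6_aux_c_le (K : Subgroup G) : CHAR6_aux_c K ≤ K := by
  unfold CHAR6_aux_c
  rw [Subgroup.closure_le]
  intro x hx
  exact hx.1

theorem CHAR6_aux_c_conj (g : G) (K : Subgroup G) :
    (CHAR6_aux_c K).map (MulAut.conj g).toMonoidHom = CHAR6_aux_c (K.map (MulAut.conj g).toMonoidHom) := by
  unfold CHAR6_aux_c
  rw [MonoidHom.map_closure]
  congr 1
  ext y
  simp only [Set.mem_image, Set.mem_ofPred_eq, Subgroup.mem_map]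
  constructor
  · rintro ⟨x, ⟨hxK, hx3⟩, rfl⟩
    refine ⟨⟨x, hxK, rfl⟩, ?_⟩
    have : orderOf ((MulAut.conj g).toMonoidHom x) = orderOf x :=
      orderOf_injective (MulAut.conj g).toMonoidHom (MulAut.conj g).injective x
    rw [this, hx3]
  · rintro ⟨⟨x, hxK, rfl⟩, hy3⟩
    refine ⟨x, ⟨hxK, ?_⟩, rfl⟩
    have : orderOf ((MulAut.conj g).toMonoidHom x) = orderOf x :=
      orderOf_injective (MulAut.conj g).toMonoidHom (MulAut.conj g).injective x
    rw [← this, hy3]

theorem CHAR6_aux_core [Finite G] (K : Subgroup G) (h6 : Nat.card ↥K = 6) :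
    CHAR6_aux_c K ≠ ⊥ ∧ (Nat.card ↥(CHAR6_aux_c K)).Coprime 2 := by
  haveI : Fact (Nat.Prime 3) := ⟨by norm_num⟩
  -- an element of order 3 in K
  have h3 : 3 ∣ Nat.card ↥K := by rw [h6]; norm_num
  obtain ⟨x, hx⟩ := exists_prime_orderOf_dvd_card' (G := ↥K) 3 h3
  have hxG : orderOf (x : G) = 3 := by rw [Subgroup.orderOf_coe]; exact hx
  have hne : CHAR6_aux_c K ≠ ⊥ := by
    intro h
    have hmem : (x : G) ∈ CHAR6_aux_c K := Subgroup.subset_closure ⟨x.2, hxG⟩
    rw [h, Subgroup.mem_bot] at hmem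
    rw [hmem, orderOf_one] at hxG
    norm_num at hxG
  refine ⟨hne, ?_⟩
  -- the Sylow 3-subgroup of K
  obtain ⟨Q⟩ : Nonempty (Sylow 3 ↥K) := inferInstance
  have hQcard : Nat.card ↥(Q : Subgroup ↥K) = 3 := by
    rw [Sylow.card_eq_multiplicity, h6]
    have : (6 : ℕ).factorization 3 = 1 := by
      have h : (6 : ℕ) = 2 * 3 := by norm_num
      rw [h, Nat.factorization_mul (by norm_num) (by norm_num)]
      simp [Nat.Prime.factorization_self, Nat.prime_two.factorization, Nat.prime_three.factorization]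
    rw [this]; norm_num
  have hQidx : (Q : Subgroup ↥K).index = 2 := by
    have := Subgroup.card_mul_index (Q : Subgroup ↥K)
    rw [hQcard, h6] at this
    omega
  haveI hQn : (Q : Subgroup ↥K).Normal := Subgroup.normal_of_index_eq_two hQidx
  -- every element of order 3 lies in Q
  have hall : ∀ y : ↥K, orderOf y = 3 → y ∈ (Q : Subgroup ↥K) := by
    intro y hy
    have hp : IsPGroup 3 ↥(Subgroup.zpowers y) := by
      apply IsPGroup.of_card (n := 1)
      rw [Nat.card_zpowers, hy]; norm_num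
    obtain ⟨Q', hQ'⟩ := hp.exists_le_sylow
    haveI := Sylow.unique_of_normal Q hQn
    have : Q' = Q := Subsingleton.elim _ _
    rw [← this]
    exact hQ' (Subgroup.mem_zpowers y)
  have hle : CHAR6_aux_c K ≤ (Q : Subgroup ↥K).map K.subtype := by
    unfold CHAR6_aux_c
    rw [Subgroup.closure_le]
    rintro y ⟨hyK, hy3⟩
    refine Subgroup.mem_map.mpr ⟨⟨y, hyK⟩, hall ⟨y, hyK⟩ ?_, rfl⟩
    rw [← Subgroup.orderOf_coe]; exact hy3
  have hpg : IsPGroup 3 ↥(CHAR6_aux_c K) := by
    have h1 : IsPGroup 3 ↥((Q : Subgroup ↥K).map K.subtype) := Q.2.map K.subtype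
    exact h1.to_le hle
  obtain ⟨n, hn⟩ := hpg.exists_card_eq
  rw [hn]
  exact Nat.Coprime.pow_left n (by norm_num)

end Cfsg.Agent.S3001P
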