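import Cfsg.Agent.Helper27.M24Syl2Norm

/-! Certificate data for S3171 (quotient of a Sylow 2-subgroup of `M24` by its centre). Computer generated. -/

set_option autoImplicit false

namespace Cfsg.Agent.Helper13.S3171D

open Cfsg.Agent.Helper27

/-- fixed conjugators with their inverses -/
def WL : List (List ℕ × List ℕ) := [
  ([0, 1, 2, 3, 4, 5, 6, 7, 8, 9, 10, 11, 12, 13, 14, 15, 16, 17, 18, 19, 20, 21, 22, 23], [0, 1, 2, 3, 4, 5, 6, 7, 8, 9, 10, 11, 12, 13, 14, 15, 16, 17, 18, 19, 20, 21, 22, 23]), ([22, 9, 6, 11, 13, 15, 12, 18, 17, 7, 21, 10, 20, 0, 16, 14, 5, 19, 1, 23, 2, 3, 4, 8], [13, 18, 20, 21, 22, 16, 2, 9, 23, 1, 11, 3, 6, 4, 15, 5, 14, 8, 7, 17, 12, 10, 0, 19]), ([2, 3, 1, 0, 7, 5, 18, 4, 19, 21, 10, 13,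 12, 22, 17, 16, 8, 14, 9, 15, 11, 6, 20, 23], [3, 2, 0, 1, 7, 5, 21, 4, 16, 18, 10, 20, 12, 11, 17, 19, 15, 14, 6, 8, 22, 9, 13, 23]), ([6, 11, 9, 22, 13, 15, 2, 18, 5, 0, 20, 3, 21, 12, 19, 23, 14, 16, 10, 17, 7, 4, 1, 8], [9, 22, 6, 11, 21, 8, 0, 20, 23, 2, 18, 1, 13, 4, 16, 5, 17, 19, 7, 14, 10, 12, 3, 15]), ([4, 7, 10, 12, 2, 17, 9, 3, 8, 11, 0, 22, 1, 18, 5, 15, 19, 23, 13, 16, 20, 21, 6, 14], [10, 12, 4, 7, 0, 14, 22, 1, 8, 6, 2, 9, 3, 18, 23, 15, 19, 5, 13, 16, 20, 21, 11, 17]), ([21, 20, 13, 18, 22, 16, 4, 9, 17, 12, 6, 7, 11, 1, 8, 14, 23, 15, 0, 5, 2, 3, 10, 19], [18, 13, 20, 21, 6, 19, 10, 11, 14, 7, 22, 12, 9, 2, 15, 17, 5, 8, 3, 23, 1, 0, 4, 16]), ([10, 12, 7, 4, 2, 14, 21, 3, 16, 13, 1, 20, 0, 22, 5, 19,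 8, 23, 9, 15, 6, 11, 18, 17], [12, 10, 4, 7, 3, 14, 20, 2, 16, 18, 0, 21, 1, 9, 5, 19, 8, 23, 22, 15, 11, 6, 13, 17]), ([18, 13, 21, 20, 9, 16, 3, 22, 23, 0, 6, 2, 11, 7, 15, 5, 14, 8, 4, 17, 10, 12, 1, 19], [9, 22, 11, 6, 18, 15, 10, 13, 17, 4, 20, 12, 21, 1, 16, 14, 5, 19, 0, 23, 3, 2, 7, 8]), ([6, 11, 22, 9, 21, 8, 10, 20, 17, 4, 13, 12, 18, 0, 19, 14, 5, 16, 1, 23, 2, 3, 7, 15], [13, 18, 20, 21, 9, 16, 0, 22, 5, 3, 6, 1, 11, 10, 15, 23, 17, 8, 12, 14, 7, 4, 2, 19]), ([0, 1, 3, 2, 12, 19, 22, 10, 23, 6, 4, 9, 7, 13, 15, 5, 17, 8, 18, 14, 21, 20, 11, 16], [0, 1, 3, 2, 10, 15, 9, 12, 17, 11, 7, 22, 4, 13, 19, 14, 23, 16, 18, 5, 21, 20, 6, 8]), ([20, 21, 18, 13, 22, 23, 1, 9, 8, 3, 6, 0, 11, 7, 14, 15, 19, 17, 4, 16, 12,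 10, 2, 5], [11, 6, 22, 9, 18, 23, 10, 13, 8, 7, 21, 12, 20, 3, 14, 15, 19, 17, 2, 16, 0, 1, 4, 5]), ([3, 2, 1, 0, 10, 17, 11, 12, 16, 22, 4, 6, 7, 18, 23, 19, 8, 5, 13, 15, 21, 20, 9, 14], [3, 2, 1, 0, 10, 17, 11, 12, 16, 22, 4, 6, 7, 18, 23, 19, 8, 5, 13, 15, 21, 20, 9, 14]), ([11, 6, 9, 22, 18, 16, 7, 13, 14, 12, 20, 4, 21, 1, 15, 17, 23, 8, 0, 5, 3, 2, 10, 19], [18, 13, 21, 20, 11, 19, 1, 6, 17, 2, 22, 0, 9, 7, 8, 14, 5, 15, 4, 23, 10, 12, 3, 16]), ([0, 1, 3, 2, 12, 8, 11, 10, 17, 9, 4, 6, 7, 21, 16, 14, 23, 19, 20, 5, 13, 18, 22, 15], [0, 1, 3, 2, 10, 19, 11, 12, 5, 9, 7, 6, 4, 20, 15, 23, 14, 8, 21, 17, 18, 13, 22, 16]), ([6, 11, 22, 9, 18, 16, 12, 13, 17, 7, 20, 10, 21, 3, 15, 14, 5, 8, 2, 23, 1, 0, 4, 19], [21,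 20, 18, 13, 22, 16, 0, 9, 17, 3, 11, 1, 6, 7, 15, 14, 5, 8, 4, 23, 10, 12, 2, 19]), ([10, 12, 4, 7, 3, 17, 11, 2, 16, 9, 1, 6, 0, 18, 5, 19, 15, 23, 13, 8, 20, 21, 22, 14], [12, 10, 7, 4, 2, 14, 11, 3, 19, 9, 0, 6, 1, 18, 23, 16, 8, 5, 13, 15, 20, 21, 22, 17])]

/-- canonical representatives of the abelian subgroup of order 64 -/
def EL64 : List (List ℕ) := [
  [0, 1, 2, 3, 4, 5, 6, 7, 8, 9, 10, 11, 12, 13, 14, 15, 16, 17, 18, 19, 20, 21, 22, 23],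
  [0, 1, 2, 3, 4, 23, 11, 7, 15, 22, 10, 6, 12, 18, 17, 8, 19, 14, 13, 16, 21, 20, 9, 5],
  [0, 1, 2, 3, 7, 14, 11, 4, 16, 22, 12, 6, 10, 13, 5, 19, 8, 23, 18, 15, 20, 21, 9, 17],
  [0, 1, 2, 3, 7, 17, 6, 4, 19, 9, 12, 11, 10, 18, 23, 16, 15, 5, 13, 8, 21, 20, 22, 14],
  [0, 1, 3, 2, 4, 8, 6, 7, 5, 22, 12, 11, 10, 13, 16, 23, 14, 19, 18, 17, 21, 20, 9, 15],
  [0, 1, 3, 2, 4, 15, 11, 7, 23, 9, 12, 6, 10, 18, 19, 5, 17, 16, 13, 14, 20, 21, 22, 8],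
  [0, 1, 3, 2, 7, 16, 11, 4, 14, 9, 10, 6, 12, 13, 8, 17, 5, 15, 18, 23, 21, 20, 22, 19],
  [0, 1, 3, 2, 7, 19, 6, 4, 17, 22, 10, 11, 12, 18, 15, 14, 23, 8, 13, 5, 20, 21, 9, 16],
  [2, 3, 0, 1, 10, 14, 9, 12, 16, 6, 4, 22, 7, 20, 5, 19, 8, 23, 21, 15, 13, 18, 11, 17],
  [2, 3, 0, 1, 10, 17, 22, 12, 19, 11, 4, 9, 7, 21, 23, 16, 15, 5, 20, 8, 18, 13, 6, 14],
  [2, 3, 0, 1, 12, 5, 22, 10, 8, 11, 7, 9, 4, 20, 14, 15, 16, 17, 21, 19, 13, 18, 6, 23],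
  [2, 3, 0, 1, 12, 23, 9, 10, 15, 6, 7, 22, 4, 21, 17, 8, 19, 14, 20, 16, 18, 13, 11, 5],
  [2, 3, 1, 0, 10, 16, 9, 12, 14, 11, 7, 22, 4, 20, 8, 17, 5, 15, 21, 23, 18, 13, 6, 19],
  [2, 3, 1, 0, 10, 19, 22, 12, 17, 6, 7, 9, 4, 21, 15, 14, 23, 8, 20, 5, 13, 18, 11, 16],
  [2, 3, 1, 0, 12, 8, 22, 10, 5, 6, 4, 9, 7, 20, 16, 23, 14, 19, 21, 17, 18, 13, 11, 15],
  [2, 3, 1, 0, 12, 15, 9, 10, 23, 11, 4, 22, 7, 21, 19, 5, 17, 16, 20, 14, 13, 18, 6, 8],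
  [4, 7, 10, 12, 0, 8, 18, 1, 5, 21, 2, 13, 3, 11, 16, 23, 14, 19, 6, 17, 22, 9, 20, 15],
  [4, 7, 10, 12, 0, 15, 13, 1, 23, 20, 2, 18, 3, 6, 19, 5, 17, 16, 11, 14, 9, 22, 21, 8],
  [4, 7, 10, 12, 1, 16, 13, 0, 14, 20, 3, 18, 2, 11, 8, 17, 5, 15, 6, 23, 22, 9, 21, 19],
  [4, 7, 10, 12, 1, 19, 18, 0, 17, 21, 3, 13, 2, 6, 15, 14, 23, 8, 11, 5, 9, 22, 20, 16],
  [4, 7, 12, 10, 0, 5, 18, 1, 8, 20, 3, 13, 2, 11, 14, 15, 16, 17, 6, 19, 9, 22, 21, 23],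
  [4, 7, 12, 10, 0, 23, 13, 1, 15, 21, 3, 18, 2, 6, 17, 8, 19, 14, 11, 16, 22, 9, 20, 5],
  [4, 7, 12, 10, 1, 14, 13, 0, 16, 21, 2, 18, 3, 11, 5, 19, 8, 23, 6, 15, 9, 22, 20, 17],
  [4, 7, 12, 10, 1, 17, 18, 0, 19, 20, 2, 13, 3, 6, 23, 16, 15, 5, 11, 8, 22, 9, 21, 14],
  [6, 11, 9, 22, 13, 16, 1, 18, 14, 3, 20, 0, 21, 7, 8, 17, 5, 15, 4, 23, 12, 10, 2, 19],
  [6, 11, 9, 22, 13, 19, 0, 18, 17, 2, 20, 1, 21, 4, 15, 14, 23, 8, 7, 5, 10, 12, 3, 16],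
  [6, 11, 9, 22, 18, 8, 0, 13, 5, 2, 21, 1, 20, 7, 16, 23, 14, 19, 4, 17, 12, 10, 3, 15],
  [6, 11, 9, 22, 18, 15, 1, 13, 23, 3, 21, 0, 20, 4, 19, 5, 17, 16, 7, 14, 10, 12, 2, 8],
  [6, 11, 22, 9, 13, 14, 1, 18, 16, 2, 21, 0, 20, 7, 5, 19, 8, 23, 4, 15, 10, 12, 3, 17],
  [6, 11, 22, 9, 13, 17, 0, 18, 19, 3, 21, 1, 20, 4, 23, 16, 15, 5, 7, 8, 12, 10, 2, 14],
  [6, 11, 22, 9, 18, 5, 0, 13, 8, 3, 20, 1, 21, 7, 14, 15, 16, 17, 4, 19, 10, 12, 2, 23],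
  [6, 11, 22, 9, 18, 23, 1, 13, 15, 2, 20, 0, 21, 4, 17, 8, 19, 14, 7, 16, 12, 10, 3, 5],
  [9, 22, 6, 11, 20, 8, 3, 21, 5, 1, 13, 2, 18, 12, 16, 23, 14, 19, 10, 17, 7, 4, 0, 15],
  [9, 22, 6, 11, 20, 15, 2, 21, 23, 0, 13, 3, 18, 10, 19, 5, 17, 16, 12, 14, 4, 7, 1, 8],
  [9, 22, 6, 11, 21, 16, 2, 20, 14, 0, 18, 3, 13, 12, 8, 17, 5, 15, 10, 23, 7, 4, 1, 19],
  [9, 22, 6, 11, 21, 19, 3, 20, 17, 1, 18, 2, 13, 10, 15, 14, 23, 8, 12, 5, 4, 7, 0, 16],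
  [9, 22, 11, 6, 20, 5, 3, 21, 8, 0, 18, 2, 13, 12, 14, 15, 16, 17, 10, 19, 4, 7, 1, 23],
  [9, 22, 11, 6, 20, 23, 2, 21, 15, 1, 18, 3, 13, 10, 17, 8, 19, 14, 12, 16, 7, 4, 0, 5],
  [9, 22, 11, 6, 21, 14, 2, 20, 16, 1, 13, 3, 18, 12, 5, 19, 8, 23, 10, 15, 4, 7, 0, 17],
  [9, 22, 11, 6, 21, 17, 3, 20, 19, 0, 13, 2, 18, 10, 23, 16, 15, 5, 12, 8, 7, 4, 1, 14],
  [10, 12, 4, 7, 2, 16, 21, 3, 14, 18, 0, 20, 1, 22, 8, 17, 5, 15, 9, 23, 11, 6, 13, 19],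
  [10, 12, 4, 7, 2, 19, 20, 3, 17, 13, 0, 21, 1, 9, 15, 14, 23, 8, 22, 5, 6, 11, 18, 16],
  [10, 12, 4, 7, 3, 8, 20, 2, 5, 13, 1, 21, 0, 22, 16, 23, 14, 19, 9, 17, 11, 6, 18, 15],
  [10, 12, 4, 7, 3, 15, 21, 2, 23, 18, 1, 20, 0, 9, 19, 5, 17, 16, 22, 14, 6, 11, 13, 8],
  [10, 12, 7, 4, 2, 14, 21, 3, 16, 13, 1, 20, 0, 22, 5, 19, 8, 23, 9, 15, 6, 11, 18, 17],
  [10, 12, 7, 4, 2, 17, 20, 3, 19, 18, 1, 21, 0, 9, 23, 16, 15, 5, 22, 8, 11, 6, 13, 14],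
  [10, 12, 7, 4, 3, 5, 20, 2, 8, 18, 0, 21, 1, 22, 14, 15, 16, 17, 9, 19, 6, 11, 13, 23],
  [10, 12, 7, 4, 3, 23, 21, 2, 15, 13, 0, 20, 1, 9, 17, 8, 19, 14, 22, 16, 11, 6, 18, 5],
  [13, 18, 20, 21, 6, 14, 4, 11, 16, 10, 9, 7, 22, 0, 5, 19, 8, 23, 1, 15, 2, 3, 12, 17],
  [13, 18, 20, 21, 6, 17, 7, 11, 19, 12, 9, 4, 22, 1, 23, 16, 15, 5, 0, 8, 3, 2, 10, 14],
  [13, 18, 20, 21, 11, 5, 7, 6, 8, 12, 22, 4, 9, 0, 14, 15, 16, 17, 1, 19, 2, 3, 10, 23],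
  [13, 18, 20, 21, 11, 23, 4, 6, 15, 10, 22, 7, 9, 1, 17, 8, 19, 14, 0, 16, 3, 2, 12, 5],
  [13, 18, 21, 20, 6, 16, 4, 11, 14, 12, 22, 7, 9, 0, 8, 17, 5, 15, 1, 23, 3, 2, 10, 19],
  [13, 18, 21, 20, 6, 19, 7, 11, 17, 10, 22, 4, 9, 1, 15, 14, 23, 8, 0, 5, 2, 3, 12, 16],
  [13, 18, 21, 20, 11, 8, 7, 6, 5, 10, 9, 4, 22, 0, 16, 23, 14, 19, 1, 17, 3, 2, 12, 15],
  [13, 18, 21, 20, 11, 15, 4, 6, 23, 12, 9, 7, 22, 1, 19, 5, 17, 16, 0, 14, 2, 3, 10, 8],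
  [20, 21, 13, 18, 9, 5, 10, 22, 8, 4, 6, 12, 11, 2, 14, 15, 16, 17, 3, 19, 0, 1, 7, 23],
  [20, 21, 13, 18, 9, 23, 12, 22, 15, 7, 6, 10, 11, 3, 17, 8, 19, 14, 2, 16, 1, 0, 4, 5],
  [20, 21, 13, 18, 22, 14, 12, 9, 16, 7, 11, 10, 6, 2, 5, 19, 8, 23, 3, 15, 0, 1, 4, 17],
  [20, 21, 13, 18, 22, 17, 10, 9, 19, 4, 11, 12, 6, 3, 23, 16, 15, 5, 2, 8, 1, 0, 7, 14],
  [20, 21, 18, 13, 9, 8, 10, 22, 5, 7, 11, 12, 6, 2, 16, 23, 14, 19, 3, 17, 1, 0, 4, 15],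
  [20, 21, 18, 13, 9, 15, 12, 22, 23, 4, 11, 10, 6, 3, 19, 5, 17, 16, 2, 14, 0, 1, 7, 8],
  [20, 21, 18, 13, 22, 16, 12, 9, 14, 4, 6, 10, 11, 2, 8, 17, 5, 15, 3, 23, 1, 0, 7, 19],
  [20, 21, 18, 13, 22, 19, 10, 9, 17, 7, 6, 12, 11, 3, 15, 14, 23, 8, 2, 5, 0, 1, 4, 16]]

/-- canonical representatives of the classes of size at most 2 -/
def YL12 : List (List ℕ) := [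
  [0, 1, 2, 3, 4, 5, 6, 7, 8, 9, 10, 11, 12, 13, 14, 15, 16, 17, 18, 19, 20, 21, 22, 23],
  [0, 1, 2, 3, 4, 23, 11, 7, 15, 22, 10, 6, 12, 18, 17, 8, 19, 14, 13, 16, 21, 20, 9, 5],
  [0, 1, 2, 3, 7, 14, 11, 4, 16, 22, 12, 6, 10, 13, 5, 19, 8, 23, 18, 15, 20, 21, 9, 17],
  [0, 1, 2, 3, 7, 17, 6, 4, 19, 9, 12, 11, 10, 18, 23, 16, 15, 5, 13, 8, 21, 20, 22, 14],
  [2, 3, 0, 1, 10, 14, 9, 12, 16, 6, 4, 22, 7, 20, 5, 19, 8, 23, 21, 15, 13, 18, 11, 17],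
  [2, 3, 0, 1, 10, 17, 22, 12, 19, 11, 4, 9, 7, 21, 23, 16, 15, 5, 20, 8, 18, 13, 6, 14],
  [2, 3, 0, 1, 12, 5, 22, 10, 8, 11, 7, 9, 4, 20, 14, 15, 16, 17, 21, 19, 13, 18, 6, 23],
  [2, 3, 0, 1, 12, 23, 9, 10, 15, 6, 7, 22, 4, 21, 17, 8, 19, 14, 20, 16, 18, 13, 11, 5],
  [4, 7, 12, 10, 0, 5, 18, 1, 8, 20, 3, 13, 2, 11, 14, 15, 16, 17, 6, 19, 9, 22, 21, 23],
  [4, 7, 12, 10, 0, 23, 13, 1, 15, 21, 3, 18, 2, 6, 17, 8, 19, 14, 11, 16, 22, 9, 20, 5],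
  [10, 12, 7, 4, 3, 5, 20, 2, 8, 18, 0, 21, 1, 22, 14, 15, 16, 17, 9, 19, 6, 11, 13, 23],
  [10, 12, 7, 4, 3, 23, 21, 2, 15, 13, 0, 20, 1, 9, 17, 8, 19, 14, 22, 16, 11, 6, 18, 5]]

/-- the exceptional elements -/
def BadL : List (List ℕ) := [
  [0, 1, 2, 3, 4, 14, 9, 7, 19, 6, 10, 22, 12, 21, 5, 16, 15, 23, 20, 8, 18, 13, 11, 17],
  [0, 1, 2, 3, 4, 17, 22, 7, 16, 11, 10, 9, 12, 20, 23, 19, 8, 5, 21, 15, 13, 18, 6, 14],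
  [0, 1, 2, 3, 7, 5, 22, 4, 15, 11, 12, 9, 10, 21, 14, 8, 19, 17, 20, 16, 18, 13, 6, 23],
  [0, 1, 2, 3, 7, 23, 9, 4, 8, 6, 12, 22, 10, 20, 17, 15, 16, 14, 21, 19, 13, 18, 11, 5],
  [2, 3, 0, 1, 10, 5, 6, 12, 15, 9, 4, 11, 7, 18, 14, 8, 19, 17, 13, 16, 21, 20, 22, 23],
  [2, 3, 0, 1, 10, 23, 11, 12, 8, 22, 4, 6, 7, 13, 17, 15, 16, 14, 18, 19, 20, 21, 9, 5],
  [2, 3, 0, 1, 12, 14, 11, 10, 19, 22, 7, 6, 4, 18, 5, 16, 15, 23, 13, 8, 21, 20, 9, 17],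
  [2, 3, 0, 1, 12, 17, 6, 10, 16, 9, 7, 11, 4, 13, 23, 19, 8, 5, 18, 15, 20, 21, 22, 14],
  [4, 7, 12, 10, 0, 14, 20, 1, 19, 18, 3, 21, 2, 22, 5, 16, 15, 23, 9, 8, 6, 11, 13, 17],
  [4, 7, 12, 10, 0, 17, 21, 1, 16, 13, 3, 20, 2, 9, 23, 19, 8, 5, 22, 15, 11, 6, 18, 14],
  [4, 7, 12, 10, 1, 5, 21, 0, 15, 13, 2, 20, 3, 22, 14, 8, 19, 17, 9, 16, 6, 11, 18, 23],
  [4, 7, 12, 10, 1, 23, 20, 0, 8, 18, 2, 21, 3, 9, 17, 15, 16, 14, 22, 19, 11, 6, 13, 5],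
  [10, 12, 7, 4, 2, 5, 13, 3, 15, 21, 1, 18, 0, 11, 14, 8, 19, 17, 6, 16, 9, 22, 20, 23],
  [10, 12, 7, 4, 2, 23, 18, 3, 8, 20, 1, 13, 0, 6, 17, 15, 16, 14, 11, 19, 22, 9, 21, 5],
  [10, 12, 7, 4, 3, 14, 18, 2, 19, 20, 0, 13, 1, 11, 5, 16, 15, 23, 6, 8, 9, 22, 21, 17],
  [10, 12, 7, 4, 3, 17, 13, 2, 16, 21, 0, 18, 1, 6, 23, 19, 8, 5, 11, 15, 22, 9, 20, 14]]

/-- certificates for the abelian subgroup statement -/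
def cert3 : List (ℕ × List ℕ) := [
  (0, []), (2, [0, 1, 2, 3, 4, 5, 6, 8, 2, 40]), (3, []), (2, [0, 1, 2, 3, 4, 5, 6, 8, 2, 40]), (2, [0, 1, 2, 3, 4, 5, 6, 8, 1, 55]), (3, []), (2, [0, 1, 2, 3, 4, 5, 6, 8, 1, 55]), (0, []), (2, [0, 1, 2, 3, 4, 5, 6, 8, 2, 41]), (0, []), (2, [0, 1, 2, 3, 4, 5, 6, 8, 2, 40]), (2, [0, 1, 2, 3, 4, 5, 6, 8, 2, 40]), (3, []), (2, [0, 1, 2, 3, 4, 5, 6, 8, 2, 41]), (3, []), (0, []), (1, [0, 1, 2, 3, 4, 5, 6, 7, 8]), (2, [0, 1, 2, 3, 4, 5, 6, 7, 2, 758]), (1, [0, 1, 2, 3, 4, 5, 6, 7, 8]), (1, [0, 1, 2, 3, 4, 5, 6, 7, 8]), (2, [0, 1, 2, 3, 4, 5, 6, 7, 2, 379]), (2, [0, 1, 2, 3, 4, 5, 6, 7, 2, 758]), (2, [0, 1, 2, 3, 4, 5, 6, 7, 2, 379]), (1, [0, 1, 2, 3, 4, 5, 6, 7, 8]), (1, [0, 1, 2, 3, 4, 5,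 6, 7, 8]), (2, [0, 1, 2, 3, 4, 5, 6, 7, 2, 758]), (2, [0, 1, 2, 3, 4, 5, 6, 7, 2, 758]), (2, [0, 1, 2, 3, 4, 5, 6, 7, 2, 379]), (1, [0, 1, 2, 3, 4, 5, 6, 7, 8]), (1, [0, 1, 2, 3, 4, 5, 6, 7, 8]), (2, [0, 1, 2, 3, 4, 5, 6, 7, 2, 379]), (1, [0, 1, 2, 3, 4, 5, 6, 7, 8]), (1, [0, 1, 4, 5, 9, 10, 11, 12, 13]), (1, [0, 1, 2, 3, 4, 5, 6, 7, 8]), (1, [0, 1, 2, 3, 4, 5, 6, 7, 9]), (1, [0, 1, 2, 3, 4, 5, 6, 7, 9]), (1, [0, 1, 2, 3, 4, 5, 6, 7, 8]), (1, [0, 1, 4, 5, 9, 10, 11, 12, 13]), (1, [0, 1, 2, 3, 4, 5, 6, 7, 8]), (1, [0, 1, 2, 3, 4, 5, 6, 7, 8]), (2, [0, 1, 2, 3, 4, 5, 6, 7, 1, 12]), (0, []), (2, [0, 1, 2, 3, 4, 5, 6, 7, 1, 12]), (0, []), (2, [0, 1, 2, 3, 7, 9, 11, 14, 1, 15]), (2, [0, 1, 2, 3, 4, 5, 6, 7, 1, 12]), (2, [0,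 1, 2, 3, 7, 9, 11, 14, 1, 15]), (2, [0, 1, 2, 3, 4, 5, 6, 7, 1, 12]), (2, [0, 1, 2, 3, 4, 5, 6, 7, 4, 12]), (0, []), (2, [0, 1, 2, 3, 4, 5, 6, 7, 4, 12]), (2, [0, 1, 2, 3, 4, 5, 6, 7, 4, 12]), (2, [0, 1, 2, 3, 7, 10, 11, 13, 4, 11]), (0, []), (2, [0, 1, 2, 3, 7, 10, 11, 13, 4, 11]), (2, [0, 1, 2, 3, 4, 5, 6, 7, 4, 12]), (1, [0, 1, 2, 3, 4, 5, 6, 7, 8]), (1, [0, 1, 2, 3, 4, 5, 6, 7, 9]), (1, [0, 1, 2, 3, 4, 5, 6, 7, 8]), (1, [0, 1, 2, 3, 4, 5, 6, 7, 9]), (1, [0, 1, 4, 5, 9, 10, 11, 12, 13]), (1, [0, 1, 2, 3, 4, 5, 6, 7, 8]), (1, [0, 1, 4, 5, 9, 10, 11, 12, 13]), (1, [0, 1, 2, 3, 4, 5, 6, 7, 8]), (2, [0, 1, 2, 3, 4, 5, 6, 8, 2, 40]), (0, []), (0, []), (3, []), (2, [0, 1, 2, 3, 4, 5, 6, 8, 2, 40]), (2, [0, 1, 2, 3, 4, 5,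 6, 8, 2, 41]), (3, []), (2, [0, 1, 2, 3, 4, 5, 6, 8, 2, 41]), (2, [0, 1, 2, 3, 4, 5, 6, 7, 2, 758]), (1, [0, 1, 2, 3, 4, 5, 6, 7, 8]), (2, [0, 1, 2, 3, 4, 5, 6, 7, 2, 379]), (2, [0, 1, 2, 3, 4, 5, 6, 7, 2, 758]), (1, [0, 1, 2, 3, 4, 5, 6, 7, 8]), (1, [0, 1, 2, 3, 4, 5, 6, 7, 8]), (1, [0, 1, 2, 3, 4, 5, 6, 7, 8]), (2, [0, 1, 2, 3, 4, 5, 6, 7, 2, 379]), (2, [0, 1, 2, 3, 4, 5, 6, 8, 2, 40]), (2, [0, 1, 2, 3, 4, 5, 6, 8, 1, 55]), (2, [0, 1, 2, 3, 4, 5, 6, 8, 2, 40]), (0, []), (0, []), (3, []), (3, []), (2, [0, 1, 2, 3, 4, 5, 6, 8, 1, 55]), (1, [0, 1, 2, 3, 4, 5, 6, 7, 8]), (2, [0, 1, 2, 3, 4, 5, 6, 7, 2, 379]), (1, [0, 1, 2, 3, 4, 5, 6, 7, 8]), (1, [0, 1, 2, 3, 4, 5, 6, 7, 8]), (2, [0, 1, 2, 3, 4, 5, 6, 7, 2, 758]), (2, [0,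 1, 2, 3, 4, 5, 6, 7, 2, 379]), (2, [0, 1, 2, 3, 4, 5, 6, 7, 2, 758]), (1, [0, 1, 2, 3, 4, 5, 6, 7, 8]), (1, [0, 1, 2, 3, 4, 5, 6, 7, 8]), (1, [0, 1, 2, 3, 4, 5, 6, 7, 8]), (1, [0, 1, 2, 3, 4, 5, 6, 7, 8]), (1, [0, 1, 4, 5, 9, 10, 11, 12, 13]), (1, [0, 1, 4, 5, 9, 10, 11, 12, 13]), (1, [0, 1, 2, 3, 4, 5, 6, 7, 9]), (1, [0, 1, 2, 3, 4, 5, 6, 7, 9]), (1, [0, 1, 2, 3, 4, 5, 6, 7, 8]), (1, [0, 1, 2, 3, 4, 5, 6, 7, 9]), (1, [0, 1, 4, 5, 9, 10, 11, 12, 13]), (1, [0, 1, 2, 3, 4, 5, 6, 7, 9]), (1, [0, 1, 2, 3, 4, 5, 6, 7, 8]), (1, [0, 1, 2, 3, 4, 5, 6, 7, 8]), (1, [0, 1, 2, 3, 4, 5, 6, 7, 8]), (1, [0, 1, 2, 3, 4, 5, 6, 7, 8]), (1, [0, 1, 4, 5, 9, 10, 11, 12, 13]), (2, [0, 1, 2, 3, 7, 9, 11, 14, 1, 15]), (2, [0, 1, 2, 3, 4, 5, 6,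 7, 1, 12]), (0, []), (0, []), (2, [0, 1, 2, 3, 4, 5, 6, 7, 1, 12]), (2, [0, 1, 2, 3, 7, 9, 11, 14, 1, 15]), (2, [0, 1, 2, 3, 4, 5, 6, 7, 1, 12]), (2, [0, 1, 2, 3, 4, 5, 6, 7, 1, 12]), (2, [0, 1, 2, 3, 7, 10, 11, 13, 4, 11]), (2, [0, 1, 2, 3, 4, 5, 6, 7, 4, 12]), (0, []), (2, [0, 1, 2, 3, 7, 10, 11, 13, 4, 11]), (2, [0, 1, 2, 3, 4, 5, 6, 7, 4, 12]), (2, [0, 1, 2, 3, 4, 5, 6, 7, 4, 12]), (2, [0, 1, 2, 3, 4, 5, 6, 7, 4, 12]), (0, []), (2, [0, 1, 2, 3, 4, 5, 6, 7, 4, 12]), (0, []), (2, [0, 1, 2, 3, 4, 5, 6, 7, 4, 12]), (2, [0, 1, 2, 3, 4, 5, 6, 7, 4, 12]), (2, [0, 1, 2, 3, 7, 10, 11, 13, 4, 11]), (0, []), (2, [0, 1, 2, 3, 7, 10, 11, 13, 4, 11]), (2, [0, 1, 2, 3, 4, 5, 6, 7, 4, 12]), (1, [0, 1, 2, 3, 4, 5, 6, 7, 8]), (1, [0,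 1, 4, 5, 9, 10, 11, 12, 13]), (1, [0, 1, 4, 5, 9, 10, 11, 12, 13]), (1, [0, 1, 2, 3, 4, 5, 6, 7, 9]), (1, [0, 1, 2, 3, 4, 5, 6, 7, 8]), (1, [0, 1, 2, 3, 4, 5, 6, 7, 8]), (1, [0, 1, 2, 3, 4, 5, 6, 7, 9]), (1, [0, 1, 2, 3, 4, 5, 6, 7, 8]), (2, [0, 1, 2, 3, 7, 9, 11, 14, 1, 15]), (0, []), (2, [0, 1, 2, 3, 7, 9, 11, 14, 1, 15]), (2, [0, 1, 2, 3, 4, 5, 6, 7, 1, 12]), (2, [0, 1, 2, 3, 4, 5, 6, 7, 1, 12]), (2, [0, 1, 2, 3, 4, 5, 6, 7, 1, 12]), (2, [0, 1, 2, 3, 4, 5, 6, 7, 1, 12]), (0, []), (1, [0, 1, 2, 3, 4, 5, 6, 7, 8]), (1, [0, 1, 4, 5, 9, 10, 11, 12, 13]), (1, [0, 1, 2, 3, 4, 5, 6, 7, 8]), (1, [0, 1, 2, 3, 4, 5, 6, 7, 8]), (1, [0, 1, 2, 3, 4, 5, 6, 7, 9]), (1, [0, 1, 2, 3, 4, 5, 6, 7, 8]), (1, [0, 1, 2, 3, 4, 5, 6, 7, 9]),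 (1, [0, 1, 4, 5, 9, 10, 11, 12, 13]), (2, [0, 1, 2, 3, 4, 5, 6, 8, 2, 40]), (2, [0, 1, 2, 3, 4, 5, 6, 8, 1, 55]), (2, [0, 1, 2, 3, 4, 5, 6, 8, 2, 40]), (0, []), (0, []), (3, []), (3, []), (2, [0, 1, 2, 3, 4, 5, 6, 8, 1, 55]), (2, [0, 1, 2, 3, 4, 5, 6, 8, 2, 40]), (0, []), (0, []), (3, []), (2, [0, 1, 2, 3, 4, 5, 6, 8, 2, 40]), (2, [0, 1, 2, 3, 4, 5, 6, 8, 2, 41]), (3, []), (2, [0, 1, 2, 3, 4, 5, 6, 8, 2, 41]), (1, [0, 1, 2, 3, 4, 5, 6, 7, 8]), (2, [0, 1, 2, 3, 4, 5, 6, 7, 2, 379]), (1, [0, 1, 2, 3, 4, 5, 6, 7, 8]), (1, [0, 1, 2, 3, 4, 5, 6, 7, 8]), (2, [0, 1, 2, 3, 4, 5, 6, 7, 2, 758]), (2, [0, 1, 2, 3, 4, 5, 6, 7, 2, 379]), (2, [0, 1, 2, 3, 4, 5, 6, 7, 2, 758]), (1, [0, 1, 2, 3, 4, 5, 6, 7, 8]), (1, [0, 1, 2, 3, 4, 5,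 6, 7, 8]), (2, [0, 1, 2, 3, 4, 5, 6, 7, 2, 379]), (1, [0, 1, 2, 3, 4, 5, 6, 7, 8]), (1, [0, 1, 2, 3, 4, 5, 6, 7, 8]), (2, [0, 1, 2, 3, 4, 5, 6, 7, 2, 758]), (1, [0, 1, 2, 3, 4, 5, 6, 7, 8]), (2, [0, 1, 2, 3, 4, 5, 6, 7, 2, 758]), (2, [0, 1, 2, 3, 4, 5, 6, 7, 2, 379]), (3, []), (2, [0, 1, 2, 3, 4, 5, 6, 8, 2, 40]), (2, [0, 1, 2, 3, 4, 5, 6, 8, 2, 40]), (2, [0, 1, 2, 3, 4, 5, 6, 8, 1, 55]), (3, []), (0, []), (2, [0, 1, 2, 3, 4, 5, 6, 8, 1, 55]), (0, []), (1, [0, 1, 2, 3, 4, 5, 6, 7, 8]), (1, [0, 1, 2, 3, 4, 5, 6, 7, 8]), (1, [0, 1, 2, 3, 4, 5, 6, 7, 8]), (2, [0, 1, 2, 3, 4, 5, 6, 7, 2, 379]), (2, [0, 1, 2, 3, 4, 5, 6, 7, 2, 379]), (2, [0, 1, 2, 3, 4, 5, 6, 7, 2, 758]), (2, [0, 1, 2, 3, 4, 5, 6, 7, 2, 758]), (1, [0, 1, 2,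 3, 4, 5, 6, 7, 8]), (2, [0, 1, 2, 3, 4, 5, 6, 7, 2, 758]), (1, [0, 1, 2, 3, 4, 5, 6, 7, 8]), (2, [0, 1, 2, 3, 4, 5, 6, 7, 2, 379]), (2, [0, 1, 2, 3, 4, 5, 6, 7, 2, 758]), (1, [0, 1, 2, 3, 4, 5, 6, 7, 8]), (1, [0, 1, 2, 3, 4, 5, 6, 7, 8]), (1, [0, 1, 2, 3, 4, 5, 6, 7, 8]), (2, [0, 1, 2, 3, 4, 5, 6, 7, 2, 379]), (0, []), (3, []), (0, []), (2, [0, 1, 2, 3, 4, 5, 6, 8, 2, 41]), (2, [0, 1, 2, 3, 4, 5, 6, 8, 2, 41]), (2, [0, 1, 2, 3, 4, 5, 6, 8, 2, 40]), (2, [0, 1, 2, 3, 4, 5, 6, 8, 2, 40]), (3, []), (2, [0, 1, 2, 3, 7, 9, 11, 14, 1, 15]), (2, [0, 1, 2, 3, 4, 5, 6, 7, 1, 12]), (2, [0, 1, 2, 3, 4, 5, 6, 7, 1, 12]), (2, [0, 1, 2, 3, 4, 5, 6, 7, 1, 12]), (2, [0, 1, 2, 3, 7, 9, 11, 14, 1, 15]), (0, []), (2, [0, 1, 2, 3, 4, 5, 6,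 7, 1, 12]), (0, []), (1, [0, 1, 2, 3, 4, 5, 6, 7, 9]), (1, [0, 1, 2, 3, 4, 5, 6, 7, 8]), (1, [0, 1, 4, 5, 9, 10, 11, 12, 13]), (1, [0, 1, 2, 3, 4, 5, 6, 7, 9]), (1, [0, 1, 2, 3, 4, 5, 6, 7, 8]), (1, [0, 1, 2, 3, 4, 5, 6, 7, 8]), (1, [0, 1, 2, 3, 4, 5, 6, 7, 8]), (1, [0, 1, 4, 5, 9, 10, 11, 12, 13]), (1, [0, 1, 4, 5, 9, 10, 11, 12, 13]), (1, [0, 1, 2, 3, 4, 5, 6, 7, 8]), (1, [0, 1, 2, 3, 4, 5, 6, 7, 9]), (1, [0, 1, 2, 3, 4, 5, 6, 7, 8]), (1, [0, 1, 2, 3, 4, 5, 6, 7, 8]), (1, [0, 1, 2, 3, 4, 5, 6, 7, 9]), (1, [0, 1, 2, 3, 4, 5, 6, 7, 8]), (1, [0, 1, 4, 5, 9, 10, 11, 12, 13]), (2, [0, 1, 2, 3, 7, 10, 11, 13, 4, 11]), (2, [0, 1, 2, 3, 4, 5, 6, 7, 4, 12]), (0, []), (0, []), (2, [0, 1, 2, 3, 4, 5, 6, 7, 4, 12]), (2, [0, 1, 2,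 3, 4, 5, 6, 7, 4, 12]), (2, [0, 1, 2, 3, 4, 5, 6, 7, 4, 12]), (2, [0, 1, 2, 3, 7, 10, 11, 13, 4, 11]), (2, [0, 1, 2, 3, 4, 5, 6, 8, 1, 55]), (0, []), (2, [0, 1, 2, 3, 4, 5, 6, 8, 2, 40]), (2, [0, 1, 2, 3, 4, 5, 6, 8, 2, 40]), (3, []), (0, []), (3, []), (2, [0, 1, 2, 3, 4, 5, 6, 8, 1, 55]), (1, [0, 1, 2, 3, 4, 5, 6, 7, 8]), (2, [0, 1, 2, 3, 4, 5, 6, 7, 2, 379]), (1, [0, 1, 2, 3, 4, 5, 6, 7, 8]), (2, [0, 1, 2, 3, 4, 5, 6, 7, 2, 379]), (2, [0, 1, 2, 3, 4, 5, 6, 7, 2, 365]), (1, [0, 1, 2, 3, 4, 5, 6, 7, 8]), (2, [0, 1, 2, 3, 4, 5, 6, 7, 2, 365]), (1, [0, 1, 2, 3, 4, 5, 6, 7, 8]), (2, [0, 1, 2, 3, 4, 5, 6, 7, 2, 379]), (1, [0, 1, 2, 3, 4, 5, 6, 7, 8]), (2, [0, 1, 2, 3, 4, 5, 6, 7, 2, 365]), (2, [0, 1, 2, 3, 4, 5, 6, 7, 2, 365]),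 (1, [0, 1, 2, 3, 4, 5, 6, 7, 8]), (2, [0, 1, 2, 3, 4, 5, 6, 7, 2, 379]), (1, [0, 1, 2, 3, 4, 5, 6, 7, 8]), (1, [0, 1, 2, 3, 4, 5, 6, 7, 8]), (3, []), (0, []), (3, []), (2, [0, 1, 2, 3, 4, 5, 6, 8, 2, 40]), (2, [0, 1, 2, 3, 4, 5, 6, 8, 2, 40]), (2, [0, 1, 2, 3, 4, 5, 6, 8, 2, 41]), (2, [0, 1, 2, 3, 4, 5, 6, 8, 2, 41]), (0, []), (2, [0, 1, 2, 3, 4, 5, 6, 7, 1, 12]), (0, []), (2, [0, 1, 2, 3, 4, 5, 6, 7, 1, 12]), (2, [0, 1, 2, 3, 4, 5, 6, 7, 1, 12]), (2, [0, 1, 2, 3, 7, 9, 11, 14, 1, 15]), (2, [0, 1, 2, 3, 4, 5, 6, 7, 1, 12]), (2, [0, 1, 2, 3, 7, 9, 11, 14, 1, 15]), (0, []), (1, [0, 1, 2, 3, 4, 5, 6, 7, 9]), (1, [0, 1, 2, 3, 4, 5, 6, 7, 8]), (1, [0, 1, 2, 3, 4, 5, 6, 7, 8]), (1, [0, 1, 2, 3, 4, 5, 6, 7, 8]), (1, [0, 1, 2,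 3, 4, 5, 6, 7, 9]), (1, [0, 1, 2, 3, 9, 10, 11, 12, 13]), (1, [0, 1, 2, 3, 4, 5, 6, 7, 8]), (1, [0, 1, 2, 3, 9, 10, 11, 12, 13]), (2, [0, 1, 2, 3, 4, 5, 6, 7, 4, 12]), (0, []), (2, [0, 1, 2, 3, 4, 5, 6, 7, 4, 12]), (2, [0, 1, 2, 3, 4, 5, 6, 7, 4, 12]), (2, [0, 1, 2, 3, 7, 10, 11, 13, 4, 11]), (0, []), (2, [0, 1, 2, 3, 7, 10, 11, 13, 4, 11]), (2, [0, 1, 2, 3, 4, 5, 6, 7, 4, 12]), (1, [0, 1, 2, 3, 4, 5, 6, 7, 9]), (1, [0, 1, 2, 3, 9, 10, 11, 12, 13]), (1, [0, 1, 2, 3, 4, 5, 6, 7, 9]), (1, [0, 1, 2, 3, 4, 5, 6, 7, 8]), (1, [0, 1, 2, 3, 4, 5, 6, 7, 8]), (1, [0, 1, 2, 3, 4, 5, 6, 7, 8]), (1, [0, 1, 2, 3, 4, 5, 6, 7, 8]), (1, [0, 1, 2, 3, 9, 10, 11, 12, 13]), (1, [0, 1, 2, 3, 4, 5, 6, 7, 8]), (1, [0, 1, 2, 3, 4, 5, 6, 7, 8]),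 (1, [0, 1, 2, 3, 4, 5, 6, 7, 8]), (1, [0, 1, 2, 3, 4, 5, 6, 7, 8]), (1, [0, 1, 2, 3, 4, 5, 6, 7, 8]), (1, [0, 1, 2, 3, 4, 5, 6, 7, 8]), (1, [0, 1, 2, 3, 4, 5, 6, 7, 8]), (1, [0, 1, 2, 3, 4, 5, 6, 7, 8]), (1, [0, 1, 2, 3, 4, 5, 6, 7, 8]), (1, [0, 1, 2, 3, 4, 5, 6, 7, 8]), (1, [0, 1, 2, 3, 4, 5, 6, 7, 8]), (1, [0, 1, 2, 3, 4, 5, 6, 7, 8]), (1, [0, 1, 2, 3, 4, 5, 6, 7, 8]), (1, [0, 1, 2, 3, 4, 5, 6, 7, 8]), (1, [0, 1, 2, 3, 4, 5, 6, 7, 8]), (1, [0, 1, 2, 3, 4, 5, 6, 7, 8]), (1, [0, 1, 7, 9, 10, 11, 12, 13, 14]), (1, [0, 1, 2, 3, 4, 5, 6, 7, 8]), (0, []), (0, []), (1, [0, 1, 2, 3, 4, 5, 6, 7, 8]), (1, [0, 1, 7, 9, 10, 11, 12, 13, 14]), (1, [0, 1, 2, 3, 4, 5, 6, 7, 8]), (1, [0, 1, 2, 3, 4, 5, 6, 7, 8]), (1, [0, 1, 7, 9, 10,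 11, 12, 13, 14]), (1, [0, 1, 2, 3, 4, 5, 6, 7, 8]), (0, []), (1, [0, 1, 7, 9, 10, 11, 12, 13, 14]), (1, [0, 1, 2, 3, 4, 5, 6, 7, 8]), (1, [0, 1, 2, 3, 4, 5, 6, 7, 8]), (1, [0, 1, 2, 3, 4, 5, 6, 7, 8]), (0, []), (1, [0, 1, 2, 3, 9, 10, 11, 12, 14]), (2, [0, 1, 2, 3, 4, 5, 6, 8, 20, 262]), (1, [0, 1, 2, 3, 4, 5, 6, 8, 9]), (2, [0, 1, 2, 3, 4, 5, 6, 8, 20, 262]), (2, [0, 1, 2, 3, 4, 5, 6, 8, 20, 262]), (1, [0, 1, 2, 3, 4, 5, 6, 8, 9]), (2, [0, 1, 2, 3, 4, 5, 6, 8, 20, 262]), (1, [0, 1, 2, 3, 9, 10, 11, 12, 14]), (2, [0, 1, 2, 3, 4, 5, 6, 8, 20, 262]), (1, [0, 1, 2, 3, 4, 5, 6, 8, 9]), (2, [0, 1, 2, 3, 4, 5, 6, 8, 20, 262]), (2, [0, 1, 2, 3, 4, 5, 6, 8, 20, 262]), (1, [0, 2, 4, 6, 9, 10, 11, 12, 13]), (2, [0, 1, 2, 3, 4, 5,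 6, 8, 20, 262]), (1, [0, 2, 4, 6, 9, 10, 11, 12, 13]), (1, [0, 1, 2, 3, 4, 5, 6, 8, 9]), (1, [0, 1, 2, 3, 4, 5, 6, 7, 8]), (0, []), (1, [0, 1, 2, 3, 4, 5, 6, 7, 8]), (1, [0, 1, 2, 3, 4, 5, 6, 7, 8]), (2, [0, 1, 2, 3, 7, 9, 10, 11, 20, 261]), (0, []), (2, [0, 1, 2, 3, 7, 9, 10, 11, 20, 261]), (1, [0, 1, 2, 3, 4, 5, 6, 7, 8]), (1, [0, 1, 2, 3, 4, 5, 6, 7, 8]), (0, []), (0, []), (2, [0, 1, 2, 3, 7, 9, 10, 11, 20, 261]), (1, [0, 1, 2, 3, 4, 5, 6, 7, 8]), (1, [0, 1, 2, 3, 4, 5, 6, 7, 8]), (2, [0, 1, 2, 3, 7, 9, 10, 11, 20, 261]), (1, [0, 1, 2, 3, 4, 5, 6, 7, 8]), (1, [0, 1, 2, 3, 9, 10, 11, 12, 13]), (1, [0, 1, 2, 3, 4, 5, 6, 7, 8]), (1, [0, 1, 2, 3, 4, 5, 6, 7, 8]), (1, [0, 1, 2, 3, 4, 5, 6, 7, 8]), (1, [0, 1, 2, 3, 9, 10,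 11, 12, 13]), (1, [0, 1, 2, 3, 4, 5, 6, 7, 9]), (1, [0, 1, 2, 3, 4, 5, 6, 7, 8]), (1, [0, 1, 2, 3, 4, 5, 6, 7, 9]), (2, [0, 1, 2, 3, 4, 5, 6, 7, 1, 12]), (0, []), (2, [0, 1, 2, 3, 4, 5, 6, 7, 1, 12]), (2, [0, 1, 2, 3, 4, 5, 6, 7, 1, 12]), (2, [0, 1, 2, 3, 7, 9, 11, 14, 1, 15]), (2, [0, 1, 2, 3, 4, 5, 6, 7, 1, 12]), (2, [0, 1, 2, 3, 7, 9, 11, 14, 1, 15]), (0, []), (1, [0, 1, 2, 3, 4, 5, 6, 7, 9]), (1, [0, 1, 2, 3, 4, 5, 6, 7, 8]), (1, [0, 1, 2, 3, 9, 10, 11, 12, 13]), (1, [0, 1, 2, 3, 9, 10, 11, 12, 13]), (1, [0, 1, 2, 3, 4, 5, 6, 7, 8]), (1, [0, 1, 2, 3, 4, 5, 6, 7, 8]), (1, [0, 1, 2, 3, 4, 5, 6, 7, 8]), (1, [0, 1, 2, 3, 4, 5, 6, 7, 9]), (0, []), (2, [0, 1, 2, 3, 4, 5, 6, 7, 4, 12]), (2, [0, 1, 2, 3, 7, 10, 11, 13, 4,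 11]), (2, [0, 1, 2, 3, 4, 5, 6, 7, 4, 12]), (2, [0, 1, 2, 3, 4, 5, 6, 7, 4, 12]), (2, [0, 1, 2, 3, 7, 10, 11, 13, 4, 11]), (2, [0, 1, 2, 3, 4, 5, 6, 7, 4, 12]), (0, []), (2, [0, 1, 2, 3, 4, 5, 6, 8, 2, 40]), (0, []), (0, []), (3, []), (2, [0, 1, 2, 3, 4, 5, 6, 8, 2, 40]), (2, [0, 1, 2, 3, 4, 5, 6, 8, 2, 41]), (3, []), (2, [0, 1, 2, 3, 4, 5, 6, 8, 2, 41]), (2, [0, 1, 2, 3, 4, 5, 6, 7, 2, 379]), (2, [0, 1, 2, 3, 4, 5, 6, 7, 2, 365]), (2, [0, 1, 2, 3, 4, 5, 6, 7, 2, 379]), (1, [0, 1, 2, 3, 4, 5, 6, 7, 8]), (1, [0, 1, 2, 3, 4, 5, 6, 7, 8]), (1, [0, 1, 2, 3, 4, 5, 6, 7, 8]), (1, [0, 1, 2, 3, 4, 5, 6, 7, 8]), (2, [0, 1, 2, 3, 4, 5, 6, 7, 2, 365]), (3, []), (2, [0, 1, 2, 3, 4, 5, 6, 8, 1, 55]), (0, []), (0, []), (2, [0, 1, 2,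 3, 4, 5, 6, 8, 2, 40]), (3, []), (2, [0, 1, 2, 3, 4, 5, 6, 8, 2, 40]), (2, [0, 1, 2, 3, 4, 5, 6, 8, 1, 55]), (2, [0, 1, 2, 3, 4, 5, 6, 7, 2, 379]), (1, [0, 1, 2, 3, 4, 5, 6, 7, 8]), (2, [0, 1, 2, 3, 4, 5, 6, 7, 2, 365]), (2, [0, 1, 2, 3, 4, 5, 6, 7, 2, 365]), (1, [0, 1, 2, 3, 4, 5, 6, 7, 8]), (1, [0, 1, 2, 3, 4, 5, 6, 7, 8]), (1, [0, 1, 2, 3, 4, 5, 6, 7, 8]), (2, [0, 1, 2, 3, 4, 5, 6, 7, 2, 379]), (1, [0, 2, 4, 6, 9, 10, 11, 12, 13]), (2, [0, 1, 2, 3, 4, 5, 6, 8, 20, 262]), (1, [0, 1, 2, 3, 4, 5, 6, 8, 9]), (1, [0, 1, 2, 3, 4, 5, 6, 8, 9]), (2, [0, 1, 2, 3, 4, 5, 6, 8, 20, 262]), (2, [0, 1, 2, 3, 4, 5, 6, 8, 20, 262]), (2, [0, 1, 2, 3, 4, 5, 6, 8, 20, 262]), (1, [0, 2, 4, 6, 9, 10, 11, 12, 13]), (1, [0, 1, 2, 3, 4, 5,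 6, 7, 8]), (0, []), (1, [0, 1, 2, 3, 4, 5, 6, 7, 8]), (0, []), (2, [0, 1, 2, 3, 7, 9, 10, 11, 20, 261]), (1, [0, 1, 2, 3, 4, 5, 6, 7, 8]), (2, [0, 1, 2, 3, 7, 9, 10, 11, 20, 261]), (1, [0, 1, 2, 3, 4, 5, 6, 7, 8]), (1, [0, 1, 2, 3, 4, 5, 6, 8, 9]), (2, [0, 1, 2, 3, 4, 5, 6, 8, 20, 262]), (2, [0, 1, 2, 3, 4, 5, 6, 8, 20, 262]), (2, [0, 1, 2, 3, 4, 5, 6, 8, 20, 262]), (1, [0, 1, 2, 3, 4, 5, 6, 8, 9]), (1, [0, 1, 2, 3, 9, 10, 11, 12, 14]), (2, [0, 1, 2, 3, 4, 5, 6, 8, 20, 262]), (1, [0, 1, 2, 3, 9, 10, 11, 12, 14]), (2, [0, 1, 2, 3, 7, 9, 10, 11, 20, 261]), (1, [0, 1, 2, 3, 4, 5, 6, 7, 8]), (0, []), (1, [0, 1, 2, 3, 4, 5, 6, 7, 8]), (1, [0, 1, 2, 3, 4, 5, 6, 7, 8]), (0, []), (1, [0, 1, 2, 3, 4, 5, 6, 7, 8]), (2, [0, 1, 2,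 3, 7, 9, 10, 11, 20, 261]), (1, [0, 1, 2, 3, 4, 5, 6, 7, 8]), (1, [0, 1, 2, 3, 4, 5, 6, 7, 8]), (1, [0, 1, 2, 3, 4, 5, 6, 7, 8]), (1, [0, 1, 2, 3, 4, 5, 6, 7, 8]), (1, [0, 1, 2, 3, 4, 5, 6, 7, 8]), (1, [0, 1, 2, 3, 4, 5, 6, 7, 8]), (1, [0, 1, 2, 3, 4, 5, 6, 7, 8]), (1, [0, 1, 2, 3, 4, 5, 6, 7, 8]), (1, [0, 1, 7, 9, 10, 11, 12, 13, 14]), (1, [0, 1, 2, 3, 4, 5, 6, 7, 8]), (0, []), (0, []), (1, [0, 1, 2, 3, 4, 5, 6, 7, 8]), (1, [0, 1, 7, 9, 10, 11, 12, 13, 14]), (1, [0, 1, 2, 3, 4, 5, 6, 7, 8]), (1, [0, 1, 2, 3, 4, 5, 6, 7, 8]), (1, [0, 1, 2, 3, 4, 5, 6, 7, 8]), (1, [0, 1, 2, 3, 4, 5, 6, 7, 8]), (1, [0, 1, 2, 3, 4, 5, 6, 7, 8]), (1, [0, 1, 2, 3, 4, 5, 6, 7, 8]), (1, [0, 1, 2, 3, 4, 5, 6, 7, 8]), (1, [0, 1, 2, 3, 4, 5, 6,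 7, 8]), (1, [0, 1, 2, 3, 4, 5, 6, 7, 8]), (1, [0, 1, 2, 3, 4, 5, 6, 7, 8]), (0, []), (1, [0, 1, 2, 3, 4, 5, 6, 7, 8]), (1, [0, 1, 2, 3, 4, 5, 6, 7, 8]), (1, [0, 1, 2, 3, 4, 5, 6, 7, 8]), (0, []), (1, [0, 1, 7, 9, 10, 11, 12, 13, 14]), (1, [0, 1, 2, 3, 4, 5, 6, 7, 8]), (1, [0, 1, 7, 9, 10, 11, 12, 13, 14]), (1, [0, 1, 2, 3, 4, 5, 6, 7, 9]), (1, [0, 1, 2, 3, 4, 5, 6, 7, 8]), (1, [0, 1, 2, 3, 9, 10, 11, 12, 13]), (1, [0, 1, 2, 3, 4, 5, 6, 7, 8]), (1, [0, 1, 2, 3, 4, 5, 6, 7, 8]), (1, [0, 1, 2, 3, 9, 10, 11, 12, 13]), (1, [0, 1, 2, 3, 4, 5, 6, 7, 8]), (1, [0, 1, 2, 3, 4, 5, 6, 7, 9]), (1, [0, 1, 2, 3, 4, 5, 6, 7, 8]), (1, [0, 1, 2, 3, 4, 5, 6, 7, 9]), (1, [0, 1, 2, 3, 4, 5, 6, 7, 8]), (1, [0, 1, 2, 3, 4, 5, 6, 7, 9]), (1,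 [0, 1, 2, 3, 9, 10, 11, 12, 13]), (1, [0, 1, 2, 3, 4, 5, 6, 7, 8]), (1, [0, 1, 2, 3, 9, 10, 11, 12, 13]), (1, [0, 1, 2, 3, 4, 5, 6, 7, 8]), (0, []), (2, [0, 1, 2, 3, 4, 5, 6, 7, 4, 12]), (2, [0, 1, 2, 3, 4, 5, 6, 7, 4, 12]), (2, [0, 1, 2, 3, 4, 5, 6, 7, 4, 12]), (0, []), (2, [0, 1, 2, 3, 7, 10, 11, 13, 4, 11]), (2, [0, 1, 2, 3, 4, 5, 6, 7, 4, 12]), (2, [0, 1, 2, 3, 7, 10, 11, 13, 4, 11]), (0, []), (2, [0, 1, 2, 3, 4, 5, 6, 7, 1, 12]), (2, [0, 1, 2, 3, 7, 9, 11, 14, 1, 15]), (2, [0, 1, 2, 3, 7, 9, 11, 14, 1, 15]), (2, [0, 1, 2, 3, 4, 5, 6, 7, 1, 12]), (2, [0, 1, 2, 3, 4, 5, 6, 7, 1, 12]), (2, [0, 1, 2, 3, 4, 5, 6, 7, 1, 12]), (0, []), (2, [0, 1, 2, 3, 4, 5, 6, 8, 2, 41]), (0, []), (2, [0, 1, 2, 3, 4, 5, 6, 8, 2, 40]), (2,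 [0, 1, 2, 3, 4, 5, 6, 8, 2, 41]), (3, []), (0, []), (3, []), (2, [0, 1, 2, 3, 4, 5, 6, 8, 2, 40]), (2, [0, 1, 2, 3, 4, 5, 6, 7, 2, 379]), (1, [0, 1, 2, 3, 4, 5, 6, 7, 8]), (2, [0, 1, 2, 3, 4, 5, 6, 7, 2, 365]), (2, [0, 1, 2, 3, 4, 5, 6, 7, 2, 365]), (1, [0, 1, 2, 3, 4, 5, 6, 7, 8]), (1, [0, 1, 2, 3, 4, 5, 6, 7, 8]), (1, [0, 1, 2, 3, 4, 5, 6, 7, 8]), (2, [0, 1, 2, 3, 4, 5, 6, 7, 2, 379]), (1, [0, 1, 2, 3, 4, 5, 6, 7, 8]), (1, [0, 1, 2, 3, 4, 5, 6, 7, 8]), (1, [0, 1, 2, 3, 4, 5, 6, 7, 8]), (2, [0, 1, 2, 3, 4, 5, 6, 7, 2, 379]), (2, [0, 1, 2, 3, 4, 5, 6, 7, 2, 379]), (2, [0, 1, 2, 3, 4, 5, 6, 7, 2, 365]), (2, [0, 1, 2, 3, 4, 5, 6, 7, 2, 365]), (1, [0, 1, 2, 3, 4, 5, 6, 7, 8]), (2, [0, 1, 2, 3, 4, 5, 6, 8, 2, 40]), (0, []),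 (2, [0, 1, 2, 3, 4, 5, 6, 8, 1, 55]), (2, [0, 1, 2, 3, 4, 5, 6, 8, 1, 55]), (3, []), (2, [0, 1, 2, 3, 4, 5, 6, 8, 2, 40]), (3, []), (0, []), (2, [0, 1, 2, 3, 4, 5, 6, 8, 20, 262]), (1, [0, 1, 2, 3, 9, 10, 11, 12, 14]), (1, [0, 1, 2, 3, 9, 10, 11, 12, 14]), (1, [0, 1, 2, 3, 4, 5, 6, 8, 9]), (2, [0, 1, 2, 3, 4, 5, 6, 8, 20, 262]), (2, [0, 1, 2, 3, 4, 5, 6, 8, 20, 262]), (1, [0, 1, 2, 3, 4, 5, 6, 8, 9]), (2, [0, 1, 2, 3, 4, 5, 6, 8, 20, 262]), (0, []), (1, [0, 1, 2, 3, 4, 5, 6, 7, 8]), (2, [0, 1, 2, 3, 7, 9, 10, 11, 20, 261]), (2, [0, 1, 2, 3, 7, 9, 10, 11, 20, 261]), (1, [0, 1, 2, 3, 4, 5, 6, 7, 8]), (0, []), (1, [0, 1, 2, 3, 4, 5, 6, 7, 8]), (1, [0, 1, 2, 3, 4, 5, 6, 7, 8]), (2, [0, 1, 2, 3, 4, 5, 6, 8, 20, 262]), (1, [0,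 1, 2, 3, 4, 5, 6, 8, 9]), (2, [0, 1, 2, 3, 4, 5, 6, 8, 20, 262]), (2, [0, 1, 2, 3, 4, 5, 6, 8, 20, 262]), (1, [0, 2, 4, 6, 9, 10, 11, 12, 13]), (1, [0, 1, 2, 3, 4, 5, 6, 8, 9]), (1, [0, 2, 4, 6, 9, 10, 11, 12, 13]), (2, [0, 1, 2, 3, 4, 5, 6, 8, 20, 262]), (1, [0, 1, 2, 3, 4, 5, 6, 7, 8]), (0, []), (1, [0, 1, 2, 3, 4, 5, 6, 7, 8]), (0, []), (2, [0, 1, 2, 3, 7, 9, 10, 11, 20, 261]), (1, [0, 1, 2, 3, 4, 5, 6, 7, 8]), (2, [0, 1, 2, 3, 7, 9, 10, 11, 20, 261]), (1, [0, 1, 2, 3, 4, 5, 6, 7, 8]), (1, [0, 1, 2, 3, 4, 5, 6, 7, 8]), (1, [0, 1, 7, 9, 10, 11, 12, 13, 14]), (1, [0, 1, 2, 3, 4, 5, 6, 7, 8]), (1, [0, 1, 7, 9, 10, 11, 12, 13, 14]), (0, []), (1, [0, 1, 2, 3, 4, 5, 6, 7, 8]), (0, []), (1, [0, 1, 2, 3, 4, 5, 6, 7, 8]), (1,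 [0, 1, 7, 9, 10, 11, 12, 13, 14]), (1, [0, 1, 2, 3, 4, 5, 6, 7, 8]), (0, []), (0, []), (1, [0, 1, 2, 3, 4, 5, 6, 7, 8]), (1, [0, 1, 7, 9, 10, 11, 12, 13, 14]), (1, [0, 1, 2, 3, 4, 5, 6, 7, 8]), (1, [0, 1, 2, 3, 4, 5, 6, 7, 8]), (1, [0, 1, 2, 3, 4, 5, 6, 7, 8]), (1, [0, 1, 2, 3, 4, 5, 6, 7, 8]), (1, [0, 1, 2, 3, 4, 5, 6, 7, 8]), (1, [0, 1, 2, 3, 4, 5, 6, 7, 8]), (1, [0, 1, 2, 3, 4, 5, 6, 7, 8]), (1, [0, 1, 2, 3, 4, 5, 6, 7, 8]), (1, [0, 1, 2, 3, 4, 5, 6, 7, 8]), (1, [0, 1, 2, 3, 4, 5, 6, 7, 8]), (1, [0, 1, 2, 3, 4, 5, 6, 7, 8]), (1, [0, 1, 2, 3, 4, 5, 6, 7, 8]), (1, [0, 1, 2, 3, 4, 5, 6, 7, 8]), (1, [0, 1, 2, 3, 4, 5, 6, 7, 8]), (1, [0, 1, 2, 3, 4, 5, 6, 7, 8]), (1, [0, 1, 2, 3, 4, 5, 6, 7, 8]), (1, [0, 1, 2, 3, 4, 5, 6,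 7, 8]), (1, [0, 1, 2, 3, 4, 5, 6, 7, 8]), (1, [0, 1, 2, 3, 4, 5, 6, 7, 9]), (1, [0, 1, 2, 3, 4, 5, 6, 7, 8]), (1, [0, 1, 2, 3, 4, 5, 6, 7, 8]), (1, [0, 1, 2, 3, 4, 5, 6, 7, 8]), (1, [0, 1, 2, 3, 4, 5, 6, 7, 9]), (1, [0, 1, 2, 3, 9, 10, 11, 12, 13]), (1, [0, 1, 2, 3, 4, 5, 6, 7, 8]), (1, [0, 1, 2, 3, 9, 10, 11, 12, 13]), (2, [0, 1, 2, 3, 7, 9, 11, 14, 1, 15]), (2, [0, 1, 2, 3, 4, 5, 6, 7, 1, 12]), (0, []), (2, [0, 1, 2, 3, 7, 9, 11, 14, 1, 15]), (2, [0, 1, 2, 3, 4, 5, 6, 7, 1, 12]), (2, [0, 1, 2, 3, 4, 5, 6, 7, 1, 12]), (2, [0, 1, 2, 3, 4, 5, 6, 7, 1, 12]), (0, []), (2, [0, 1, 2, 3, 7, 10, 11, 13, 4, 11]), (2, [0, 1, 2, 3, 4, 5, 6, 7, 4, 12]), (0, []), (2, [0, 1, 2, 3, 4, 5, 6, 7, 4, 12]), (2, [0, 1, 2, 3, 4, 5, 6, 7, 4,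 12]), (0, []), (2, [0, 1, 2, 3, 4, 5, 6, 7, 4, 12]), (2, [0, 1, 2, 3, 7, 10, 11, 13, 4, 11]), (1, [0, 1, 2, 3, 9, 10, 11, 12, 13]), (1, [0, 1, 2, 3, 4, 5, 6, 7, 8]), (1, [0, 1, 2, 3, 4, 5, 6, 7, 9]), (1, [0, 1, 2, 3, 4, 5, 6, 7, 9]), (1, [0, 1, 2, 3, 4, 5, 6, 7, 8]), (1, [0, 1, 2, 3, 4, 5, 6, 7, 8]), (1, [0, 1, 2, 3, 4, 5, 6, 7, 8]), (1, [0, 1, 2, 3, 9, 10, 11, 12, 13]), (1, [0, 1, 2, 3, 4, 5, 6, 7, 8]), (2, [0, 1, 2, 3, 4, 5, 6, 7, 2, 379]), (1, [0, 1, 2, 3, 4, 5, 6, 7, 8]), (1, [0, 1, 2, 3, 4, 5, 6, 7, 8]), (2, [0, 1, 2, 3, 4, 5, 6, 7, 2, 365]), (1, [0, 1, 2, 3, 4, 5, 6, 7, 8]), (2, [0, 1, 2, 3, 4, 5, 6, 7, 2, 365]), (2, [0, 1, 2, 3, 4, 5, 6, 7, 2, 379]), (2, [0, 1, 2, 3, 4, 5, 6, 8, 2, 41]), (0, []), (2, [0, 1, 2, 3,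 4, 5, 6, 8, 2, 40]), (0, []), (3, []), (2, [0, 1, 2, 3, 4, 5, 6, 8, 2, 40]), (3, []), (2, [0, 1, 2, 3, 4, 5, 6, 8, 2, 41]), (2, [0, 1, 2, 3, 4, 5, 6, 7, 2, 365]), (1, [0, 1, 2, 3, 4, 5, 6, 7, 8]), (1, [0, 1, 2, 3, 4, 5, 6, 7, 8]), (1, [0, 1, 2, 3, 4, 5, 6, 7, 8]), (2, [0, 1, 2, 3, 4, 5, 6, 7, 2, 365]), (2, [0, 1, 2, 3, 4, 5, 6, 7, 2, 379]), (1, [0, 1, 2, 3, 4, 5, 6, 7, 8]), (2, [0, 1, 2, 3, 4, 5, 6, 7, 2, 379]), (0, []), (2, [0, 1, 2, 3, 4, 5, 6, 8, 2, 40]), (3, []), (0, []), (2, [0, 1, 2, 3, 4, 5, 6, 8, 1, 55]), (2, [0, 1, 2, 3, 4, 5, 6, 8, 2, 40]), (2, [0, 1, 2, 3, 4, 5, 6, 8, 1, 55]), (3, []), (1, [0, 1, 2, 3, 4, 5, 6, 7, 8]), (1, [0, 1, 7, 9, 10, 11, 12, 13, 14]), (1, [0, 1, 2, 3, 4, 5, 6, 7, 8]), (1, [0, 1, 2, 3,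 4, 5, 6, 7, 8]), (0, []), (1, [0, 1, 7, 9, 10, 11, 12, 13, 14]), (0, []), (1, [0, 1, 2, 3, 4, 5, 6, 7, 8]), (1, [0, 1, 2, 3, 4, 5, 6, 7, 8]), (1, [0, 1, 2, 3, 4, 5, 6, 7, 8]), (1, [0, 1, 2, 3, 4, 5, 6, 7, 8]), (1, [0, 1, 2, 3, 4, 5, 6, 7, 8]), (1, [0, 1, 2, 3, 4, 5, 6, 7, 8]), (1, [0, 1, 2, 3, 4, 5, 6, 7, 8]), (1, [0, 1, 2, 3, 4, 5, 6, 7, 8]), (1, [0, 1, 2, 3, 4, 5, 6, 7, 8]), (1, [0, 1, 2, 3, 4, 5, 6, 7, 8]), (1, [0, 1, 2, 3, 4, 5, 6, 7, 8]), (1, [0, 1, 2, 3, 4, 5, 6, 7, 8]), (1, [0, 1, 2, 3, 4, 5, 6, 7, 8]), (1, [0, 1, 2, 3, 4, 5, 6, 7, 8]), (1, [0, 1, 2, 3, 4, 5, 6, 7, 8]), (1, [0, 1, 2, 3, 4, 5, 6, 7, 8]), (1, [0, 1, 2, 3, 4, 5, 6, 7, 8]), (1, [0, 1, 2, 3, 4, 5, 6, 7, 8]), (1, [0, 1, 7, 9, 10, 11, 12, 13, 14]), (1,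 [0, 1, 2, 3, 4, 5, 6, 7, 8]), (1, [0, 1, 2, 3, 4, 5, 6, 7, 8]), (0, []), (1, [0, 1, 2, 3, 4, 5, 6, 7, 8]), (0, []), (1, [0, 1, 7, 9, 10, 11, 12, 13, 14]), (1, [0, 1, 2, 3, 4, 5, 6, 8, 9]), (1, [0, 1, 2, 3, 9, 10, 11, 12, 14]), (1, [0, 1, 2, 3, 4, 5, 6, 8, 9]), (2, [0, 1, 2, 3, 4, 5, 6, 8, 17, 262]), (2, [0, 1, 2, 3, 4, 5, 6, 8, 17, 262]), (2, [0, 1, 2, 3, 4, 5, 6, 8, 17, 262]), (2, [0, 1, 2, 3, 4, 5, 6, 8, 17, 262]), (1, [0, 1, 2, 3, 9, 10, 11, 12, 14]), (1, [0, 1, 2, 3, 4, 5, 6, 8, 9]), (2, [0, 1, 2, 3, 4, 5, 6, 8, 17, 262]), (2, [0, 1, 2, 3, 4, 5, 6, 8, 17, 262]), (2, [0, 1, 2, 3, 4, 5, 6, 8, 17, 262]), (1, [0, 1, 2, 3, 4, 5, 6, 8, 9]), (1, [0, 2, 4, 6, 9, 10, 11, 12, 13]), (2, [0, 1, 2, 3, 4, 5, 6, 8, 17, 262]), (1,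 [0, 2, 4, 6, 9, 10, 11, 12, 13]), (1, [0, 1, 2, 3, 4, 5, 6, 7, 8]), (0, []), (1, [0, 1, 2, 3, 4, 5, 6, 7, 8]), (1, [0, 1, 2, 3, 4, 5, 6, 7, 8]), (2, [0, 1, 2, 3, 7, 11, 13, 15, 17, 261]), (0, []), (2, [0, 1, 2, 3, 7, 11, 13, 15, 17, 261]), (1, [0, 1, 2, 3, 4, 5, 6, 7, 8]), (1, [0, 1, 2, 3, 4, 5, 6, 7, 8]), (0, []), (1, [0, 1, 2, 3, 4, 5, 6, 7, 8]), (1, [0, 1, 2, 3, 4, 5, 6, 7, 8]), (2, [0, 1, 2, 3, 7, 11, 13, 15, 17, 261]), (1, [0, 1, 2, 3, 4, 5, 6, 7, 8]), (2, [0, 1, 2, 3, 7, 11, 13, 15, 17, 261]), (0, []), (1, [0, 1, 2, 3, 9, 10, 11, 12, 14]), (2, [0, 1, 2, 3, 4, 5, 6, 8, 17, 262]), (1, [0, 1, 2, 3, 4, 5, 6, 8, 9]), (1, [0, 1, 2, 3, 4, 5, 6, 8, 9]), (2, [0, 1, 2, 3, 4, 5, 6, 8, 17, 262]), (1, [0, 1, 2, 3, 9, 10, 11,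 12, 14]), (2, [0, 1, 2, 3, 4, 5, 6, 8, 17, 262]), (2, [0, 1, 2, 3, 4, 5, 6, 8, 17, 262]), (1, [0, 1, 2, 3, 4, 5, 6, 7, 8]), (2, [0, 1, 2, 3, 7, 11, 13, 15, 17, 261]), (1, [0, 1, 2, 3, 4, 5, 6, 7, 8]), (2, [0, 1, 2, 3, 7, 11, 13, 15, 17, 261]), (0, []), (1, [0, 1, 2, 3, 4, 5, 6, 7, 8]), (0, []), (1, [0, 1, 2, 3, 4, 5, 6, 7, 8]), (2, [0, 1, 2, 3, 4, 5, 6, 8, 17, 262]), (1, [0, 1, 2, 3, 4, 5, 6, 8, 9]), (1, [0, 1, 2, 3, 4, 5, 6, 8, 9]), (1, [0, 2, 4, 6, 9, 10, 11, 12, 13]), (2, [0, 1, 2, 3, 4, 5, 6, 8, 17, 262]), (2, [0, 1, 2, 3, 4, 5, 6, 8, 17, 262]), (1, [0, 2, 4, 6, 9, 10, 11, 12, 13]), (2, [0, 1, 2, 3, 4, 5, 6, 8, 17, 262]), (2, [0, 1, 2, 3, 7, 11, 13, 15, 17, 261]), (1, [0, 1, 2, 3, 4, 5, 6, 7, 8]), (0, []), (2, [0,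 1, 2, 3, 7, 11, 13, 15, 17, 261]), (1, [0, 1, 2, 3, 4, 5, 6, 7, 8]), (1, [0, 1, 2, 3, 4, 5, 6, 7, 8]), (1, [0, 1, 2, 3, 4, 5, 6, 7, 8]), (0, []), (1, [0, 1, 7, 9, 10, 11, 12, 13, 14]), (1, [0, 1, 2, 3, 4, 5, 6, 7, 8]), (1, [0, 1, 2, 3, 4, 5, 6, 7, 8]), (1, [0, 1, 2, 3, 4, 5, 6, 7, 8]), (1, [0, 1, 7, 9, 10, 11, 12, 13, 14]), (0, []), (1, [0, 1, 2, 3, 4, 5, 6, 7, 8]), (0, []), (1, [0, 1, 2, 3, 4, 5, 6, 7, 8]), (1, [0, 1, 2, 3, 4, 5, 6, 7, 8]), (1, [0, 1, 2, 3, 4, 5, 6, 7, 8]), (1, [0, 1, 2, 3, 4, 5, 6, 7, 8]), (1, [0, 1, 2, 3, 4, 5, 6, 7, 8]), (1, [0, 1, 2, 3, 4, 5, 6, 7, 8]), (1, [0, 1, 2, 3, 4, 5, 6, 7, 8]), (1, [0, 1, 2, 3, 4, 5, 6, 7, 8]), (0, []), (1, [0, 1, 7, 9, 10, 11, 12, 13, 14]), (0, []), (1, [0, 1, 2, 3, 4, 5,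 6, 7, 8]), (1, [0, 1, 2, 3, 4, 5, 6, 7, 8]), (1, [0, 1, 2, 3, 4, 5, 6, 7, 8]), (1, [0, 1, 2, 3, 4, 5, 6, 7, 8]), (1, [0, 1, 7, 9, 10, 11, 12, 13, 14]), (1, [0, 1, 2, 3, 4, 5, 6, 7, 8]), (1, [0, 1, 2, 3, 4, 5, 6, 7, 8]), (1, [0, 1, 2, 3, 4, 5, 6, 7, 8]), (1, [0, 1, 2, 3, 4, 5, 6, 7, 8]), (1, [0, 1, 2, 3, 4, 5, 6, 7, 8]), (1, [0, 1, 2, 3, 4, 5, 6, 7, 8]), (1, [0, 1, 2, 3, 4, 5, 6, 7, 8]), (1, [0, 1, 2, 3, 4, 5, 6, 7, 8]), (1, [0, 2, 4, 6, 9, 10, 11, 12, 13]), (2, [0, 1, 2, 3, 4, 5, 6, 8, 17, 262]), (1, [0, 1, 2, 3, 4, 5, 6, 8, 9]), (1, [0, 2, 4, 6, 9, 10, 11, 12, 13]), (2, [0, 1, 2, 3, 4, 5, 6, 8, 17, 262]), (2, [0, 1, 2, 3, 4, 5, 6, 8, 17, 262]), (2, [0, 1, 2, 3, 4, 5, 6, 8, 17, 262]), (1, [0, 1, 2, 3, 4, 5, 6, 8, 9]),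 (0, []), (1, [0, 1, 2, 3, 4, 5, 6, 7, 8]), (2, [0, 1, 2, 3, 7, 11, 13, 15, 17, 261]), (2, [0, 1, 2, 3, 7, 11, 13, 15, 17, 261]), (1, [0, 1, 2, 3, 4, 5, 6, 7, 8]), (0, []), (1, [0, 1, 2, 3, 4, 5, 6, 7, 8]), (1, [0, 1, 2, 3, 4, 5, 6, 7, 8]), (1, [0, 1, 2, 3, 4, 5, 6, 8, 9]), (2, [0, 1, 2, 3, 4, 5, 6, 8, 17, 262]), (1, [0, 1, 2, 3, 9, 10, 11, 12, 14]), (2, [0, 1, 2, 3, 4, 5, 6, 8, 17, 262]), (2, [0, 1, 2, 3, 4, 5, 6, 8, 17, 262]), (1, [0, 1, 2, 3, 9, 10, 11, 12, 14]), (2, [0, 1, 2, 3, 4, 5, 6, 8, 17, 262]), (1, [0, 1, 2, 3, 4, 5, 6, 8, 9]), (2, [0, 1, 2, 3, 7, 11, 13, 15, 17, 261]), (1, [0, 1, 2, 3, 4, 5, 6, 7, 8]), (1, [0, 1, 2, 3, 4, 5, 6, 7, 8]), (1, [0, 1, 2, 3, 4, 5, 6, 7, 8]), (2, [0, 1, 2, 3, 7, 11, 13, 15, 17, 261]),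 (0, []), (1, [0, 1, 2, 3, 4, 5, 6, 7, 8]), (0, []), (1, [0, 1, 2, 3, 4, 5, 6, 7, 8]), (0, []), (1, [0, 1, 2, 3, 4, 5, 6, 7, 8]), (1, [0, 1, 2, 3, 4, 5, 6, 7, 8]), (1, [0, 1, 7, 9, 10, 11, 12, 13, 14]), (0, []), (1, [0, 1, 7, 9, 10, 11, 12, 13, 14]), (1, [0, 1, 2, 3, 4, 5, 6, 7, 8]), (1, [0, 1, 2, 3, 4, 5, 6, 7, 8]), (1, [0, 1, 2, 3, 4, 5, 6, 7, 8]), (1, [0, 1, 2, 3, 4, 5, 6, 7, 8]), (1, [0, 1, 2, 3, 4, 5, 6, 7, 8]), (1, [0, 1, 2, 3, 4, 5, 6, 7, 8]), (1, [0, 1, 2, 3, 4, 5, 6, 7, 8]), (1, [0, 1, 2, 3, 4, 5, 6, 7, 8]), (1, [0, 1, 2, 3, 4, 5, 6, 7, 8]), (1, [0, 1, 2, 3, 4, 5, 6, 7, 8]), (1, [0, 1, 2, 3, 4, 5, 6, 7, 8]), (1, [0, 1, 2, 3, 4, 5, 6, 7, 8]), (1, [0, 1, 2, 3, 4, 5, 6, 7, 8]), (1, [0, 1, 2, 3, 4, 5, 6, 7, 8]), (1,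 [0, 1, 2, 3, 4, 5, 6, 7, 8]), (1, [0, 1, 2, 3, 4, 5, 6, 7, 8]), (1, [0, 1, 2, 3, 4, 5, 6, 7, 8]), (1, [0, 1, 2, 3, 4, 5, 6, 7, 8]), (1, [0, 1, 2, 3, 4, 5, 6, 7, 8]), (1, [0, 1, 2, 3, 4, 5, 6, 7, 8]), (1, [0, 1, 7, 9, 10, 11, 12, 13, 14]), (1, [0, 1, 7, 9, 10, 11, 12, 13, 14]), (0, []), (0, []), (1, [0, 1, 2, 3, 4, 5, 6, 7, 8]), (2, [0, 1, 2, 3, 4, 5, 6, 8, 17, 262]), (1, [0, 1, 2, 3, 4, 5, 6, 8, 9]), (2, [0, 1, 2, 3, 4, 5, 6, 8, 17, 262]), (1, [0, 1, 2, 3, 4, 5, 6, 8, 9]), (1, [0, 2, 4, 6, 9, 10, 11, 12, 13]), (2, [0, 1, 2, 3, 4, 5, 6, 8, 17, 262]), (1, [0, 2, 4, 6, 9, 10, 11, 12, 13]), (2, [0, 1, 2, 3, 4, 5, 6, 8, 17, 262]), (1, [0, 1, 2, 3, 9, 10, 11, 12, 14]), (2, [0, 1, 2, 3, 4, 5, 6, 8, 17, 262]), (1, [0, 1, 2, 3,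 4, 5, 6, 8, 9]), (1, [0, 1, 2, 3, 4, 5, 6, 8, 9]), (2, [0, 1, 2, 3, 4, 5, 6, 8, 17, 262]), (1, [0, 1, 2, 3, 9, 10, 11, 12, 14]), (2, [0, 1, 2, 3, 4, 5, 6, 8, 17, 262]), (2, [0, 1, 2, 3, 4, 5, 6, 8, 17, 262]), (1, [0, 1, 2, 3, 4, 5, 6, 7, 8]), (0, []), (1, [0, 1, 2, 3, 4, 5, 6, 7, 8]), (1, [0, 1, 2, 3, 4, 5, 6, 7, 8]), (2, [0, 1, 2, 3, 7, 11, 13, 15, 17, 261]), (0, []), (2, [0, 1, 2, 3, 7, 11, 13, 15, 17, 261]), (1, [0, 1, 2, 3, 4, 5, 6, 7, 8]), (1, [0, 1, 2, 3, 4, 5, 6, 7, 8]), (0, []), (0, []), (2, [0, 1, 2, 3, 7, 11, 13, 15, 17, 261]), (1, [0, 1, 2, 3, 4, 5, 6, 7, 8]), (1, [0, 1, 2, 3, 4, 5, 6, 7, 8]), (2, [0, 1, 2, 3, 7, 11, 13, 15, 17, 261]), (1, [0, 1, 2, 3, 4, 5, 6, 7, 8]), (1, [0, 1, 2, 3, 4, 5, 6, 7, 8]), (1, [0,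 1, 2, 3, 4, 5, 6, 7, 8]), (1, [0, 1, 2, 3, 4, 5, 6, 7, 8]), (1, [0, 1, 2, 3, 4, 5, 6, 7, 8]), (1, [0, 1, 2, 3, 4, 5, 6, 7, 8]), (1, [0, 1, 2, 3, 4, 5, 6, 7, 8]), (1, [0, 1, 2, 3, 4, 5, 6, 7, 8]), (1, [0, 1, 2, 3, 4, 5, 6, 7, 8]), (1, [0, 1, 2, 3, 4, 5, 6, 7, 8]), (0, []), (1, [0, 1, 2, 3, 4, 5, 6, 7, 8]), (0, []), (1, [0, 1, 7, 9, 10, 11, 12, 13, 14]), (1, [0, 1, 2, 3, 4, 5, 6, 7, 8]), (1, [0, 1, 7, 9, 10, 11, 12, 13, 14]), (1, [0, 1, 2, 3, 4, 5, 6, 7, 8]), (1, [0, 1, 2, 3, 4, 5, 6, 7, 8]), (1, [0, 1, 2, 3, 4, 5, 6, 7, 8]), (1, [0, 1, 2, 3, 4, 5, 6, 7, 8]), (1, [0, 1, 2, 3, 4, 5, 6, 7, 8]), (1, [0, 1, 2, 3, 4, 5, 6, 7, 8]), (1, [0, 1, 2, 3, 4, 5, 6, 7, 8]), (1, [0, 1, 2, 3, 4, 5, 6, 7, 8]), (1, [0, 1, 2, 3, 4, 5, 6, 7,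 8]), (1, [0, 1, 7, 9, 10, 11, 12, 13, 14]), (1, [0, 1, 2, 3, 4, 5, 6, 7, 8]), (0, []), (1, [0, 1, 2, 3, 4, 5, 6, 7, 8]), (1, [0, 1, 2, 3, 4, 5, 6, 7, 8]), (0, []), (1, [0, 1, 2, 3, 4, 5, 6, 7, 8]), (1, [0, 1, 7, 9, 10, 11, 12, 13, 14]), (0, []), (1, [0, 1, 2, 3, 4, 5, 6, 7, 8]), (1, [0, 1, 7, 9, 10, 11, 12, 13, 14]), (1, [0, 1, 2, 3, 4, 5, 6, 7, 8]), (1, [0, 1, 2, 3, 4, 5, 6, 7, 8]), (1, [0, 1, 7, 9, 10, 11, 12, 13, 14]), (1, [0, 1, 2, 3, 4, 5, 6, 7, 8]), (0, []), (1, [0, 1, 2, 3, 4, 5, 6, 7, 8]), (0, []), (1, [0, 1, 2, 3, 4, 5, 6, 7, 8]), (1, [0, 1, 2, 3, 4, 5, 6, 7, 8]), (1, [0, 1, 7, 9, 10, 11, 12, 13, 14]), (0, []), (1, [0, 1, 7, 9, 10, 11, 12, 13, 14]), (1, [0, 1, 2, 3, 4, 5, 6, 7, 8]), (1, [0, 1, 2, 3, 4, 5, 6, 7,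 8]), (1, [0, 1, 2, 3, 4, 5, 6, 7, 8]), (1, [0, 1, 2, 3, 4, 5, 6, 7, 8]), (1, [0, 1, 2, 3, 4, 5, 6, 7, 8]), (1, [0, 1, 2, 3, 4, 5, 6, 7, 8]), (1, [0, 1, 2, 3, 4, 5, 6, 7, 8]), (1, [0, 1, 2, 3, 4, 5, 6, 7, 8]), (1, [0, 1, 2, 3, 4, 5, 6, 7, 8]), (1, [0, 1, 2, 3, 4, 5, 6, 7, 8]), (1, [0, 1, 2, 3, 4, 5, 6, 7, 8]), (1, [0, 1, 2, 3, 4, 5, 6, 7, 8]), (1, [0, 1, 2, 3, 4, 5, 6, 7, 8]), (1, [0, 1, 2, 3, 4, 5, 6, 7, 8]), (1, [0, 1, 2, 3, 4, 5, 6, 7, 8]), (1, [0, 1, 2, 3, 4, 5, 6, 7, 8]), (1, [0, 1, 2, 3, 4, 5, 6, 7, 8]), (1, [0, 1, 2, 3, 4, 5, 6, 7, 8]), (0, []), (1, [0, 1, 2, 3, 4, 5, 6, 7, 8]), (1, [0, 1, 2, 3, 4, 5, 6, 7, 8]), (2, [0, 1, 2, 3, 7, 9, 10, 11, 20, 261]), (1, [0, 1, 2, 3, 4, 5, 6, 7, 8]), (2, [0, 1, 2, 3, 7, 9, 10,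 11, 20, 261]), (0, []), (1, [0, 1, 2, 3, 9, 10, 11, 12, 14]), (2, [0, 1, 2, 3, 4, 5, 6, 8, 20, 262]), (1, [0, 1, 2, 3, 4, 5, 6, 8, 9]), (2, [0, 1, 2, 3, 4, 5, 6, 8, 20, 262]), (2, [0, 1, 2, 3, 4, 5, 6, 8, 20, 262]), (1, [0, 1, 2, 3, 4, 5, 6, 8, 9]), (2, [0, 1, 2, 3, 4, 5, 6, 8, 20, 262]), (1, [0, 1, 2, 3, 9, 10, 11, 12, 14]), (2, [0, 1, 2, 3, 7, 9, 10, 11, 20, 261]), (1, [0, 1, 2, 3, 4, 5, 6, 7, 8]), (1, [0, 1, 2, 3, 4, 5, 6, 7, 8]), (1, [0, 1, 2, 3, 4, 5, 6, 7, 8]), (2, [0, 1, 2, 3, 7, 9, 10, 11, 20, 261]), (0, []), (1, [0, 1, 2, 3, 4, 5, 6, 7, 8]), (0, []), (2, [0, 1, 2, 3, 4, 5, 6, 8, 20, 262]), (1, [0, 1, 2, 3, 4, 5, 6, 8, 9]), (2, [0, 1, 2, 3, 4, 5, 6, 8, 20, 262]), (2, [0, 1, 2, 3, 4, 5, 6, 8, 20, 262]), (1, [0,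 2, 4, 6, 9, 10, 11, 12, 13]), (1, [0, 1, 2, 3, 4, 5, 6, 8, 9]), (1, [0, 2, 4, 6, 9, 10, 11, 12, 13]), (2, [0, 1, 2, 3, 4, 5, 6, 8, 20, 262])]

/-- certificates for the centres of maximal subgroups -/
def cert1 : List (List ℕ) := [
  [], [0, 1, 2], [0, 1, 2], [0, 1, 2], [0, 1, 2], [0, 1, 2], [0, 1, 2], [], [0, 1, 2], [], [0, 1, 2], [0, 1, 2], [0, 1, 9], [0, 1, 2], [0, 1, 9], [], [0, 1, 2], [0, 1, 2], [0, 1, 2], [0, 1, 2], [0, 1, 2], [0, 1, 2], [0, 1, 2], [0, 1, 2], [0, 1, 2], [0, 1, 2], [0, 1, 2], [0, 1, 2], [0, 1, 2], [0, 1, 2], [0, 1, 2], [0, 1, 2], [0, 1, 4], [0, 1, 2], [0, 1, 2], [0, 1, 2], [0, 1, 2], [0, 1, 4], [0, 1, 2], [0, 1, 2], [0, 1, 2], [0, 1, 2], [0, 1, 2], [0, 1, 2], [0, 1, 2], [0, 1, 2], [0, 1, 2], [0, 1,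 2], [0, 1, 2], [0, 1, 2], [0, 1, 2], [0, 1, 2], [0, 1, 2], [0, 1, 2], [0, 1, 2], [0, 1, 2], [0, 1, 2], [0, 1, 2], [0, 1, 2], [0, 1, 2], [0, 1, 4], [0, 1, 2], [0, 1, 4], [0, 1, 2], [0, 1, 2], [], [], [0, 1, 9], [0, 1, 2], [0, 1, 2], [0, 1, 9], [0, 1, 2], [0, 1, 2], [0, 1, 2], [0, 1, 2], [0, 1, 2], [0, 1, 2], [0, 1, 2], [0, 1, 2], [0, 1, 2], [0, 1, 2], [0, 1, 2], [0, 1, 2], [], [], [0, 1, 2], [0, 1, 2], [0, 1, 2], [0, 1, 2], [0, 1, 2], [0, 1, 2], [0, 1, 2], [0, 1, 2], [0, 1, 2], [0, 1, 2], [0, 1, 2], [0, 1, 2], [0, 1, 2], [0, 1, 2], [0, 1, 4], [0, 1, 4], [0, 1, 2], [0, 1, 2], [0, 1, 2], [0, 1, 2], [0, 1, 4], [0, 1, 2], [0, 1, 2], [0, 1, 2], [0, 1, 2], [0, 1, 2], [0, 1, 4], [0, 1, 2], [0, 1, 2], [0, 1, 2], [0, 1, 2], [0,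 1, 2], [0, 1, 2], [0, 1, 2], [0, 1, 2], [0, 1, 2], [0, 1, 2], [0, 1, 2], [0, 1, 2], [0, 1, 2], [0, 1, 2], [0, 1, 2], [0, 1, 2], [0, 1, 2], [0, 1, 2], [0, 1, 2], [0, 1, 2], [0, 1, 2], [0, 1, 2], [0, 1, 2], [0, 1, 2], [0, 1, 2], [0, 1, 4], [0, 1, 4], [0, 1, 2], [0, 1, 2], [0, 1, 2], [0, 1, 2], [0, 1, 2], [0, 1, 2], [0, 1, 2], [0, 1, 2], [0, 1, 2], [0, 1, 2], [0, 1, 2], [0, 1, 2], [0, 1, 2], [0, 1, 2], [0, 1, 4], [0, 1, 2], [0, 1, 2], [0, 1, 2], [0, 1, 2], [0, 1, 2], [0, 1, 4], [0, 1, 2], [0, 1, 2], [0, 1, 2], [], [], [0, 1, 2], [0, 1, 2], [0, 1, 2], [0, 1, 2], [], [], [0, 1, 9], [0, 1, 2], [0, 1, 2], [0, 1, 9], [0, 1, 2], [0, 1, 2], [0, 1, 2], [0, 1, 2], [0, 1, 2], [0, 1, 2], [0, 1, 2], [0, 1, 2], [0, 1, 2], [0, 1, 2], [0,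 1, 2], [0, 1, 2], [0, 1, 2], [0, 1, 2], [0, 1, 2], [0, 1, 2], [0, 1, 2], [0, 1, 2], [0, 1, 2], [0, 1, 2], [0, 1, 2], [0, 1, 2], [], [0, 1, 2], [], [0, 1, 2], [0, 1, 2], [0, 1, 2], [0, 1, 2], [0, 1, 2], [0, 1, 2], [0, 1, 2], [0, 1, 2], [0, 1, 2], [0, 1, 2], [0, 1, 2], [0, 1, 2], [0, 1, 2], [0, 1, 2], [0, 1, 2], [0, 1, 2], [], [0, 1, 9], [], [0, 1, 2], [0, 1, 2], [0, 1, 2], [0, 1, 2], [0, 1, 9], [0, 1, 2], [0, 1, 2], [0, 1, 2], [0, 1, 2], [0, 1, 2], [0, 1, 2], [0, 1, 2], [0, 1, 2], [0, 1, 2], [0, 1, 2], [0, 1, 4], [0, 1, 2], [0, 1, 2], [0, 1, 2], [0, 1, 2], [0, 1, 4], [0, 1, 4], [0, 1, 2], [0, 1, 2], [0, 1, 2], [0, 1, 2], [0, 1, 2], [0, 1, 2], [0, 1, 4], [0, 1, 2], [0, 1, 2], [0, 1, 2], [0, 1, 2], [0, 1, 2], [0, 1, 2], [0,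 1, 2], [0, 1, 2], [0, 1, 2], [], [0, 1, 2], [0, 1, 2], [0, 2, 12], [], [0, 2, 12], [0, 1, 2], [0, 1, 2], [0, 1, 2], [0, 1, 2], [0, 1, 2], [0, 1, 2], [0, 1, 2], [0, 1, 2], [0, 1, 2], [0, 1, 2], [0, 1, 2], [0, 1, 2], [0, 1, 2], [0, 1, 2], [0, 1, 2], [0, 1, 2], [0, 1, 2], [0, 1, 2], [0, 1, 9], [0, 1, 2], [0, 1, 2], [0, 1, 2], [0, 1, 2], [0, 1, 2], [0, 1, 9], [0, 1, 2], [0, 1, 2], [0, 1, 2], [0, 1, 2], [0, 1, 2], [0, 1, 2], [0, 1, 2], [0, 1, 2], [0, 1, 2], [0, 1, 2], [0, 1, 2], [0, 1, 2], [0, 1, 2], [0, 1, 2], [0, 1, 2], [0, 1, 2], [0, 1, 2], [0, 1, 2], [0, 1, 2], [0, 1, 2], [0, 1, 2], [0, 1, 2], [0, 1, 2], [0, 1, 2], [0, 1, 2], [0, 1, 2], [0, 1, 2], [0, 1, 2], [0, 1, 2], [0, 1, 2], [0, 1, 2], [0, 1, 2], [0, 1, 2], [0, 1,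 2], [0, 1, 2], [0, 1, 2], [0, 1, 2], [0, 1, 2], [0, 1, 2], [0, 1, 2], [0, 1, 2], [0, 1, 2], [0, 1, 2], [0, 1, 2], [0, 1, 2], [0, 1, 2], [0, 1, 2], [0, 1, 2], [0, 1, 7], [0, 1, 2], [0, 1, 2], [0, 1, 2], [0, 1, 2], [0, 1, 7], [0, 1, 2], [0, 1, 2], [0, 1, 7], [0, 1, 2], [0, 1, 2], [0, 1, 7], [0, 1, 2], [0, 1, 2], [0, 1, 2], [0, 1, 2], [0, 1, 2], [0, 1, 2], [0, 1, 2], [0, 1, 2], [0, 1, 2], [0, 1, 2], [0, 1, 2], [0, 1, 2], [0, 1, 2], [0, 1, 2], [0, 1, 2], [0, 1, 2], [0, 2, 4], [0, 1, 2], [0, 2, 4], [0, 1, 2], [0, 1, 2], [0, 1, 2], [0, 1, 2], [0, 1, 2], [0, 1, 2], [0, 1, 2], [0, 1, 2], [0, 1, 2], [0, 1, 2], [0, 1, 2], [0, 1, 2], [0, 1, 2], [0, 1, 2], [0, 1, 2], [0, 1, 2], [0, 1, 2], [0, 1, 2], [0, 1, 2], [0, 1, 2], [0, 1, 2],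 [0, 1, 2], [0, 1, 2], [0, 1, 2], [0, 1, 2], [0, 1, 2], [0, 1, 2], [0, 1, 2], [0, 1, 2], [0, 1, 2], [0, 1, 2], [0, 1, 2], [0, 1, 2], [0, 1, 2], [0, 1, 2], [0, 1, 2], [0, 1, 2], [0, 1, 2], [0, 1, 2], [0, 1, 2], [0, 1, 2], [0, 1, 2], [0, 1, 2], [0, 1, 2], [0, 1, 2], [0, 1, 2], [0, 1, 2], [0, 1, 2], [0, 1, 2], [0, 1, 2], [0, 1, 9], [0, 1, 9], [0, 1, 2], [0, 1, 2], [0, 1, 2], [0, 1, 2], [0, 1, 2], [0, 1, 2], [0, 1, 2], [0, 1, 2], [0, 1, 2], [0, 1, 2], [0, 1, 2], [0, 1, 2], [0, 1, 2], [0, 2, 12], [0, 1, 2], [], [], [0, 1, 2], [0, 2, 12], [0, 1, 2], [0, 1, 2], [0, 1, 2], [0, 1, 2], [0, 1, 2], [0, 1, 2], [0, 1, 2], [0, 1, 2], [0, 1, 2], [0, 1, 2], [0, 2, 4], [0, 1, 2], [0, 1, 2], [0, 1, 2], [0, 1, 2], [0, 1, 2], [0, 1, 2], [0,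 2, 4], [0, 1, 2], [0, 1, 2], [0, 1, 2], [0, 1, 2], [0, 1, 2], [0, 1, 2], [0, 1, 2], [0, 1, 2], [0, 1, 2], [0, 1, 2], [0, 1, 2], [0, 1, 2], [0, 1, 2], [0, 1, 2], [0, 1, 2], [0, 1, 2], [0, 1, 2], [0, 1, 2], [0, 1, 2], [0, 1, 2], [0, 1, 2], [0, 1, 2], [0, 1, 2], [0, 1, 2], [0, 1, 2], [0, 1, 2], [0, 1, 2], [0, 1, 2], [0, 1, 2], [0, 1, 2], [0, 1, 2], [0, 1, 2], [0, 1, 7], [0, 1, 2], [0, 1, 2], [0, 1, 2], [0, 1, 2], [0, 1, 7], [0, 1, 2], [0, 1, 2], [0, 1, 2], [0, 1, 2], [0, 1, 2], [0, 1, 2], [0, 1, 2], [0, 1, 2], [0, 1, 2], [0, 1, 2], [0, 1, 2], [0, 1, 2], [0, 1, 2], [0, 1, 2], [0, 1, 2], [0, 1, 7], [0, 1, 2], [0, 1, 7], [0, 1, 2], [0, 1, 2], [0, 1, 2], [0, 1, 2], [0, 1, 2], [0, 1, 2], [0, 1, 2], [0, 1, 2], [0, 1, 2], [0, 1,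 2], [0, 1, 2], [0, 1, 2], [0, 1, 2], [0, 1, 2], [0, 1, 2], [0, 1, 2], [0, 1, 2], [0, 1, 2], [0, 1, 2], [0, 1, 2], [0, 1, 2], [0, 1, 2], [0, 1, 2], [0, 1, 2], [0, 1, 2], [0, 1, 2], [0, 1, 2], [0, 1, 2], [0, 1, 2], [0, 1, 2], [0, 1, 2], [0, 1, 2], [0, 1, 2], [0, 1, 9], [0, 1, 2], [0, 1, 2], [0, 1, 2], [0, 1, 9], [0, 1, 2], [0, 1, 2], [0, 1, 2], [0, 1, 2], [0, 1, 2], [0, 1, 2], [0, 1, 2], [0, 1, 2], [0, 1, 2], [0, 1, 2], [0, 1, 2], [0, 1, 2], [0, 1, 2], [0, 1, 2], [0, 1, 2], [0, 1, 2], [0, 1, 2], [0, 1, 2], [0, 1, 2], [], [0, 1, 2], [0, 1, 2], [0, 2, 12], [0, 1, 2], [0, 2, 12], [], [0, 1, 2], [0, 1, 2], [0, 1, 2], [0, 1, 2], [0, 1, 2], [0, 1, 2], [0, 1, 2], [0, 1, 2], [0, 1, 2], [0, 1, 2], [0, 1, 2], [0, 1, 2], [0, 1, 2],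 [0, 1, 2], [0, 1, 2], [0, 1, 2], [0, 1, 2], [0, 1, 2], [0, 1, 2], [0, 1, 2], [0, 2, 4], [0, 1, 2], [0, 2, 4], [0, 1, 2], [0, 1, 2], [0, 1, 2], [0, 1, 2], [0, 1, 2], [0, 1, 2], [0, 1, 2], [0, 1, 2], [0, 1, 2], [0, 1, 2], [0, 1, 7], [0, 1, 2], [0, 1, 7], [0, 1, 2], [0, 1, 2], [0, 1, 2], [0, 1, 2], [0, 1, 7], [0, 1, 2], [0, 1, 2], [0, 1, 2], [0, 1, 2], [0, 1, 7], [0, 1, 2], [0, 1, 2], [0, 1, 2], [0, 1, 2], [0, 1, 2], [0, 1, 2], [0, 1, 2], [0, 1, 2], [0, 1, 2], [0, 1, 2], [0, 1, 2], [0, 1, 2], [0, 1, 2], [0, 1, 2], [0, 1, 2], [0, 1, 2], [0, 1, 2], [0, 1, 2], [0, 1, 2], [0, 1, 2], [0, 1, 2], [0, 1, 2], [0, 1, 2], [0, 1, 2], [0, 1, 2], [0, 1, 2], [0, 1, 2], [0, 1, 2], [0, 1, 2], [0, 1, 2], [0, 1, 2], [0, 1, 2], [0, 1, 2], [0,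 1, 2], [0, 1, 2], [0, 1, 2], [0, 1, 2], [0, 1, 2], [0, 1, 2], [0, 1, 2], [0, 1, 2], [0, 1, 2], [0, 1, 2], [0, 1, 2], [0, 1, 2], [0, 1, 2], [0, 1, 2], [0, 1, 2], [0, 1, 2], [0, 1, 2], [0, 1, 2], [0, 1, 2], [0, 1, 2], [0, 1, 2], [0, 1, 2], [0, 1, 2], [0, 1, 2], [0, 1, 2], [0, 1, 2], [0, 1, 9], [0, 1, 2], [0, 1, 9], [0, 1, 2], [0, 1, 2], [0, 1, 2], [0, 1, 2], [0, 1, 2], [0, 1, 2], [0, 1, 2], [0, 1, 2], [0, 1, 2], [0, 1, 2], [0, 1, 2], [0, 1, 2], [], [0, 1, 2], [0, 2, 12], [], [0, 1, 2], [0, 1, 2], [0, 1, 2], [0, 2, 12], [0, 1, 2], [0, 1, 7], [0, 1, 2], [0, 1, 2], [0, 1, 2], [0, 1, 7], [0, 1, 2], [0, 1, 2], [0, 1, 2], [0, 1, 2], [0, 1, 2], [0, 1, 2], [0, 1, 2], [0, 1, 2], [0, 1, 2], [0, 1, 2], [0, 1, 2], [0, 1, 2], [0, 1,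 2], [0, 1, 2], [0, 1, 2], [0, 1, 2], [0, 1, 2], [0, 1, 2], [0, 1, 2], [0, 1, 7], [0, 1, 2], [0, 1, 2], [0, 1, 2], [0, 1, 2], [0, 1, 2], [0, 1, 7], [0, 1, 2], [0, 1, 2], [0, 1, 2], [0, 1, 2], [0, 1, 2], [0, 1, 2], [0, 1, 2], [0, 1, 2], [0, 1, 2], [0, 1, 2], [0, 1, 2], [0, 1, 2], [0, 1, 2], [0, 2, 4], [0, 1, 2], [0, 2, 4], [0, 1, 2], [0, 1, 2], [0, 1, 2], [0, 1, 2], [0, 1, 2], [0, 1, 2], [0, 1, 2], [0, 1, 2], [0, 1, 2], [0, 1, 2], [0, 1, 2], [0, 1, 2], [0, 1, 2], [0, 1, 2], [0, 1, 2], [0, 1, 2], [0, 1, 2], [0, 1, 2], [0, 1, 2], [0, 1, 2], [0, 1, 2], [0, 1, 2], [0, 1, 2], [0, 1, 2], [0, 1, 2], [0, 1, 2], [0, 1, 2], [0, 1, 2], [0, 1, 2], [0, 1, 2], [0, 1, 2], [0, 1, 2], [0, 1, 2], [0, 1, 2], [0, 1, 2], [0, 2, 4], [0, 1, 2],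 [0, 1, 2], [0, 2, 4], [0, 1, 2], [0, 1, 2], [0, 1, 2], [0, 1, 2], [0, 1, 2], [0, 1, 2], [0, 1, 2], [0, 1, 2], [0, 1, 2], [0, 1, 7], [0, 1, 2], [0, 1, 2], [0, 1, 2], [0, 1, 7], [0, 1, 2], [0, 1, 2], [0, 1, 2], [0, 1, 2], [0, 1, 2], [0, 1, 2], [0, 1, 2], [0, 1, 2], [0, 1, 2], [0, 1, 2], [0, 1, 2], [0, 1, 2], [0, 1, 7], [0, 1, 2], [0, 1, 2], [0, 1, 2], [0, 1, 2], [0, 1, 2], [0, 1, 7], [0, 1, 2], [0, 1, 2], [0, 1, 2], [0, 1, 2], [0, 1, 2], [0, 1, 2], [0, 1, 2], [0, 1, 2], [0, 2, 4], [0, 1, 2], [0, 1, 2], [0, 2, 4], [0, 1, 2], [0, 1, 2], [0, 1, 2], [0, 1, 2], [0, 1, 2], [0, 1, 2], [0, 1, 2], [0, 1, 2], [0, 1, 2], [0, 1, 2], [0, 1, 2], [0, 1, 2], [0, 1, 2], [0, 1, 2], [0, 1, 2], [0, 1, 2], [0, 1, 2], [0, 1, 2], [0, 1, 2], [0,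 1, 2], [0, 1, 2], [0, 1, 2], [0, 1, 2], [0, 1, 2], [0, 1, 2], [0, 1, 2], [0, 1, 2], [0, 1, 2], [0, 1, 2], [0, 1, 2], [0, 1, 2], [0, 1, 2], [0, 1, 7], [0, 1, 2], [0, 1, 7], [0, 1, 2], [0, 1, 2], [0, 1, 2], [0, 1, 2], [0, 1, 2], [0, 1, 2], [0, 1, 2], [0, 1, 2], [0, 1, 2], [0, 1, 2], [0, 1, 2], [0, 1, 2], [0, 1, 2], [0, 1, 2], [0, 1, 2], [0, 1, 2], [0, 1, 2], [0, 1, 2], [0, 1, 2], [0, 1, 2], [0, 1, 7], [0, 1, 7], [0, 1, 2], [0, 1, 2], [0, 1, 2], [0, 1, 2], [0, 1, 2], [0, 1, 2], [0, 1, 2], [0, 2, 4], [0, 1, 2], [0, 2, 4], [0, 1, 2], [0, 1, 2], [0, 1, 2], [0, 1, 2], [0, 1, 2], [0, 1, 2], [0, 1, 2], [0, 1, 2], [0, 1, 2], [0, 1, 2], [0, 1, 2], [0, 1, 2], [0, 1, 2], [0, 1, 2], [0, 1, 2], [0, 1, 2], [0, 1, 2], [0, 1, 2], [0, 1,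 2], [0, 1, 2], [0, 1, 2], [0, 1, 2], [0, 1, 2], [0, 1, 2], [0, 1, 2], [0, 1, 2], [0, 1, 2], [0, 1, 2], [0, 1, 2], [0, 1, 2], [0, 1, 2], [0, 1, 2], [0, 1, 2], [0, 1, 2], [0, 1, 2], [0, 1, 2], [0, 1, 2], [0, 1, 7], [0, 1, 2], [0, 1, 7], [0, 1, 2], [0, 1, 2], [0, 1, 2], [0, 1, 2], [0, 1, 2], [0, 1, 2], [0, 1, 2], [0, 1, 2], [0, 1, 2], [0, 1, 7], [0, 1, 2], [0, 1, 2], [0, 1, 2], [0, 1, 2], [0, 1, 2], [0, 1, 2], [0, 1, 7], [0, 1, 2], [0, 1, 2], [0, 1, 7], [0, 1, 2], [0, 1, 2], [0, 1, 7], [0, 1, 2], [0, 1, 2], [0, 1, 2], [0, 1, 2], [0, 1, 2], [0, 1, 2], [0, 1, 7], [0, 1, 2], [0, 1, 7], [0, 1, 2], [0, 1, 2], [0, 1, 2], [0, 1, 2], [0, 1, 2], [0, 1, 2], [0, 1, 2], [0, 1, 2], [0, 1, 2], [0, 1, 2], [0, 1, 2], [0, 1, 2], [0, 1, 2],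 [0, 1, 2], [0, 1, 2], [0, 1, 2], [0, 1, 2], [0, 1, 2], [0, 1, 2], [0, 1, 2], [0, 1, 2], [0, 1, 2], [0, 1, 2], [0, 1, 2], [0, 1, 2], [0, 1, 2], [0, 1, 2], [0, 1, 2], [0, 1, 2], [0, 1, 2], [0, 1, 2], [0, 1, 2], [0, 1, 2], [0, 1, 2], [0, 1, 2], [0, 1, 2], [0, 1, 2], [0, 1, 2], [0, 1, 2], [0, 1, 2], [0, 1, 2], [0, 1, 2], [0, 1, 2], [0, 1, 2], [0, 1, 2], [0, 2, 4], [0, 1, 2], [0, 2, 4], [0, 1, 2]]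

/-- equality modulo the centre -/
def eqZ (A B : List ℕ) : Bool := (A == B) || ((A.getD 0 0 == B.getD 1 0) && (A == compT B zS))

/-- commuting modulo the centre -/
def commZ (A B : List ℕ) : Bool := eqZ (compT A B) (compT B A)

/-- conjugation by the `i`-th fixed conjugator -/
def conjW (i : ℕ) (X : List ℕ) : List ℕ :=
  compT (compT (WL.getD i ([], [])).1 X) (WL.getD i ([], [])).2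

/-- pairwise distinct modulo the centre -/
def pairwiseNe : List (List ℕ) → Bool
  | [] => true
  | C :: Cs => Cs.all (fun D => !eqZ C D) && pairwiseNe Cs

/-- membership modulo the centre -/
def inK (K : List (List ℕ)) (X : List ℕ) : Bool := K.contains X || K.contains (compT X zS)

def check3 (X : List ℕ) (c : ℕ × List ℕ) : Bool :=
  match c.1 with
  | 0 => inK EL64 X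
  | 1 => decide (c.2.length = 9) && c.2.all (fun i => decide (i < 16)) &&
      pairwiseNe (c.2.map (fun i => conjW i X))
  | 2 => decide ((c.2.take 8).length = 8) && (c.2.take 8).all (fun i => decide (i < 16)) &&
      pairwiseNe ((c.2.take 8).map (fun i => conjW i X)) &&
      decide (c.2.getD 8 0 < 1024) && decide (c.2.getD 9 0 < 1024) &&
      commZ X (syl2L.getD (c.2.getD 8 0) []) && commZ X (syl2L.getD (c.2.getD 9 0) []) &&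
      !commZ (syl2L.getD (c.2.getD 8 0) []) (syl2L.getD (c.2.getD 9 0) [])
  | _ => inK BadL X && decide ((EL64.filter (fun Y => commZ X Y)).length ≤ 16)

def check1 (X : List ℕ) (c : List ℕ) : Bool :=
  inK YL12 X || (decide (c.length = 3) && c.all (fun i => decide (i < 16)) &&
      pairwiseNe (c.map (fun i => conjW i X)))

set_option maxRecDepth 100000 in
theorem WL_ok : WL.all (fun p => syl2L.contains p.1 && syl2L.contains p.2 && (compT p.1 p.2 == idT)) = true := by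
  decide +kernel

set_option maxRecDepth 100000 in
theorem WL_length : WL.length = 16 := by decide +kernel

set_option maxRecDepth 100000 in
theorem zS_central : syl2L.all (fun X => compT X zS == compT zS X) = true := by decide +kernel

set_option maxRecDepth 100000 in
theorem noncentral : syl2L.all (fun X => (X == idT) || (X == zS) ||
    syl2Gens.any (fun G => !(compT X G == compT G X))) = true := by decide +kernel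

set_option maxRecDepth 100000 in
theorem zS_sq : compT zS zS = idT := by decide +kernel

set_option maxRecDepth 100000 in
theorem cert3_length : cert3.length = 1024 := by decide +kernel

set_option maxRecDepth 100000 in
theorem cert1_length : cert1.length = 1024 := by decide +kernel

set_option maxRecDepth 100000 in
theorem EL64_sub : EL64.all (fun X => syl2L.contains X) = true := by decide +kernel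

set_option maxRecDepth 100000 in
theorem YL12_sub : YL12.all (fun X => syl2L.contains X) = true := by decide +kernel

set_option maxRecDepth 100000 in
theorem BadL_sub : BadL.all (fun X => syl2L.contains X) = true := by decide +kernel

set_option maxRecDepth 100000 in
theorem EL64_length : EL64.length = 64 := by decide +kernel

set_option maxRecDepth 100000 in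
theorem YL12_length : YL12.length = 12 := by decide +kernel

set_option maxRecDepth 100000 in
theorem BadL_length : BadL.length = 16 := by decide +kernel

set_option maxRecDepth 100000 in
theorem EL64_one : EL64.contains idT = true := by decide +kernel

end Cfsg.Agent.Helper13.S3171D
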