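import Cfsg.Agent.Helper13.S3171D

set_option autoImplicit false

namespace Cfsg.Agent.Helper13.S3171D

open Cfsg.Agent.Helper27

set_option maxRecDepth 1000000 in
theorem check3_all : (syl2L.zip cert3).all (fun p => check3 p.1 p.2) = true := by decide +kernel

set_option maxRecDepth 1000000 in
theorem check1_all : (syl2L.zip cert1).all (fun p => check1 p.1 p.2) = true := by decide +kernel

end Cfsg.Agent.Helper13.S3171D
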