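import Cfsg.Agent.Helper13.S3171D

set_option autoImplicit false

namespace Cfsg.Agent.Helper13.S3171D

open Cfsg.Agent.Helper27

set_option maxRecDepth 1000000 in
theorem EL64_mul : EL64.all (fun X => EL64.all (fun Y => inK EL64 (compT X Y))) = true := by
  decide +kernel

set_option maxRecDepth 1000000 in
theorem EL64_comm : EL64.all (fun X => EL64.all (fun Y => commZ X Y)) = true := by decide +kernel

set_option maxRecDepth 100000 in
theorem EL64_sq : EL64.all (fun X => eqZ (compT X X) idT) = true := by decide +kernel

set_option maxRecDepth 1000000 in
theorem EL64_ne : pairwiseNe EL64 = true := by decide +kernel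

end Cfsg.Agent.Helper13.S3171D
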