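import Cfsg.Agent.Helper13.S3171D2
import Cfsg.Agent.Helper13.S3171D3
import Cfsg.Agent.Helper1.PGroup
import Cfsg.Prelude.Def_Transfer

/-!
The Sylow 2-subgroup of `M24` modulo its centre, for any group given by the list of tables `syl2L`: the centres of
the maximal subgroups, and the unique abelian subgroup of order 64.
-/

set_option autoImplicit false

namespace Cfsg.Agent.Helper13.S3171G

open Cfsg.Agent.Helper27 Cfsg.Agent.Helper13.S3171D

/-- counting conjugates bounds the centraliser -/
theorem card_centralizer_mul_le {S : Type*} [Group S] [Finite S] (s : S) (l : List S) (hl : l.Nodup)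
    (hc : ∀ x ∈ l, ∃ g : S, x = g * s * g⁻¹) :
    Nat.card (Subgroup.centralizer ({s} : Set S)) * l.length ≤ Nat.card S := by
  classical
  have h1 : l.length ≤ (Subgroup.centralizer ({s} : Set S)).index := by
    choose! g hg using hc
    have e : Nat.card {x // x ∈ l} = l.length := by
      rw [Nat.card_eq_fintype_card, Fintype.card_of_subtype l.toFinset (fun x => List.mem_toFinset),
        List.toFinset_card_of_nodup hl]
    rw [← e, Subgroup.index_eq_card]
    apply Nat.card_le_card_of_injective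
      (fun x : {x // x ∈ l} => (QuotientGroup.mk (g x.1) : S ⧸ Subgroup.centralizer ({s} : Set S)))
    intro x y hxy
    have hxy' := QuotientGroup.eq.mp hxy
    rw [Subgroup.mem_centralizer_singleton_iff] at hxy'
    apply Subtype.ext
    rw [hg x.1 x.2, hg y.1 y.2]
    have e1 : g y.1 * s * (g y.1)⁻¹ = g x.1 * ((g x.1)⁻¹ * g y.1 * s) * (g y.1)⁻¹ := by group
    rw [e1, hxy']
    group
  calc Nat.card (Subgroup.centralizer ({s} : Set S)) * l.length
      ≤ Nat.card (Subgroup.centralizer ({s} : Set S)) * (Subgroup.centralizer ({s} : Set S)).index :=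
        Nat.mul_le_mul_left _ h1
    _ = Nat.card S := Subgroup.card_mul_index _

theorem le_centralizer_of_comm {S : Type*} [Group S] (A : Subgroup S) (hA : IsMulCommutative A) {a : S}
    (ha : a ∈ A) : A ≤ Subgroup.centralizer ({a} : Set S) := by
  intro b hb
  rw [Subgroup.mem_centralizer_singleton_iff]
  have := hA.is_comm.comm (⟨b, hb⟩ : A) ⟨a, ha⟩
  exact congrArg Subtype.val this

theorem mem_of_contains {L : List (List ℕ)} {X : List ℕ} (h : L.contains X = true) : X ∈ L := by
  simpa using h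

theorem contains_of_mem {L : List (List ℕ)} {X : List ℕ} (h : X ∈ L) : L.contains X = true := by
  simpa using h

theorem all_mem {α : Type*} {L : List α} {p : α → Bool} (h : L.all p = true) {X : α} (hX : X ∈ L) :
    p X = true :=
  List.all_eq_true.mp h X hX

theorem exists_zip {α β : Type*} (l₁ : List α) (l₂ : List β) (h : l₁.length ≤ l₂.length) {x : α}
    (hx : x ∈ l₁) : ∃ c, (x, c) ∈ l₁.zip l₂ := by
  obtain ⟨i, hi, rfl⟩ := List.getElem_of_mem hx
  refine ⟨l₂[i]'(by omega), ?_⟩
  have hi2 : i < (l₁.zip l₂).length := by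
    rw [List.length_zip]; omega
  have : (l₁.zip l₂)[i]'hi2 = (l₁[i], l₂[i]'(by omega)) := List.getElem_zip
  rw [← this]
  exact List.getElem_mem _

theorem compT_zS_head (B : List ℕ) : (compT B zS).getD 0 0 = B.getD 1 0 := rfl

section
variable {T : Type*} [Group T] {τ : T → List ℕ}

theorem exists_z (hτ : IsTblRep τ syl2L) : ∃ z : T, τ z = zS := hτ.surj zS (mem_of_contains zS_mem)

/-- the central involution -/
noncomputable def zT (hτ : IsTblRep τ syl2L) : T := Classical.choose (exists_z hτ)

theorem tau_zT (hτ : IsTblRep τ syl2L) : τ (zT hτ) = zS := Classical.choose_spec (exists_z hτ)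

theorem zT_comm (hτ : IsTblRep τ syl2L) (t : T) : t * zT hτ = zT hτ * t := by
  apply hτ.inj
  rw [hτ.mul, hτ.mul, tau_zT hτ]
  exact eq_of_beq (all_mem zS_central (hτ.mem t))

theorem zT_sq (hτ : IsTblRep τ syl2L) : zT hτ * zT hτ = 1 := by
  apply hτ.inj
  rw [hτ.mul, tau_zT hτ, hτ.one]
  exact zS_sq

theorem zT_ne (hτ : IsTblRep τ syl2L) : zT hτ ≠ 1 := by
  intro h
  have := congrArg τ h
  rw [tau_zT hτ, hτ.one] at this
  exact zS_ne this

theorem mem_center_iff' (hτ : IsTblRep τ syl2L) (t : T) :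
    t ∈ Subgroup.center T ↔ t = 1 ∨ t = zT hτ := by
  constructor
  · intro ht
    rw [Subgroup.mem_center_iff] at ht
    have h := all_mem noncentral (hτ.mem t)
    simp only [Bool.or_eq_true, beq_iff_eq, List.any_eq_true, Bool.not_eq_true'] at h
    rcases h with (h | h) | ⟨G, hG, hne⟩
    · left
      apply hτ.inj
      rw [h, hτ.one]
    · right
      apply hτ.inj
      rw [h, tau_zT hτ]
    · exfalso
      obtain ⟨g, rfl⟩ := hτ.surj G (mem_of_contains (all_mem gens_mem hG))
      rw [← hτ.mul, ← hτ.mul, ← ht g] at hne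
      simp at hne
  · rintro (rfl | rfl)
    · exact Subgroup.one_mem _
    · rw [Subgroup.mem_center_iff]
      intro g
      exact zT_comm hτ g

theorem mk_eq_iff (hτ : IsTblRep τ syl2L) (a b : T) :
    (QuotientGroup.mk a : T ⧸ Subgroup.center T) = QuotientGroup.mk b ↔ b = a ∨ b = a * zT hτ := by
  rw [QuotientGroup.eq, mem_center_iff' hτ]
  constructor
  · rintro (h | h)
    · left
      rw [inv_mul_eq_one] at h
      exact h.symm
    · right
      rw [inv_mul_eq_iff_eq_mul] at h
      exact h
  · rintro (rfl | rfl)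
    · left
      simp
    · right
      simp

theorem eqZ_iff (hτ : IsTblRep τ syl2L) (a b : T) :
    eqZ (τ a) (τ b) = true ↔ (QuotientGroup.mk a : T ⧸ Subgroup.center T) = QuotientGroup.mk b := by
  rw [mk_eq_iff hτ]
  unfold eqZ
  simp only [Bool.or_eq_true, Bool.and_eq_true, beq_iff_eq]
  constructor
  · rintro (h | ⟨-, h⟩)
    · left
      exact (hτ.inj h).symm
    · right
      rw [← tau_zT hτ, ← hτ.mul] at h
      have := hτ.inj h
      rw [this, mul_assoc, zT_sq, mul_one]
  · rintro (rfl | rfl)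
    · left
      rfl
    · right
      have h2 : τ a = compT (τ (a * zT hτ)) zS := by
        rw [← tau_zT hτ, ← hτ.mul, mul_assoc, zT_sq, mul_one]
      refine ⟨?_, h2⟩
      rw [h2]
      rfl

theorem commZ_iff (hτ : IsTblRep τ syl2L) (a b : T) :
    commZ (τ a) (τ b) = true ↔
      (QuotientGroup.mk a : T ⧸ Subgroup.center T) * QuotientGroup.mk b = QuotientGroup.mk b * QuotientGroup.mk a := by
  unfold commZ
  rw [← hτ.mul, ← hτ.mul, eqZ_iff hτ]
  rfl

theorem exists_w (hτ : IsTblRep τ syl2L) (i : ℕ) (hi : i < 16) :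
    ∃ w : T, ∀ t, τ (w * t * w⁻¹) = conjW i (τ t) := by
  have hi' : i < WL.length := by rw [WL_length]; exact hi
  have hmem : WL.getD i ([], []) ∈ WL := by
    rw [List.getD_eq_getElem _ _ hi']
    exact List.getElem_mem _
  have h := all_mem WL_ok hmem
  simp only [Bool.and_eq_true, beq_iff_eq] at h
  obtain ⟨⟨h1, h2⟩, h3⟩ := h
  obtain ⟨w, hw⟩ := hτ.surj _ (mem_of_contains h1)
  obtain ⟨w', hw'⟩ := hτ.surj _ (mem_of_contains h2)
  have hww : w * w' = 1 := by
    apply hτ.inj
    rw [hτ.mul, hw, hw', h3, hτ.one]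
  have hinv : w' = w⁻¹ := eq_inv_of_mul_eq_one_right hww
  refine ⟨w, fun t => ?_⟩
  rw [hτ.mul, hτ.mul, ← hinv, hw, hw']
  rfl

theorem pairwiseNe_nodup (hτ : IsTblRep τ syl2L) : ∀ l : List T, pairwiseNe (l.map τ) = true →
    (l.map (fun t => (QuotientGroup.mk t : T ⧸ Subgroup.center T))).Nodup
  | [] => by simp
  | a :: l => by
    intro h
    rw [List.map_cons, pairwiseNe, Bool.and_eq_true, List.all_eq_true] at h
    rw [List.map_cons, List.nodup_cons]
    refine ⟨?_, pairwiseNe_nodup hτ l h.2⟩
    rw [List.mem_map]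
    rintro ⟨b, hb, hab⟩
    have := h.1 (τ b) (List.mem_map_of_mem hb)
    rw [(eqZ_iff hτ a b).mpr hab.symm] at this
    simp at this

/-- the image in the quotient of the elements with tables in a list -/
def img (τ : T → List ℕ) (K : List (List ℕ)) : Set (T ⧸ Subgroup.center T) :=
  {s | ∃ t, τ t ∈ K ∧ QuotientGroup.mk t = s}

theorem ncard_img_le (hτ : IsTblRep τ syl2L) (K : List (List ℕ)) : (img τ K).ncard ≤ K.length := by
  classical
  have : Finite T := hτ.finite
  have h1 : img τ K = (fun t => (QuotientGroup.mk t : T ⧸ Subgroup.center T)) '' {t | τ t ∈ K} := by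
    ext s
    constructor
    · rintro ⟨t, ht, rfl⟩
      exact ⟨t, ht, rfl⟩
    · rintro ⟨t, ht, rfl⟩
      exact ⟨t, ht, rfl⟩
  rw [h1]
  refine (Set.ncard_image_le (Set.toFinite _)).trans ?_
  have h2 : {t | τ t ∈ K}.ncard ≤ (K.toFinset : Set (List ℕ)).ncard :=
    Set.ncard_le_ncard_of_injOn τ (fun t ht => by simpa using ht) hτ.inj.injOn (Finset.finite_toSet _)
  rw [Set.ncard_coe_finset] at h2
  exact h2.trans (List.toFinset_card_le K)

theorem inK_iff (hτ : IsTblRep τ syl2L) (K : List (List ℕ)) (t : T) :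
    inK K (τ t) = true ↔ (QuotientGroup.mk t : T ⧸ Subgroup.center T) ∈ img τ K := by
  unfold inK
  constructor
  · intro h
    rw [Bool.or_eq_true] at h
    rcases h with h | h
    · exact ⟨t, mem_of_contains h, rfl⟩
    · refine ⟨t * zT hτ, ?_, ?_⟩
      · rw [hτ.mul, tau_zT hτ]
        exact mem_of_contains h
      · exact ((mk_eq_iff hτ t (t * zT hτ)).mpr (Or.inr rfl)).symm
  · rintro ⟨t', ht', h⟩
    rw [mk_eq_iff hτ] at h
    rw [Bool.or_eq_true]
    rcases h with rfl | rfl
    · left
      exact contains_of_mem ht'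
    · right
      rw [← tau_zT hτ, ← hτ.mul, mul_assoc, zT_sq, mul_one]
      exact contains_of_mem ht'

theorem card_T (hτ : IsTblRep τ syl2L) : Nat.card T = 1024 := by
  rw [hτ.card syl2L_nodup, syl2L_length]

theorem card_center (hτ : IsTblRep τ syl2L) : Nat.card (Subgroup.center T) = 2 := by
  rw [Nat.card_eq_two_iff]
  refine ⟨1, ⟨zT hτ, (mem_center_iff' hτ _).mpr (Or.inr rfl)⟩, ?_, ?_⟩
  · intro h
    exact zT_ne hτ (congrArg Subtype.val h).symm
  · ext x
    simp only [Set.mem_insert_iff, Set.mem_singleton_iff, Set.mem_univ, iff_true]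
    rcases (mem_center_iff' hτ x.1).mp x.2 with h | h
    · left
      exact Subtype.ext h
    · right
      exact Subtype.ext h

theorem card_S (hτ : IsTblRep τ syl2L) : Nat.card (T ⧸ Subgroup.center T) = 512 := by
  have := Subgroup.card_eq_card_quotient_mul_card_subgroup (Subgroup.center T)
  rw [card_T hτ, card_center hτ] at this
  omega

theorem finite_S (hτ : IsTblRep τ syl2L) : Finite (T ⧸ Subgroup.center T) :=
  Nat.finite_of_card_ne_zero (by rw [card_S hτ]; norm_num)

theorem conj_count (hτ : IsTblRep τ syl2L) (t : T) (l : List ℕ) (hl : l.all (fun i => decide (i < 16)) = true)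
    (hp : pairwiseNe (l.map (fun i => conjW i (τ t))) = true) :
    Nat.card (Subgroup.centralizer ({(QuotientGroup.mk t : T ⧸ Subgroup.center T)} : Set _)) * l.length ≤ 512 := by
  have : Finite (T ⧸ Subgroup.center T) := finite_S hτ
  choose! w hw using exists_w hτ
  have e : l.map (fun i => conjW i (τ t)) = (l.map (fun i => w i * t * (w i)⁻¹)).map τ := by
    rw [List.map_map]
    apply List.map_congr_left
    intro i hi
    have hi' : i < 16 := by simpa using all_mem hl hi
    exact (hw i hi' t).symm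
  rw [e] at hp
  have hnd := pairwiseNe_nodup hτ _ hp
  have h := card_centralizer_mul_le (QuotientGroup.mk t : T ⧸ Subgroup.center T) _ hnd ?_
  · rwa [List.length_map, List.length_map, card_S hτ] at h
  · intro x hx
    rw [List.map_map, List.mem_map] at hx
    obtain ⟨i, -, rfl⟩ := hx
    exact ⟨QuotientGroup.mk (w i), rfl⟩

theorem getD_mem_syl2L {i : ℕ} (hi : i < 1024) : syl2L.getD i [] ∈ syl2L := by
  have hi' : i < syl2L.length := by rw [syl2L_length]; exact hi
  rw [List.getD_eq_getElem _ _ hi']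
  exact List.getElem_mem _

theorem ncard_coe_subgroup {S : Type*} [Group S] (A : Subgroup S) : (A : Set S).ncard = Nat.card A := rfl

/-- each element of an abelian subgroup of order 64 lies in the distinguished subgroup or is one of 16 bad elements
with a small centraliser in it -/
theorem classify (hτ : IsTblRep τ syl2L) (A : Subgroup (T ⧸ Subgroup.center T)) (hA : IsMulCommutative A)
    (hcA : Nat.card A = 64) (a : T ⧸ Subgroup.center T) (ha : a ∈ A) :
    a ∈ img τ EL64 ∨ (a ∈ img τ BadL ∧ ∃ K : List (List ℕ), K.length ≤ 16 ∧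
      (A : Set (T ⧸ Subgroup.center T)) ∩ img τ EL64 ⊆ img τ K) := by
  have : Finite (T ⧸ Subgroup.center T) := finite_S hτ
  obtain ⟨t, rfl⟩ := QuotientGroup.mk_surjective a
  obtain ⟨c, hc⟩ := exists_zip syl2L cert3 (by rw [syl2L_length, cert3_length]) (hτ.mem t)
  have hchk : check3 (τ t) c = true := all_mem check3_all hc
  have hAC := le_centralizer_of_comm A hA ha
  have hAC' := Subgroup.card_le_of_le hAC
  rw [hcA] at hAC'
  obtain ⟨k, l⟩ := c
  unfold check3 at hchk
  match k, hchk with
  | 0, hchk =>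
    left
    exact (inK_iff hτ EL64 t).mp hchk
  | 1, hchk =>
    exfalso
    simp only [Bool.and_eq_true, decide_eq_true_eq] at hchk
    obtain ⟨⟨h1, h2⟩, h3⟩ := hchk
    have h4 := conj_count hτ t l h2 h3
    rw [h1] at h4
    omega
  | 2, hchk =>
    exfalso
    simp only [Bool.and_eq_true, decide_eq_true_eq, Bool.not_eq_true'] at hchk
    obtain ⟨⟨⟨⟨⟨⟨⟨h1, h2⟩, h3⟩, h4⟩, h5⟩, h6⟩, h7⟩, h8⟩ := hchk
    have h9 := conj_count hτ t (l.take 8) h2 h3
    rw [h1] at h9
    have hAeq : A = Subgroup.centralizer ({(QuotientGroup.mk t : T ⧸ Subgroup.center T)} : Set _) :=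
      Subgroup.eq_of_le_of_card_ge hAC (by rw [hcA]; omega)
    obtain ⟨x, hx⟩ := hτ.surj _ (getD_mem_syl2L h4)
    obtain ⟨y, hy⟩ := hτ.surj _ (getD_mem_syl2L h5)
    rw [← hx] at h6 h8
    rw [← hy] at h7 h8
    have hxA : (QuotientGroup.mk x : T ⧸ Subgroup.center T) ∈ A := by
      rw [hAeq, Subgroup.mem_centralizer_singleton_iff]
      exact ((commZ_iff hτ t x).mp h6).symm
    have hyA : (QuotientGroup.mk y : T ⧸ Subgroup.center T) ∈ A := by
      rw [hAeq, Subgroup.mem_centralizer_singleton_iff]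
      exact ((commZ_iff hτ t y).mp h7).symm
    have hxy := congrArg Subtype.val (hA.is_comm.comm (⟨_, hxA⟩ : A) ⟨_, hyA⟩)
    rw [(commZ_iff hτ x y).mpr hxy] at h8
    exact Bool.noConfusion h8
  | k + 3, hchk =>
    right
    simp only [Bool.and_eq_true, decide_eq_true_eq] at hchk
    obtain ⟨h1, h2⟩ := hchk
    refine ⟨(inK_iff hτ BadL t).mp h1, _, h2, ?_⟩
    rintro e ⟨heA, t', ht', rfl⟩
    refine ⟨t', ?_, rfl⟩
    rw [List.mem_filter]
    refine ⟨ht', ?_⟩
    rw [commZ_iff hτ]
    exact congrArg Subtype.val (hA.is_comm.comm (⟨_, ha⟩ : A) ⟨_, heA⟩)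

/-- an abelian subgroup of order 64 is the distinguished one -/
theorem unique_aux (hτ : IsTblRep τ syl2L) (A : Subgroup (T ⧸ Subgroup.center T)) (hA : IsMulCommutative A)
    (hcA : Nat.card A = 64) : (A : Set (T ⧸ Subgroup.center T)) = img τ EL64 := by
  have : Finite (T ⧸ Subgroup.center T) := finite_S hτ
  have hncA : (A : Set (T ⧸ Subgroup.center T)).ncard = 64 := by rw [ncard_coe_subgroup, hcA]
  by_cases hall : ∀ a ∈ A, a ∈ img τ EL64
  · apply Set.eq_of_subset_of_ncard_le hall _ (Set.toFinite _)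
    rw [hncA, ← EL64_length]
    exact ncard_img_le hτ EL64
  · exfalso
    push Not at hall
    obtain ⟨a, ha, hna⟩ := hall
    rcases classify hτ A hA hcA a ha with h | ⟨-, K, hK, hsub⟩
    · exact hna h
    · have hA_sub : (A : Set (T ⧸ Subgroup.center T)) ⊆ img τ K ∪ img τ BadL := by
        intro b hb
        rcases classify hτ A hA hcA b hb with h | ⟨h, -⟩
        · left
          exact hsub ⟨hb, h⟩
        · right
          exact h
      have h1 := Set.ncard_le_ncard hA_sub (Set.toFinite _)
      have h2 := Set.ncard_union_le (img τ K) (img τ BadL)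
      have h3 := ncard_img_le hτ K
      have h4 := ncard_img_le hτ BadL
      rw [BadL_length] at h4
      omega

/-- the distinguished elementary abelian subgroup of order 64 -/
def ESub (hτ : IsTblRep τ syl2L) : Subgroup (T ⧸ Subgroup.center T) where
  carrier := img τ EL64
  one_mem' := ⟨1, by rw [hτ.one]; exact mem_of_contains EL64_one, rfl⟩
  mul_mem' := by
    rintro _ _ ⟨a, ha, rfl⟩ ⟨b, hb, rfl⟩
    have := all_mem (all_mem EL64_mul ha) hb
    rw [← hτ.mul, inK_iff hτ] at this
    exact this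
  inv_mem' := by
    rintro _ ⟨a, ha, rfl⟩
    have := all_mem EL64_sq ha
    rw [← hτ.mul, ← hτ.one, eqZ_iff hτ] at this
    have h2 : (QuotientGroup.mk a : T ⧸ Subgroup.center T)⁻¹ = QuotientGroup.mk a :=
      inv_eq_of_mul_eq_one_right this
    show (QuotientGroup.mk a : T ⧸ Subgroup.center T)⁻¹ ∈ img τ EL64
    rw [h2]
    exact ⟨a, ha, rfl⟩

theorem ESub_comm (hτ : IsTblRep τ syl2L) : IsMulCommutative (ESub hτ) := by
  refine ⟨⟨?_⟩⟩
  rintro ⟨_, a, ha, rfl⟩ ⟨_, b, hb, rfl⟩
  apply Subtype.ext
  exact (commZ_iff hτ a b).mp (all_mem (all_mem EL64_comm ha) hb)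

theorem ESub_sq (hτ : IsTblRep τ syl2L) : ∀ a ∈ ESub hτ, a ^ 2 = 1 := by
  rintro _ ⟨a, ha, rfl⟩
  have := all_mem EL64_sq ha
  rw [← hτ.mul, ← hτ.one, eqZ_iff hτ] at this
  rw [pow_two]
  exact this

theorem ESub_card (hτ : IsTblRep τ syl2L) : Nat.card (ESub hτ) = 64 := by
  classical
  have : Finite (T ⧸ Subgroup.center T) := finite_S hτ
  apply le_antisymm
  · rw [← ncard_coe_subgroup, ← EL64_length]
    exact ncard_img_le hτ EL64
  · have hsub : ∀ X ∈ EL64, X ∈ syl2L := fun X hX => mem_of_contains (all_mem EL64_sub hX)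
    have hex : ∀ X : List ℕ, ∃ t : T, X ∈ syl2L → τ t = X := by
      intro X
      by_cases hX : X ∈ syl2L
      · obtain ⟨t, ht⟩ := hτ.surj X hX
        exact ⟨t, fun _ => ht⟩
      · exact ⟨1, fun h => absurd h hX⟩
    choose σ hσ using hex
    have e : (EL64.map σ).map τ = EL64 := by
      rw [List.map_map]
      conv_rhs => rw [← List.map_id EL64]
      apply List.map_congr_left
      intro X hX
      exact hσ X (hsub X hX)
    have hp : pairwiseNe ((EL64.map σ).map τ) = true := by rw [e]; exact EL64_ne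
    have hnd := pairwiseNe_nodup hτ _ hp
    have hss : (((EL64.map σ).map (fun t => (QuotientGroup.mk t : T ⧸ Subgroup.center T))).toFinset : Set _) ⊆
        ((ESub hτ : Subgroup _) : Set (T ⧸ Subgroup.center T)) := by
      intro s hs
      rw [Finset.mem_coe, List.mem_toFinset, List.map_map, List.mem_map] at hs
      obtain ⟨X, hX, rfl⟩ := hs
      refine ⟨σ X, ?_, rfl⟩
      rw [hσ X (hsub X hX)]
      exact hX
    have h1 := Set.ncard_le_ncard hss (Set.toFinite _)
    rw [Set.ncard_coe_finset, List.toFinset_card_of_nodup hnd, List.length_map, List.length_map, EL64_length,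
      ncard_coe_subgroup] at h1
    exact h1

/-- the centre of a maximal subgroup has order at most 8 -/
theorem part1 (hτ : IsTblRep τ syl2L) (M : Subgroup (T ⧸ Subgroup.center T)) (hM : IsCoatom M) :
    Nat.card (Subgroup.center M) ≤ 8 := by
  have : Finite (T ⧸ Subgroup.center T) := finite_S hτ
  have hp : IsPGroup 2 (T ⧸ Subgroup.center T) := IsPGroup.of_card (n := 9) (by rw [card_S hτ]; norm_num)
  have : Fact (Nat.Prime 2) := ⟨Nat.prime_two⟩
  have hidx : M.index = 2 := Cfsg.Agent.Helper1.IsPGroup.coatom_index hp hM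
  have hcM : Nat.card M = 256 := by
    have := M.card_mul_index
    rw [hidx, card_S hτ] at this
    omega
  have hsub : (((Subgroup.center M).map M.subtype : Subgroup _) : Set (T ⧸ Subgroup.center T)) ⊆ img τ YL12 := by
    rintro _ ⟨u, hu, rfl⟩
    obtain ⟨t, ht⟩ := QuotientGroup.mk_surjective (M.subtype u)
    obtain ⟨c, hc⟩ := exists_zip syl2L cert1 (by rw [syl2L_length, cert1_length]) (hτ.mem t)
    have hchk : check1 (τ t) c = true := all_mem check1_all hc
    unfold check1 at hchk
    rw [Bool.or_eq_true] at hchk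
    rcases hchk with h | h
    · rw [inK_iff hτ] at h
      rw [← ht]
      exact h
    · exfalso
      simp only [Bool.and_eq_true, decide_eq_true_eq] at h
      obtain ⟨⟨h1, h2⟩, h3⟩ := h
      have h4 := conj_count hτ t c h2 h3
      have h5 : M ≤ Subgroup.centralizer ({(QuotientGroup.mk t : T ⧸ Subgroup.center T)} : Set _) := by
        intro m hm
        rw [Subgroup.mem_centralizer_singleton_iff, ht]
        have := Subgroup.mem_center_iff.mp hu ⟨m, hm⟩
        exact congrArg Subtype.val this
      have h6 := Subgroup.card_le_of_le h5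
      rw [h1] at h4
      omega
  have h7 : Nat.card (Subgroup.center M) ≤ 12 := by
    calc Nat.card (Subgroup.center M) = Nat.card ((Subgroup.center M).map M.subtype : Subgroup _) :=
          (Subgroup.card_map_of_injective M.subtype_injective).symm
      _ = (((Subgroup.center M).map M.subtype : Subgroup _) : Set (T ⧸ Subgroup.center T)).ncard := rfl
      _ ≤ (img τ YL12).ncard := Set.ncard_le_ncard hsub (Set.toFinite _)
      _ ≤ YL12.length := ncard_img_le hτ YL12
      _ = 12 := YL12_length
  have h8 : Nat.card (Subgroup.center M) ∣ 2 ^ 8 := by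
    have := Subgroup.card_subgroup_dvd_card (Subgroup.center M)
    rw [hcM] at this
    exact this
  obtain ⟨k, hk, hk2⟩ := (Nat.dvd_prime_pow Nat.prime_two).mp h8
  rw [hk2] at h7 ⊢
  interval_cases k <;> simp_all

/-- the whole statement for a group given by the tables -/
theorem main (hτ : IsTblRep τ syl2L) :
    (∀ M : Subgroup (T ⧸ Subgroup.center T), IsCoatom M → Nat.card ↥(Subgroup.center ↥M) ≤ 8) ∧
      (∃ A : Subgroup (T ⧸ Subgroup.center T), Cfsg.IsElementaryAbelian 2 A ∧ Nat.card ↥A = 64) ∧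
      ∀ A B : Subgroup (T ⧸ Subgroup.center T),
        IsMulCommutative ↥A → Nat.card ↥A = 64 → IsMulCommutative ↥B → Nat.card ↥B = 64 → A = B :=
  ⟨fun M hM => part1 hτ M hM, ⟨ESub hτ, ⟨ESub_comm hτ, ESub_sq hτ⟩, ESub_card hτ⟩,
    fun A B hA hcA hB hcB => SetLike.coe_injective ((unique_aux hτ A hA hcA).trans (unique_aux hτ B hB hcB).symm)⟩

end

end Cfsg.Agent.Helper13.S3171G
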