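import Mathlib
import Cfsg.Agent.Helper16.S3174Defs
import Cfsg.Agent.Helper27.S3174FIXPT

/-!
S3174/S3175, piece AUT2: under `Cfg T W`, an automorphism of `T` of odd order is trivial.
-/

set_option autoImplicit false
set_option linter.unusedVariables false

namespace Cfsg.Agent.S3174P

open scoped commutatorElement

/-- step lemma: `α x = x n`, `α n = n`, `α` of odd order in a 2-group: `n = 1` -/
theorem AUT2_aux_step {T : Type*} [Group T] (hT : IsPGroup 2 T) (α : MulAut T) (m : ℕ) (hm : Odd m)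
    (hα : α ^ m = 1) {x n : T} (hx : α x = x * n) (hn : α n = n) : n = 1 := by
  have hpow : ∀ j : ℕ, (α ^ j) x = x * n ^ j := by
    intro j
    induction j with
    | zero => simp
    | succ j ih =>
      rw [pow_succ', MulAut.mul_apply, ih, map_mul, map_pow, hx, hn, pow_succ', mul_assoc]
  have h1 := hpow m
  rw [hα, MulAut.one_apply] at h1
  have hnm : n ^ m = 1 := by
    have : x * n ^ m = x * 1 := by rw [mul_one]; exact h1.symm
    exact mul_left_cancel this
  obtain ⟨k, hk⟩ := hT n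
  have hd1 : orderOf n ∣ m := orderOf_dvd_of_pow_eq_one hnm
  have hd2 : orderOf n ∣ 2 ^ k := orderOf_dvd_of_pow_eq_one hk
  have hcop : Nat.Coprime (2 ^ k) m := Nat.Coprime.pow_left k (Nat.coprime_two_left.2 hm)
  have h3 : orderOf n ∣ 1 := by
    have := Nat.dvd_gcd hd2 hd1
    rwa [hcop] at this
  exact orderOf_eq_one_iff.1 (Nat.dvd_one.1 h3)

/-- one step up a characteristic chain with factor of order 2 -/
theorem AUT2_aux_chain {T : Type*} [Group T] (hT : IsPGroup 2 T) (α : MulAut T) (m : ℕ)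
    (hm : Odd m) (hα : α ^ m = 1) (A B : Subgroup T) [hA : A.Characteristic] [hB : B.Characteristic]
    (hAB : A ≤ B) (hidx : A.relIndex B = 2) (hfix : ∀ z ∈ A, α z = z) : ∀ x ∈ B, α x = x := by
  intro x hx
  have hchar : ∀ (H : Subgroup T), H.Characteristic → ∀ (ϕ : MulAut T) (y : T), y ∈ H → ϕ y ∈ H := by
    intro H hH ϕ y hy
    have := Subgroup.characteristic_iff_map_eq.1 hH ϕ
    rw [← this]; exact ⟨y, hy, rfl⟩
  by_cases hxA : x ∈ A
  · exact hfix x hxA
  have hαxB : α x ∈ B := hchar B hB α x hx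
  have hαxA : α x ∉ A := by
    intro h
    apply hxA
    have := hchar A hA α⁻¹ (α x) h
    simpa using this
  have hmem : x⁻¹ * α x ∈ A := by
    have h2 : (A.subgroupOf B).index = 2 := hidx
    have h3 := (Subgroup.mul_mem_iff_of_index_two h2 (a := (⟨x⁻¹, B.inv_mem hx⟩ : ↥B))
      (b := (⟨α x, hαxB⟩ : ↥B)))
    rw [Subgroup.mem_subgroupOf, Subgroup.mem_subgroupOf, Subgroup.mem_subgroupOf] at h3
    apply h3.2
    constructor
    · intro h
      exfalso; apply hxA
      have := A.inv_mem h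
      simpa using this
    · intro h; exact absurd h hαxA
  have hn1 := AUT2_aux_step hT α m hm hα (x := x) (n := x⁻¹ * α x) (by group) (hfix _ hmem)
  calc α x = x * (x⁻¹ * α x) := by group
    _ = x := by rw [hn1, mul_one]

/-- AUT2 -/
theorem aut2 {T : Type*} [Group T] [Finite T] {W : Subgroup T} (c : Cfg T W) (α : MulAut T) (m : ℕ)
    (hm : Odd m) (hα : α ^ m = 1) : α = 1 := by
  have hT := c.hT
  have : Fact (Nat.Prime 2) := ⟨Nat.prime_two⟩
  have hrel : ∀ (A B : Subgroup T) (a : ℕ), A ≤ B → Nat.card ↥A = a → Nat.card ↥B = 2 * a →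
      A.relIndex B = 2 := by
    intro A B a hAB hA hB
    have h := Subgroup.relIndex_mul_relIndex ⊥ A B bot_le hAB
    rw [Subgroup.relIndex_bot_left, Subgroup.relIndex_bot_left, hA, hB] at h
    have hpos : 0 < a := by rw [← hA]; exact Nat.card_pos
    nlinarith
  have hmono : ∀ i, Zi T i ≤ Zi T (i + 1) := fun i => Subgroup.upperCentralSeries_mono T (Nat.le_succ i)
  have hZ0 : Zi T 0 = ⊥ := Subgroup.upperCentralSeries_zero T
  have f0 : ∀ z ∈ Zi T 0, α z = z := by
    intro z hz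
    rw [hZ0, Subgroup.mem_bot] at hz
    rw [hz, map_one]
  have c0 : Nat.card ↥(Zi T 0) = 1 := by rw [hZ0]; exact Subgroup.card_bot
  have f1 := AUT2_aux_chain hT α m hm hα (Zi T 0) (Zi T 1) (hmono 0)
    (hrel _ _ 1 (hmono 0) c0 (by rw [c.c1])) f0
  have f2 := AUT2_aux_chain hT α m hm hα (Zi T 1) (Zi T 2) (hmono 1)
    (hrel _ _ 2 (hmono 1) c.c1 (by rw [c.c2])) f1
  have f3 := AUT2_aux_chain hT α m hm hα (Zi T 2) (Zi T 3) (hmono 2)
    (hrel _ _ 4 (hmono 2) c.c2 (by rw [c.c3])) f2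
  have f4 := AUT2_aux_chain hT α m hm hα (Zi T 3) (Zi T 4) (hmono 3)
    (hrel _ _ 8 (hmono 3) c.c3 (by rw [c.c4])) f3
  -- (b) `x⁻¹ α(x) ∈ W`
  have hb : ∀ x : T, x⁻¹ * α x ∈ W := by
    intro x
    rw [c.hW, Subgroup.mem_centralizer_iff]
    intro z hz
    have hzn : x * z * x⁻¹ ∈ Zi T 3 := (inferInstance : (Zi T 3).Normal).conj_mem z hz x
    have h1 : α (x * z * x⁻¹) = x * z * x⁻¹ := f3 _ hzn
    rw [map_mul, map_mul, map_inv, f3 z hz] at h1
    have h2 : x⁻¹ * α x * z = x⁻¹ * (α x * z * (α x)⁻¹) * α x := by group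
    rw [h2, h1]; group
  -- (c) `α` fixes `W` pointwise
  let D : Subgroup T :=
    { carrier := {x | x ∈ W ∧ α x = x}
      mul_mem' := by
        rintro a b ⟨ha, ha'⟩ ⟨hb', hb''⟩
        exact ⟨W.mul_mem ha hb', by rw [map_mul, ha', hb'']⟩
      one_mem' := ⟨W.one_mem, map_one α⟩
      inv_mem' := by
        rintro a ⟨ha, ha'⟩
        exact ⟨W.inv_mem ha, by rw [map_inv, ha']⟩ }
  have hDW : D ≤ W := fun x hx => hx.1
  have hDeq : D = W := by
    by_contra hne
    have hlt : D < W := lt_of_le_of_ne hDW hne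
    have hWn : W.Normal := c.nW
    obtain ⟨x, hxW, hxD, hfix⟩ :=
      exists_fixed_mod hT D W ⊤ hlt (fun g _ y hy => hWn.conj_mem y hy g)
    have hyW := hb x
    have hαxW : α x ∈ W := by
      have : α x = x * (x⁻¹ * α x) := by group
      rw [this]; exact W.mul_mem hxW hyW
    have hkey : ∀ h : T, ⁅h⁻¹, (x⁻¹ * α x)⁻¹⁆ ∈ Zi T 3 := by
      intro h
      have hD : α ⁅h, x⁆ = ⁅h, x⁆ := (hfix h (Subgroup.mem_top _)).2
      rw [commutatorElement_def, map_mul, map_mul, map_mul, map_inv, map_inv] at hD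
      have h1 : α h * α x * (α h)⁻¹ = h * x * h⁻¹ * x⁻¹ * α x := by rw [← hD]; group
      have h2 : α h * (α x)⁻¹ * (α h)⁻¹ = (α h * α x * (α h)⁻¹)⁻¹ := by group
      have key : α h * (α x)⁻¹ * (α h)⁻¹ = (α x)⁻¹ * x * h * x⁻¹ * h⁻¹ := by
        rw [h2, h1]; group
      have e1 : ⁅h⁻¹, (x⁻¹ * α x)⁻¹⁆ = h⁻¹ * ((α x)⁻¹ * x * h * x⁻¹ * h⁻¹) * h * α x := by
        rw [commutatorElement_def]; group
      have e2 : ⁅h⁻¹ * α h, (α x)⁻¹⁆ = h⁻¹ * (α h * (α x)⁻¹ * (α h)⁻¹) * h * α x := by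
        rw [commutatorElement_def]; group
      rw [e1, ← key, ← e2]
      exact c.cm _ (hb h) _ (W.inv_mem hαxW)
    have hyinv : (x⁻¹ * α x)⁻¹ ∈ Zi T 4 := by
      rw [show Zi T 4 = Subgroup.upperCentralSeries T (3 + 1) from rfl,
        Subgroup.mem_upperCentralSeries_succ_iff]
      intro g
      rw [← commutatorElement_inv]
      apply Subgroup.inv_mem
      have := hkey g⁻¹
      rwa [inv_inv] at this
    have hy4 : x⁻¹ * α x ∈ Zi T 4 := by
      have := (Zi T 4).inv_mem hyinv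
      rwa [inv_inv] at this
    have hy1 := AUT2_aux_step hT α m hm hα (x := x) (n := x⁻¹ * α x) (by group) (f4 _ hy4)
    apply hxD
    refine ⟨hxW, ?_⟩
    calc α x = x * (x⁻¹ * α x) := by group
      _ = x := by rw [hy1, mul_one]
  have fW : ∀ x ∈ W, α x = x := by
    intro x hx
    have : x ∈ D := by rw [hDeq]; exact hx
    exact this.2
  -- (d)
  apply MulEquiv.ext
  intro x
  have hn1 := AUT2_aux_step hT α m hm hα (x := x) (n := x⁻¹ * α x) (by group) (fW _ (hb x))
  rw [MulAut.one_apply]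
  calc α x = x * (x⁻¹ * α x) := by group
    _ = x := by rw [hn1, mul_one]

end Cfsg.Agent.S3174P
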