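import Mathlib
import Cfsg.Agent.Helper16.S3266Defs
import Cfsg.Agent.Helper12.Mat2
import Cfsg.Agent.Helper12.PSL2Basic
import Cfsg.Agent.Helper12.SL2Torus

set_option autoImplicit false

namespace Cfsg.Agent.S3266P

variable {F : Type*} [Field F]

/-- POWS -/
theorem odd_of_split [Fintype F] (h2 : (2 : F) ≠ 0) (hm1 : ¬ IsSquare (-1 : F)) (A C : S2 F)
    (d : F) (hd : d ≠ 0) (h : (A.1 * C.1).trace ^ 2 - 4 = d ^ 2) :
    Odd (orderOf (pr F A * pr F C)) := by
  classical
  have hq : Fintype.card F % 4 = 3 := by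
    by_contra hne
    exact hm1 (FiniteField.isSquare_neg_one_iff.mpr hne)
  set q := Fintype.card F with hqdef
  set k := (q - 1) / 2 with hk
  have hkodd : Odd k := by
    rw [Nat.odd_iff]
    omega
  have hk2 : 2 * k = q - 1 := by omega
  set M : S2 F := A * C with hM
  have hMcoe : (M : M2 F) = A.1 * C.1 := by
    rw [hM]
    rfl
  set t : F := (A.1 * C.1).trace with ht
  have hdet : (M : M2 F).det = 1 := M.2
  have h4 : (4 : F) = 2 * 2 := by norm_num
  have h40 : (4 : F) ≠ 0 := by
    rw [h4]
    exact mul_ne_zero h2 h2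
  set l : F := (t + d) / 2 with hl
  set m : F := (t - d) / 2 with hm
  have hlm : l * m = 1 := by
    rw [hl, hm]
    field_simp
    linear_combination h
  have hsum : l + m = t := by
    rw [hl, hm]
    field_simp
    ring
  have hne : l ≠ m := by
    intro e
    have : d = 0 := by
      have e2 : l - m = 0 := sub_eq_zero.mpr e
      have e3 : l - m = d := by
        rw [hl, hm]
        field_simp
        ring
      rw [e3] at e2
      exact e2
    exact hd this
  have hcay : (M : M2 F) * (M : M2 F) = (l + m) • (M : M2 F) - (1 : M2 F) := by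
    have := Cfsg.Agent.Helper12.cayley2 (M : M2 F)
    rw [hdet, one_smul, hMcoe] at this
    rw [hMcoe, hsum]
    exact this
  have hl0 : l ≠ 0 := by
    intro e
    rw [e, zero_mul] at hlm
    exact zero_ne_one hlm
  have hm0 : m ≠ 0 := by
    intro e
    rw [e, mul_zero] at hlm
    exact zero_ne_one hlm
  -- `l ^ k = ± 1`
  have hlk : l ^ k = 1 ∨ l ^ k = -1 := by
    have : (l ^ k) ^ 2 = 1 := by
      rw [← pow_mul, mul_comm, hk2]
      exact FiniteField.pow_card_sub_one_eq_one l hl0
    have h3 : (l ^ k - 1) * (l ^ k + 1) = 0 := by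
      have e : (l ^ k - 1) * (l ^ k + 1) = (l ^ k) ^ 2 - 1 := by ring
      rw [e, this, sub_self]
    rcases mul_eq_zero.mp h3 with h5 | h5
    · left
      exact sub_eq_zero.mp h5
    · right
      exact eq_neg_of_add_eq_zero_left h5
  have hmk : m ^ k = l ^ k := by
    have h5 : l ^ k * m ^ k = 1 := by
      rw [← mul_pow, hlm, one_pow]
    rcases hlk with h6 | h6
    · rw [h6, one_mul] at h5
      rw [h5, h6]
    · rw [h6] at h5
      rw [h6]
      have : m ^ k = -(-1 * m ^ k) := by ring
      rw [this, h5]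
  have hpow := Cfsg.Agent.Helper12.pow_isScalar2_of_roots (M : M2 F) l m hlm hne hcay k hmk.symm
  have hone : (QuotientGroup.mk M : P2 F) ^ k = 1 :=
    Cfsg.Agent.Helper12.psl2_mk_pow_eq_one_of_scalar M k (l ^ k) hpow
  have hprod : pr F A * pr F C = (QuotientGroup.mk M : P2 F) := by
    rw [← map_mul]
    rfl
  rw [hprod]
  exact Odd.of_dvd_nat hkodd (orderOf_dvd_of_pow_eq_one hone)

end Cfsg.Agent.S3266P
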