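import Mathlib
import Cfsg.Agent.Helper15.S3412.Defs2

/-! S3412 piece GAMMA3 (helper13): adjacency in the incidence graph of `PG(2,3)` is
"distinct with a common non-identity element" for the 26 subgroups `sub0 x` of `SL₃(3)`. -/

set_option autoImplicit false

namespace Cfsg.Agent.S3412P

open Matrix Cfsg.Agent.Helper2.RootSLn Cfsg.Agent.Helper7.AutPSL

namespace GAMMA3

set_option maxRecDepth 100000 in
/-- distinct `pt i` are not proportional -/
theorem pt_not_smul : ∀ i j : Fin 13, i ≠ j → ∀ a : ZMod 3, pt i ≠ a • pt j := by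
  decide

set_option maxRecDepth 100000 in
theorem pt_ne_zero : ∀ i : Fin 13, pt i ≠ 0 := by
  decide

set_option maxRecDepth 100000 in
/-- the forms vanishing at `pt i` are not all proportional to `pt j` -/
theorem exists_orth_not_smul : ∀ i j : Fin 13, ∃ ψ : Fin 3 → ZMod 3,
    ψ ⬝ᵥ pt i = 0 ∧ ∀ a : ZMod 3, ψ ≠ a • pt j := by
  decide

theorem TP_ne_TH (i j : Fin 13) : (TP (pt i) : Subgroup L33) ≠ TH (pt j) := by
  intro heq
  obtain ⟨ψ, hψ, hne⟩ := exists_orth_not_smul i j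
  have h1 : ts (pt i) ψ hψ 1 ∈ (TH (pt j) : Subgroup L33) := by
    rw [← heq]; exact ts_mem_TP hψ 1
  obtain ⟨w, hw, h2⟩ := mem_TH.1 h1
  rw [coe_ts] at h2
  obtain ⟨a, ha⟩ := smul_of_vecMulVec_eq_left (vecMulVec_eq_of_tm_eq h2) (pt_ne_zero i)
  exact hne a ha

theorem no_common_of_inf_eq_bot {A B : Subgroup L33} (h : A ⊓ B = ⊥) :
    ¬ ∃ a : L33, a ≠ 1 ∧ a ∈ A ∧ a ∈ B := by
  rintro ⟨a, ha1, haA, haB⟩
  have : a ∈ A ⊓ B := ⟨haA, haB⟩
  rw [h, Subgroup.mem_bot] at this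
  exact ha1 this

theorem common_TP_TH (i j : Fin 13) :
    (∃ a : L33, a ≠ 1 ∧ a ∈ (TP (pt i) : Subgroup L33) ∧ a ∈ (TH (pt j) : Subgroup L33)) ↔
      inc i j := by
  constructor
  · intro h
    by_contra hinc
    exact no_common_of_inf_eq_bot (TP_inf_TH_eq_bot (pt_ne_zero i) hinc) h
  · intro hinc
    have hinc' : pt j ⬝ᵥ pt i = 0 := hinc
    refine ⟨ts (pt i) (pt j) hinc' 1, ?_, ts_mem_TP hinc' 1, ts_mem_TH hinc' 1⟩
    intro h1
    exact one_ne_zero ((ts_eq_one_iff (pt_ne_zero i) (pt_ne_zero j) hinc').1 h1)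

theorem sub0_adj (x y : V₀) :
    adj₀ x y ↔ (sub0 x ≠ sub0 y ∧ ∃ a : L33, a ≠ 1 ∧ a ∈ sub0 x ∧ a ∈ sub0 y) := by
  rcases x with i | i <;> rcases y with j | j
  · rw [adj₀_inl_inl, false_iff, sub0_inl, sub0_inl]
    rintro ⟨hne, hex⟩
    have hij : i ≠ j := fun h => hne (by rw [h])
    exact no_common_of_inf_eq_bot (TP_inf_TP_eq_bot (pt_not_smul i j hij)) hex
  · rw [adj₀_inl_inr, sub0_inl, sub0_inr, common_TP_TH]
    constructor
    · intro h
      refine ⟨?_, h⟩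
      exact TP_ne_TH i j
    · exact fun h => h.2
  · rw [adj₀_inr_inl, sub0_inl, sub0_inr]
    have hc : (∃ a : L33, a ≠ 1 ∧ a ∈ (TH (pt i) : Subgroup L33) ∧ a ∈ (TP (pt j) : Subgroup L33))
        ↔ inc j i := by
      rw [← common_TP_TH]
      exact ⟨fun ⟨a, h1, h2, h3⟩ => ⟨a, h1, h3, h2⟩, fun ⟨a, h1, h2, h3⟩ => ⟨a, h1, h3, h2⟩⟩
    rw [hc]
    constructor
    · intro h
      refine ⟨?_, h⟩
      exact fun heq => TP_ne_TH j i heq.symm
    · exact fun h => h.2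
  · rw [adj₀_inr_inr, false_iff, sub0_inr, sub0_inr]
    rintro ⟨hne, hex⟩
    have hij : i ≠ j := fun h => hne (by rw [h])
    exact no_common_of_inf_eq_bot (TH_inf_TH_eq_bot (pt_not_smul i j hij)) hex

end GAMMA3

end Cfsg.Agent.S3412P
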