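import Cfsg.Agent.Helper6.S2858Hyp
import Cfsg.Agent.Helper14.Amalgam6
import Cfsg.Agent.Helper19.S2858VTXL
import Cfsg.Agent.Helper11.DihedralLift

/-!
S3685 (Wong/Sims: a primitive group with a suborbit of length 3 has point stabiliser
`Z₃`, `S₃`, `D₁₂`, `S₄` or `S₄ × Z₂`) as a corollary of S2858.  Part A: general lemmas on a pair
`T ≤ P` of index 3.
-/

set_option autoImplicit false
set_option linter.unusedSectionVars false
set_option linter.unusedVariables false

namespace Cfsg.Agent.S3685P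

open Subgroup Cfsg Cfsg.Agent.Helper14 Cfsg.Agent.S2858P

/-- An element of odd order acting on a set with three elements and fixing a point fixes everything. -/
theorem W_aux_odd_fix {M X : Type*} [Group M] [MulAction M X] (hX : Nat.card X = 3) (x : M)
    (hodd : Odd (orderOf x)) (c₀ : X) (h0 : x • c₀ = c₀) (c : X) : x • c = c := by
  by_contra hne
  have hfin : Finite X := Nat.finite_of_card_ne_zero (by rw [hX]; norm_num)
  have := Fintype.ofFinite X
  classical
  have hc0 : c ≠ c₀ := by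
    rintro rfl; exact hne h0
  have hxc0 : x • c ≠ c₀ := by
    intro h1
    have : x • c = x • c₀ := by rw [h1, h0]
    exact hc0 (MulAction.injective x this)
  have hcard : ({c₀, c, x • c} : Finset X).card = 3 := by
    rw [Finset.card_eq_three]
    exact ⟨c₀, c, x • c, hc0.symm, hxc0.symm, fun h => hne h.symm, rfl⟩
  have huniv : ({c₀, c, x • c} : Finset X) = Finset.univ := by
    apply Finset.eq_univ_of_card
    rw [hcard, ← Nat.card_eq_fintype_card, hX]
  have hz : x • (x • c) ∈ ({c₀, c, x • c} : Finset X) := by rw [huniv]; exact Finset.mem_univ _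
  simp only [Finset.mem_insert, Finset.mem_singleton] at hz
  have h2 : x • (x • c) = c := by
    rcases hz with h1 | h1 | h1
    · exfalso
      have : x • (x • c) = x • c₀ := by rw [h1, h0]
      exact hxc0 (MulAction.injective x this)
    · exact h1
    · exfalso
      exact hne (MulAction.injective x h1)
  have h3 : ∀ k : ℕ, (x ^ (2 * k)) • c = c := by
    intro k
    induction k with
    | zero => simp
    | succ k ih =>
      have : x ^ (2 * (k + 1)) = x ^ (2 * k) * (x * x) := by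
        rw [show 2 * (k + 1) = 2 * k + 2 by ring, pow_add, pow_two]
      rw [this, mul_smul, mul_smul, h2, ih]
  obtain ⟨k, hk⟩ := hodd
  have h4 : x ^ (2 * k + 1) = 1 := by rw [← hk]; exact pow_orderOf_eq_one x
  have h5 : (x ^ (2 * k + 1)) • c = x • c := by
    rw [pow_succ, mul_smul]
    have : (x ^ (2 * k)) • (x • c) = x • ((x ^ (2 * k)) • c) := by
      rw [← mul_smul, ← mul_smul, ← pow_succ, ← pow_succ']
    rw [this, h3]
  rw [h4, one_smul] at h5
  exact hne h5.symm

variable {G : Type*} [Group G]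

/-- the elements of odd order of a subgroup `T` of index 3 in `P` lie in every `P`-conjugate of `T` -/
theorem W_aux_conj_mem {P T : Subgroup G} (hTP : T ≤ P) (hidx : T.relIndex P = 3) {x g : G}
    (hx : x ∈ T) (hodd : Odd (orderOf x)) (hg : g ∈ P) : g⁻¹ * x * g ∈ T := by
  have hX : Nat.card (↥P ⧸ T.subgroupOf P) = 3 := hidx
  have hord : Odd (orderOf (⟨x, hTP hx⟩ : ↥P)) := by
    rw [Subgroup.orderOf_mk]; exact hodd
  have h0 : (⟨x, hTP hx⟩ : ↥P) • ((1 : ↥P) : ↥P ⧸ T.subgroupOf P) = ((1 : ↥P) : ↥P ⧸ T.subgroupOf P) := by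
    rw [MulAction.Quotient.smul_mk, smul_eq_mul, mul_one]
    rw [QuotientGroup.eq]
    rw [Subgroup.mem_subgroupOf]
    simpa using T.inv_mem hx
  have h1 := W_aux_odd_fix hX (⟨x, hTP hx⟩ : ↥P) hord _ h0 ((⟨g, hg⟩ : ↥P) : ↥P ⧸ T.subgroupOf P)
  rw [MulAction.Quotient.smul_mk, smul_eq_mul, QuotientGroup.eq, Subgroup.mem_subgroupOf] at h1
  have h2 : (g⁻¹ * x * g)⁻¹ ∈ T := by
    have : (g⁻¹ * x * g)⁻¹ = (x * g)⁻¹ * g := by group
    rw [this]
    simpa using h1
  simpa using T.inv_mem h2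

/-- a subgroup between `T` and `P` (`|P : T| = 3`) different from `T` is `P` -/
theorem W_aux_between {P T L : Subgroup G} [Finite ↥P] (hidx : T.relIndex P = 3)
    (hTL : T ≤ L) (hLP : L ≤ P) (hne : L ≠ T) : L = P := by
  have h1 := Subgroup.relIndex_mul_relIndex T L P hTL hLP
  rw [hidx] at h1
  have hdvd : T.relIndex L ∣ 3 := ⟨_, h1.symm⟩
  have hfinL : Finite ↥L :=
    Finite.of_injective (Subgroup.inclusion hLP) (Subgroup.inclusion_injective hLP)
  rcases (Nat.dvd_prime Nat.prime_three).1 hdvd with h3 | h3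
  · exfalso
    apply hne
    have hc := Subgroup.relIndex_mul_relIndex ⊥ T L bot_le hTL
    rw [Subgroup.relIndex_bot_left, Subgroup.relIndex_bot_left, h3, mul_one] at hc
    exact (Subgroup.eq_of_le_of_card_ge hTL hc.ge).symm
  · rw [h3] at h1
    have h4 : L.relIndex P = 1 := by omega
    exact le_antisymm hLP (Subgroup.relIndex_eq_one.1 h4)

theorem W_aux_card {P T : Subgroup G} (hTP : T ≤ P) (hidx : T.relIndex P = 3) :
    Nat.card ↥P = 3 * Nat.card ↥T := by
  have hc := Subgroup.relIndex_mul_relIndex ⊥ T P bot_le hTP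
  rw [Subgroup.relIndex_bot_left, Subgroup.relIndex_bot_left, hidx] at hc
  omega

/-- a 2-subgroup of index 3 is a Sylow 2-subgroup -/
theorem W_aux_sylow {P T : Subgroup G} [Finite ↥P] (hTP : T ≤ P) (hidx : T.relIndex P = 3)
    (h2 : IsPGroup 2 ↥T) : IsSylowIn 2 T P := by
  have : Fact (Nat.Prime 2) := ⟨Nat.prime_two⟩
  have hp : IsPGroup 2 ↥(T.subgroupOf P) := h2.comap_subtype
  have hnd : ¬ 2 ∣ (T.subgroupOf P).index := by
    have : (T.subgroupOf P).index = 3 := hidx
    rw [this]; norm_num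
  rw [isSylowIn_iff]
  refine ⟨hp.toSylow hnd, ?_⟩
  exact map_subtype_subgroupOf hTP

/-- the subgroup generated by the elements of odd order of `T` -/
def W_aux_N (T : Subgroup G) : Subgroup G := closure {x : G | x ∈ T ∧ Odd (orderOf x)}

theorem W_aux_N_le (T : Subgroup G) : W_aux_N T ≤ T := by
  unfold W_aux_N
  rw [closure_le]
  exact fun x hx => hx.1

theorem W_aux_N_normal {P T : Subgroup G} (hTP : T ≤ P) (hidx : T.relIndex P = 3) :
    P ≤ normalizer (W_aux_N T : Set G) := by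
  apply le_normalizer_of_map_cj_le
  intro g hg
  unfold W_aux_N
  rw [MonoidHom.map_closure, closure_le]
  rintro _ ⟨x, ⟨hxT, hxo⟩, rfl⟩
  apply Subgroup.subset_closure
  refine ⟨?_, ?_⟩
  · have := W_aux_conj_mem hTP hidx hxT hxo (P.inv_mem hg)
    simpa [cj_apply] using this
  · rw [orderOf_injective (cj g) (cj_injective g)]
    exact hxo

/-- `T` is a 2-group -/
theorem W_aux_two_group {P₁ P₂ T : Subgroup G} [Finite ↥P₁] (hT₁ : T ≤ P₁) (hT₂ : T ≤ P₂)
    (hgen : P₁ ⊔ P₂ = ⊤) (hcore : ∀ N : Subgroup G, N.Normal → N ≤ T → N = ⊥)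
    (i₁ : T.relIndex P₁ = 3) (i₂ : T.relIndex P₂ = 3) : IsPGroup 2 ↥T := by
  have hn : normalizer (W_aux_N T : Set G) = ⊤ := by
    rw [eq_top_iff, ← hgen]
    exact sup_le (W_aux_N_normal hT₁ i₁) (W_aux_N_normal hT₂ i₂)
  have hbot : W_aux_N T = ⊥ := hcore _ (normalizer_eq_top_iff.1 hn) (W_aux_N_le T)
  have hodd : ∀ x ∈ T, Odd (orderOf x) → x = 1 := by
    intro x hx ho
    have : x ∈ W_aux_N T := Subgroup.subset_closure ⟨hx, ho⟩
    rw [hbot] at this
    exact Subgroup.mem_bot.1 this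
  have hfinT : Finite ↥T :=
    Finite.of_injective (Subgroup.inclusion hT₁) (Subgroup.inclusion_injective hT₁)
  intro x
  have hpos : orderOf (x : G) ≠ 0 := by
    have : 0 < orderOf x := orderOf_pos x
    rw [Subgroup.orderOf_coe]
    omega
  obtain ⟨k, m, hm, hkm⟩ := Nat.exists_eq_two_pow_mul_odd hpos
  refine ⟨k, ?_⟩
  have h2k : (2 : ℕ) ^ k ≠ 0 := by positivity
  have ho : orderOf ((x : G) ^ (2 ^ k)) = m := by
    rw [orderOf_pow' _ h2k, hkm]
    have : (2 ^ k * m).gcd (2 ^ k) = 2 ^ k := Nat.gcd_eq_right (Dvd.intro _ rfl)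
    rw [this, Nat.mul_div_cancel_left _ (by positivity)]
  have h1 := hodd _ (T.pow_mem x.2 _) (by rw [ho]; exact hm)
  exact Subtype.ext (by simpa using h1)

/-- `O₂(P) ≤ T`, and either `O₂(P) = T` or `|P| = 6 |O₂(P)|` -/
theorem W_aux_dichotomy {P T : Subgroup G} [Finite ↥P] (hs : IsSylowIn 2 T P)
    (hidx : T.relIndex P = 3) :
    pCoreOf 2 P = T ∨ Nat.card ↥P = 6 * Nat.card ↥(pCoreOf 2 P) := by
  have : Fact (Nat.Prime 2) := ⟨Nat.prime_two⟩
  set S : Sylow 2 ↥P := hs.toSylow with hS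
  have hSidx : (S : Subgroup ↥P).index = 3 := hidx
  have hcore : (S : Subgroup ↥P).normalCore = pCore 2 ↥P := by
    apply le_antisymm
    · exact le_pCore 2 (Subgroup.normalCore_normal _)
        (S.isPGroup'.to_le (Subgroup.normalCore_le _))
    · exact (Subgroup.normal_le_normalCore).2 (pCore_le_sylow 2 S)
  have hker : (MulAction.toPermHom ↥P (↥P ⧸ (S : Subgroup ↥P))).ker = pCore 2 ↥P := by
    rw [← Subgroup.normalCore_eq_ker, hcore]
  have hX : Nat.card (↥P ⧸ (S : Subgroup ↥P)) = 3 := hSidx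
  have hfinX : Finite (↥P ⧸ (S : Subgroup ↥P)) := Nat.finite_of_card_ne_zero (by rw [hX]; norm_num)
  have := Fintype.ofFinite (↥P ⧸ (S : Subgroup ↥P))
  classical
  have hperm : Nat.card (Equiv.Perm (↥P ⧸ (S : Subgroup ↥P))) = 6 := by
    rw [Nat.card_eq_fintype_card, Fintype.card_perm, ← Nat.card_eq_fintype_card, hX]
    rfl
  have hdvd6 : (pCore 2 ↥P).index ∣ 6 := by
    rw [← hker, Subgroup.index_ker, ← hperm]
    exact Subgroup.card_subgroup_dvd_card _
  have hdvd3 : 3 ∣ (pCore 2 ↥P).index := by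
    rw [← hSidx]
    exact Subgroup.index_dvd_of_le (pCore_le_sylow 2 S)
  have hcases : (pCore 2 ↥P).index = 3 ∨ (pCore 2 ↥P).index = 6 := by
    obtain ⟨c, hc⟩ := hdvd3
    have hle : (pCore 2 ↥P).index ≤ 6 := Nat.le_of_dvd (by norm_num) hdvd6
    have hpos : 0 < (pCore 2 ↥P).index := Nat.pos_of_ne_zero Subgroup.index_ne_zero_of_finite
    have : c = 1 ∨ c = 2 := by omega
    rcases this with rfl | rfl
    · left; omega
    · right; omega
  have hmul := Subgroup.index_mul_card (pCore 2 ↥P)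
  have hcardQ : Nat.card ↥(pCoreOf 2 P) = Nat.card ↥(pCore 2 ↥P) := card_map_subtype _
  rcases hcases with h3 | h6
  · left
    have hmulS := Subgroup.index_mul_card (S : Subgroup ↥P)
    rw [hSidx] at hmulS
    rw [h3] at hmul
    have hc : Nat.card ↥(S : Subgroup ↥P) ≤ Nat.card ↥(pCore 2 ↥P) := by omega
    have heq : pCore 2 ↥P = (S : Subgroup ↥P) :=
      Subgroup.eq_of_le_of_card_ge (pCore_le_sylow 2 S) hc
    show (pCore 2 ↥P).map P.subtype = T
    rw [heq]
    exact hs.toSylow_map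
  · right
    rw [hcardQ, ← hmul, h6]

/-- the symmetry element: `g P₁ g⁻¹ = P₂`, `g T g⁻¹ = T` -/
theorem W_aux_symm {P₁ P₂ T : Subgroup G} [Finite ↥P₂] (s₁ : IsSylowIn 2 T P₁)
    (s₂ : IsSylowIn 2 T P₂) (g₀ : G) (hg₀ : P₁.map (cj g₀) = P₂) :
    ∃ g : G, P₁.map (cj g) = P₂ ∧ T.map (cj g) = T := by
  have : Fact (Nat.Prime 2) := ⟨Nat.prime_two⟩
  have s₀ : IsSylowIn 2 (T.map (cj g₀)) P₂ := by
    have := s₁.map_cj g₀
    rwa [hg₀] at this
  obtain ⟨h, hh, hT⟩ := s₀.exists_conj s₂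
  refine ⟨h * g₀, ?_, ?_⟩
  · rw [← map_cj_mul, hg₀]
    exact map_cj_eq_self_of_mem hh
  · rw [← map_cj_mul]
    exact hT.symm

end Cfsg.Agent.S3685P
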