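import Cfsg.Agent.Helper13.S3685A

/-!
S3685 (Wong/Sims) as a corollary of S2858.  Part B: the recognition of `D₁₂`: a finite group `H`
with `H / O₂(H) ≅ S₃`, `|O₂(H)| = 2` and an involution outside `O₂(H)` is dihedral of order 12.
-/

set_option autoImplicit false
set_option linter.unusedSectionVars false
set_option linter.unusedVariables false

namespace Cfsg.Agent.S3685P

open Subgroup Cfsg Cfsg.Agent.Helper14 Cfsg.Agent.S2858P

theorem W_aux_D12 {H : Type*} [Group H] [Finite H]
    (e : H ⧸ pCore 2 H ≃* Equiv.Perm (Fin 3)) (hK : Nat.card ↥(pCore 2 H) = 2)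
    (b : H) (hb : b ∉ pCore 2 H) (hb2 : b * b = 1) : Nonempty (H ≃* DihedralGroup 6) := by
  have hcard : Nat.card H = 12 := by rw [VTX_card e, hK]
  have hnorm : (pCore 2 H).Normal := pCore_normal 2 H
  -- the non-trivial element `k` of `O₂(H)`
  obtain ⟨k', hk'1, hk'u⟩ := (Nat.card_eq_two_iff' (1 : ↥(pCore 2 H))).1 hK
  set k : H := (k' : H) with hkdef
  have hkK : k ∈ pCore 2 H := k'.2
  have hk1 : k ≠ 1 := by
    intro h
    apply hk'1
    exact Subtype.ext h
  have hKk : ∀ x ∈ pCore 2 H, x = 1 ∨ x = k := by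
    intro x hx
    by_cases h1 : x = 1
    · exact Or.inl h1
    · right
      have : (⟨x, hx⟩ : ↥(pCore 2 H)) = k' := by
        apply hk'u
        intro h
        exact h1 (congrArg Subtype.val h)
      exact congrArg Subtype.val this
  -- `k` is central
  have hkc : ∀ x : H, x * k = k * x := by
    intro x
    have hmem : x * k * x⁻¹ ∈ pCore 2 H := hnorm.conj_mem k hkK x
    rcases hKk _ hmem with h | h
    · exfalso
      apply hk1
      have : k = x⁻¹ * (x * k * x⁻¹) * x := by group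
      rw [this, h]; group
    · calc x * k = (x * k * x⁻¹) * x := by group
        _ = k * x := by rw [h]
  have hkk : k * k = 1 := by
    rcases hKk _ ((pCore 2 H).mul_mem hkK hkK) with h | h
    · exact h
    · exfalso
      apply hk1
      calc k = k⁻¹ * (k * k) := by group
        _ = k⁻¹ * k := by rw [h]
        _ = 1 := by group
  have hok : orderOf k = 2 := by
    have : Fact (Nat.Prime 2) := ⟨Nat.prime_two⟩
    exact orderOf_eq_prime (by rw [pow_two]; exact hkk) hk1
  -- an element of order 3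
  have hdvd : 3 ∣ Nat.card H := by rw [hcard]; norm_num
  have : Fact (Nat.Prime 3) := ⟨Nat.prime_three⟩
  obtain ⟨d, hd⟩ := exists_prime_orderOf_dvd_card' 3 hdvd
  have hd3 : d ^ 3 = 1 := by rw [← hd]; exact pow_orderOf_eq_one d
  -- `a = d k` has order 6
  have hcomm : Commute d k := hkc d
  have hoa : orderOf (d * k) = 6 := by
    rw [hcomm.orderOf_mul_eq_mul_orderOf_of_coprime (by rw [hd, hok]; norm_num), hd, hok]
  -- `b` inverts `d`
  have heb1 : e (b : H ⧸ pCore 2 H) ≠ 1 := fun h => hb ((VTX_aux_proj_eq_one e b).1 h)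
  have heb2 : (e (b : H ⧸ pCore 2 H)) ^ 2 = 1 := by
    rw [← VTX_aux_proj_pow, pow_two, hb2, QuotientGroup.mk_one, map_one]
  have hed3 : (e (d : H ⧸ pCore 2 H)) ^ 3 = 1 := by
    rw [← VTX_aux_proj_pow, hd3, QuotientGroup.mk_one, map_one]
  have hinvK : b * d * b⁻¹ * d ∈ pCore 2 H := by
    rw [← VTX_aux_proj_eq_one e, VTX_aux_proj_mul, VTX_aux_proj_mul, VTX_aux_proj_mul,
      VTX_aux_proj_inv]
    exact VTX_aux_perm_inv _ _ heb1 heb2 hed3
  have hbinv : b⁻¹ = b := inv_eq_of_mul_eq_one_left hb2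
  have hc3 : (b * d * b⁻¹) ^ 3 = 1 := by
    rw [conj_pow, hd3, mul_one, mul_inv_cancel]
  have hinv : b * d * b⁻¹ = d⁻¹ := by
    rcases hKk _ hinvK with h | h
    · exact eq_inv_of_mul_eq_one_left h
    · exfalso
      apply hk1
      have h1 : b * d * b⁻¹ = k * d⁻¹ := by
        calc b * d * b⁻¹ = (b * d * b⁻¹ * d) * d⁻¹ := by group
          _ = k * d⁻¹ := by rw [h]
      rw [h1] at hc3
      have hcomm' : Commute k d⁻¹ := (hkc d⁻¹).symm
      rw [hcomm'.mul_pow] at hc3
      have hk3 : k ^ 3 = k := by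
        rw [pow_succ, pow_two, hkk, one_mul]
      have hdi3 : (d⁻¹) ^ 3 = 1 := by rw [inv_pow, hd3, inv_one]
      rw [hk3, hdi3, mul_one] at hc3
      exact hc3
  have hkinv : k⁻¹ = k := inv_eq_of_mul_eq_one_left hkk
  have hbab : b * (d * k) * b = (d * k)⁻¹ := by
    have h1 : b * d * b = d⁻¹ := by rw [← hbinv] at hinv ⊢; rw [hbinv] at hinv ⊢; rw [← hinv, hbinv]
    calc b * (d * k) * b = b * d * (k * b) := by group
      _ = b * d * (b * k) := by rw [hkc b]
      _ = (b * d * b) * k := by group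
      _ = d⁻¹ * k := by rw [h1]
      _ = k * d⁻¹ := (hkc d⁻¹)
      _ = k⁻¹ * d⁻¹ := by rw [hkinv]
      _ = (d * k)⁻¹ := by rw [mul_inv_rev]
  have hbna : b ∉ Subgroup.zpowers (d * k) := by
    intro hmem
    obtain ⟨n, hn⟩ := Subgroup.mem_zpowers_iff.1 hmem
    have hcm : Commute b (d * k) := by
      rw [← hn]
      exact (Commute.refl (d * k)).zpow_left n
    have h1 : b * (d * k) * b = d * k := by
      rw [hcm.eq, mul_assoc, hb2, mul_one]
    rw [h1] at hbab
    have h2 : (d * k) ^ 2 = 1 := by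
      rw [pow_two]
      nth_rewrite 1 [hbab]
      exact inv_mul_cancel _
    have h3 : orderOf (d * k) ∣ 2 := orderOf_dvd_of_pow_eq_one h2
    rw [hoa] at h3
    norm_num at h3
  exact Cfsg.Agent.Helper11.nonempty_mulEquiv_dihedralGroup 6 (by rw [hcard]) (d * k) b hoa hb2 hbab hbna

end Cfsg.Agent.S3685P
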