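import Cfsg.Agent.Helper13.S3685B

/-!
S3685 (Wong/Sims) as a corollary of S2858.  Part C: the case analysis for a pair `P₁, P₂` of conjugate
finite subgroups generating `G`, with `T = P₁ ⊓ P₂` of index 3 in both and core-free.
-/

set_option autoImplicit false
set_option linter.unusedSectionVars false
set_option linter.unusedVariables false

namespace Cfsg.Agent.S3685P

open Subgroup Cfsg Cfsg.Agent.Helper14 Cfsg.Agent.S2858P

/-- the conclusion of S3685 for a group `P` -/
def WConcl (P : Type*) [Group P] : Prop :=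
  Nonempty (P ≃* Multiplicative (ZMod 3)) ∨ Nonempty (P ≃* Equiv.Perm (Fin 3)) ∨
    Nonempty (P ≃* DihedralGroup 6) ∨ Nonempty (P ≃* Equiv.Perm (Fin 4)) ∨
    Nonempty (P ≃* Equiv.Perm (Fin 4) × Multiplicative (ZMod 2))

variable {G : Type*} [Group G]

theorem W_aux_cent_transfer {P₁ P₂ T : Subgroup G} {g : G} (hP : P₁.map (cj g) = P₂)
    (hT : T.map (cj g) = T) (h : P₁ ≤ centralizer (ozc 2 T : Set G)) :
    P₂ ≤ centralizer (ozc 2 T : Set G) := by
  rw [← hP]
  have := Subgroup.map_mono (f := cj g) h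
  rwa [map_cj_centralizer, map_cj_ozc, hT] at this

theorem W_aux_h5 {P₁ P₂ T : Subgroup G} [Finite ↥T] (h2 : IsPGroup 2 ↥T)
    (hgen : P₁ ⊔ P₂ = ⊤) (hcore : ∀ N : Subgroup G, N.Normal → N ≤ T → N = ⊥)
    (h₁ : P₁ ≤ centralizer (ozc 2 T : Set G)) (h₂ : P₂ ≤ centralizer (ozc 2 T : Set G)) : T = ⊥ := by
  have : Fact (Nat.Prime 2) := ⟨Nat.prime_two⟩
  have htop : centralizer (ozc 2 T : Set G) = ⊤ := by
    rw [eq_top_iff, ← hgen]; exact sup_le h₁ h₂
  have hle : (ozc 2 T : Set G) ⊆ center G := Subgroup.centralizer_eq_top_iff_subset.1 htop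
  have hn : (ozc 2 T).Normal := by
    constructor
    intro n hn g
    have hc : n ∈ center G := hle hn
    have : g * n * g⁻¹ = n := by
      rw [Subgroup.mem_center_iff] at hc
      rw [hc g, mul_inv_cancel_right]
    rw [this]; exact hn
  have hbot : ozc 2 T = ⊥ := hcore _ hn (ozc_le 2 T)
  have hZ : T ⊓ centralizer (T : Set G) = ⊥ :=
    eq_bot_of_omegaOne_eq_bot (p := 2) (h2.to_le inf_le_left) hbot
  have hcen : center ↥T = ⊥ := by
    have h1 := center_map_subtype T
    rw [hZ] at h1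
    exact (Subgroup.map_eq_bot_iff_of_injective _ T.subtype_injective).1 h1
  by_contra hne
  have hnt : Nontrivial ↥T := (Subgroup.nontrivial_iff_ne_bot T).2 hne
  have := h2.center_nontrivial
  rw [Subgroup.nontrivial_iff_ne_bot] at this
  exact this hcen

theorem W_main {P₁ P₂ T : Subgroup G} [Finite ↥P₁] [Finite ↥P₂]
    (hT : T = P₁ ⊓ P₂) (hgen : P₁ ⊔ P₂ = ⊤)
    (hcore : ∀ N : Subgroup G, N.Normal → N ≤ T → N = ⊥)
    (i₁ : T.relIndex P₁ = 3) (i₂ : T.relIndex P₂ = 3) (g₀ : G) (hg₀ : P₁.map (cj g₀) = P₂)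
    (hA : Hyp P₁ P₂ T → Concl P₁ P₂) : WConcl ↥P₁ := by
  have : Fact (Nat.Prime 2) := ⟨Nat.prime_two⟩
  have hT₁ : T ≤ P₁ := by rw [hT]; exact inf_le_left
  have hT₂ : T ≤ P₂ := by rw [hT]; exact inf_le_right
  have hfinT : Finite ↥T :=
    Finite.of_injective (Subgroup.inclusion hT₁) (Subgroup.inclusion_injective hT₁)
  have h2 : IsPGroup 2 ↥T := W_aux_two_group hT₁ hT₂ hgen hcore i₁ i₂
  have s₁ : IsSylowIn 2 T P₁ := W_aux_sylow hT₁ i₁ h2
  have s₂ : IsSylowIn 2 T P₂ := W_aux_sylow hT₂ i₂ h2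
  obtain ⟨g, hgP, hgT⟩ := W_aux_symm s₁ s₂ g₀ hg₀
  have hK₁₂ : (pCoreOf 2 P₁).map (cj g) = pCoreOf 2 P₂ := by
    rw [← hgP]; exact (pCoreOf_map_conj 2 P₁ g).symm
  have hK₁T : pCoreOf 2 P₁ ≤ T := pCoreOf_le_of_isSylowIn s₁
  have hK₂T : pCoreOf 2 P₂ ≤ T := pCoreOf_le_of_isSylowIn s₂
  have hcardP : Nat.card ↥P₂ = Nat.card ↥P₁ := by
    rw [← hgP]; exact Subgroup.card_map_of_injective (cj_injective g)
  have hcardK : Nat.card ↥(pCoreOf 2 P₂) = Nat.card ↥(pCoreOf 2 P₁) := by
    rw [← hK₁₂]; exact Subgroup.card_map_of_injective (cj_injective g)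
  have hc₁ := W_aux_card hT₁ i₁
  have hn₁ : P₁ ≤ normalizer (pCoreOf 2 P₁ : Set G) := le_normalizer_pCoreOf 2 P₁
  have hn₂ : P₂ ≤ normalizer (pCoreOf 2 P₂ : Set G) := le_normalizer_pCoreOf 2 P₂
  rcases W_aux_dichotomy s₁ i₁ with hKT | hc6
  · -- case `O₂(P₁) = T`: then `T = 1` and `P₁ ≅ Z₃`
    left
    have hKT₂ : pCoreOf 2 P₂ = T := by rw [← hK₁₂, hKT, hgT]
    have hnT : normalizer (T : Set G) = ⊤ := by
      rw [eq_top_iff, ← hgen]
      refine sup_le ?_ ?_
      · have := hn₁; rwa [hKT] at this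
      · have := hn₂; rwa [hKT₂] at this
    have hTbot : T = ⊥ := hcore T (normalizer_eq_top_iff.1 hnT) le_rfl
    have hcardT : Nat.card ↥T = 1 := by rw [hTbot]; exact Subgroup.card_bot
    have hP3 : Nat.card ↥P₁ = 3 := by rw [hc₁, hcardT]
    have : Fact (Nat.Prime 3) := ⟨Nat.prime_three⟩
    exact ⟨mulEquivOfPrimeCardEq hP3 (by simp)⟩
  · -- case `|P₁| = 6 |O₂(P₁)|`
    have hc6' : Nat.card ↥P₂ = 6 * Nat.card ↥(pCoreOf 2 P₂) := by rw [hcardP, hcardK]; exact hc6
    have e₁ : Nonempty (↥P₁ ⧸ pCore 2 ↥P₁ ≃* Equiv.Perm (Fin 3)) :=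
      VTXL_aux_equiv (by rw [← VTX_aux_card_pCoreOf]; exact hc6) s₁.toSylow
    have e₂ : Nonempty (↥P₂ ⧸ pCore 2 ↥P₂ ≃* Equiv.Perm (Fin 3)) :=
      VTXL_aux_equiv (by rw [← VTX_aux_card_pCoreOf]; exact hc6') s₂.toSylow
    by_cases hKbot : pCoreOf 2 P₁ = ⊥
    · -- `S₃`
      right; left
      have hpc : pCore 2 ↥P₁ = ⊥ := by
        have : (pCore 2 ↥P₁).map P₁.subtype = ⊥ := hKbot
        exact (Subgroup.map_eq_bot_iff_of_injective _ P₁.subtype_injective).1 this
      obtain ⟨e⟩ := e₁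
      exact ⟨(QuotientGroup.quotientBot.symm.trans
        (QuotientGroup.quotientMulEquivOfEq hpc.symm)).trans e⟩
    · by_cases hch : P₁ ⊓ centralizer (pCoreOf 2 P₁ : Set G) ≤ pCoreOf 2 P₁
      · -- `S₄` or `Z₂ × S₄`, by S2858
        have hch₂ : P₂ ⊓ centralizer (pCoreOf 2 P₂ : Set G) ≤ pCoreOf 2 P₂ := by
          have := charP_ambient_map_cj 2 g hch
          rwa [hgP] at this
        have hTne : T ≠ ⊥ := by
          intro h; apply hKbot; rw [eq_bot_iff, ← h]; exact hK₁T
        have hyp : Hyp P₁ P₂ T := by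
          refine ⟨inferInstance, inferInstance, hgen, hT, ?_, ?_, hcore, ?_, ?_⟩
          · intro P hP
            rcases hP with h | h
            · rw [h]; exact hch
            · rw [Set.mem_singleton_iff] at h; rw [h]; exact hch₂
          · intro P hP
            rcases hP with h | h
            · rw [h]; exact ⟨s₁.toSylow, rfl⟩
            · rw [Set.mem_singleton_iff] at h; rw [h]; exact ⟨s₂.toSylow, rfl⟩
          · intro P hP
            rcases hP with h | h
            · rw [h]; exact e₁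
            · rw [Set.mem_singleton_iff] at h; rw [h]; exact e₂
          · intro P hP hle
            have hboth : P₁ ≤ centralizer (ozc 2 T : Set G) ∧ P₂ ≤ centralizer (ozc 2 T : Set G) := by
              rcases hP with h | h
              · rw [h] at hle
                exact ⟨hle, W_aux_cent_transfer hgP hgT hle⟩
              · rw [Set.mem_singleton_iff] at h; rw [h] at hle
                refine ⟨W_aux_cent_transfer (g := g⁻¹) ?_ ?_ hle, hle⟩
                · rw [← hgP]; exact map_cj_map_cj_inv P₁ g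
                · nth_rewrite 1 [← hgT]; exact map_cj_map_cj_inv T g
            exact hTne (W_aux_h5 h2 hgen hcore hboth.1 hboth.2)
        rcases hA hyp with ⟨⟨f⟩, -⟩ | ⟨⟨f⟩, -⟩
        · right; right; right; left; exact ⟨f⟩
        · right; right; right; right; exact ⟨f.trans MulEquiv.prodComm⟩
      · -- `D₁₂`
        right; right; left
        obtain ⟨e⟩ := e₁
        have hCn : P₁ ≤ normalizer ((P₁ ⊓ centralizer (pCoreOf 2 P₁ : Set G) : Subgroup G) : Set G) := by
          apply le_normalizer_of_map_cj_le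
          intro x hx
          have hxK : (pCoreOf 2 P₁).map (cj x) = pCoreOf 2 P₁ := mem_normalizer_iff_map_cj.1 (hn₁ hx)
          rw [map_cj_inf, map_cj_centralizer, hxK, map_cj_eq_self_of_mem hx]
        obtain ⟨h3el, -⟩ := VTX_sub_normal e
          (inf_le_left : P₁ ⊓ centralizer (pCoreOf 2 P₁ : Set G) ≤ P₁) hCn hch
        -- an element of order 3
        have hdvd : 3 ∣ Nat.card ↥P₁ := ⟨_, hc₁⟩
        have : Fact (Nat.Prime 3) := ⟨Nat.prime_three⟩
        obtain ⟨d', hd'⟩ := exists_prime_orderOf_dvd_card' 3 hdvd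
        have hdP : (d' : G) ∈ P₁ := d'.2
        have hod : orderOf (d' : G) = 3 := by rw [Subgroup.orderOf_coe]; exact hd'
        have hdC := h3el (d' : G) hdP ⟨1, by rw [hod, pow_one]⟩
        have hdcent : (d' : G) ∈ centralizer (pCoreOf 2 P₁ : Set G) := hdC.2
        have hdT : (d' : G) ∉ T := by
          intro hdT
          obtain ⟨j, hj⟩ := (IsPGroup.iff_orderOf.1 h2) ⟨(d' : G), hdT⟩
          rw [Subgroup.orderOf_mk, hod] at hj
          rcases j with _ | j
          · norm_num at hj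
          · have : 2 ∣ 3 := ⟨2 ^ j, by rw [hj, pow_succ]; ring⟩
            omega
        have hP₁gen : T ⊔ zpowers (d' : G) = P₁ := by
          apply W_aux_between i₁ le_sup_left (sup_le hT₁ ((zpowers_le).2 hdP))
          intro h
          apply hdT
          rw [← h]
          exact mem_sup_right (mem_zpowers _)
        have hP₂gen : T ⊔ zpowers (cj g (d' : G)) = P₂ := by
          rw [← hgP]
          nth_rewrite 2 [← hP₁gen]
          rw [Subgroup.map_sup, hgT, MonoidHom.map_zpowers]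
        have hd2cent : cj g (d' : G) ∈ centralizer (pCoreOf 2 P₂ : Set G) := by
          rw [← hK₁₂, ← map_cj_centralizer]
          exact Subgroup.mem_map_of_mem _ hdcent
        have hTn : T ≤ normalizer ((pCoreOf 2 P₁ ⊓ pCoreOf 2 P₂ : Subgroup G) : Set G) := by
          apply le_normalizer_of_map_cj_le
          intro x hx
          rw [map_cj_inf, mem_normalizer_iff_map_cj.1 (hn₁ (hT₁ hx)),
            mem_normalizer_iff_map_cj.1 (hn₂ (hT₂ hx))]
        have hcn : ∀ (K : Subgroup G) (y : G), y ∈ centralizer (K : Set G) →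
            pCoreOf 2 P₁ ⊓ pCoreOf 2 P₂ ≤ K →
            y ∈ normalizer ((pCoreOf 2 P₁ ⊓ pCoreOf 2 P₂ : Subgroup G) : Set G) := by
          intro K y hy hle
          apply Subgroup.centralizer_le_normalizer
          exact Subgroup.centralizer_le hle hy
        have hDn : normalizer ((pCoreOf 2 P₁ ⊓ pCoreOf 2 P₂ : Subgroup G) : Set G) = ⊤ := by
          rw [eq_top_iff, ← hgen]
          refine sup_le ?_ ?_
          · refine le_trans (le_of_eq hP₁gen.symm) (sup_le hTn ?_)
            rw [zpowers_le]; exact hcn _ _ hdcent inf_le_left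
          · refine le_trans (le_of_eq hP₂gen.symm) (sup_le hTn ?_)
            rw [zpowers_le]; exact hcn _ _ hd2cent inf_le_right
        have hDbot : pCoreOf 2 P₁ ⊓ pCoreOf 2 P₂ = ⊥ :=
          hcore _ (normalizer_eq_top_iff.1 hDn) (inf_le_left.trans hK₁T)
        have hfinK₁ : Finite ↥(pCoreOf 2 P₁) :=
          Finite.of_injective (Subgroup.inclusion (pCoreOf_le 2 P₁)) (Subgroup.inclusion_injective _)
        have hfinK₂ : Finite ↥(pCoreOf 2 P₂) :=
          Finite.of_injective (Subgroup.inclusion (pCoreOf_le 2 P₂)) (Subgroup.inclusion_injective _)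
        obtain ⟨-, hcT₁, -⟩ := VTX_sub_sylow e s₁.toSylow rfl hT₁
        obtain ⟨e'⟩ := e₂
        obtain ⟨-, hcT₂, -⟩ := VTX_sub_sylow e' s₂.toSylow rfl hT₂
        have hK₁card : Nat.card ↥(pCoreOf 2 P₁) = 2 := by
          have h1 : (pCoreOf 2 P₁ ⊓ pCoreOf 2 P₂).relIndex (pCoreOf 2 P₁) =
              (pCoreOf 2 P₂).relIndex (pCoreOf 2 P₁) := Subgroup.inf_relIndex_left _ _
          rw [hDbot, Subgroup.relIndex_bot_left] at h1
          have h2' : (pCoreOf 2 P₂).relIndex T = 2 := by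
            have := Subgroup.relIndex_mul_relIndex ⊥ (pCoreOf 2 P₂) T bot_le hK₂T
            rw [relIndex_bot_left, relIndex_bot_left, hcT₂] at this
            have hpos : 0 < Nat.card ↥(pCoreOf 2 P₂) := Nat.card_pos
            nlinarith
          have h3 : (pCoreOf 2 P₂).relIndex (pCoreOf 2 P₁) ≤ (pCoreOf 2 P₂).relIndex T :=
            Subgroup.relIndex_le_of_le_right hK₁T (by rw [h2']; norm_num)
          have hne1 : Nat.card ↥(pCoreOf 2 P₁) ≠ 1 := by
            intro h; exact hKbot (Subgroup.card_eq_one.1 h)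
          have hpos : 0 < Nat.card ↥(pCoreOf 2 P₁) := Nat.card_pos
          omega
        obtain ⟨k, hkK, hk1⟩ : ∃ k ∈ pCoreOf 2 P₁, k ≠ 1 := by
          by_contra hcon
          push Not at hcon
          apply hKbot
          rw [eq_bot_iff]; intro x hx; rw [mem_bot]; exact hcon x hx
        have hkk : k * k = 1 := by
          have h1 : (⟨k, hkK⟩ : ↥(pCoreOf 2 P₁)) ^ Nat.card ↥(pCoreOf 2 P₁) = 1 := pow_card_eq_one'
          rw [hK₁card] at h1
          have h2 := congrArg Subtype.val h1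
          simpa [pow_two] using h2
        have hk₂K : cj g k ∈ pCoreOf 2 P₂ := by
          rw [← hK₁₂]; exact Subgroup.mem_map_of_mem _ hkK
        have hk₂1 : cj g k ≠ 1 := by
          intro h; apply hk1; exact (cj_injective g) (by rw [h, map_one])
        have hk₂nK : cj g k ∉ pCoreOf 2 P₁ := by
          intro h
          have : cj g k ∈ pCoreOf 2 P₁ ⊓ pCoreOf 2 P₂ := ⟨h, hk₂K⟩
          rw [hDbot, mem_bot] at this
          exact hk₂1 this
        have hk₂k₂ : cj g k * cj g k = 1 := by rw [← map_mul, hkk, map_one]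
        have hk₂P : cj g k ∈ P₁ := hT₁ (hK₂T hk₂K)
        apply W_aux_D12 e (by rw [← VTX_aux_card_pCoreOf]; exact hK₁card) ⟨cj g k, hk₂P⟩
        · intro h; exact hk₂nK ((VTX_aux_mem_pCoreOf hk₂P).2 h)
        · exact Subtype.ext hk₂k₂

end Cfsg.Agent.S3685P
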