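import Cfsg.Agent.Helper13.S3685C

/-!
S3685 (Wong/Sims) as a corollary of S2858.  Part D: from the primitive action to the amalgam
`(G_a, G_b)`, `b` in a suborbit of length 3.
-/

set_option autoImplicit false
set_option linter.unusedSectionVars false
set_option linter.unusedVariables false

namespace Cfsg.Agent.S3685P

open Subgroup Cfsg Cfsg.Agent.Helper14 Cfsg.Agent.S2858P

theorem W_aux_idx {G Ω : Type*} [Group G] [MulAction G Ω] (a b : Ω) :
    (MulAction.stabilizer G a ⊓ MulAction.stabilizer G b).relIndex (MulAction.stabilizer G a) =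
      Nat.card (MulAction.orbit (MulAction.stabilizer G a) b) := by
  have h1 : (MulAction.stabilizer G a ⊓ MulAction.stabilizer G b).subgroupOf (MulAction.stabilizer G a) =
      MulAction.stabilizer (↥(MulAction.stabilizer G a)) b := by
    ext x
    rw [Subgroup.mem_subgroupOf, Subgroup.mem_inf, MulAction.mem_stabilizer_iff,
      MulAction.mem_stabilizer_iff, MulAction.mem_stabilizer_iff]
    constructor
    · intro h; exact h.2
    · intro h; exact ⟨x.2, h⟩
  rw [Subgroup.relIndex, h1, MulAction.index_stabilizer, Nat.card_coe_set_eq]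

theorem W_action {G Ω : Type*} [Group G] [Finite G] [MulAction G Ω] [FaithfulSMul G Ω] [Finite Ω]
    (hprim : MulAction.IsPreprimitive G Ω) (a b : Ω)
    (h3 : Nat.card (MulAction.orbit (MulAction.stabilizer G a) b) = 3)
    (hA : ∀ P₁ P₂ T : Subgroup G, Hyp P₁ P₂ T → Concl P₁ P₂) :
    WConcl ↥(MulAction.stabilizer G a) := by
  have hpt : MulAction.IsPretransitive G Ω := hprim.toIsPretransitive
  have hab : a ≠ b := by
    intro h
    rw [← h] at h3
    have h1 : MulAction.orbit (↥(MulAction.stabilizer G a)) a = {a} := by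
      ext x
      constructor
      · rintro ⟨g, rfl⟩
        exact g.2
      · intro hx
        rw [Set.mem_singleton_iff] at hx
        rw [hx]
        exact MulAction.mem_orbit_self _
    rw [h1] at h3
    simp at h3
  have hnt : Nontrivial Ω := ⟨⟨a, b, hab⟩⟩
  have i₁ : (MulAction.stabilizer G a ⊓ MulAction.stabilizer G b).relIndex (MulAction.stabilizer G a) = 3 := by
    rw [W_aux_idx, h3]
  obtain ⟨g₀, hg₀⟩ := MulAction.exists_smul_eq G a b
  have hconj : (MulAction.stabilizer G a).map (cj g₀) = MulAction.stabilizer G b := by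
    rw [← hg₀]; exact (MulAction.stabilizer_smul_eq_stabilizer_map_conj g₀ a).symm
  have hcardP : Nat.card ↥(MulAction.stabilizer G b) = Nat.card ↥(MulAction.stabilizer G a) := by
    rw [← hconj]; exact Subgroup.card_map_of_injective (cj_injective g₀)
  have hc₁ := W_aux_card (inf_le_left : MulAction.stabilizer G a ⊓ MulAction.stabilizer G b ≤ _) i₁
  have i₂ : (MulAction.stabilizer G a ⊓ MulAction.stabilizer G b).relIndex (MulAction.stabilizer G b) = 3 := by
    have hc := Subgroup.relIndex_mul_relIndex ⊥ (MulAction.stabilizer G a ⊓ MulAction.stabilizer G b)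
      (MulAction.stabilizer G b) bot_le inf_le_right
    rw [Subgroup.relIndex_bot_left, Subgroup.relIndex_bot_left, hcardP, hc₁] at hc
    have hpos : 0 < Nat.card ↥(MulAction.stabilizer G a ⊓ MulAction.stabilizer G b) := Nat.card_pos
    nlinarith
  have hcoatom : IsCoatom (MulAction.stabilizer G a) :=
    MulAction.IsPreprimitive.isCoatom_stabilizer_of_isPreprimitive (G := G) a
  have hgen : MulAction.stabilizer G a ⊔ MulAction.stabilizer G b = ⊤ := by
    apply hcoatom.2
    refine lt_of_le_of_ne le_sup_left ?_
    intro h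
    have hle : MulAction.stabilizer G b ≤ MulAction.stabilizer G a := by
      rw [h]; exact le_sup_right
    have heq : MulAction.stabilizer G b = MulAction.stabilizer G a :=
      Subgroup.eq_of_le_of_card_ge hle (le_of_eq hcardP.symm)
    rw [heq, inf_idem, Subgroup.relIndex_self] at i₁
    norm_num at i₁
  have hcore : ∀ N : Subgroup G, N.Normal → N ≤ MulAction.stabilizer G a ⊓ MulAction.stabilizer G b →
      N = ⊥ := by
    intro N hN hle
    rw [eq_bot_iff]
    intro n hn
    rw [Subgroup.mem_bot]
    apply FaithfulSMul.eq_of_smul_eq_smul (α := Ω)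
    intro x
    obtain ⟨g, rfl⟩ := MulAction.exists_smul_eq G a x
    have h1 : g⁻¹ * n * g ∈ N := by
      have := hN.conj_mem n hn g⁻¹
      simpa using this
    have h2 : (g⁻¹ * n * g) • a = a := (hle h1).1
    rw [one_smul]
    calc n • g • a = g • (g⁻¹ * n * g) • a := by
          rw [smul_smul, smul_smul]; congr 1; group
      _ = g • a := by rw [h2]
  exact W_main rfl hgen hcore i₁ i₂ g₀ hconj (hA _ _ _)

end Cfsg.Agent.S3685P
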