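import Mathlib
import Cfsg.Agent.Helper10.PGroupBasic

set_option autoImplicit false
open Subgroup
open scoped commutatorElement

namespace Cfsg.Agent.Helper13.S3789L6

/-- Piece L6 of S3789: a finite 3-group `B` of automorphisms of an elementary abelian 2-group whose
derived elements have order dividing 3 and a tiny "norm-zero" part is abelian. -/
theorem derived_trivial_of_small_fpf {U : Type*} [CommGroup U] (hU : ∀ u : U, u * u = 1)
    (B : Subgroup (MulAut U)) [Finite B] (hB : IsPGroup 3 B)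
    (h3 : ∀ a ∈ ⁅B, B⁆, a ^ 3 = 1)
    (hsmall : ∀ a ∈ ⁅B, B⁆, ∀ u v : U, u * a u * a (a u) = 1 → v * a v * a (a v) = 1 → u ≠ 1 →
      v = 1 ∨ v = u ∨ v = a u ∨ v = a (a u)) :
    ⁅B, B⁆ = ⊥ := by
  by_contra hne
  have : Fact (Nat.Prime 3) := ⟨Nat.prime_three⟩
  have hne' : _root_.commutator ↥B ≠ ⊥ := by
    intro h
    apply hne
    rw [← Subgroup.map_subtype_commutator, h, Subgroup.map_bot]
  obtain ⟨z, hzN, hz1, hzZ⟩ :=
    Cfsg.Agent.Helper10.exists_ne_one_mem_inf_center hB (_root_.commutator ↥B) hne'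
  obtain ⟨a, haB⟩ := z
  have haN : a ∈ ⁅B, B⁆ := by
    rw [← Subgroup.map_subtype_commutator]
    exact ⟨⟨a, haB⟩, hzN, rfl⟩
  have ha1 : a ≠ 1 := by
    intro h
    apply hz1
    exact Subtype.ext h
  have hcomm : ∀ g ∈ B, ∀ w : U, g (a w) = a (g w) := by
    intro g hg w
    have h1 := Subgroup.mem_center_iff.mp hzZ ⟨g, hg⟩
    have h2 : g * a = a * g := congrArg Subtype.val h1
    have h4 := congrArg (fun f : MulAut U => f w) h2
    simpa [MulAut.mul_apply] using h4
  have h3x : ∀ x : U, a (a (a x)) = x := by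
    intro x
    have h4 := congrArg (fun f : MulAut U => f x) (h3 a haN)
    simpa [pow_succ, MulAut.mul_apply] using h4
  -- a moves some point
  obtain ⟨x, hx⟩ : ∃ x : U, a x ≠ x := by
    by_contra hcon
    apply ha1
    ext x
    by_contra hx
    exact hcon ⟨x, hx⟩
  set u : U := x * a x with hu_def
  have hu1 : u ≠ 1 := by
    intro h
    apply hx
    -- x * a x = 1 → a x = x⁻¹ = x
    have hxx := hU x
    have : x * a x = x * x := by rw [← hu_def, h, hxx]
    exact mul_left_cancel this
  have hnorm : u * a u * a (a u) = 1 := by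
    simp only [hu_def, map_mul, h3x]
    have e1 := hU (a x)
    have e2 := hU (a (a x))
    have e3 := hU x
    calc x * a x * (a x * a (a x)) * (a (a x) * x)
        = (x * x) * (a x * a x) * (a (a x) * a (a x)) := by
          simp only [mul_assoc, mul_comm, mul_left_comm]
      _ = 1 := by rw [e1, e2, e3]; simp
  have hau : a u ≠ u := by
    intro h
    rw [h, h, hU u, one_mul] at hnorm
    exact hu1 hnorm
  -- every b ∈ B sends u to a power of a applied to u
  have hpow_comm : ∀ g ∈ B, ∀ (m : ℕ) (w : U), g ((a ^ m) w) = (a ^ m) (g w) := by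
    intro g hg m
    induction m with
    | zero => intro w; simp
    | succ m ih =>
      intro w
      rw [pow_succ, MulAut.mul_apply, MulAut.mul_apply, ih, hcomm g hg]
  have hF2 : ∀ g ∈ B, ∃ i : ℕ, g u = (a ^ i) u := by
    intro g hg
    have hgu1 : g u ≠ 1 := by
      intro h
      apply hu1
      have : g u = g 1 := by rw [h, map_one]
      exact g.injective this
    have hgn : g u * a (g u) * a (a (g u)) = 1 := by
      rw [← hcomm g hg, ← hcomm g hg, ← map_mul, ← map_mul, hnorm, map_one]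
    rcases hsmall a haN u (g u) hnorm hgn hu1 with h | h | h | h
    · exact absurd h hgu1
    · exact ⟨0, by simpa using h⟩
    · exact ⟨1, by simpa using h⟩
    · exact ⟨2, by simpa [pow_succ, MulAut.mul_apply] using h⟩
  have hF3 : ∀ g ∈ B, ∀ h ∈ B, g (h u) = h (g u) := by
    intro g hg h hh
    obtain ⟨i, hi⟩ := hF2 g hg
    obtain ⟨j, hj⟩ := hF2 h hh
    rw [hj, hi, hpow_comm g hg, hpow_comm h hh, hi, hj, ← MulAut.mul_apply, ← MulAut.mul_apply,
      ← pow_add, ← pow_add, add_comm]
  have hF4 : ∀ g ∈ B, ∀ h ∈ B, ∀ m : ℕ, g (h ((a ^ m) u)) = h (g ((a ^ m) u)) := by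
    intro g hg h hh m
    rw [hpow_comm h hh, hpow_comm g hg, hpow_comm g hg, hpow_comm h hh, hF3 g hg h hh]
  -- the pointwise stabilizer of the orbit
  let K : Subgroup (MulAut U) :=
    { carrier := {g | ∀ m : ℕ, g ((a ^ m) u) = (a ^ m) u}
      one_mem' := by intro m; simp
      mul_mem' := by
        intro g h hg hh m
        rw [MulAut.mul_apply, hh m, hg m]
      inv_mem' := by
        intro g hg m
        have := hg m
        calc g⁻¹ ((a ^ m) u) = g⁻¹ (g ((a ^ m) u)) := by rw [this]
          _ = (a ^ m) u := MulAut.inv_apply_self _ _ _ }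
  have hle : ⁅B, B⁆ ≤ K := by
    rw [Subgroup.commutator_le]
    intro b hb b' hb' m
    have hbi : b⁻¹ ∈ B := B.inv_mem hb
    have hbi' : b'⁻¹ ∈ B := B.inv_mem hb'
    have hg : b⁻¹ * b'⁻¹ ∈ B := B.mul_mem hbi hbi'
    obtain ⟨i, hi⟩ := hF2 _ hg
    have hw : b⁻¹ (b'⁻¹ ((a ^ m) u)) = (a ^ (m + i)) u := by
      rw [← MulAut.mul_apply, hpow_comm _ hg, hi, ← MulAut.mul_apply, ← pow_add]
    rw [commutatorElement_def]
    simp only [MulAut.mul_apply]
    rw [hw, hF4 b hb b' hb', ← hw, MulAut.apply_inv_self, MulAut.apply_inv_self]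
  have := hle haN 0
  simp at this
  exact hau this

end Cfsg.Agent.Helper13.S3789L6
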