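import Mathlib
import Cfsg.Agent.Helper13.S3816Defs
import Cfsg.Agent.Helper13.S3816Basic
import Cfsg.Agent.Helper22.S3816MC1
import Cfsg.Agent.Helper22.S3816MINN
import Cfsg.Agent.Helper20.S3816PHI
import Cfsg.Agent.Helper21.S3816C1A
import Cfsg.Agent.Helper22.S3816C1B
import Cfsg.Agent.Helper21.S3816C1CD
import Cfsg.Agent.Helper22.S3816C1E
import Cfsg.Agent.Helper10.S3816C1F

/-! S3816 board, row C1G: `Φ₀ = X0 A K (Phi K)` is normal, contains the commutators `[h, a h a⁻¹]`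
and `[Φ, K]`. -/

set_option autoImplicit false
set_option linter.unusedSectionVars false

open scoped commutatorElement Pointwise

namespace Cfsg.Agent.S3816P

universe u

variable {G : Type u} [Group G]

/-- the `A`-orbit subgroup `⟨a h a⁻¹ : a ∈ A⟩` is normalised by `A` -/
theorem C1G_orbit_normalized (A : Subgroup G) (h : G) :
    A ≤ Subgroup.normalizer
      ((Subgroup.closure {g : G | ∃ a ∈ A, g = a * h * a⁻¹} : Subgroup G) : Set G) := by
  have key : ∀ b ∈ A, ∀ g ∈ Subgroup.closure {g : G | ∃ a ∈ A, g = a * h * a⁻¹},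
      b * g * b⁻¹ ∈ Subgroup.closure {g : G | ∃ a ∈ A, g = a * h * a⁻¹} := by
    intro b hb g hg
    induction hg using Subgroup.closure_induction with
    | mem x hx =>
      obtain ⟨a, ha, rfl⟩ := hx
      refine Subgroup.subset_closure ⟨b * a, A.mul_mem hb ha, ?_⟩
      group
    | one => simp
    | mul x y _ _ hx hy =>
      have : b * (x * y) * b⁻¹ = (b * x * b⁻¹) * (b * y * b⁻¹) := by group
      rw [this]; exact Subgroup.mul_mem _ hx hy
    | inv x _ hx =>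
      have : b * x⁻¹ * b⁻¹ = (b * x * b⁻¹)⁻¹ := by group
      rw [this]; exact Subgroup.inv_mem _ hx
  intro b hb
  rw [Subgroup.mem_normalizer_iff]
  intro g
  constructor
  · exact key b hb g
  · intro hg
    have := key b⁻¹ (A.inv_mem hb) _ hg
    simpa [mul_assoc] using this

/-- `A` normalises `⁅X, A⁆` when it normalises `X`. -/
theorem C1G_norm_comm {A X : Subgroup G} (hAX : A ≤ Subgroup.normalizer (X : Set G)) :
    A ≤ Subgroup.normalizer ((⁅X, A⁆ : Subgroup G) : Set G) := by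
  have key : ∀ c ∈ A, ∀ v ∈ ⁅X, A⁆, c * v * c⁻¹ ∈ ⁅X, A⁆ := by
    intro c hc v hv
    rw [Subgroup.commutator_def] at hv
    induction hv using Subgroup.closure_induction with
    | mem g hg =>
      obtain ⟨x, hx, a, ha, rfl⟩ := hg
      have h1 : c * x * c⁻¹ ∈ X := (Subgroup.mem_normalizer_iff.mp (hAX hc) x).mp hx
      have h2 : c * a * c⁻¹ ∈ A := A.mul_mem (A.mul_mem hc ha) (A.inv_mem hc)
      have : c * ⁅x, a⁆ * c⁻¹ = ⁅c * x * c⁻¹, c * a * c⁻¹⁆ := by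
        simp only [commutatorElement_def]; group
      rw [this]
      exact Subgroup.commutator_mem_commutator h1 h2
    | one => simp
    | mul a b _ _ ha hb =>
      have : c * (a * b) * c⁻¹ = (c * a * c⁻¹) * (c * b * c⁻¹) := by group
      rw [this]; exact (⁅X, A⁆).mul_mem ha hb
    | inv a _ ha =>
      have : c * a⁻¹ * c⁻¹ = (c * a * c⁻¹)⁻¹ := by group
      rw [this]; exact (⁅X, A⁆).inv_mem ha
  intro c hc
  rw [Subgroup.mem_normalizer_iff]
  intro g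
  constructor
  · exact key c hc g
  · intro hg
    have := key c⁻¹ (A.inv_mem hc) _ hg
    simpa [mul_assoc] using this

variable [Finite G] {p : ℕ} [Fact p.Prime] {A K N : Subgroup G}

/-- The common set-up: for `h ∈ K`, `X_h = ⟨h^A⟩ Φ` splits, `Φ ∩ X0(X_h) = Φ₀`, and `X_h`
normalises `Φ₀`. -/
theorem C1G_setup (mc : MC p A K) (hN : MinN K N) (h1 : N ≤ Subgroup.centralizer (A : Set G))
    {h : G} (hh : h ∈ K) :
    ∃ X : Subgroup G, h ∈ X ∧ X ≤ K ∧ (∀ a ∈ A, a * h * a⁻¹ ∈ X) ∧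
      (N ⊓ X0 A K X = ⊥ ∧ N ⊔ X0 A K X = X) ∧ Phi K ⊓ X0 A K X = X0 A K (Phi K) := by
  have hKne : K ≠ ⊥ := by
    intro h; exact hN.ne (le_bot_iff.mp (h ▸ hN.le))
  have hΦK : Phi K ≤ K := Phi_le K
  have hΦne : Phi K ≠ K := Phi_ne hKne
  have hAΦ : A ≤ Subgroup.normalizer (Phi K : Set G) := mc.hyp.norm.trans (Phi_normalizer_le K)
  have hr : (Nat.card N).Prime := c1_card mc hN h1
  have hKp : IsPGroup (Nat.card N) K := c1_pgroup mc hN h1
  have hab : ⁅K, K⁆ ≤ Phi K := comm_le_Phi hr hKp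
  have hNΦ : N ≤ Phi K := (c1_le_comm mc hN h1).trans hab
  obtain ⟨hΦ1, hΦ2⟩ := c1_split mc hN h1 hΦK hΦne hAΦ hNΦ
  set O := Subgroup.closure {g : G | ∃ a ∈ A, g = a * h * a⁻¹} with hO
  have hOK : O ≤ K := by
    rw [hO, Subgroup.closure_le]
    rintro _ ⟨a, ha, rfl⟩
    exact (Subgroup.mem_normalizer_iff.mp (mc.hyp.norm ha) h).mp hh
  have hXle : O ⊔ Phi K ≤ K := sup_le hOK hΦK
  have hXne : O ⊔ Phi K ≠ K := c1_Xh_ne mc hN h1 hh
  have hAX : A ≤ Subgroup.normalizer ((O ⊔ Phi K : Subgroup G) : Set G) := fun a ha =>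
    Subgroup.normalizer_inf_normalizer_le_normalizer_sup O (Phi K)
      ⟨C1G_orbit_normalized A h ha, hAΦ ha⟩
  have hNX : N ≤ O ⊔ Phi K := hNΦ.trans le_sup_right
  obtain ⟨hX1, hX2⟩ := c1_split mc hN h1 hXle hXne hAX hNX
  have hmemO : ∀ a ∈ A, a * h * a⁻¹ ∈ O ⊔ Phi K := fun a ha =>
    Subgroup.mem_sup_left (Subgroup.subset_closure ⟨a, ha, rfl⟩)
  have hhX : h ∈ O ⊔ Phi K := by
    have := hmemO 1 A.one_mem
    simpa using this
  refine ⟨O ⊔ Phi K, hhX, hXle, hmemO, ⟨hX1, hX2⟩, ?_⟩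
  -- `Φ ∩ X0(X) = Φ₀`
  have hmono : X0 A K (Phi K) ≤ X0 A K (O ⊔ Phi K) := by
    unfold X0
    exact sup_le_sup (inf_le_inf le_rfl le_sup_right) (Subgroup.commutator_mono le_sup_right le_rfl)
  have hΦ0le : X0 A K (Phi K) ≤ Phi K := le_sup_right.trans hΦ2.le
  apply le_antisymm
  · intro z hz
    obtain ⟨hzΦ, hzX⟩ := Subgroup.mem_inf.mp hz
    have hzΦ' : z ∈ N ⊔ X0 A K (Phi K) := by rw [hΦ2]; exact hzΦ
    have hcomm : ∀ x ∈ N, ∀ y ∈ X0 A K (Phi K), x * y = y * x := by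
      intro x hx y hy
      have := Subgroup.mem_centralizer_iff.mp (c1_central mc hN h1 hx) y (hΦK (hΦ0le hy))
      exact this.symm
    obtain ⟨n, hn, z0, hz0, hnz⟩ := mem_sup_of_commute hcomm hzΦ'
    have hn' : n ∈ N ⊓ X0 A K (O ⊔ Phi K) := by
      refine Subgroup.mem_inf.mpr ⟨hn, ?_⟩
      have : n = z * z0⁻¹ := by rw [← hnz]; group
      rw [this]
      exact Subgroup.mul_mem _ hzX (Subgroup.inv_mem _ (hmono hz0))
    rw [hX1, Subgroup.mem_bot] at hn'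
    rw [hn', one_mul] at hnz
    rw [← hnz]; exact hz0
  · exact le_inf hΦ0le hmono

theorem c1_Phi0_normal (mc : MC p A K) (hN : MinN K N) (h1 : N ≤ Subgroup.centralizer (A : Set G)) :
    (X0 A K (Phi K)).Normal := by
  have hΦK : Phi K ≤ K := Phi_le K
  have hAΦ : A ≤ Subgroup.normalizer (Phi K : Set G) := mc.hyp.norm.trans (Phi_normalizer_le K)
  have hKΦ : K ≤ Subgroup.normalizer (Phi K : Set G) :=
    Subgroup.le_normalizer.trans (Phi_normalizer_le K)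
  -- `K` normalises `Φ₀`
  have hK : K ≤ Subgroup.normalizer ((X0 A K (Phi K) : Subgroup G) : Set G) := by
    intro h hh
    obtain ⟨X, hhX, hXK, -, ⟨hX1, hX2⟩, hinf⟩ := C1G_setup mc hN h1 hh
    -- `h = n * z` with `n` central, `z ∈ X0(X)`
    have hhX' : h ∈ N ⊔ X0 A K X := by rw [hX2]; exact hhX
    have hX0le : X0 A K X ≤ X := le_sup_right.trans hX2.le
    have hcomm : ∀ x ∈ N, ∀ y ∈ X0 A K X, x * y = y * x := by
      intro x hx y hy
      exact (Subgroup.mem_centralizer_iff.mp (c1_central mc hN h1 hx) y (hXK (hX0le hy))).symm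
    obtain ⟨n, hn, z, hz, hnz⟩ := mem_sup_of_commute hcomm hhX'
    -- conjugation by `h` preserves `Φ` and `X0(X)`
    have key : ∀ t : G, t ∈ K → (∀ x ∈ N, x * t = t * x) → t ∈ N ⊔ X0 A K X →
        ∀ g ∈ X0 A K (Phi K), t * g * t⁻¹ ∈ X0 A K (Phi K) := by
      intro t htK _ htX g hg
      rw [← hinf] at hg ⊢
      obtain ⟨hgΦ, hgX⟩ := Subgroup.mem_inf.mp hg
      refine Subgroup.mem_inf.mpr ⟨(Subgroup.mem_normalizer_iff.mp (hKΦ htK) g).mp hgΦ, ?_⟩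
      obtain ⟨n', hn', z', hz', hnz'⟩ := mem_sup_of_commute hcomm htX
      have hn'c : ∀ y ∈ K, n' * y = y * n' := fun y hy =>
        (Subgroup.mem_centralizer_iff.mp (c1_central mc hN h1 hn') y hy).symm
      have hgK : g ∈ K := hXK (hX0le hgX)
      have : t * g * t⁻¹ = z' * g * z'⁻¹ := by
        rw [← hnz']
        have e := hn'c (z' * g * z'⁻¹) (K.mul_mem (K.mul_mem (hXK (hX0le hz')) hgK)
          (K.inv_mem (hXK (hX0le hz'))))
        calc n' * z' * g * (n' * z')⁻¹ = (n' * (z' * g * z'⁻¹)) * n'⁻¹ := by group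
          _ = ((z' * g * z'⁻¹) * n') * n'⁻¹ := by rw [e]
          _ = z' * g * z'⁻¹ := by group
      rw [this]
      exact Subgroup.mul_mem _ (Subgroup.mul_mem _ hz' hgX) (Subgroup.inv_mem _ hz')
    rw [Subgroup.mem_normalizer_iff]
    intro g
    constructor
    · intro hg
      exact key h hh (fun x hx => (Subgroup.mem_centralizer_iff.mp (c1_central mc hN h1 hx) h hh).symm)
        hhX' g hg
    · intro hg
      have hinvX : h⁻¹ ∈ N ⊔ X0 A K X := Subgroup.inv_mem _ hhX'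
      have := key h⁻¹ (K.inv_mem hh)
        (fun x hx => (Subgroup.mem_centralizer_iff.mp (c1_central mc hN h1 hx) h⁻¹
          (K.inv_mem hh)).symm) hinvX _ hg
      simpa [mul_assoc] using this
  -- `A` normalises `Φ₀`
  have hA : A ≤ Subgroup.normalizer ((X0 A K (Phi K) : Subgroup G) : Set G) := by
    intro a ha
    have h1' : a ∈ Subgroup.normalizer ((DD A K ⊓ Phi K : Subgroup G) : Set G) := by
      rw [Subgroup.mem_normalizer_iff]
      intro g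
      have hΦn := Subgroup.mem_normalizer_iff.mp (hAΦ ha) g
      rw [Subgroup.mem_inf, Subgroup.mem_inf, ← hΦn]
      constructor
      · rintro ⟨hgD, hgΦ⟩
        have hcomm := Subgroup.mem_centralizer_iff.mp (DD_le_fix A K hgD) a ha
        have : a * g * a⁻¹ = g := by rw [hcomm]; group
        rw [this]; exact ⟨hgD, hgΦ⟩
      · rintro ⟨hgD, hgΦ⟩
        have hcomm := Subgroup.mem_centralizer_iff.mp (DD_le_fix A K hgD) a ha
        -- a (a g a⁻¹) = (a g a⁻¹) a  ⇒  a g = g a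
        have : a * g * a⁻¹ = g := by
          have e : a * (a * g * a⁻¹) = (a * g * a⁻¹) * a := hcomm
          have := congrArg (fun t => a⁻¹ * t) e
          simpa [mul_assoc] using this
        rw [this] at hgD
        exact ⟨hgD, hgΦ⟩
    unfold X0
    exact Subgroup.normalizer_inf_normalizer_le_normalizer_sup _ _ ⟨h1', C1G_norm_comm hAΦ ha⟩
  -- `G = K A`
  have htop : Subgroup.normalizer ((X0 A K (Phi K) : Subgroup G) : Set G) = ⊤ := by
    rw [eq_top_iff, ← mc.top]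
    exact sup_le hK hA
  exact Subgroup.normalizer_eq_top_iff.mp htop

theorem c1_comm_mem (mc : MC p A K) (hN : MinN K N) (h1 : N ≤ Subgroup.centralizer (A : Set G))
    {h : G} (hh : h ∈ K) {a : G} (ha : a ∈ A) :
    h * (a * h * a⁻¹) * h⁻¹ * (a * h * a⁻¹)⁻¹ ∈ X0 A K (Phi K) := by
  obtain ⟨X, hhX, hXK, horb, ⟨hX1, hX2⟩, hinf⟩ := C1G_setup mc hN h1 hh
  have hr : (Nat.card N).Prime := c1_card mc hN h1
  have hKp : IsPGroup (Nat.card N) K := c1_pgroup mc hN h1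
  have hab : ⁅K, K⁆ ≤ Phi K := comm_le_Phi hr hKp
  have hX0le : X0 A K X ≤ X := le_sup_right.trans hX2.le
  have hcomm : ∀ x ∈ N, ∀ y ∈ X0 A K X, x * y = y * x := by
    intro x hx y hy
    exact (Subgroup.mem_centralizer_iff.mp (c1_central mc hN h1 hx) y (hXK (hX0le hy))).symm
  have hh' : a * h * a⁻¹ ∈ X := horb a ha
  have hh'K : a * h * a⁻¹ ∈ K := hXK hh'
  obtain ⟨n1, hn1, z1, hz1, e1⟩ := mem_sup_of_commute hcomm (hX2.symm ▸ hhX : h ∈ N ⊔ X0 A K X)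
  obtain ⟨n2, hn2, z2, hz2, e2⟩ := mem_sup_of_commute hcomm
    (hX2.symm ▸ hh' : a * h * a⁻¹ ∈ N ⊔ X0 A K X)
  rw [← hinf]
  refine Subgroup.mem_inf.mpr ⟨?_, ?_⟩
  · apply hab
    have := Subgroup.commutator_mem_commutator hh hh'K
    rwa [commutatorElement_def] at this
  · have hz1K : z1 ∈ K := hXK (hX0le hz1)
    have hz2K : z2 ∈ K := hXK (hX0le hz2)
    have c1 : ∀ y ∈ K, n1 * y = y * n1 := fun y hy =>
      (Subgroup.mem_centralizer_iff.mp (c1_central mc hN h1 hn1) y hy).symm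
    have c2 : ∀ y ∈ K, n2 * y = y * n2 := fun y hy =>
      (Subgroup.mem_centralizer_iff.mp (c1_central mc hN h1 hn2) y hy).symm
    have hn1K : n1 ∈ K := hN.le hn1
    have hn2K : n2 ∈ K := hN.le hn2
    have : h * (a * h * a⁻¹) * h⁻¹ * (a * h * a⁻¹)⁻¹ = z1 * z2 * z1⁻¹ * z2⁻¹ := by
      rw [← e2, ← e1]
      have e3 : n1 * z1 * (n2 * z2) * (n1 * z1)⁻¹ * (n2 * z2)⁻¹
          = n1 * (z1 * (n2 * (z2 * (z1⁻¹ * (n1⁻¹ * (z2⁻¹ * n2⁻¹)))))) := by group
      rw [e3]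
      -- move the central elements out
      have s1 : n1⁻¹ * (z2⁻¹ * n2⁻¹) = (z2⁻¹ * n2⁻¹) * n1⁻¹ :=
        (Subgroup.mem_centralizer_iff.mp (c1_central mc hN h1 (N.inv_mem hn1)) (z2⁻¹ * n2⁻¹)
          (K.mul_mem (K.inv_mem hz2K) (K.inv_mem hn2K))).symm
      have s2 : n2 * (z2 * (z1⁻¹ * (z2⁻¹ * n2⁻¹ * n1⁻¹))) = z2 * z1⁻¹ * z2⁻¹ * n1⁻¹ := by
        have := c2 (z2 * z1⁻¹ * z2⁻¹) (K.mul_mem (K.mul_mem hz2K (K.inv_mem hz1K)) (K.inv_mem hz2K))
        calc n2 * (z2 * (z1⁻¹ * (z2⁻¹ * n2⁻¹ * n1⁻¹)))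
            = (n2 * (z2 * z1⁻¹ * z2⁻¹)) * n2⁻¹ * n1⁻¹ := by group
          _ = ((z2 * z1⁻¹ * z2⁻¹) * n2) * n2⁻¹ * n1⁻¹ := by rw [this]
          _ = z2 * z1⁻¹ * z2⁻¹ * n1⁻¹ := by group
      rw [s1, s2]
      have s3 := c1 (z1 * (z2 * z1⁻¹ * z2⁻¹))
        (K.mul_mem hz1K (K.mul_mem (K.mul_mem hz2K (K.inv_mem hz1K)) (K.inv_mem hz2K)))
      calc n1 * (z1 * (z2 * z1⁻¹ * z2⁻¹ * n1⁻¹))
          = (n1 * (z1 * (z2 * z1⁻¹ * z2⁻¹))) * n1⁻¹ := by group
        _ = ((z1 * (z2 * z1⁻¹ * z2⁻¹)) * n1) * n1⁻¹ := by rw [s3]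
        _ = z1 * z2 * z1⁻¹ * z2⁻¹ := by group
    rw [this]
    exact Subgroup.mul_mem _ (Subgroup.mul_mem _ (Subgroup.mul_mem _ hz1 hz2)
      (Subgroup.inv_mem _ hz1)) (Subgroup.inv_mem _ hz2)

theorem c1_cen (mc : MC p A K) (hN : MinN K N) (h1 : N ≤ Subgroup.centralizer (A : Set G)) :
    ⁅Phi K, K⁆ ≤ X0 A K (Phi K) := by
  have hKne : K ≠ ⊥ := by
    intro h; exact hN.ne (le_bot_iff.mp (h ▸ hN.le))
  have hΦK : Phi K ≤ K := Phi_le K
  have hΦne : Phi K ≠ K := Phi_ne hKne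
  have hAΦ : A ≤ Subgroup.normalizer (Phi K : Set G) := mc.hyp.norm.trans (Phi_normalizer_le K)
  have hr : (Nat.card N).Prime := c1_card mc hN h1
  have hKp : IsPGroup (Nat.card N) K := c1_pgroup mc hN h1
  have hab : ⁅K, K⁆ ≤ Phi K := comm_le_Phi hr hKp
  have hNΦ : N ≤ Phi K := (c1_le_comm mc hN h1).trans hab
  obtain ⟨hΦ1, hΦ2⟩ := c1_split mc hN h1 hΦK hΦne hAΦ hNΦ
  have hΦ0le : X0 A K (Phi K) ≤ Phi K := le_sup_right.trans hΦ2.le
  have hnorm : (X0 A K (Phi K)).Normal := c1_Phi0_normal mc hN h1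
  have hcomm : ∀ x ∈ N, ∀ y ∈ X0 A K (Phi K), x * y = y * x := by
    intro x hx y hy
    exact (Subgroup.mem_centralizer_iff.mp (c1_central mc hN h1 hx) y (hΦK (hΦ0le hy))).symm
  rw [Subgroup.commutator_le]
  intro z hz k hk
  have hz' : z ∈ N ⊔ X0 A K (Phi K) := by rw [hΦ2]; exact hz
  obtain ⟨n, hn, z0, hz0, hnz⟩ := mem_sup_of_commute hcomm hz'
  have cn : ∀ y ∈ K, n * y = y * n := fun y hy =>
    (Subgroup.mem_centralizer_iff.mp (c1_central mc hN h1 hn) y hy).symm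
  have hz0K : z0 ∈ K := hΦK (hΦ0le hz0)
  have : ⁅z, k⁆ = z0 * (k * z0⁻¹ * k⁻¹) := by
    rw [commutatorElement_def, ← hnz]
    have e := cn (z0 * k * z0⁻¹) (K.mul_mem (K.mul_mem hz0K hk) (K.inv_mem hz0K))
    calc n * z0 * k * (n * z0)⁻¹ * k⁻¹ = (n * (z0 * k * z0⁻¹)) * n⁻¹ * k⁻¹ := by group
      _ = ((z0 * k * z0⁻¹) * n) * n⁻¹ * k⁻¹ := by rw [e]
      _ = z0 * (k * z0⁻¹ * k⁻¹) := by group
  rw [this]
  exact Subgroup.mul_mem _ hz0 (hnorm.conj_mem _ (Subgroup.inv_mem _ hz0) k)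

end Cfsg.Agent.S3816P
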