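import Mathlib
import Cfsg.Agent.Helper13.S3816Defs
import Cfsg.Agent.Helper13.S3816Basic

/-! S3816 board, row FIXMUL (F3): every `k ∈ K` is `c * y` with `c ∈ C_K(A)`, `y ∈ [k,A]`. -/

set_option autoImplicit false
set_option linter.unusedSectionVars false

open scoped commutatorElement Pointwise

namespace Cfsg.Agent.S3816P

universe u

variable {G : Type u} [Group G] [Finite G] {p : ℕ} [Fact p.Prime] {A K : Subgroup G}

/-- Sylow step: two subgroups of order `p` inside `W ⊔ A` (`W` a `p'`-group normalised by `A`,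
`|A| = p`) are conjugate by an element of `W`. -/
theorem FIXMUL_conj (W A B : Subgroup G) (hA : Nat.card A = p) (hB : Nat.card B = p)
    (hAW : A ≤ Subgroup.normalizer (W : Set G)) (hW : (Nat.card W).Coprime p) (hBL : B ≤ W ⊔ A) :
    ∃ w ∈ W, ∀ x : G, x ∈ B ↔ w⁻¹ * x * w ∈ A := by
  have hp : p.Prime := Fact.out
  set L := W ⊔ A with hL
  have hWL : W ≤ L := le_sup_left
  have hAL : A ≤ L := le_sup_right
  let W0 : Subgroup ↥L := W.subgroupOf L
  let A0 : Subgroup ↥L := A.subgroupOf L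
  let B0 : Subgroup ↥L := B.subgroupOf L
  have hcW : Nat.card W0 = Nat.card W := Nat.card_congr (Subgroup.subgroupOfEquivOfLe hWL).toEquiv
  have hcA : Nat.card A0 = p := by
    rw [← hA]; exact Nat.card_congr (Subgroup.subgroupOfEquivOfLe hAL).toEquiv
  have hcB : Nat.card B0 = p := by
    rw [← hB]; exact Nat.card_congr (Subgroup.subgroupOfEquivOfLe hBL).toEquiv
  -- every element of `L` is `w * a`
  have hmul : ∀ x ∈ L, ∃ w ∈ W, ∃ a ∈ A, x = w * a := by
    intro x hx
    have := Subgroup.coe_mul_of_right_le_normalizer_left W A hAW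
    rw [← SetLike.mem_coe, hL, this] at hx
    obtain ⟨w, hw, a, ha, rfl⟩ := hx
    exact ⟨w, hw, a, ha, rfl⟩
  have hcompl : Subgroup.IsComplement' W0 A0 := by
    apply Subgroup.isComplement'_of_disjoint_and_mul_eq_univ
    · apply Subgroup.disjoint_of_coprime_natCard  
      rw [hcW, hcA]; exact hW
    · rw [Set.eq_univ_iff_forall]
      intro x
      obtain ⟨w, hw, a, ha, hx⟩ := hmul x x.2
      refine ⟨⟨w, hWL hw⟩, ?_, ⟨a, hAL ha⟩, ?_, ?_⟩
      · exact Subgroup.mem_subgroupOf.mpr hw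
      · exact Subgroup.mem_subgroupOf.mpr ha
      · exact Subtype.ext hx.symm
  have hcardL : Nat.card ↥L = Nat.card W * p := by
    rw [← hcompl.card_mul_card, hcW, hcA]
  have hfac : (Nat.card ↥L).factorization p = 1 := by
    rw [hcardL, Nat.factorization_mul Nat.card_pos.ne' hp.ne_zero]
    have h1 : (Nat.card W).factorization p = 0 :=
      Nat.factorization_eq_zero_of_not_dvd (fun h => by
        have := Nat.Coprime.eq_one_of_dvd hW.symm h
        exact hp.one_lt.ne' this)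
    simp [h1, hp.factorization_self]
  have hcA' : Nat.card A0 = p ^ (Nat.card ↥L).factorization p := by rw [hfac, pow_one, hcA]
  have hcB' : Nat.card B0 = p ^ (Nat.card ↥L).factorization p := by rw [hfac, pow_one, hcB]
  let PA : Sylow p ↥L := Sylow.ofCard A0 hcA'
  let PB : Sylow p ↥L := Sylow.ofCard B0 hcB'
  obtain ⟨l, hl⟩ := MulAction.exists_smul_eq ↥L PA PB
  have hl' : MulAut.conj l • A0 = B0 := by
    have := congrArg (fun P : Sylow p ↥L => (P : Subgroup ↥L)) hl
    simpa [Sylow.coe_subgroup_smul, PA, PB] using this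
  obtain ⟨w, hw, a, ha, hlwa⟩ := hmul (l : G) l.2
  refine ⟨w, hw, fun x => ?_⟩
  constructor
  · intro hx
    have hxL : x ∈ L := hBL hx
    have hx0 : (⟨x, hxL⟩ : ↥L) ∈ B0 := Subgroup.mem_subgroupOf.mpr hx
    rw [← hl', Subgroup.mem_smul_pointwise_iff_exists] at hx0
    obtain ⟨y, hy, hyx⟩ := hx0
    have hyA : (y : G) ∈ A := Subgroup.mem_subgroupOf.mp hy
    have hyx' : (l : G) * (y : G) * (l : G)⁻¹ = x := by
      have := congrArg (Subtype.val) hyx
      simpa [MulAut.smul_def, MulAut.conj_apply] using this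
    have : w⁻¹ * x * w = a * (y : G) * a⁻¹ := by
      rw [← hyx', hlwa]; group
    rw [this]
    exact A.mul_mem (A.mul_mem ha hyA) (A.inv_mem ha)
  · intro hx
    have hy : a⁻¹ * (w⁻¹ * x * w) * a ∈ A := A.mul_mem (A.mul_mem (A.inv_mem ha) hx) ha
    have hyL : a⁻¹ * (w⁻¹ * x * w) * a ∈ L := hAL hy
    have hmem : MulAut.conj l • (⟨_, hyL⟩ : ↥L) ∈ MulAut.conj l • A0 :=
      Subgroup.smul_mem_pointwise_smul _ _ _ (Subgroup.mem_subgroupOf.mpr hy)
    rw [hl'] at hmem
    have := Subgroup.mem_subgroupOf.mp hmem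
    have hval : ((MulAut.conj l • (⟨_, hyL⟩ : ↥L) : ↥L) : G) = x := by
      simp only [MulAut.smul_def, MulAut.conj_apply, Subgroup.coe_mul, Subgroup.coe_inv]
      rw [hlwa]; group
    rwa [hval] at this

/-- FIXMUL (F3) -/
theorem exists_fix_mul (h : Hyp p A K) {k : G} (hk : k ∈ K) :
    ∃ c ∈ K ⊓ Subgroup.centralizer (A : Set G), ∃ y ∈ cA A k, k = c * y := by
  have hp : p.Prime := Fact.out
  have hWK : cA A k ≤ K := cA_le h.norm hk
  have hAW : A ≤ Subgroup.normalizer (cA A k : Set G) := cA_normalized A k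
  have hWcop : (Nat.card (cA A k)).Coprime p :=
    Nat.Coprime.coprime_dvd_left (Subgroup.card_dvd_of_le hWK) h.cop
  -- `B = k⁻¹ A k`
  let B : Subgroup G := A.map (MulAut.conj k⁻¹).toMonoidHom
  have hBmem : ∀ x : G, x ∈ B ↔ k * x * k⁻¹ ∈ A := by
    intro x
    simp only [B, Subgroup.mem_map, MulEquiv.coe_toMonoidHom, MulAut.conj_apply, inv_inv]
    constructor
    · rintro ⟨a, ha, rfl⟩
      have : k * (k⁻¹ * a * k) * k⁻¹ = a := by group
      rw [this]; exact ha
    · intro hx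
      exact ⟨k * x * k⁻¹, hx, by group⟩
  have hcB : Nat.card B = p := by
    rw [← h.card]
    exact Nat.card_congr
      (A.equivMapOfInjective (MulAut.conj k⁻¹).toMonoidHom (MulAut.conj k⁻¹).injective).symm.toEquiv
  have hBL : B ≤ cA A k ⊔ A := by
    intro x hx
    have hxA := (hBmem x).mp hx
    -- x = k⁻¹ a k = (k⁻¹ a k a⁻¹) a
    have h1 : k⁻¹ * ((k * x * k⁻¹) * k * (k * x * k⁻¹)⁻¹) ∈ cA A k :=
      Subgroup.subset_closure ⟨k * x * k⁻¹, hxA, rfl⟩
    have : x = (k⁻¹ * ((k * x * k⁻¹) * k * (k * x * k⁻¹)⁻¹)) * (k * x * k⁻¹) := by group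
    rw [this]
    exact Subgroup.mul_mem _ (Subgroup.mem_sup_left h1) (Subgroup.mem_sup_right hxA)
  obtain ⟨w, hw, hwB⟩ := FIXMUL_conj (cA A k) A B h.card hcB hAW hWcop hBL
  -- `c = k w` normalises `A`
  have hcK : k * w ∈ K := K.mul_mem hk (hWK hw)
  have hnorm : ∀ a ∈ A, (k * w) * a * (k * w)⁻¹ ∈ A := by
    intro a ha
    have h1 : w * a * w⁻¹ ∈ B := by
      rw [hwB]
      have : w⁻¹ * (w * a * w⁻¹) * w = a := by group
      rw [this]; exact ha
    have := (hBmem _).mp h1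
    have e : k * w * a * (k * w)⁻¹ = k * (w * a * w⁻¹) * k⁻¹ := by group
    rw [e]; exact this
  -- hence centralises `A` (as `K ∩ A = ⊥`)
  have hKA : K ⊓ A = ⊥ := by
    have : Disjoint K A := Subgroup.disjoint_of_coprime_natCard (by rw [h.card]; exact h.cop)
    exact disjoint_iff.mp this
  have hcC : k * w ∈ Subgroup.centralizer (A : Set G) := by
    rw [Subgroup.mem_centralizer_iff]
    intro a ha
    have h1 : (k * w) * a * (k * w)⁻¹ * a⁻¹ ∈ K ⊓ A := by
      refine Subgroup.mem_inf.mpr ⟨?_, A.mul_mem (hnorm a ha) (A.inv_mem ha)⟩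
      have h2 : a * (k * w)⁻¹ * a⁻¹ ∈ K :=
        (Subgroup.mem_normalizer_iff.mp (h.norm ha) _).mp (K.inv_mem hcK)
      have e : (k * w) * a * (k * w)⁻¹ * a⁻¹ = (k * w) * (a * (k * w)⁻¹ * a⁻¹) := by group
      rw [e]; exact K.mul_mem hcK h2
    rw [hKA, Subgroup.mem_bot] at h1
    have := congrArg (fun t => t * a * (k * w)) h1
    simpa [mul_assoc] using this.symm
  refine ⟨k * w, Subgroup.mem_inf.mpr ⟨hcK, hcC⟩, w⁻¹, (cA A k).inv_mem hw, by group⟩

/-- FIXMUL2 -/
theorem exists_gen (h : Hyp p A K) {k : G} (hk : k ∈ K) : ∃ y ∈ cA A k, cA A y = cA A k := by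
  obtain ⟨c, hc, y, hy, hcy⟩ := exists_fix_mul h hk
  refine ⟨y, hy, ?_⟩
  rw [hcy]
  exact (cA_fix_mul (Subgroup.mem_inf.mp hc).2 y).symm

/-- FIXMUL2 -/
theorem comm_cA (h : Hyp p A K) {k : G} (hk : k ∈ K) : ⁅cA A k, A⁆ = cA A k := by
  obtain ⟨y, hy, hyk⟩ := exists_gen h hk
  apply le_antisymm
  · -- `A` normalises `cA A k`
    rw [Subgroup.commutator_le]
    intro x hx a ha
    have h1 : a * x⁻¹ * a⁻¹ ∈ cA A k :=
      (Subgroup.mem_normalizer_iff.mp (cA_normalized A k ha) x⁻¹).mp ((cA A k).inv_mem hx)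
    have h2 : ⁅x, a⁆ = x * (a * x⁻¹ * a⁻¹) := by rw [commutatorElement_def]; group
    rw [h2]
    exact (cA A k).mul_mem hx h1
  · rw [← hyk]
    have := cA_le_commutator (A := A) (X := cA A k) hy
    rw [hyk] at this ⊢
    exact this

end Cfsg.Agent.S3816P
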