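import Mathlib
import Cfsg.Agent.S0055
import Cfsg.Agent.Helper13.S3816Defs
import Cfsg.Agent.Helper13.S3816Basic
import Cfsg.Agent.Helper22.S3816MC1
import Cfsg.Agent.Helper22.S3816MINN
import Cfsg.Agent.Helper13.S3816FIXMUL
import Cfsg.Agent.Helper6.S3816C2Acore

/-! S3816 board, row C2B: in Case 2 the quotient `K/N` is `A`-cyclic. -/

set_option autoImplicit false

open scoped commutatorElement Pointwise

set_option linter.unusedSectionVars false

namespace Cfsg.Agent.S3816P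

universe u

variable {G : Type u} [Group G]

/-- `⁅X, A⁆` is normalised by `X`. -/
theorem C2B_conj_mem_comm {X A : Subgroup G} {y : G} (hy : y ∈ X) {v : G} (hv : v ∈ ⁅X, A⁆) :
    y * v * y⁻¹ ∈ ⁅X, A⁆ := by
  rw [Subgroup.commutator_def] at hv
  induction hv using Subgroup.closure_induction with
  | mem g hg =>
    obtain ⟨x, hx, a, ha, rfl⟩ := hg
    have h1 : ⁅y * x, a⁆ ∈ ⁅X, A⁆ := Subgroup.commutator_mem_commutator (X.mul_mem hy hx) ha
    have h2 : ⁅y, a⁆ ∈ ⁅X, A⁆ := Subgroup.commutator_mem_commutator hy ha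
    have : y * ⁅x, a⁆ * y⁻¹ = ⁅y * x, a⁆ * ⁅y, a⁆⁻¹ := by
      simp only [commutatorElement_def]; group
    rw [this]
    exact (⁅X, A⁆).mul_mem h1 ((⁅X, A⁆).inv_mem h2)
  | one => simp
  | mul a b _ _ ha hb =>
    have : y * (a * b) * y⁻¹ = (y * a * y⁻¹) * (y * b * y⁻¹) := by group
    rw [this]; exact (⁅X, A⁆).mul_mem ha hb
  | inv a _ ha =>
    have : y * a⁻¹ * y⁻¹ = (y * a * y⁻¹)⁻¹ := by group
    rw [this]; exact (⁅X, A⁆).inv_mem ha

/-- `⁅N, A⁆` is normalised by `N(N) ∩ C(A)` and by `A`. -/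
theorem C2B_conj_mem_commNA {N A : Subgroup G} {c : G}
    (hcN : c ∈ Subgroup.normalizer (N : Set G)) (hcA : c ∈ Subgroup.normalizer (A : Set G))
    {v : G} (hv : v ∈ ⁅N, A⁆) : c * v * c⁻¹ ∈ ⁅N, A⁆ := by
  rw [Subgroup.commutator_def] at hv
  induction hv using Subgroup.closure_induction with
  | mem g hg =>
    obtain ⟨x, hx, a, ha, rfl⟩ := hg
    have h1 : c * x * c⁻¹ ∈ N := (Subgroup.mem_normalizer_iff.mp hcN x).mp hx
    have h2 : c * a * c⁻¹ ∈ A := (Subgroup.mem_normalizer_iff.mp hcA a).mp ha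
    have : c * ⁅x, a⁆ * c⁻¹ = ⁅c * x * c⁻¹, c * a * c⁻¹⁆ := by
      simp only [commutatorElement_def]; group
    rw [this]
    exact Subgroup.commutator_mem_commutator h1 h2
  | one => simp
  | mul a b _ _ ha hb =>
    have : c * (a * b) * c⁻¹ = (c * a * c⁻¹) * (c * b * c⁻¹) := by group
    rw [this]; exact (⁅N, A⁆).mul_mem ha hb
  | inv a _ ha =>
    have : c * a⁻¹ * c⁻¹ = (c * a * c⁻¹)⁻¹ := by group
    rw [this]; exact (⁅N, A⁆).inv_mem ha

variable [Finite G] {p : ℕ} [Fact p.Prime] {A K N : Subgroup G}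

theorem c2_cyclic (mc : MC p A K) (hN : MinN K N) (h2 : ¬ N ≤ Subgroup.centralizer (A : Set G)) :
    ∃ k ∈ K, cA A k ⊔ N = K := by
  by_contra hcon
  push Not at hcon
  have hNn : N.Normal := hN.normal
  have hKn : K.Normal := mc.normalK
  obtain ⟨r, hr, hrp, hNr, hNab⟩ := hN.elemAb mc
  have : IsMulCommutative N := ⟨⟨fun a b => Subtype.ext (hNab a a.2 b b.2)⟩⟩
  have hAN : A ≤ Subgroup.normalizer (N : Set G) := by
    rw [Subgroup.normalizer_eq_top_iff.mpr hNn]; exact le_top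
  have hcopN : (Nat.card A).Coprime (Nat.card N) := by
    rw [mc.hyp.card]
    exact (Nat.Coprime.coprime_dvd_left (Subgroup.card_dvd_of_le hN.le) mc.hyp.cop).symm
  obtain ⟨hdec1, hdec2⟩ := Cfsg.Agent.S0055.result A N hAN hcopN
  have hNA_le : ⁅N, A⁆ ≤ N := by
    rw [Subgroup.commutator_le]
    intro n hn a ha
    rw [commutatorElement_def]
    have : a * n⁻¹ * a⁻¹ ∈ N := hNn.conj_mem _ (N.inv_mem hn) a
    have h3 : n * a * n⁻¹ * a⁻¹ = n * (a * n⁻¹ * a⁻¹) := by group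
    rw [h3]; exact N.mul_mem hn this
  -- the key claim
  have claim : ∀ h ∈ K, ∀ u ∈ ⁅N, A⁆, h⁻¹ * u * h ∈ Kth A K N := by
    intro h hh u hu
    have hXne : cA A h ⊔ N ≠ K := hcon h hh
    have hXle : cA A h ⊔ N ≤ K := sup_le (cA_le mc.hyp.norm hh) hN.le
    have hAX : A ≤ Subgroup.normalizer ((cA A h ⊔ N : Subgroup G) : Set G) := by
      intro a ha
      have h1 := cA_normalized A h ha
      have h2 := hAN ha
      rw [Subgroup.mem_normalizer_iff] at h1 h2 ⊢
      -- conjugation by `a` preserves both factors, hence the join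
      have hmap : (cA A h ⊔ N).map (MulAut.conj a).toMonoidHom = cA A h ⊔ N := by
        rw [Subgroup.map_sup]
        congr 1
        · ext g
          simp only [Subgroup.mem_map, MulEquiv.coe_toMonoidHom, MulAut.conj_apply]
          constructor
          · rintro ⟨x, hx, rfl⟩; exact (h1 x).mp hx
          · intro hg
            refine ⟨a⁻¹ * g * a, ?_, by group⟩
            have := (h1 (a⁻¹ * g * a)).mpr (by simpa [mul_assoc] using hg)
            exact this
        · ext g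
          simp only [Subgroup.mem_map, MulEquiv.coe_toMonoidHom, MulAut.conj_apply]
          constructor
          · rintro ⟨x, hx, rfl⟩; exact (h2 x).mp hx
          · intro hg
            refine ⟨a⁻¹ * g * a, ?_, by group⟩
            have := (h2 (a⁻¹ * g * a)).mpr (by simpa [mul_assoc] using hg)
            exact this
      intro g
      constructor
      · intro hg
        rw [← hmap]
        exact ⟨g, hg, rfl⟩
      · intro hg
        rw [← hmap] at hg
        obtain ⟨x, hx, hxg⟩ := hg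
        simp only [MulEquiv.coe_toMonoidHom, MulAut.conj_apply] at hxg
        have : x = g := by
          have := congrArg (fun t => a⁻¹ * t * a) hxg
          simpa [mul_assoc] using this
        rwa [← this]
    have hsub := mc.sub_fix_le hXle hXne hAX
    obtain ⟨c, hc, y, hy, hcy⟩ := exists_fix_mul mc.hyp hh
    have hcK : c ∈ K := hc.1
    have hcC : c ∈ Subgroup.centralizer (A : Set G) := hc.2
    -- u' = c⁻¹ u c ∈ ⁅N,A⁆
    have hcN : c⁻¹ ∈ Subgroup.normalizer (N : Set G) := by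
      rw [Subgroup.normalizer_eq_top_iff.mpr hNn]; trivial
    have hcA : c⁻¹ ∈ Subgroup.normalizer (A : Set G) := by
      have : c⁻¹ ∈ Subgroup.centralizer (A : Set G) := Subgroup.inv_mem _ hcC
      rw [Subgroup.mem_normalizer_iff]
      intro a
      have hcomm : ∀ b ∈ A, c⁻¹ * b * c⁻¹⁻¹ = b := by
        intro b hb
        have := Subgroup.mem_centralizer_iff.mp this b hb
        calc c⁻¹ * b * c⁻¹⁻¹ = (c⁻¹ * b) * c := by group
          _ = (b * c⁻¹) * c := by rw [this]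
          _ = b := by group
      constructor
      · intro ha; rw [hcomm a ha]; exact ha
      · intro ha
        have h5 : c⁻¹⁻¹ * (c⁻¹ * a * c⁻¹⁻¹) * c⁻¹ ∈ A := by
          have hc' : c ∈ Subgroup.centralizer (A : Set G) := hcC
          have := Subgroup.mem_centralizer_iff.mp hc' _ ha
          have h6 : c⁻¹⁻¹ * (c⁻¹ * a * c⁻¹⁻¹) * c⁻¹ = c * (c⁻¹ * a * c⁻¹⁻¹) * c⁻¹ := by group
          rw [h6]
          have h7 : c * (c⁻¹ * a * c⁻¹⁻¹) * c⁻¹ = ((c⁻¹ * a * c⁻¹⁻¹) * c) * c⁻¹ := by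
            rw [this]
          rw [h7]
          have h8 : ((c⁻¹ * a * c⁻¹⁻¹) * c) * c⁻¹ = c⁻¹ * a * c⁻¹⁻¹ := by group
          rw [h8]; exact ha
        have h9 : c⁻¹⁻¹ * (c⁻¹ * a * c⁻¹⁻¹) * c⁻¹ = a := by group
        rwa [h9] at h5
    have hu' : c⁻¹ * u * c⁻¹⁻¹ ∈ ⁅N, A⁆ := C2B_conj_mem_commNA hcN hcA hu
    have hu'X : c⁻¹ * u * c⁻¹⁻¹ ∈ ⁅cA A h ⊔ N, A⁆ :=
      Subgroup.commutator_mono le_sup_right le_rfl hu'
    have hyX : y⁻¹ ∈ cA A h ⊔ N := Subgroup.inv_mem _ (le_sup_left (a := cA A h) hy)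
    have hv : y⁻¹ * (c⁻¹ * u * c⁻¹⁻¹) * y⁻¹⁻¹ ∈ ⁅cA A h ⊔ N, A⁆ := C2B_conj_mem_comm hyX hu'X
    have hveq : y⁻¹ * (c⁻¹ * u * c⁻¹⁻¹) * y⁻¹⁻¹ = h⁻¹ * u * h := by
      rw [hcy]; group
    rw [hveq] at hv
    have hvN : h⁻¹ * u * h ∈ N := by
      have := hNn.conj_mem u (hNA_le hu) h⁻¹
      simpa using this
    -- decompose in `N = C_N × ⁅N,A⁆`
    have hvdec : h⁻¹ * u * h ∈ (N ⊓ Subgroup.centralizer (A : Set G)) ⊔ ⁅N, A⁆ := by
      rw [hdec2]; exact hvN
    obtain ⟨vc, hvc, vm, hvm, hvv⟩ := mem_sup_of_commute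
      (H1 := N ⊓ Subgroup.centralizer (A : Set G)) (H2 := ⁅N, A⁆)
      (fun x hx y hy => hNab x (Subgroup.mem_inf.mp hx).1 y (hNA_le hy)) hvdec
    have hvcX : vc ∈ ⁅cA A h ⊔ N, A⁆ := by
      have : vc = (h⁻¹ * u * h) * vm⁻¹ := by rw [← hvv]; group
      rw [this]
      exact Subgroup.mul_mem _ hv
        (Subgroup.inv_mem _ (Subgroup.commutator_mono le_sup_right le_rfl hvm))
    have hvcD : vc ∈ DD A K := hsub ⟨hvcX, hvc.2⟩
    rw [← hvv]
    unfold Kth
    exact Subgroup.mul_mem _ (Subgroup.mem_sup_left ⟨hvcD, hvc.1⟩) (Subgroup.mem_sup_right hvm)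
  -- the normal closure of `⁅N,A⁆` is `N`
  have hNAne : ⁅N, A⁆ ≠ ⊥ := by
    intro h
    apply h2
    rw [Subgroup.commutator_eq_bot_iff_le_centralizer] at h
    exact h
  have hncl : Subgroup.normalClosure ((⁅N, A⁆ : Subgroup G) : Set G) = N := by
    apply hN.min
    · exact Subgroup.normalClosure_le_normal hNA_le
    · exact Subgroup.normalClosure_normal
    · intro h
      apply hNAne
      have := Subgroup.le_normalClosure (H := ⁅N, A⁆)
      rw [h] at this
      exact le_bot_iff.mp this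
  have hKthle : Kth A K N ≤ N := by
    unfold Kth
    exact sup_le inf_le_right hNA_le
  have hle : Subgroup.normalClosure ((⁅N, A⁆ : Subgroup G) : Set G) ≤ Kth A K N := by
    rw [Subgroup.normalClosure]
    rw [Subgroup.closure_le]
    intro w hw
    rw [Group.mem_conjugatesOfSet_iff] at hw
    obtain ⟨u, hu, hw⟩ := hw
    rw [isConj_iff] at hw
    obtain ⟨g, rfl⟩ := hw
    -- g = k * a
    have hg : g ∈ K ⊔ A := by rw [mc.top]; trivial
    have hg' : g ∈ (K : Set G) * (A : Set G) := by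
      have := Subgroup.normal_mul K A
      rw [← SetLike.mem_coe, this] at hg
      exact hg
    obtain ⟨k, hk, a, ha, rfl⟩ := hg'
    have haN : a ∈ Subgroup.normalizer (N : Set G) := hAN ha
    have haA : a ∈ Subgroup.normalizer (A : Set G) := Subgroup.le_normalizer ha
    have h1 : a * u * a⁻¹ ∈ ⁅N, A⁆ := C2B_conj_mem_commNA haN haA hu
    have h2' := claim k⁻¹ (K.inv_mem hk) _ h1
    have : k * a * u * (k * a)⁻¹ = k⁻¹⁻¹ * (a * u * a⁻¹) * k⁻¹ := by group
    rw [SetLike.mem_coe, this]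
    exact h2'
  have : Kth A K N = N := le_antisymm hKthle (hncl.symm.le.trans hle)
  exact c2_Kth_ne mc hN this

end Cfsg.Agent.S3816P
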