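import Mathlib
import Cfsg.Agent.S0055
import Cfsg.Agent.S0026
import Cfsg.Agent.Helper13.S3816Defs
import Cfsg.Agent.Helper13.S3816Basic
import Cfsg.Agent.Helper22.S3816MC1
import Cfsg.Agent.Helper22.S3816MINN
import Cfsg.Agent.Helper22.S3816C2CD
import Cfsg.Agent.Helper6.S3816C2A

/-! S3816 board, row C2E: `θ` is invariant under every proper `A`-invariant subgroup of `cA A k`. -/

set_option autoImplicit false
set_option linter.unusedSectionVars false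

open scoped commutatorElement Pointwise

namespace Cfsg.Agent.S3816P

universe u

variable {G : Type u} [Group G]

/-- `⁅X, A⁆` is normalised by `X` (inverse form). -/
theorem C2E_conj_mem_comm {X A : Subgroup G} {y : G} (hy : y ∈ X) {v : G} (hv : v ∈ ⁅X, A⁆) :
    y * v * y⁻¹ ∈ ⁅X, A⁆ := by
  rw [Subgroup.commutator_def] at hv
  induction hv using Subgroup.closure_induction with
  | mem g hg =>
    obtain ⟨x, hx, a, ha, rfl⟩ := hg
    have h1 : ⁅y * x, a⁆ ∈ ⁅X, A⁆ := Subgroup.commutator_mem_commutator (X.mul_mem hy hx) ha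
    have h2 : ⁅y, a⁆ ∈ ⁅X, A⁆ := Subgroup.commutator_mem_commutator hy ha
    have : y * ⁅x, a⁆ * y⁻¹ = ⁅y * x, a⁆ * ⁅y, a⁆⁻¹ := by
      simp only [commutatorElement_def]; group
    rw [this]
    exact (⁅X, A⁆).mul_mem h1 ((⁅X, A⁆).inv_mem h2)
  | one => simp
  | mul a b _ _ ha hb =>
    have : y * (a * b) * y⁻¹ = (y * a * y⁻¹) * (y * b * y⁻¹) := by group
    rw [this]; exact (⁅X, A⁆).mul_mem ha hb
  | inv a _ ha =>
    have : y * a⁻¹ * y⁻¹ = (y * a * y⁻¹)⁻¹ := by group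
    rw [this]; exact (⁅X, A⁆).inv_mem ha

theorem C2E_conj_mem_comm' {X A : Subgroup G} {y : G} (hy : y ∈ X) {v : G} (hv : v ∈ ⁅X, A⁆) :
    y⁻¹ * v * y ∈ ⁅X, A⁆ := by
  have := C2E_conj_mem_comm (X.inv_mem hy) hv
  simpa using this

variable [Finite G] {p : ℕ} [Fact p.Prime] {A K N : Subgroup G}

theorem c2_theta_inv (mc : MC p A K) (hN : MinN K N) (h2 : ¬ N ≤ Subgroup.centralizer (A : Set G))
    {k : G} (hk : k ∈ K) (hkN : cA A k ⊔ N = K)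
    {K1 : Subgroup G} (h1 : K1 ≤ cA A k) (hne : K1 ≠ cA A k)
    (hA1 : A ≤ Subgroup.normalizer (K1 : Set G)) {y : G} (hy : y ∈ K1) {n : G} (hn : n ∈ N) :
    n⁻¹ * (y⁻¹ * n * y) ∈ Kth A K N := by
  have hNn : N.Normal := hN.normal
  have hWN : cA A k ⊓ N = ⊥ := c2_compl mc hN hk hkN
  have hWK : cA A k ≤ K := cA_le mc.hyp.norm hk
  obtain ⟨r, hr, hrp, hNr, hNab⟩ := hN.elemAb mc
  have : IsMulCommutative N := ⟨⟨fun a b => Subtype.ext (hNab a a.2 b b.2)⟩⟩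
  have hAN : A ≤ Subgroup.normalizer (N : Set G) := by
    rw [Subgroup.normalizer_eq_top_iff.mpr hNn]; exact le_top
  have hcopN : (Nat.card A).Coprime (Nat.card N) := by
    rw [mc.hyp.card]
    exact (Nat.Coprime.coprime_dvd_left (Subgroup.card_dvd_of_le hN.le) mc.hyp.cop).symm
  obtain ⟨hdec1, hdec2⟩ := Cfsg.Agent.S0055.result A N hAN hcopN
  have hNA_le : ⁅N, A⁆ ≤ N := by
    rw [Subgroup.commutator_le]
    intro n hn a ha
    rw [commutatorElement_def]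
    have : a * n⁻¹ * a⁻¹ ∈ N := hNn.conj_mem _ (N.inv_mem hn) a
    have h3 : n * a * n⁻¹ * a⁻¹ = n * (a * n⁻¹ * a⁻¹) := by group
    rw [h3]; exact N.mul_mem hn this
  -- the subgroup `X = K1 N`
  have hXle : K1 ⊔ N ≤ K := sup_le (h1.trans hWK) hN.le
  have hXne : K1 ⊔ N ≠ K := by
    intro hX
    apply hne
    apply le_antisymm h1
    intro w hw
    have hwX : w ∈ K1 ⊔ N := by rw [hX]; exact hWK hw
    have := Subgroup.mul_normal K1 N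
    rw [← SetLike.mem_coe, this] at hwX
    obtain ⟨k1, hk1, n1, hn1, hkn⟩ := hwX
    have hkn' : k1 * n1 = w := hkn
    have hn1' : n1 ∈ cA A k ⊓ N := by
      refine Subgroup.mem_inf.mpr ⟨?_, hn1⟩
      have : n1 = k1⁻¹ * w := by rw [← hkn']; group
      rw [this]
      exact (cA A k).mul_mem ((cA A k).inv_mem (h1 hk1)) hw
    rw [hWN, Subgroup.mem_bot] at hn1'
    rw [hn1', mul_one] at hkn'
    rw [← hkn']; exact hk1
  have hAX : A ≤ Subgroup.normalizer ((K1 ⊔ N : Subgroup G) : Set G) := fun a ha =>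
    Subgroup.normalizer_inf_normalizer_le_normalizer_sup K1 N ⟨hA1 ha, hAN ha⟩
  have hsub := mc.sub_fix_le hXle hXne hAX
  have hcopX : (Nat.card A).Coprime (Nat.card ↥(K1 ⊔ N)) := by
    rw [mc.hyp.card]
    exact (Nat.Coprime.coprime_dvd_left (Subgroup.card_dvd_of_le hXle) mc.hyp.cop).symm
  have hsolvK : Group.IsSolvable K := mc.hyp.solv
  have hsolvX : Group.IsSolvable ↥(K1 ⊔ N) :=
    Group.isSolvable_of_isSolvable_injective (Subgroup.inclusion_injective hXle)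
  have hdecX := Cfsg.Agent.S0026.result A (K1 ⊔ N) hAX hcopX (Or.inr hsolvX)
  -- `P ∩ N ≤ Kth`
  have hPN : ∀ v ∈ ⁅K1 ⊔ N, A⁆, v ∈ N → v ∈ Kth A K N := by
    intro v hvP hvN
    have hvdec : v ∈ (N ⊓ Subgroup.centralizer (A : Set G)) ⊔ ⁅N, A⁆ := by
      rw [hdec2]; exact hvN
    obtain ⟨vc, hvc, vm, hvm, hvv⟩ := mem_sup_of_commute
      (H1 := N ⊓ Subgroup.centralizer (A : Set G)) (H2 := ⁅N, A⁆)
      (fun x hx y hy => hNab x (Subgroup.mem_inf.mp hx).1 y (hNA_le hy)) hvdec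
    have hvc' := Subgroup.mem_inf.mp hvc
    have hvcX : vc ∈ ⁅K1 ⊔ N, A⁆ := by
      have : vc = v * vm⁻¹ := by rw [← hvv]; group
      rw [this]
      exact Subgroup.mul_mem _ hvP
        (Subgroup.inv_mem _ (Subgroup.commutator_mono le_sup_right le_rfl hvm))
    have hvcD : vc ∈ DD A K := hsub (Subgroup.mem_inf.mpr ⟨hvcX, hvc'.2⟩)
    rw [← hvv]
    unfold Kth
    exact Subgroup.mul_mem _ (Subgroup.mem_sup_left (Subgroup.mem_inf.mpr ⟨hvcD, hvc'.1⟩))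
      (Subgroup.mem_sup_right hvm)
  have hKthle : Kth A K N ≤ N := by
    unfold Kth
    exact sup_le inf_le_right hNA_le
  -- decompose `y = p2 * c2`
  have hyX : y ∈ K1 ⊔ N := Subgroup.mem_sup_left hy
  have hnX : n ∈ K1 ⊔ N := Subgroup.mem_sup_right hn
  have hCnorm : (K1 ⊔ N) ⊓ Subgroup.centralizer (A : Set G) ≤
      Subgroup.normalizer ((⁅K1 ⊔ N, A⁆ : Subgroup G) : Set G) := by
    intro c hc
    have hcX := (Subgroup.mem_inf.mp hc).1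
    rw [Subgroup.mem_normalizer_iff]
    intro g
    constructor
    · intro hg; exact C2E_conj_mem_comm hcX hg
    · intro hg
      have := C2E_conj_mem_comm' hcX hg
      simpa [mul_assoc] using this
  have hy' : y ∈ ⁅K1 ⊔ N, A⁆ ⊔ ((K1 ⊔ N) ⊓ Subgroup.centralizer (A : Set G)) := by
    rw [hdecX]; exact hyX
  have hcoe := Subgroup.coe_mul_of_right_le_normalizer_left (⁅K1 ⊔ N, A⁆)
    ((K1 ⊔ N) ⊓ Subgroup.centralizer (A : Set G)) hCnorm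
  rw [← SetLike.mem_coe, hcoe] at hy'
  obtain ⟨p2, hp2, c2, hc2, hpc⟩ := hy'
  have hpc' : p2 * c2 = y := hpc
  have hc2' := Subgroup.mem_inf.mp hc2
  have hp2X : p2 ∈ K1 ⊔ N := by
    have : p2 = y * c2⁻¹ := by rw [← hpc']; group
    rw [this]
    exact Subgroup.mul_mem _ hyX (Subgroup.inv_mem _ hc2'.1)
  -- decompose `n = c * m`
  have hndec : n ∈ (N ⊓ Subgroup.centralizer (A : Set G)) ⊔ ⁅N, A⁆ := by
    rw [hdec2]; exact hn
  obtain ⟨c, hc, m, hm, hcm⟩ := mem_sup_of_commute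
    (H1 := N ⊓ Subgroup.centralizer (A : Set G)) (H2 := ⁅N, A⁆)
    (fun x hx y hy => hNab x (Subgroup.mem_inf.mp hx).1 y (hNA_le hy)) hndec
  have hc' := Subgroup.mem_inf.mp hc
  have hcN : c ∈ N := hc'.1
  have hmN : m ∈ N := hNA_le hm
  have hcX : c ∈ K1 ⊔ N := Subgroup.mem_sup_right hcN
  have hmP : m ∈ ⁅K1 ⊔ N, A⁆ := Subgroup.commutator_mono le_sup_right le_rfl hm
  -- the three factors
  -- v2 := m⁻¹ (y⁻¹ m y)
  have hv2P : m⁻¹ * (y⁻¹ * m * y) ∈ ⁅K1 ⊔ N, A⁆ :=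
    Subgroup.mul_mem _ (Subgroup.inv_mem _ hmP) (C2E_conj_mem_comm' hyX hmP)
  have hconjN : ∀ z ∈ N, ∀ t : G, t⁻¹ * z * t ∈ N := by
    intro z hz t
    have := hNn.conj_mem z hz t⁻¹
    simpa using this
  have hv2N : m⁻¹ * (y⁻¹ * m * y) ∈ N := N.mul_mem (N.inv_mem hmN) (hconjN m hmN y)
  have hv2 := hPN _ hv2P hv2N
  -- q := c⁻¹ p2⁻¹ c p2
  have hqP : c⁻¹ * p2⁻¹ * c * p2 ∈ ⁅K1 ⊔ N, A⁆ := by
    have h1 : c⁻¹ * p2⁻¹ * c ∈ ⁅K1 ⊔ N, A⁆ := by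
      have := C2E_conj_mem_comm' hcX (Subgroup.inv_mem _ hp2)
      simpa [mul_assoc] using this
    exact Subgroup.mul_mem _ h1 hp2
  have hqN : c⁻¹ * p2⁻¹ * c * p2 ∈ N := by
    have : c⁻¹ * p2⁻¹ * c * p2 = c⁻¹ * (p2⁻¹ * c * p2) := by group
    rw [this]
    exact N.mul_mem (N.inv_mem hcN) (hconjN c hcN p2)
  -- v1 := c2⁻¹ q c2
  have hv1P : c2⁻¹ * (c⁻¹ * p2⁻¹ * c * p2) * c2 ∈ ⁅K1 ⊔ N, A⁆ := C2E_conj_mem_comm' hc2'.1 hqP
  have hv1N : c2⁻¹ * (c⁻¹ * p2⁻¹ * c * p2) * c2 ∈ N := hconjN _ hqN c2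
  have hv1 := hPN _ hv1P hv1N
  -- d := c⁻¹ c2⁻¹ c c2
  have hdD : c⁻¹ * c2⁻¹ * c * c2 ∈ DD A K := by
    have hcC : c ∈ K ⊓ Subgroup.centralizer (A : Set G) :=
      Subgroup.mem_inf.mpr ⟨hN.le hcN, hc'.2⟩
    have hc2C : c2 ∈ K ⊓ Subgroup.centralizer (A : Set G) :=
      Subgroup.mem_inf.mpr ⟨hXle hc2'.1, hc2'.2⟩
    have := Subgroup.commutator_mem_commutator (Subgroup.inv_mem _ hcC) (Subgroup.inv_mem _ hc2C)
    have h3 := c2_comm_fix mc hN this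
    rw [commutatorElement_def] at h3
    simpa [mul_assoc] using h3
  have hdN : c⁻¹ * c2⁻¹ * c * c2 ∈ N := by
    have : c⁻¹ * c2⁻¹ * c * c2 = c⁻¹ * (c2⁻¹ * c * c2) := by group
    rw [this]
    exact N.mul_mem (N.inv_mem hcN) (hconjN c hcN c2)
  have hd : c⁻¹ * c2⁻¹ * c * c2 ∈ Kth A K N := by
    unfold Kth
    exact Subgroup.mem_sup_left (Subgroup.mem_inf.mpr ⟨hdD, hdN⟩)
  -- assemble: u = d * v1 * v2 (in the abelian group N)
  have hfirst : c⁻¹ * (y⁻¹ * c * y) =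
      (c⁻¹ * c2⁻¹ * c * c2) * (c2⁻¹ * (c⁻¹ * p2⁻¹ * c * p2) * c2) := by
    rw [← hpc']; group
  have hyc : y⁻¹ * c * y ∈ N := hconjN c hcN y
  have hym : y⁻¹ * m * y ∈ N := hconjN m hmN y
  have hu : n⁻¹ * (y⁻¹ * n * y) = (c⁻¹ * (y⁻¹ * c * y)) * (m⁻¹ * (y⁻¹ * m * y)) := by
    rw [← hcm]
    have e1 : y⁻¹ * (c * m) * y = (y⁻¹ * c * y) * (y⁻¹ * m * y) := by group
    rw [e1]
    -- commute `m⁻¹` past `c⁻¹ (y⁻¹ c y)`
    have e2 : m⁻¹ * (c⁻¹ * (y⁻¹ * c * y)) = (c⁻¹ * (y⁻¹ * c * y)) * m⁻¹ :=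
      hNab _ (N.inv_mem hmN) _ (N.mul_mem (N.inv_mem hcN) hyc)
    calc (c * m)⁻¹ * (y⁻¹ * c * y * (y⁻¹ * m * y))
        = (m⁻¹ * (c⁻¹ * (y⁻¹ * c * y))) * (y⁻¹ * m * y) := by group
      _ = ((c⁻¹ * (y⁻¹ * c * y)) * m⁻¹) * (y⁻¹ * m * y) := by rw [e2]
      _ = c⁻¹ * (y⁻¹ * c * y) * (m⁻¹ * (y⁻¹ * m * y)) := by group
  rw [hu, hfirst]
  exact Subgroup.mul_mem _ (Subgroup.mul_mem _ hd hv1) hv2

end Cfsg.Agent.S3816P
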