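import Mathlib
import Cfsg.Agent.S0001
import Cfsg.Agent.Helper13.S3816Defs
import Cfsg.Agent.Helper13.S3816Basic
import Cfsg.Agent.Helper22.S3816MC1
import Cfsg.Agent.Helper22.S3816MINN
import Cfsg.Agent.Helper13.S3816FIXMUL
import Cfsg.Agent.Helper22.S3816C2CD

/-! S3816 board, row C2I: the counting step `|N| ≤ |C_N(A)|²`. -/

set_option autoImplicit false
set_option linter.unusedSectionVars false

open scoped commutatorElement Pointwise

namespace Cfsg.Agent.S3816P

universe u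

variable {G : Type u} [Group G] [Finite G]

/-- Two complements (with coprime orders) of an abelian normal subgroup `N` inside `K` are conjugate
by an element of `N`. -/
theorem C2I_compl_conj (N W W' K : Subgroup G) (hNn : N.Normal)
    (hW : W ⊓ N = ⊥) (hWN : W ⊔ N = K) (hW' : W' ⊓ N = ⊥) (hW'N : W' ⊔ N = K)
    (hcop : (Nat.card W).Coprime (Nat.card N)) (hNab : ∀ m ∈ N, ∀ n ∈ N, m * n = n * m) :
    ∃ m ∈ N, ∀ x : G, x ∈ W' ↔ m⁻¹ * x * m ∈ W := by
  have hNK : N ≤ K := hWN ▸ le_sup_right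
  have hWK : W ≤ K := hWN ▸ le_sup_left
  have hW'K : W' ≤ K := hW'N ▸ le_sup_left
  -- work in `↥K`
  let N0 : Subgroup ↥K := N.subgroupOf K
  let W0 : Subgroup ↥K := W.subgroupOf K
  let W0' : Subgroup ↥K := W'.subgroupOf K
  have : N0.Normal := hNn.subgroupOf K
  have hcardN : Nat.card N0 = Nat.card N :=
    Nat.card_congr (Subgroup.subgroupOfEquivOfLe hNK).toEquiv
  have hcardW : Nat.card W0 = Nat.card W :=
    Nat.card_congr (Subgroup.subgroupOfEquivOfLe hWK).toEquiv
  -- every element of `K` is `n * w`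
  have hmul : ∀ (V : Subgroup G), V ⊔ N = K → ∀ x ∈ K, ∃ n ∈ N, ∃ w ∈ V, x = n * w := by
    intro V hV x hx
    have hx' : x ∈ N ⊔ V := by rw [sup_comm, hV]; exact hx
    have := Subgroup.normal_mul N V
    rw [← SetLike.mem_coe, this] at hx'
    obtain ⟨n, hn, w, hw, rfl⟩ := hx'
    exact ⟨n, hn, w, hw, rfl⟩
  have hcompl : ∀ (V : Subgroup G), V ⊓ N = ⊥ → V ⊔ N = K →
      Subgroup.IsComplement' N0 (V.subgroupOf K) := by
    intro V hV1 hV2
    apply Subgroup.isComplement'_of_disjoint_and_mul_eq_univ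
    · rw [Subgroup.disjoint_def]
      intro x hx1 hx2
      have h1 : (x : G) ∈ V ⊓ N :=
        ⟨Subgroup.mem_subgroupOf.mp hx2, Subgroup.mem_subgroupOf.mp hx1⟩
      rw [hV1, Subgroup.mem_bot] at h1
      exact Subtype.ext h1
    · rw [Set.eq_univ_iff_forall]
      intro x
      obtain ⟨n, hn, w, hw, hx⟩ := hmul V hV2 x x.2
      have hwK : w ∈ K := (hV2 ▸ (le_sup_left : V ≤ V ⊔ N)) hw
      refine ⟨⟨n, hNK hn⟩, ?_, ⟨w, hwK⟩, ?_, ?_⟩
      · exact Subgroup.mem_subgroupOf.mpr hn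
      · exact Subgroup.mem_subgroupOf.mpr hw
      · exact Subtype.ext hx.symm
  have hc1 := hcompl W hW hWN
  have hc2 := hcompl W' hW' hW'N
  have hidx : N0.index = Nat.card W := by
    rw [hc1.symm.index_eq_card, hcardW]
  have hcop0 : (Nat.card N0).Coprime N0.index := by
    rw [hcardN, hidx]; exact hcop.symm
  have hsolv : Group.IsSolvable N0 := by
    apply Group.isSolvable_of_comm
    intro a b
    apply Subtype.ext; apply Subtype.ext
    exact hNab _ (Subgroup.mem_subgroupOf.mp a.2) _ (Subgroup.mem_subgroupOf.mp b.2)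
  obtain ⟨g, hg⟩ := Cfsg.Agent.S0001.result N0 hcop0 (Or.inl hsolv) W0 W0' hc1 hc2
  obtain ⟨m, hm, w, hw, hgmw⟩ := hmul W hWN (g : G) g.2
  refine ⟨m, hm, fun x => ?_⟩
  constructor
  · intro hx
    have hxK : x ∈ K := hW'K hx
    have hx0 : (⟨x, hxK⟩ : ↥K) ∈ W0' := Subgroup.mem_subgroupOf.mpr hx
    rw [← hg, Subgroup.mem_smul_pointwise_iff_exists] at hx0
    obtain ⟨y, hy, hyx⟩ := hx0
    have hyW : (y : G) ∈ W := Subgroup.mem_subgroupOf.mp hy
    have hyx' : (g : G) * (y : G) * (g : G)⁻¹ = x := by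
      have := congrArg (Subtype.val) hyx
      simpa [MulAut.smul_def, MulAut.conj_apply] using this
    have : m⁻¹ * x * m = w * (y : G) * w⁻¹ := by
      rw [← hyx', hgmw]; group
    rw [this]
    exact W.mul_mem (W.mul_mem hw hyW) (W.inv_mem hw)
  · intro hx
    -- x = m (m⁻¹ x m) m⁻¹ = g (w⁻¹ (m⁻¹ x m) w) g⁻¹
    have hy : w⁻¹ * (m⁻¹ * x * m) * w ∈ W := W.mul_mem (W.mul_mem (W.inv_mem hw) hx) hw
    have hyK : w⁻¹ * (m⁻¹ * x * m) * w ∈ K := hWK hy
    have hmem : MulAut.conj g • (⟨_, hyK⟩ : ↥K) ∈ MulAut.conj g • W0 :=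
      Subgroup.smul_mem_pointwise_smul _ _ _ (Subgroup.mem_subgroupOf.mpr hy)
    rw [hg] at hmem
    have := Subgroup.mem_subgroupOf.mp hmem
    have hval : ((MulAut.conj g • (⟨_, hyK⟩ : ↥K) : ↥K) : G) = x := by
      simp only [MulAut.smul_def, MulAut.conj_apply, Subgroup.coe_mul, Subgroup.coe_inv]
      rw [hgmw]; group
    rwa [hval] at this

variable {p : ℕ} [Fact p.Prime] {A K N : Subgroup G}

theorem c2_count (mc : MC p A K) (hN : MinN K N) (h2 : ¬ N ≤ Subgroup.centralizer (A : Set G))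
    {k : G} (hk : k ∈ K) (hkN : cA A k ⊔ N = K)
    (hmax : ∀ K1 : Subgroup G, K1 ≤ cA A k → K1 ≠ cA A k →
      A ≤ Subgroup.normalizer (K1 : Set G) → K1 = ⊥)
    (hcop : (Nat.card (cA A k)).Coprime (Nat.card N)) :
    Nat.card N ≤ Nat.card ↥(N ⊓ Subgroup.centralizer (A : Set G)) ^ 2 := by
  have hNn : N.Normal := hN.normal
  have hWNbot : cA A k ⊓ N = ⊥ := c2_compl mc hN hk hkN
  have hcent := c2_cent mc hN h2 hk hkN
  have hAW : A ≤ Subgroup.normalizer (cA A k : Set G) := cA_normalized A k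
  have hWK : cA A k ≤ K := cA_le mc.hyp.norm hk
  obtain ⟨r, hr, hrp, hNr, hNab⟩ := hN.elemAb mc
  have hAN : A ≤ Subgroup.normalizer (N : Set G) := by
    rw [Subgroup.normalizer_eq_top_iff.mpr hNn]; exact le_top
  -- `W ≠ ⊥`
  have hWne : cA A k ≠ ⊥ := by
    intro h
    rw [h] at hcent
    have : N ≤ N ⊓ Subgroup.centralizer ((⊥ : Subgroup G) : Set G) := by
      refine le_inf le_rfl ?_
      intro n _
      rw [Subgroup.mem_centralizer_iff]
      intro g hg
      have : g = 1 := by simpa using hg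
      subst this; simp
    rw [hcent] at this
    exact hN.ne (le_bot_iff.mp this)
  -- `W ∩ C(A) = ⊥`
  have hWfix : cA A k ⊓ Subgroup.centralizer (A : Set G) = ⊥ := by
    refine hmax _ inf_le_left ?_ ?_
    · intro h
      have hle : cA A k ≤ Subgroup.centralizer (A : Set G) := by
        rw [← h]; exact inf_le_right
      have hcomm : ⁅cA A k, A⁆ = ⊥ := by
        rw [Subgroup.commutator_eq_bot_iff_le_centralizer]
        exact hle
      rw [comm_cA mc.hyp hk] at hcomm
      exact hWne hcomm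
    · intro a ha
      rw [Subgroup.mem_normalizer_iff]
      intro g
      have hn := (Subgroup.mem_normalizer_iff.mp (cA_normalized A k ha)) g
      rw [Subgroup.mem_inf, Subgroup.mem_inf, ← hn]
      refine and_congr_right fun _ => ?_
      rw [Subgroup.mem_centralizer_iff, Subgroup.mem_centralizer_iff]
      constructor
      · intro h2 b hb
        have hb' : a⁻¹ * b * a ∈ (A : Set G) := A.mul_mem (A.mul_mem (A.inv_mem ha) hb) ha
        have := h2 _ hb'
        calc b * (a * g * a⁻¹) = a * ((a⁻¹ * b * a) * g) * a⁻¹ := by group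
          _ = a * (g * (a⁻¹ * b * a)) * a⁻¹ := by rw [this]
          _ = a * g * a⁻¹ * b := by group
      · intro h2 b hb
        have hb' : a * b * a⁻¹ ∈ (A : Set G) := A.mul_mem (A.mul_mem ha hb) (A.inv_mem ha)
        have := h2 _ hb'
        calc b * g = a⁻¹ * ((a * b * a⁻¹) * (a * g * a⁻¹)) * a := by group
          _ = a⁻¹ * ((a * g * a⁻¹) * (a * b * a⁻¹)) * a := by rw [this]
          _ = g * b := by group
  -- a nontrivial element of `W`
  obtain ⟨g0, hg01⟩ := (Subgroup.ne_bot_iff_exists_ne_one).mp hWne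
  set g : G := (g0 : G) with hg
  have hgW : g ∈ cA A k := g0.2
  have hg1 : g ≠ 1 := fun h => hg01 (Subtype.ext h)
  -- Step A: `cA A g = W`
  have hgen : cA A g = cA A k := by
    by_contra hne
    have hle : cA A g ≤ cA A k := cA_le hAW hgW
    have hbot := hmax _ hle hne (cA_normalized A g)
    have : g ∈ cA A k ⊓ Subgroup.centralizer (A : Set G) := by
      refine Subgroup.mem_inf.mpr ⟨hgW, ?_⟩
      rw [Subgroup.mem_centralizer_iff]
      intro a ha
      have h1 : g⁻¹ * (a * g * a⁻¹) ∈ cA A g := Subgroup.subset_closure ⟨a, ha, rfl⟩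
      rw [hbot, Subgroup.mem_bot] at h1
      have : a * g = g * a := by
        have := congrArg (fun t => g * t * a) h1
        simpa [mul_assoc] using this
      exact this
    rw [hWfix] at this
    exact hg1 (Subgroup.mem_bot.mp this)
  -- Step B
  have hB : ∀ n ∈ N, cA A (g * n) ⊔ N = K := by
    intro n hn
    have hgnK : g * n ∈ K := K.mul_mem (hWK hgW) (hN.le hn)
    apply le_antisymm (sup_le (cA_le mc.hyp.norm hgnK) hN.le)
    rw [← hkN]
    refine sup_le ?_ le_sup_right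
    rw [← hgen]
    unfold cA
    rw [Subgroup.closure_le]
    rintro _ ⟨a, ha, rfl⟩
    have h1 : (g * n)⁻¹ * (a * (g * n) * a⁻¹) ∈ cA A (g * n) :=
      Subgroup.subset_closure ⟨a, ha, rfl⟩
    have h2 : a * n * a⁻¹ ∈ N := hNn.conj_mem n hn a
    have : g⁻¹ * (a * g * a⁻¹) = n * ((g * n)⁻¹ * (a * (g * n) * a⁻¹)) * (a * n * a⁻¹)⁻¹ := by
      group
    rw [SetLike.mem_coe, this]
    refine Subgroup.mul_mem _ (Subgroup.mul_mem _ (Subgroup.mem_sup_right hn) ?_)
      (Subgroup.mem_sup_right (N.inv_mem h2))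
    exact Subgroup.mem_sup_left h1
  -- Step E: `K ∩ C(A) ≤ N`
  have hE : K ⊓ Subgroup.centralizer (A : Set G) ≤ N := by
    intro c hc
    have hcK : c ∈ cA A k ⊔ N := by rw [hkN]; exact hc.1
    have := Subgroup.mul_normal (cA A k) N
    rw [← SetLike.mem_coe, this] at hcK
    obtain ⟨w, hw, n1, hn1, hwn⟩ := hcK
    have hwn' : w * n1 = c := hwn
    subst hwn'
    have hwfix : w ∈ cA A k ⊓ Subgroup.centralizer (A : Set G) := by
      refine Subgroup.mem_inf.mpr ⟨hw, ?_⟩
      rw [Subgroup.mem_centralizer_iff]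
      intro a ha
      have hca := Subgroup.mem_centralizer_iff.mp hc.2 a ha
      -- a w n1 = w n1 a
      have h3 : w⁻¹ * (a * w * a⁻¹) = n1 * (a * n1 * a⁻¹)⁻¹ := by
        have : a * (w * n1) * a⁻¹ = w * n1 := by
          rw [hca]; group
        have h4 : (a * w * a⁻¹) * (a * n1 * a⁻¹) = w * n1 := by
          rw [← this]; group
        calc w⁻¹ * (a * w * a⁻¹) = w⁻¹ * ((a * w * a⁻¹) * (a * n1 * a⁻¹)) * (a * n1 * a⁻¹)⁻¹ := by
              group
          _ = w⁻¹ * (w * n1) * (a * n1 * a⁻¹)⁻¹ := by rw [h4]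
          _ = n1 * (a * n1 * a⁻¹)⁻¹ := by group
      have h5 : w⁻¹ * (a * w * a⁻¹) ∈ cA A k ⊓ N := by
        refine ⟨?_, ?_⟩
        · exact (cA A k).mul_mem ((cA A k).inv_mem hw)
            ((Subgroup.mem_normalizer_iff.mp (hAW ha) w).mp hw)
        · rw [h3]
          exact N.mul_mem hn1 (N.inv_mem (hNn.conj_mem n1 hn1 a))
      rw [hWNbot, Subgroup.mem_bot] at h5
      have := congrArg (fun t => w * t * a) h5
      simpa [mul_assoc] using this
    rw [hWfix, Subgroup.mem_bot] at hwfix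
    rw [hwfix, one_mul]; exact hn1
  -- the surjection
  let φ : ↥(N ⊓ Subgroup.centralizer (A : Set G)) × ↥(N ⊓ Subgroup.centralizer (A : Set G)) → ↥N :=
    fun uv => ⟨g⁻¹ * (uv.1 : G) * g * (uv.2 : G),
      N.mul_mem (by
        have := hNn.conj_mem (uv.1 : G) uv.1.2.1 g⁻¹
        simpa using this) uv.2.2.1⟩
  have hsurj : Function.Surjective φ := by
    intro ⟨n, hn⟩
    have hgnK : g * n ∈ K := K.mul_mem (hWK hgW) (hN.le hn)
    have hKn := hB n hn
    have hKnbot : cA A (g * n) ⊓ N = ⊥ := c2_compl mc hN hgnK hKn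
    have hcard : Nat.card (cA A k) = Nat.card (cA A k) := rfl
    obtain ⟨m, hm, hmW⟩ := C2I_compl_conj N (cA A k) (cA A (g * n)) K hNn hWNbot hkN hKnbot hKn
      hcop hNab
    -- `m ∈ C(A)`
    have hmC : m ∈ Subgroup.centralizer (A : Set G) := by
      rw [Subgroup.mem_centralizer_iff]
      intro a ha
      -- `t := m⁻¹ * (a m a⁻¹)` normalises `W` and lies in `N`, hence centralises `W`
      set ma := a * m * a⁻¹ with hma
      have hmaN : ma ∈ N := hNn.conj_mem m hm a
      have hnorm : ∀ x : G, x ∈ cA A (g * n) ↔ ma⁻¹ * x * ma ∈ cA A k := by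
        intro x
        have h1 := (Subgroup.mem_normalizer_iff.mp (cA_normalized A (g * n) (A.inv_mem ha))) x
        have h2 := hmW (a⁻¹ * x * a⁻¹⁻¹)
        have h3 := (Subgroup.mem_normalizer_iff.mp (hAW ha)) (m⁻¹ * (a⁻¹ * x * a⁻¹⁻¹) * m)
        rw [h1, h2, h3]
        have : a * (m⁻¹ * (a⁻¹ * x * a⁻¹⁻¹) * m) * a⁻¹ = ma⁻¹ * x * ma := by
          rw [hma]; group
        rw [this]
      set t := m⁻¹ * ma with ht
      have htN : t ∈ N := N.mul_mem (N.inv_mem hm) hmaN
      have htW : ∀ w ∈ cA A k, t⁻¹ * w * t ∈ cA A k := by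
        intro w hw
        have h1 : m * w * m⁻¹ ∈ cA A (g * n) := by
          rw [hmW]
          have : m⁻¹ * (m * w * m⁻¹) * m = w := by group
          rw [this]; exact hw
        have := (hnorm _).mp h1
        have h2 : ma⁻¹ * (m * w * m⁻¹) * ma = t⁻¹ * w * t := by
          rw [ht]; group
        rwa [h2] at this
      have htc : t ∈ N ⊓ Subgroup.centralizer (cA A k : Set G) := by
        refine Subgroup.mem_inf.mpr ⟨htN, ?_⟩
        rw [Subgroup.mem_centralizer_iff]
        intro w hw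
        -- `w⁻¹ (t⁻¹ w t) ∈ W ∩ N = ⊥`
        have h1 : w⁻¹ * (t⁻¹ * w * t) ∈ cA A k ⊓ N := by
          refine ⟨(cA A k).mul_mem ((cA A k).inv_mem hw) (htW w hw), ?_⟩
          have h2 : w⁻¹ * t⁻¹ * w ∈ N := by
            have := hNn.conj_mem t⁻¹ (N.inv_mem htN) w⁻¹
            simpa using this
          have h3 : w⁻¹ * (t⁻¹ * w * t) = (w⁻¹ * t⁻¹ * w) * t := by group
          rw [h3]; exact N.mul_mem h2 htN
        rw [hWNbot, Subgroup.mem_bot] at h1
        have := congrArg (fun s => t * (w * s)) h1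
        simpa [mul_assoc] using this
      rw [hcent, Subgroup.mem_bot] at htc
      -- t = 1 → a m a⁻¹ = m
      have : ma = m := by
        have := congrArg (fun s => m * s) htc
        simpa [ht, mul_assoc] using this
      rw [hma] at this
      have := congrArg (fun s => s * a) this
      simpa [mul_assoc] using this
    -- F3 for `g * n`
    obtain ⟨c, hc, y, hy, hcy⟩ := exists_fix_mul mc.hyp hgnK
    have hcN : c ∈ N := hE hc
    have hy0 : m⁻¹ * y * m ∈ cA A k := (hmW y).mp hy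
    -- `y0 = g`
    set y0 := m⁻¹ * y * m with hy0def
    have hyeq : y = m * y0 * m⁻¹ := by rw [hy0def]; group
    have hn2 : y0⁻¹ * (c * m) * y0 * m⁻¹ ∈ N := by
      have h1 : y0⁻¹ * (c * m) * y0 ∈ N := by
        have := hNn.conj_mem (c * m) (N.mul_mem hcN hm) y0⁻¹
        simpa using this
      exact N.mul_mem h1 (N.inv_mem hm)
    have heq : g * n = y0 * (y0⁻¹ * (c * m) * y0 * m⁻¹) := by
      rw [hcy, hyeq]; group
    have hy0g : y0⁻¹ * g ∈ cA A k ⊓ N := by
      refine ⟨(cA A k).mul_mem ((cA A k).inv_mem hy0) hgW, ?_⟩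
      have : y0⁻¹ * g = (y0⁻¹ * (c * m) * y0 * m⁻¹) * n⁻¹ := by
        have := congrArg (fun s => y0⁻¹ * s * n⁻¹) heq
        simp only [mul_assoc] at this ⊢
        simpa [mul_assoc] using this
      rw [this]
      exact N.mul_mem hn2 (N.inv_mem hn)
    rw [hWNbot, Subgroup.mem_bot] at hy0g
    have hy0eq : y0 = g := by
      have := congrArg (fun s => y0 * s) hy0g
      simpa [mul_assoc] using this.symm
    have hcm : c * m ∈ N ⊓ Subgroup.centralizer (A : Set G) :=
      ⟨N.mul_mem hcN hm, Subgroup.mul_mem _ hc.2 hmC⟩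
    have hminv : m⁻¹ ∈ N ⊓ Subgroup.centralizer (A : Set G) :=
      ⟨N.inv_mem hm, Subgroup.inv_mem _ hmC⟩
    refine ⟨(⟨c * m, hcm⟩, ⟨m⁻¹, hminv⟩), ?_⟩
    apply Subtype.ext
    show g⁻¹ * (c * m) * g * m⁻¹ = n
    rw [hy0eq] at heq
    have := congrArg (fun s => g⁻¹ * s) heq
    simp only [mul_assoc, inv_mul_cancel_left] at this ⊢
    exact this.symm
  have hcardle := Nat.card_le_card_of_surjective φ hsurj
  rw [Nat.card_prod] at hcardle
  rw [pow_two]
  exact hcardle

end Cfsg.Agent.S3816P
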