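import Mathlib
import Cfsg.Agent.Helper13.S3816Defs
import Cfsg.Agent.Helper13.S3816Basic
import Cfsg.Agent.Helper13.S3816FIXMUL
import Cfsg.Agent.Helper6.S3816DNORM
import Cfsg.Agent.Helper20.S3816WLOG
import Cfsg.Agent.Helper20.S3816QUOT
import Cfsg.Agent.Helper17.S3816QUOT2
import Cfsg.Agent.Helper22.S3816MC1
import Cfsg.Agent.Helper20.S3816MC3
import Cfsg.Agent.Helper22.S3816MINN
import Cfsg.Agent.Helper21.S3816C1A
import Cfsg.Agent.Helper22.S3816C1B
import Cfsg.Agent.Helper21.S3816C1CD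
import Cfsg.Agent.Helper8.S3816TR
import Cfsg.Agent.Helper22.S3816C1E
import Cfsg.Agent.Helper10.S3816C1F
import Cfsg.Agent.Helper13.S3816C1G
import Cfsg.Agent.Helper21.S3816C1H
import Cfsg.Agent.Helper3.S3816POL
import Cfsg.Agent.Helper20.S3816PHI
import Cfsg.Agent.Helper6.S3816C2A
import Cfsg.Agent.Helper13.S3816C2B
import Cfsg.Agent.Helper22.S3816C2CD
import Cfsg.Agent.Helper13.S3816C2E
import Cfsg.Agent.Helper3.S3816C2F
import Cfsg.Agent.Helper3.S3816C2G
import Cfsg.Agent.Helper20.S3816C2H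
import Cfsg.Agent.Helper13.S3816C2I
import Cfsg.Agent.Helper23.S3816FREE

set_option autoImplicit false

namespace Cfsg.Agent.S3816P

universe u

variable {G : Type u} [Group G] [Finite G] {p : ℕ} [Fact p.Prime] {A K N : Subgroup G}

/-- Case 1 is impossible. -/
theorem case1 (hp : p ≠ 2) (mc : MC p A K) (hN : MinN K N)
    (h1 : N ≤ Subgroup.centralizer (A : Set G)) : False := by
  have hKne : K ≠ ⊥ := by
    intro h
    exact hN.ne (le_bot_iff.mp (h ▸ hN.le))
  have hΦK : Phi K ≤ K := Phi_le K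
  have hΦne : Phi K ≠ K := Phi_ne hKne
  have hAΦ : A ≤ Subgroup.normalizer (Phi K : Set G) :=
    mc.hyp.norm.trans (Phi_normalizer_le K)
  have hr : (Nat.card N).Prime := c1_card mc hN h1
  have hKp : IsPGroup (Nat.card N) K := c1_pgroup mc hN h1
  have hab : ⁅K, K⁆ ≤ Phi K := comm_le_Phi hr hKp
  have hNΦ : N ≤ Phi K := (c1_le_comm mc hN h1).trans hab
  obtain ⟨hd1, hd2⟩ := c1_split mc hN h1 hΦK hΦne hAΦ hNΦ
  have hZ0Z : X0 A K (Phi K) ≤ Phi K :=
    le_sup_right.trans hd2.le
  have hpol : ⁅K, K⁆ ≤ X0 A K (Phi K) :=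
    pol_rel hp mc.hyp.card mc.hyp.norm (Phi K) (X0 A K (Phi K)) (c1_Phi0_normal mc hN h1) hZ0Z hΦK
      hAΦ (c1_cen mc hN h1) (le_sup_right : ⁅Phi K, A⁆ ≤ X0 A K (Phi K)) hab (fun t ht h => c1_fix_mod_Phi mc hN h1 ht h)
      (fun h hh a ha => c1_comm_mem mc hN h1 hh ha)
  have hNX0 : N ≤ X0 A K (Phi K) := (c1_le_comm mc hN h1).trans hpol
  have : N ≤ N ⊓ X0 A K (Phi K) := le_inf le_rfl hNX0
  rw [hd1] at this
  exact hN.ne (le_bot_iff.mp this)

/-- Case 2 is impossible. -/
theorem case2 (hp : p ≠ 2) (mc : MC p A K) (hN : MinN K N)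
    (h2 : ¬ N ≤ Subgroup.centralizer (A : Set G)) : False := by
  obtain ⟨k, hk, hkN⟩ := c2_cyclic mc hN h2
  obtain ⟨⟨s, hs, hsK⟩, hmaxΦ⟩ := c2_pgroup mc hN h2 hk hkN
  have hΦ : Phi (cA A k) = ⊥ := c2_Phi_bot mc hN h2 hk hkN
  have hmax : ∀ K1 : Subgroup G, K1 ≤ cA A k → K1 ≠ cA A k →
      A ≤ Subgroup.normalizer (K1 : Set G) → K1 = ⊥ := by
    intro K1 a b c
    have := hmaxΦ K1 a b c
    rw [hΦ] at this
    exact le_bot_iff.mp this
  have hcop := c2_coprime mc hN h2 hk hkN
  have hcount := c2_count mc hN h2 hk hkN hmax hcop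
  obtain ⟨r, hr, hrp, hNr, hNab⟩ := hN.elemAb mc
  have hab := c2_abelian hs hsK hΦ
  have hcent := c2_cent mc hN h2 hk hkN
  -- `cA A k ≠ ⊥`
  have hWne : cA A k ≠ ⊥ := by
    intro h
    rw [h] at hcent
    have : N ≤ N ⊓ Subgroup.centralizer ((⊥ : Subgroup G) : Set G) := by
      refine le_inf le_rfl ?_
      intro n _
      rw [Subgroup.mem_centralizer_iff]
      intro g hg
      have : g = 1 := by simpa using hg
      subst this; simp
    rw [hcent] at this
    exact hN.ne (le_bot_iff.mp this)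
  have hWfix : cA A k ⊓ Subgroup.centralizer (A : Set G) = ⊥ := by
    refine hmax _ inf_le_left ?_ ?_
    · intro h
      have hle : cA A k ≤ Subgroup.centralizer (A : Set G) := by
        rw [← h]; exact inf_le_right
      have hcomm : ⁅cA A k, A⁆ = ⊥ := by
        rw [Subgroup.commutator_eq_bot_iff_le_centralizer]
        exact hle
      rw [comm_cA mc.hyp hk] at hcomm
      exact hWne hcomm
    · intro a ha
      rw [Subgroup.mem_normalizer_iff]
      intro g
      have hn := (Subgroup.mem_normalizer_iff.mp (cA_normalized A k ha)) g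
      rw [Subgroup.mem_inf, Subgroup.mem_inf, ← hn]
      refine and_congr_right fun _ => ?_
      rw [Subgroup.mem_centralizer_iff, Subgroup.mem_centralizer_iff]
      constructor
      · intro h2 b hb
        have hb' : a⁻¹ * b * a ∈ (A : Set G) := A.mul_mem (A.mul_mem (A.inv_mem ha) hb) ha
        have := h2 _ hb'
        calc b * (a * g * a⁻¹) = a * ((a⁻¹ * b * a) * g) * a⁻¹ := by group
          _ = a * (g * (a⁻¹ * b * a)) * a⁻¹ := by rw [this]
          _ = a * g * a⁻¹ * b := by group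
      · intro h2 b hb
        have hb' : a * b * a⁻¹ ∈ (A : Set G) := A.mul_mem (A.mul_mem ha hb) (A.inv_mem ha)
        have := h2 _ hb'
        calc b * g = a⁻¹ * ((a * b * a⁻¹) * (a * g * a⁻¹)) * a := by group
          _ = a⁻¹ * ((a * g * a⁻¹) * (a * b * a⁻¹)) * a := by rw [this]
          _ = g * b := by group
  have hKnorm : K.Normal := mc.normalK
  have hNn : N.Normal := hN.normal
  have hWN : cA A k ≤ Subgroup.normalizer (N : Set G) := by
    rw [Subgroup.normalizer_eq_top_iff.mpr hNn]; exact le_top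
  have hAN : A ≤ Subgroup.normalizer (N : Set G) := by
    rw [Subgroup.normalizer_eq_top_iff.mpr hNn]; exact le_top
  have hNne : Nat.card N ≠ 1 := by
    intro h
    exact hN.ne (Subgroup.card_eq_one.mp h)
  have hrN : r ∣ Nat.card N := by
    -- `N` is a nontrivial group of exponent `r`
    obtain ⟨n, hn1⟩ := (Subgroup.ne_bot_iff_exists_ne_one).mp hN.ne
    have ho : orderOf (n : G) = r := by
      have hd : orderOf (n : G) ∣ r := orderOf_dvd_of_pow_eq_one (hNr n n.2)
      rcases (Nat.dvd_prime hr).mp hd with h | h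
      · exfalso
        apply hn1
        have := orderOf_eq_one_iff.mp h
        exact Subtype.ext this
      · exact h
    have : orderOf n = r := by rw [← ho]; exact (Subgroup.orderOf_coe n).symm
    rw [← this]
    exact orderOf_dvd_natCard n
  have hrW : (Nat.card (cA A k)).Coprime r := Nat.Coprime.coprime_dvd_right hrN hcop
  have hfree := free_count mc.hyp.card (cA A k) N hab (cA_normalized A k) hWN hAN hNab r hr hNr
    hrW hWfix hcent
  -- arithmetic
  set c := Nat.card ↥(N ⊓ Subgroup.centralizer (A : Set G)) with hc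
  have hc1 : c ≠ 1 := by
    intro h
    have hbot : N ⊓ Subgroup.centralizer (A : Set G) = ⊥ := Subgroup.card_eq_one.mp h
    apply mc.not_fixN_le hN
    rw [hbot]; exact bot_le
  have hc0 : 0 < c := Nat.card_pos
  have hc2 : 2 ≤ c := by omega
  have hp3 : 3 ≤ p := by
    have := (Fact.out : p.Prime).two_le
    omega
  have h3 : c ^ 3 ≤ c ^ p := Nat.pow_le_pow_right hc0 hp3
  have : c ^ 3 ≤ c ^ 2 := h3.trans (hfree ▸ hcount)
  have : c ^ 2 * c ≤ c ^ 2 * 1 := by
    calc c ^ 2 * c = c ^ 3 := by ring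
      _ ≤ c ^ 2 := this
      _ = c ^ 2 * 1 := by ring
  have := Nat.le_of_mul_le_mul_left this (by positivity)
  omega

/-- The internal theorem. -/
theorem main_internal (hp : p ≠ 2) :
    ∀ (n : ℕ) (G : Type u) [Group G] [Finite G] (A K : Subgroup G),
      Nat.card K = n → Hyp p A K → Thm A K := by
  intro n
  induction n using Nat.strong_induction_on with
  | _ n IH =>
  intro G _ _ A K hn hyp
  apply thm_of_subgroupOf (K ⊔ A) le_sup_left le_sup_right
  have hyp' := hyp.subgroupOf (K ⊔ A) le_sup_left le_sup_right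
  by_contra hneg
  have hcard : Nat.card (K.subgroupOf (K ⊔ A)) = Nat.card K :=
    Nat.card_congr (Subgroup.subgroupOfEquivOfLe le_sup_left).toEquiv
  have htop : K.subgroupOf (K ⊔ A) ⊔ A.subgroupOf (K ⊔ A) = ⊤ := by
    rw [← Subgroup.subgroupOf_sup le_sup_left le_sup_right]
    exact Subgroup.subgroupOf_self _
  have mc : MC p (A.subgroupOf (K ⊔ A)) (K.subgroupOf (K ⊔ A)) :=
    { hyp := hyp'
      top := htop
      ih := fun G' _ _ A' K' hlt h' => IH _ (by rw [← hn, ← hcard]; exact hlt) G' A' K' rfl h'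
      neg := hneg }
  obtain ⟨N, hN⟩ := mc.exists_minN
  by_cases h1 : N ≤ Subgroup.centralizer ((A.subgroupOf (K ⊔ A) : Subgroup ↥(K ⊔ A)) : Set ↥(K ⊔ A))
  · exact case1 hp mc hN h1
  · exact case2 hp mc hN h1

end Cfsg.Agent.S3816P
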