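import Mathlib
import Cfsg.Agent.Helper13.S3816Defs
import Cfsg.Agent.Helper13.S3816Basic

/-! STUBS for the S3816 board (board `s3816pieces`; the tag in each docstring is the board row).
NEVER import this file from a real piece module (name clash): develop against a private copy with your
own row removed, land importing `S3816Defs`, `S3816Basic` and the REAL modules of the rows you use. -/

set_option autoImplicit false

namespace Cfsg.Agent.S3816P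

universe u

variable {G : Type u} [Group G] [Finite G] {p : ℕ} [Fact p.Prime] {A K N : Subgroup G}

local notation "CA" => Subgroup.centralizer (A : Set G)

/-! ## General facts -/

/-- FIXMUL (F3) -/
theorem exists_fix_mul (h : Hyp p A K) {k : G} (hk : k ∈ K) :
    ∃ c ∈ K ⊓ Subgroup.centralizer (A : Set G), ∃ y ∈ cA A k, k = c * y := by sorry

/-- FIXMUL2 (from F3) -/
theorem exists_gen (h : Hyp p A K) {k : G} (hk : k ∈ K) : ∃ y ∈ cA A k, cA A y = cA A k := by sorry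

/-- FIXMUL2 (from F3) -/
theorem comm_cA (h : Hyp p A K) {k : G} (hk : k ∈ K) : ⁅cA A k, A⁆ = cA A k := by sorry

/-- DNORM (F5) -/
theorem DD_normalized (hAK : A ≤ Subgroup.normalizer (K : Set G)) :
    K ⊓ Subgroup.centralizer (A : Set G) ≤ Subgroup.normalizer (DD A K : Set G) := by sorry

/-- WLOG -/
theorem Hyp.subgroupOf (h : Hyp p A K) (S : Subgroup G) (hK : K ≤ S) (hA : A ≤ S) :
    Hyp p (A.subgroupOf S) (K.subgroupOf S) := by sorry

/-- WLOG -/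
theorem thm_of_subgroupOf (S : Subgroup G) (hK : K ≤ S) (hA : A ≤ S)
    (h : Thm (A.subgroupOf S) (K.subgroupOf S)) : Thm A K := by sorry

/-- QUOT -/
theorem Hyp.map_mk (h : Hyp p A K) (N : Subgroup G) [N.Normal] (hNK : N ≤ K) :
    Hyp p (A.map (QuotientGroup.mk' N)) (K.map (QuotientGroup.mk' N)) := by sorry

/-- QUOT -/
theorem card_map_mk_lt (N : Subgroup G) [N.Normal] (hNK : N ≤ K) (hN : N ≠ ⊥) :
    Nat.card (K.map (QuotientGroup.mk' N)) < Nat.card K := by sorry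

/-- QUOT2 -/
theorem quot_step (h : Hyp p A K) (N : Subgroup G) [N.Normal] (hNK : N ≤ K)
    (hq : Thm (A.map (QuotientGroup.mk' N)) (K.map (QuotientGroup.mk' N))) :
    ⁅K, A⁆ ⊓ Subgroup.centralizer (A : Set G) ≤ DD A K ⊔ N := by sorry

/-! ## The minimal counterexample -/

/-- MC1 -/
theorem MC.normalK (mc : MC p A K) : K.Normal := by sorry

/-- MC1 -/
theorem MC.comm_eq (mc : MC p A K) : ⁅K, A⁆ = K := by sorry

/-- MC2 -/
theorem MC.sub_fix_le (mc : MC p A K) {X : Subgroup G} (hXK : X ≤ K) (hne : X ≠ K)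
    (hAX : A ≤ Subgroup.normalizer (X : Set G)) :
    ⁅X, A⁆ ⊓ Subgroup.centralizer (A : Set G) ≤ DD A K := by sorry

/-- MC3 -/
theorem MC.fix_le_sup (mc : MC p A K) {N : Subgroup G} (hNn : N.Normal) (hNK : N ≤ K) (hN : N ≠ ⊥) :
    K ⊓ Subgroup.centralizer (A : Set G) ≤ DD A K ⊔ (N ⊓ Subgroup.centralizer (A : Set G)) := by sorry

/-- MC4 -/
theorem MC.cA_ne (mc : MC p A K) {k : G} (hk : k ∈ K) : cA A k ≠ K := by sorry

/-- MINN -/
theorem MC.exists_minN (mc : MC p A K) : ∃ N : Subgroup G, MinN K N := by sorry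

/-- MINN -/
theorem MinN.elemAb (mc : MC p A K) (hN : MinN K N) :
    ∃ r : ℕ, r.Prime ∧ r ≠ p ∧ (∀ n ∈ N, n ^ r = 1) ∧ ∀ m ∈ N, ∀ n ∈ N, m * n = n * m := by sorry

/-- MC3 -/
theorem MC.not_fixN_le (mc : MC p A K) (hN : MinN K N) :
    ¬ (N ⊓ Subgroup.centralizer (A : Set G) ≤ DD A K) := by sorry

/-! ## Case 1: `A` centralises `N` -/

/-- C1A -/
theorem c1_central (mc : MC p A K) (hN : MinN K N) (h1 : N ≤ Subgroup.centralizer (A : Set G)) :
    N ≤ Subgroup.centralizer (K : Set G) := by sorry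

/-- C1A -/
theorem c1_card (mc : MC p A K) (hN : MinN K N) (h1 : N ≤ Subgroup.centralizer (A : Set G)) :
    (Nat.card N).Prime := by sorry

/-- C1B -/
theorem c1_le_comm (mc : MC p A K) (hN : MinN K N) (h1 : N ≤ Subgroup.centralizer (A : Set G)) :
    N ≤ ⁅K, K⁆ := by sorry

/-- C1C -/
theorem c1_inf_DD (mc : MC p A K) (hN : MinN K N) (h1 : N ≤ Subgroup.centralizer (A : Set G)) :
    N ⊓ DD A K = ⊥ := by sorry

/-- C1D -/
theorem c1_split (mc : MC p A K) (hN : MinN K N) (h1 : N ≤ Subgroup.centralizer (A : Set G))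
    {X : Subgroup G} (hXK : X ≤ K) (hne : X ≠ K) (hAX : A ≤ Subgroup.normalizer (X : Set G))
    (hNX : N ≤ X) : N ⊓ X0 A K X = ⊥ ∧ N ⊔ X0 A K X = X := by sorry

/-- TR (general transfer lemma) -/
theorem center_inf_commutator_inf_sylow_le {H : Type*} [Group H] [Finite H] (r : ℕ) [Fact r.Prime]
    (P : Sylow r H) :
    Subgroup.center H ⊓ commutator H ⊓ (P : Subgroup H) ≤
      (commutator ↥(P : Subgroup H)).map (P : Subgroup H).subtype := by sorry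

/-- C1E -/
theorem c1_pgroup (mc : MC p A K) (hN : MinN K N) (h1 : N ≤ Subgroup.centralizer (A : Set G)) :
    IsPGroup (Nat.card N) K := by sorry

/-- C1F -/
theorem c1_Xh_ne (mc : MC p A K) (hN : MinN K N) (h1 : N ≤ Subgroup.centralizer (A : Set G))
    {h : G} (hh : h ∈ K) :
    Subgroup.closure {g : G | ∃ a ∈ A, g = a * h * a⁻¹} ⊔ Phi K ≠ K := by sorry

/-- C1G -/
theorem c1_Phi0_normal (mc : MC p A K) (hN : MinN K N) (h1 : N ≤ Subgroup.centralizer (A : Set G)) :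
    (X0 A K (Phi K)).Normal := by sorry

/-- C1G -/
theorem c1_comm_mem (mc : MC p A K) (hN : MinN K N) (h1 : N ≤ Subgroup.centralizer (A : Set G))
    {h : G} (hh : h ∈ K) {a : G} (ha : a ∈ A) : h * (a * h * a⁻¹) * h⁻¹ * (a * h * a⁻¹)⁻¹ ∈ X0 A K (Phi K) := by sorry

/-- C1H -/
theorem c1_fix_mod_Phi (mc : MC p A K) (hN : MinN K N) (h1 : N ≤ Subgroup.centralizer (A : Set G))
    {t : G} (ht : t ∈ K)
    (h : ∀ a ∈ A, t⁻¹ * (a * t * a⁻¹) ∈ Phi K) : t ∈ Phi K := by sorry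

/-- POL (polarisation; needs `p` odd).  In `G/Z0`: `Z/Z0` is central in `K/Z0` and centralised by `A`,
`K/Z` is abelian without `A`-fixed points, and `h` commutes with all its `A`-conjugates mod `Z0`. -/
theorem pol_rel (hp : p ≠ 2) (hA : Nat.card A = p) (hAK : A ≤ Subgroup.normalizer (K : Set G))
    (Z Z0 : Subgroup G) (hZ0n : Z0.Normal) (hZ0Z : Z0 ≤ Z) (hZK : Z ≤ K)
    (hZA : A ≤ Subgroup.normalizer (Z : Set G)) (hcen : ⁅Z, K⁆ ≤ Z0) (hZfix : ⁅Z, A⁆ ≤ Z0)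
    (hab : ⁅K, K⁆ ≤ Z)
    (hfix : ∀ t ∈ K, (∀ a ∈ A, t⁻¹ * (a * t * a⁻¹) ∈ Z) → t ∈ Z)
    (hcomm : ∀ h ∈ K, ∀ a ∈ A, h * (a * h * a⁻¹) * h⁻¹ * (a * h * a⁻¹)⁻¹ ∈ Z0) : ⁅K, K⁆ ≤ Z0 := by sorry

/-- PHI -/
theorem Phi_le (K : Subgroup G) : Phi K ≤ K := by sorry

/-- PHI -/
theorem Phi_normalizer_le (K : Subgroup G) :
    Subgroup.normalizer (K : Set G) ≤ Subgroup.normalizer (Phi K : Set G) := by sorry

/-- PHI -/
theorem Phi_ne (hK : K ≠ ⊥) : Phi K ≠ K := by sorry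

/-- PHI -/
theorem comm_le_Phi {r : ℕ} (hr : r.Prime) (hK : IsPGroup r K) : ⁅K, K⁆ ≤ Phi K := by sorry

/-- C1G -/
theorem c1_cen (mc : MC p A K) (hN : MinN K N) (h1 : N ≤ Subgroup.centralizer (A : Set G)) :
    ⁅Phi K, K⁆ ≤ X0 A K (Phi K) := by sorry

/-! ## Case 2: `A` does not centralise `N` -/

/-- C2A -/
theorem c2_comm_fix (mc : MC p A K) (hN : MinN K N) :
    ⁅K ⊓ Subgroup.centralizer (A : Set G), K ⊓ Subgroup.centralizer (A : Set G)⁆ ≤ DD A K := by sorry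

/-- C2A -/
theorem c2_Kth_ne (mc : MC p A K) (hN : MinN K N) : Kth A K N ≠ N := by sorry

/-- C2B -/
theorem c2_cyclic (mc : MC p A K) (hN : MinN K N) (h2 : ¬ N ≤ Subgroup.centralizer (A : Set G)) :
    ∃ k ∈ K, cA A k ⊔ N = K := by sorry

/-- C2C -/
theorem c2_compl (mc : MC p A K) (hN : MinN K N) {k : G} (hk : k ∈ K) (hkN : cA A k ⊔ N = K) :
    cA A k ⊓ N = ⊥ := by sorry

/-- C2D -/
theorem c2_cent (mc : MC p A K) (hN : MinN K N) (h2 : ¬ N ≤ Subgroup.centralizer (A : Set G))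
    {k : G} (hk : k ∈ K) (hkN : cA A k ⊔ N = K) :
    N ⊓ Subgroup.centralizer (cA A k : Set G) = ⊥ := by sorry

/-- C2E -/
theorem c2_theta_inv (mc : MC p A K) (hN : MinN K N) (h2 : ¬ N ≤ Subgroup.centralizer (A : Set G))
    {k : G} (hk : k ∈ K) (hkN : cA A k ⊔ N = K)
    {K1 : Subgroup G} (h1 : K1 ≤ cA A k) (hne : K1 ≠ cA A k)
    (hA1 : A ≤ Subgroup.normalizer (K1 : Set G)) {y : G} (hy : y ∈ K1) {n : G} (hn : n ∈ N) :
    n⁻¹ * (y⁻¹ * n * y) ∈ Kth A K N := by sorry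

/-- C2F -/
theorem c2_Y0 (mc : MC p A K) (hN : MinN K N) (h2 : ¬ N ≤ Subgroup.centralizer (A : Set G))
    {k : G} (hk : k ∈ K) (hkN : cA A k ⊔ N = K) :
    ∃ Y0 : Subgroup G, Y0 ≤ cA A k ∧ Y0 ≠ cA A k ∧ A ≤ Subgroup.normalizer (Y0 : Set G) ∧
      ∀ K1 : Subgroup G, K1 ≤ cA A k → K1 ≠ cA A k → A ≤ Subgroup.normalizer (K1 : Set G) →
        K1 ≤ Y0 := by sorry

/-- C2G (uses S4381) -/
theorem c2_pgroup (mc : MC p A K) (hN : MinN K N) (h2 : ¬ N ≤ Subgroup.centralizer (A : Set G))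
    {k : G} (hk : k ∈ K) (hkN : cA A k ⊔ N = K) :
    (∃ s : ℕ, s.Prime ∧ IsPGroup s (cA A k)) ∧
      ∀ K1 : Subgroup G, K1 ≤ cA A k → K1 ≠ cA A k → A ≤ Subgroup.normalizer (K1 : Set G) →
        K1 ≤ Phi (cA A k) := by sorry

/-- C2G2 -/
theorem c2_coprime (mc : MC p A K) (hN : MinN K N) (h2 : ¬ N ≤ Subgroup.centralizer (A : Set G))
    {k : G} (hk : k ∈ K) (hkN : cA A k ⊔ N = K) :
    (Nat.card (cA A k)).Coprime (Nat.card N) := by sorry

/-- C2H -/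
theorem c2_Phi_cent (mc : MC p A K) (hN : MinN K N) (h2 : ¬ N ≤ Subgroup.centralizer (A : Set G))
    {k : G} (hk : k ∈ K) (hkN : cA A k ⊔ N = K) :
    Phi (cA A k) ≤ Subgroup.centralizer (N : Set G) := by sorry

/-- C2H2 -/
theorem c2_Phi_bot (mc : MC p A K) (hN : MinN K N) (h2 : ¬ N ≤ Subgroup.centralizer (A : Set G))
    {k : G} (hk : k ∈ K) (hkN : cA A k ⊔ N = K) : Phi (cA A k) = ⊥ := by sorry

/-- C2J -/
theorem c2_abelian {s : ℕ} (hs : s.Prime) {W : Subgroup G} (hW : IsPGroup s W) (hΦ : Phi W = ⊥) :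
    ∀ x ∈ W, ∀ y ∈ W, x * y = y * x := by sorry

/-- C2I -/
theorem c2_count (mc : MC p A K) (hN : MinN K N) (h2 : ¬ N ≤ Subgroup.centralizer (A : Set G))
    {k : G} (hk : k ∈ K) (hkN : cA A k ⊔ N = K)
    (hmax : ∀ K1 : Subgroup G, K1 ≤ cA A k → K1 ≠ cA A k →
      A ≤ Subgroup.normalizer (K1 : Set G) → K1 = ⊥)
    (hcop : (Nat.card (cA A k)).Coprime (Nat.card N)) :
    Nat.card N ≤ Nat.card ↥(N ⊓ Subgroup.centralizer (A : Set G)) ^ 2 := by sorry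

/-- FREE (bridge to `Helper23` `free_main`) -/
theorem free_count (hA : Nat.card A = p) (W N : Subgroup G)
    (hWab : ∀ x ∈ W, ∀ y ∈ W, x * y = y * x) (hAW : A ≤ Subgroup.normalizer (W : Set G))
    (hWN : W ≤ Subgroup.normalizer (N : Set G)) (hAN : A ≤ Subgroup.normalizer (N : Set G))
    (hNab : ∀ m ∈ N, ∀ n ∈ N, m * n = n * m) (r : ℕ) (hr : r.Prime) (hNr : ∀ n ∈ N, n ^ r = 1)
    (hrW : (Nat.card W).Coprime r) (hWfix : W ⊓ Subgroup.centralizer (A : Set G) = ⊥)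
    (hNW : N ⊓ Subgroup.centralizer (W : Set G) = ⊥) :
    Nat.card ↥(N ⊓ Subgroup.centralizer (A : Set G)) ^ p = Nat.card N := by sorry

end Cfsg.Agent.S3816P
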