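import Mathlib
import Cfsg.Agent.Helper1.Wielandt

/-!
Reduction of S3927 (`[G,α] = G` implies the iterated commutator values generate `G`)
to Flavell's theorem (S3947), taken here as a hypothesis `hFl`.
-/

set_option autoImplicit false

namespace Cfsg.Agent.Helper13.S3927Red

open Pointwise
open Cfsg.Agent.Helper1

universe u

section iterate

variable {α : Type*}

theorem range_iterate_succ_eq_image (f : α → α) (k : ℕ) :
    Set.range (f^[k+1]) = f '' Set.range (f^[k]) := by
  ext x
  simp only [Set.mem_range, Set.mem_image]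
  constructor
  · rintro ⟨y, rfl⟩
    exact ⟨f^[k] y, ⟨y, rfl⟩, (Function.iterate_succ_apply' f k y).symm⟩
  · rintro ⟨_, ⟨y, rfl⟩, rfl⟩
    exact ⟨y, Function.iterate_succ_apply' f k y⟩

theorem range_iterate_add_subset (f : α → α) (k j : ℕ) :
    Set.range (f^[k + j]) ⊆ Set.range (f^[k]) := by
  rintro _ ⟨y, rfl⟩
  exact ⟨f^[j] y, (Function.iterate_add_apply f k j y).symm⟩

theorem range_iterate_stable (f : α → α) (N : ℕ)
    (h : Set.range (f^[N+1]) = Set.range (f^[N])) :
    ∀ j, Set.range (f^[N + j]) = Set.range (f^[N]) := by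
  intro j
  induction j with
  | zero => rfl
  | succ j ih =>
    have e : N + (j+1) = (N + j) + 1 := by ring
    rw [e, range_iterate_succ_eq_image, ih, ← range_iterate_succ_eq_image, h]

theorem exists_range_iterate_stable [Finite α] (f : α → α) :
    ∃ N, Set.range (f^[N+1]) = Set.range (f^[N]) := by
  by_contra hcon
  have hcon' : ∀ N, Set.range (f^[N+1]) ≠ Set.range (f^[N]) := by
    intro N h
    exact hcon ⟨N, h⟩
  have hlt : ∀ N, (Set.range (f^[N+1])).ncard < (Set.range (f^[N])).ncard := by
    intro N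
    apply Set.ncard_lt_ncard _ (Set.toFinite _)
    exact ssubset_of_subset_of_ne (range_iterate_add_subset f N 1) (hcon' N)
  have hbound : ∀ N, (Set.range (f^[N])).ncard + N ≤ (Set.range (f^[0])).ncard := by
    intro N
    induction N with
    | zero => simp
    | succ N ih => have := hlt N; omega
  have := hbound ((Set.range (f^[0])).ncard + 1)
  omega

end iterate

section group

variable {Γ : Type*} [Group Γ]

/-- the map `c ↦ c a c⁻¹`. -/
def psi (a c : Γ) : Γ := c * a * c⁻¹

theorem psi_self (a : Γ) : psi a a = a := by simp [psi]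

theorem coe_psi_iterate {H : Subgroup Γ} (a : Γ) (ha : a ∈ H) (k : ℕ) (c : H) :
    (((psi (⟨a, ha⟩ : H))^[k] c : H) : Γ) = (psi a)^[k] (c : Γ) := by
  induction k generalizing c with
  | zero => rfl
  | succ k ih =>
    rw [Function.iterate_succ_apply, Function.iterate_succ_apply, ih]
    rfl

theorem le_closure_of_sub {H : Subgroup Γ} (a : Γ) (ha : a ∈ H) (k : ℕ)
    (h : Subgroup.closure (Set.range ((psi (⟨a, ha⟩ : H))^[k])) = ⊤) :
    H ≤ Subgroup.closure (Set.range ((psi a)^[k])) := by
  have h1 : (Subgroup.closure (Set.range ((psi (⟨a, ha⟩ : H))^[k]))).map H.subtype = H := by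
    rw [h, ← MonoidHom.range_eq_map, Subgroup.range_subtype]
  rw [← h1, MonoidHom.map_closure]
  apply Subgroup.closure_mono
  rintro _ ⟨_, ⟨c, rfl⟩, rfl⟩
  exact ⟨(c : Γ), (coe_psi_iterate a ha k c).symm⟩

theorem isCoatom_conj_smul {M : Subgroup Γ} (hM : IsCoatom M) (c : Γ) :
    IsCoatom (MulAut.conj c • M) := by
  have := (OrderIso.isCoatom_iff (MulAut.conj c).mapSubgroup M).mpr hM
  exact this

end group

/-- The reduction: Flavell's theorem implies that the stable image of `ψ_a` generates. -/
theorem main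
    (hFl : ∀ (Δ : Type u) [Group Δ] [Finite Δ] (A : Subgroup Δ),
      Subgroup.normalClosure (A : Set Δ) = ⊤ → A ≠ ⊤ →
      (sSup {H : Subgroup Δ | A ≤ H ∧ H ≠ ⊤ ∧
          Subgroup.normalClosure ((A.subgroupOf H : Subgroup ↥H) : Set ↥H) = ⊤} = ⊤ ∨
        ∃! M : Subgroup Δ, IsCoatom M ∧ A ≤ M)) :
    ∀ (n : ℕ) (Γ : Type u) [Group Γ] [Finite Γ], Nat.card Γ = n → ∀ a : Γ,
      Subgroup.normalClosure ({a} : Set Γ) = ⊤ →
      ∀ k, Subgroup.closure (Set.range ((psi a)^[k])) = ⊤ := by
  intro n
  induction n using Nat.strong_induction_on with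
  | _ n ih =>
  intro Γ _ _ hn a hnc k
  obtain ⟨N, hN⟩ := exists_range_iterate_stable (psi a)
  have hstab := range_iterate_stable (psi a) N hN
  suffices hB : Subgroup.closure (Set.range ((psi a)^[N])) = ⊤ by
    rw [eq_top_iff, ← hB]
    apply Subgroup.closure_mono
    rw [← hstab k, add_comm]
    exact range_iterate_add_subset (psi a) k N
  by_contra hBne
  set B : Subgroup Γ := Subgroup.closure (Set.range ((psi a)^[N])) with hBdef
  have hTB : Set.range ((psi a)^[N]) ⊆ B := Subgroup.subset_closure
  have haT : a ∈ Set.range ((psi a)^[N]) := ⟨a, Function.iterate_fixed (psi_self a) N⟩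
  have haB : a ∈ B := hTB haT
  -- IH for proper subgroups
  have ihsub : ∀ X : Subgroup Γ, X ≠ ⊤ → ∀ ha : a ∈ X,
      Subgroup.normalClosure ({⟨a, ha⟩} : Set X) = ⊤ → X ≤ B := by
    intro X hX ha hncX
    have hcard : Nat.card X < n := by
      rw [← hn, ← Subgroup.card_top (G := Γ)]
      exact card_lt_of_lt' (lt_top_iff_ne_top.mpr hX)
    exact le_closure_of_sub a ha N (ih (Nat.card X) hcard X rfl ⟨a, ha⟩ hncX N)
  -- apply Flavell to A = ⟨a⟩
  set A : Subgroup Γ := Subgroup.zpowers a with hAdef
  have hAB : A ≤ B := (Subgroup.zpowers_le).mpr haB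
  have hA1 : Subgroup.normalClosure (A : Set Γ) = ⊤ := by
    rw [eq_top_iff, ← hnc]
    apply Subgroup.normalClosure_mono
    rw [Set.singleton_subset_iff]
    exact Subgroup.mem_zpowers a
  have hA2 : A ≠ ⊤ := by
    intro h
    apply hBne
    rw [eq_top_iff, ← h]
    exact hAB
  rcases hFl Γ A hA1 hA2 with hY | ⟨M, ⟨hMco, hAM⟩, hMuniq⟩
  · -- the join of the family is inside B
    apply hBne
    rw [eq_top_iff, ← hY]
    apply sSup_le
    rintro H ⟨hAH, hHtop, hHnc⟩
    have ha : a ∈ H := hAH (Subgroup.mem_zpowers a)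
    apply ihsub H hHtop ha
    rw [eq_top_iff, ← hHnc]
    apply Subgroup.normalClosure_le_normal
    intro y hy
    have hy' : (y : Γ) ∈ Subgroup.zpowers a := hy
    obtain ⟨i, hi⟩ := Subgroup.mem_zpowers_iff.mp hy'
    have hyi : y = (⟨a, ha⟩ : H) ^ i := by
      apply Subtype.ext
      rw [Subgroup.coe_zpow]
      exact hi.symm
    rw [hyi]
    exact Subgroup.zpow_mem _ (Subgroup.subset_normalClosure (Set.mem_singleton _)) i
  · -- unique maximal subgroup M containing a
    have hBM : B ≤ M := by
      obtain ⟨M', hM', hBM'⟩ := exists_maxIn (H := (⊤ : Subgroup Γ)) _ B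
        (lt_top_iff_ne_top.mpr hBne) rfl
      have hM'co : IsCoatom M' := ⟨hM'.1.ne, fun K hK => hM'.2 K hK le_top⟩
      have := hMuniq M' ⟨hM'co, hAB.trans hBM'⟩
      rw [← this]
      exact hBM'
    have hMnn : ¬ M.Normal := by
      intro hMn
      apply hMco.1
      rw [eq_top_iff, ← hnc]
      apply Subgroup.normalClosure_le_normal
      rw [Set.singleton_subset_iff]
      exact hAM (Subgroup.mem_zpowers a)
    have hNM : Subgroup.normalizer (M : Set Γ) = M := by
      by_contra hne
      have hlt : M < Subgroup.normalizer (M : Set Γ) :=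
        lt_of_le_of_ne Subgroup.le_normalizer (Ne.symm hne)
      have := hMco.2 _ hlt
      exact hMnn (Subgroup.normalizer_eq_top_iff.mp this)
    have hstep : ∀ c : Γ, psi a c ∈ M → c ∈ M := by
      intro c hc
      have hco : IsCoatom (MulAut.conj c⁻¹ • M) := isCoatom_conj_smul hMco c⁻¹
      have haM' : a ∈ MulAut.conj c⁻¹ • M := by
        rw [mem_conj_smul_iff]
        simpa [psi] using hc
      have hAM' : A ≤ MulAut.conj c⁻¹ • M := (Subgroup.zpowers_le).mpr haM'
      have heq := hMuniq _ ⟨hco, hAM'⟩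
      have hmem : c⁻¹ ∈ Subgroup.normalizer (M : Set Γ) := (conj_smul_eq_self_iff c⁻¹ M).mp heq
      rw [hNM] at hmem
      exact (Subgroup.inv_mem_iff M).mp hmem
    have hall : ∀ j, ∀ c : Γ, (psi a)^[j] c ∈ M → c ∈ M := by
      intro j
      induction j with
      | zero => intro c hc; exact hc
      | succ j ihj =>
        intro c hc
        rw [Function.iterate_succ_apply] at hc
        exact hstep c (ihj _ hc)
    apply hMco.1
    rw [eq_top_iff]
    intro c _
    exact hall N c (hBM (hTB ⟨c, rfl⟩))


section semidirect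

variable {G : Type u} [Group G]

/-- the commutator map `c ↦ c α(c)⁻¹`. -/
def fmap (α : MulAut G) (c : G) : G := c * (α c)⁻¹

/-- the semidirect product `G ⋊ ⟨α⟩`. -/
abbrev Gam (α : MulAut G) : Type u :=
  G ⋊[(Subgroup.zpowers α).subtype] (Subgroup.zpowers α)

/-- the element `α` of `G ⋊ ⟨α⟩`. -/
def aelt (α : MulAut G) : Gam α := SemidirectProduct.inr ⟨α, Subgroup.mem_zpowers α⟩

theorem commute_of_mem_zpowers (α : MulAut G) (z : Subgroup.zpowers α) :
    (z : MulAut G) * α = α * (z : MulAut G) := by
  obtain ⟨i, hi⟩ := Subgroup.mem_zpowers_iff.mp z.2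
  rw [← hi]
  exact ((Commute.refl α).zpow_left i).eq

theorem psi_aelt (α : MulAut G) (γ : Gam α) :
    psi (aelt α) γ = SemidirectProduct.inl (fmap α γ.left) * aelt α := by
  have hc := commute_of_mem_zpowers α γ.right
  apply SemidirectProduct.ext
  · simp only [psi, aelt, fmap, SemidirectProduct.mul_left, SemidirectProduct.mul_right,
      SemidirectProduct.inv_left, SemidirectProduct.left_inr, SemidirectProduct.right_inr,
      SemidirectProduct.left_inl, SemidirectProduct.right_inl, map_one, mul_one,
      Subgroup.coe_subtype, Subgroup.coe_mul, MulAut.mul_apply, map_inv]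
    congr 1
    have h2 : ((γ.right : MulAut G) * α * (γ.right : MulAut G)⁻¹) γ.left = α γ.left := by
      rw [hc, mul_inv_cancel_right]
    simpa [MulAut.mul_apply] using congrArg (fun x => x⁻¹) h2
  · simp only [psi, aelt, SemidirectProduct.mul_right, SemidirectProduct.inv_right,
      SemidirectProduct.right_inr, SemidirectProduct.right_inl, one_mul]
    apply Subtype.ext
    simp only [Subgroup.coe_mul, Subgroup.coe_inv]
    rw [hc, mul_inv_cancel_right]

theorem left_psi_iterate (α : MulAut G) (k : ℕ) (γ : Gam α) :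
    ((psi (aelt α))^[k] γ).left = (fmap α)^[k] γ.left := by
  induction k with
  | zero => rfl
  | succ k ih =>
    rw [Function.iterate_succ_apply', Function.iterate_succ_apply', psi_aelt, ih]
    simp [aelt, SemidirectProduct.mul_left]

instance finite_Gam [Finite G] (α : MulAut G) : Finite (Gam α) := by
  have : Finite (MulAut G) := Finite.of_injective (fun e : MulAut G => (e : G → G))
    DFunLike.coe_injective
  exact Finite.of_equiv _ SemidirectProduct.equivProd.symm

theorem fmap_comm (α : MulAut G) (z : Subgroup.zpowers α) (c : G) :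
    (z : MulAut G) (fmap α c) = fmap α ((z : MulAut G) c) := by
  have hc := commute_of_mem_zpowers α z
  have h2 : (z : MulAut G) (α c) = α ((z : MulAut G) c) := by
    have := congrArg (fun e : MulAut G => e c) hc
    simpa [MulAut.mul_apply] using this
  simp only [fmap, map_mul, map_inv, h2]

theorem fmap_iterate_comm (α : MulAut G) (z : Subgroup.zpowers α) (k : ℕ) (c : G) :
    (z : MulAut G) ((fmap α)^[k] c) = (fmap α)^[k] ((z : MulAut G) c) := by
  induction k generalizing c with
  | zero => rfl
  | succ k ih =>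
    rw [Function.iterate_succ_apply, Function.iterate_succ_apply, ih, fmap_comm]

theorem normalClosure_aelt (α : MulAut G)
    (hG : Subgroup.closure (Set.range (fmap α)) = ⊤) :
    Subgroup.normalClosure ({aelt α} : Set (Gam α)) = ⊤ := by
  set C := Subgroup.normalClosure ({aelt α} : Set (Gam α)) with hC
  have haC : aelt α ∈ C := Subgroup.subset_normalClosure (Set.mem_singleton _)
  have hinl : ∀ g : G, (SemidirectProduct.inl g : Gam α) ∈ C := by
    have hle : Subgroup.closure (Set.range (fmap α)) ≤ C.comap SemidirectProduct.inl := by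
      rw [Subgroup.closure_le]
      rintro _ ⟨g, rfl⟩
      show (SemidirectProduct.inl (fmap α g) : Gam α) ∈ C
      have h1 : psi (aelt α) (SemidirectProduct.inl g) ∈ C :=
        Subgroup.normalClosure_normal.conj_mem _ haC _
      rw [psi_aelt] at h1
      have h2 := C.mul_mem h1 (C.inv_mem haC)
      simpa using h2
    intro g
    have : g ∈ Subgroup.closure (Set.range (fmap α)) := by rw [hG]; trivial
    exact hle this
  have hinr : ∀ z : Subgroup.zpowers α, (SemidirectProduct.inr z : Gam α) ∈ C := by
    intro z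
    obtain ⟨i, hi⟩ := Subgroup.mem_zpowers_iff.mp z.2
    have hz : z = (⟨α, Subgroup.mem_zpowers α⟩ : Subgroup.zpowers α) ^ i := by
      apply Subtype.ext
      rw [Subgroup.coe_zpow]
      exact hi.symm
    rw [hz, map_zpow]
    exact C.zpow_mem haC i
  rw [eq_top_iff]
  intro γ _
  rw [← SemidirectProduct.inl_left_mul_inr_right γ]
  exact C.mul_mem (hinl _) (hinr _)

/-- S3927 from Flavell's theorem. -/
theorem s3927_of_flavell
    (hFl : ∀ (Δ : Type u) [Group Δ] [Finite Δ] (A : Subgroup Δ),
      Subgroup.normalClosure (A : Set Δ) = ⊤ → A ≠ ⊤ →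
      (sSup {H : Subgroup Δ | A ≤ H ∧ H ≠ ⊤ ∧
          Subgroup.normalClosure ((A.subgroupOf H : Subgroup ↥H) : Set ↥H) = ⊤} = ⊤ ∨
        ∃! M : Subgroup Δ, IsCoatom M ∧ A ≤ M))
    [Finite G] (α : MulAut G)
    (hG : Subgroup.closure (Set.range (fun c : G => c * (α c)⁻¹)) = ⊤) (k : ℕ) :
    Subgroup.closure (Set.range ((fun c : G => c * (α c)⁻¹)^[k])) = ⊤ := by
  change Subgroup.closure (Set.range (fmap α)) = ⊤ at hG
  change Subgroup.closure (Set.range ((fmap α)^[k])) = ⊤
  have hmain := main hFl _ (Gam α) rfl (aelt α) (normalClosure_aelt α hG) k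
  set N := Subgroup.closure (Set.range ((fmap α)^[k])) with hN
  have hinv : ∀ z : Subgroup.zpowers α, ∀ x ∈ N, (z : MulAut G) x ∈ N := by
    intro z x hx
    induction hx using Subgroup.closure_induction with
    | mem y hy =>
      obtain ⟨c, rfl⟩ := hy
      rw [fmap_iterate_comm]
      exact Subgroup.subset_closure ⟨_, rfl⟩
    | one => rw [map_one]; exact N.one_mem
    | mul x y _ _ hx hy => rw [map_mul]; exact N.mul_mem hx hy
    | inv x _ hx => rw [map_inv]; exact N.inv_mem hx
  let S : Subgroup (Gam α) :=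
    { carrier := {γ | γ.left ∈ N}
      one_mem' := N.one_mem
      mul_mem' := by
        intro x y hx hy
        show (x * y).left ∈ N
        rw [SemidirectProduct.mul_left]
        exact N.mul_mem hx (hinv x.right _ hy)
      inv_mem' := by
        intro x hx
        show (x⁻¹).left ∈ N
        rw [SemidirectProduct.inv_left]
        exact hinv (x.right⁻¹) _ (N.inv_mem hx) }
  have hS : Subgroup.closure (Set.range ((psi (aelt α))^[k])) ≤ S := by
    rw [Subgroup.closure_le]
    rintro _ ⟨γ, rfl⟩
    show ((psi (aelt α))^[k] γ).left ∈ N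
    rw [left_psi_iterate]
    exact Subgroup.subset_closure ⟨_, rfl⟩
  rw [hmain] at hS
  rw [eq_top_iff]
  intro g _
  have : (SemidirectProduct.inl g : Gam α) ∈ S := hS trivial
  exact this

end semidirect

end Cfsg.Agent.Helper13.S3927Red
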