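import Mathlib
import Cfsg.Agent.Helper27.S4150Defs

/-!
# S4150 piece SIXIDX: a proper subgroup of `A₆` has order at most 60
-/

set_option autoImplicit false

namespace Cfsg.Agent.S4150P

open Equiv Equiv.Perm MulAction

section
variable {α : Type*} [Fintype α] [DecidableEq α]

/-- SIXIDX [M]: a proper subgroup of `A₆` has order at most 60 (`alternatingGroup.isSimpleGroup`;
the action on the cosets is faithful, so `360 ∣ (index)!`, index `≥ 6`). -/
theorem SIXIDX.main (hα : Fintype.card α = 6) (H : Subgroup (Perm α))
    (hHA : H ≤ alternatingGroup α) (hne : ¬ alternatingGroup α ≤ H) : Nat.card H ≤ 60 := by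
  classical
  have : IsSimpleGroup (alternatingGroup α) :=
    alternatingGroup.isSimpleGroup (by rw [Nat.card_eq_fintype_card, hα]; norm_num)
  set K : Subgroup (alternatingGroup α) := H.subgroupOf (alternatingGroup α) with hKdef
  have hK : K ≠ ⊤ := by
    intro h
    exact hne (Subgroup.subgroupOf_eq_top.mp h)
  have hcard : Nat.card K = Nat.card H :=
    Nat.card_congr (Subgroup.subgroupOfEquivOfLe hHA).toEquiv
  have hA : Nat.card (alternatingGroup α) = 360 := by
    have : Nontrivial α := Fintype.one_lt_card_iff_nontrivial.mp (by rw [hα]; norm_num)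
    have h2 := two_mul_nat_card_alternatingGroup (α := α)
    rw [Nat.card_perm, Nat.card_eq_fintype_card (α := α), hα] at h2
    have h720 : (6 : ℕ).factorial = 720 := by decide
    rw [h720] at h2
    omega
  -- the action on the cosets is faithful
  have hker : (MulAction.toPermHom (alternatingGroup α) (alternatingGroup α ⧸ K)).ker = ⊥ := by
    have hn : ((MulAction.toPermHom (alternatingGroup α) (alternatingGroup α ⧸ K)).ker).Normal :=
      inferInstance
    rcases hn.eq_bot_or_eq_top with h | h
    · exact h
    · exfalso
      apply hK
      rw [eq_top_iff]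
      intro x _
      have hx : x ∈ (MulAction.toPermHom (alternatingGroup α) (alternatingGroup α ⧸ K)).ker := by
        rw [h]; trivial
      rw [MonoidHom.mem_ker] at hx
      have h1 := congrArg (fun σ : Perm (alternatingGroup α ⧸ K) => σ ((1 : alternatingGroup α) : alternatingGroup α ⧸ K)) hx
      simp only [MulAction.toPermHom_apply, MulAction.toPerm_apply, Perm.coe_one, id_eq] at h1
      have h2 : ((x * 1 : alternatingGroup α) : alternatingGroup α ⧸ K) = ((1 : alternatingGroup α) : alternatingGroup α ⧸ K) := h1
      rw [mul_one, QuotientGroup.eq] at h2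
      simpa using K.inv_mem h2
  have hinj : Function.Injective (MulAction.toPermHom (alternatingGroup α) (alternatingGroup α ⧸ K)) :=
    (MonoidHom.ker_eq_bot_iff _).mp hker
  have hdvd : Nat.card (alternatingGroup α) ∣ Nat.card (Perm (alternatingGroup α ⧸ K)) :=
    Subgroup.card_dvd_of_injective _ hinj
  rw [hA, Nat.card_perm] at hdvd
  have hidx : Nat.card (alternatingGroup α ⧸ K) = K.index := rfl
  rw [hidx] at hdvd
  have hmul : Nat.card K * K.index = 360 := by
    rw [← hA]; exact K.card_mul_index
  have h6 : 6 ≤ K.index := by
    by_contra hlt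
    push Not at hlt
    have h5 : K.index ≤ 5 := by omega
    have : (K.index).factorial ∣ (5 : ℕ).factorial := Nat.factorial_dvd_factorial h5
    have h120 : (5 : ℕ).factorial = 120 := by decide
    rw [h120] at this
    have : 360 ∣ 120 := dvd_trans hdvd this
    omega
  rw [← hcard]
  nlinarith
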