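import Mathlib
import Cfsg.Agent.Helper26.S4394Defs
import Cfsg.Agent.Helper14.PCore
import Cfsg.Agent.Helper23.HallHigman

set_option autoImplicit false

/-! S4394, piece C2a: in case (ii), `Q = O_p(G)` is elementary abelian and self-centralizing. -/

namespace Cfsg.Agent.S4394P

open Cfsg

/-- C2a (M): in case (ii), `Q = O_p(G)` is elementary abelian and self-centralizing, `Z ≤ Q ≤ T`. -/
theorem C2a {G : Type*} [Group G] [Finite G] {p : ℕ} [Fact p.Prime] (hsol : Cfsg.IsPSolvable p G)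
    (hO : Cfsg.pPrimeCore p G = ⊥) (T : Sylow p G) (Z : Subgroup ↥(T : Subgroup G))
    (hZ : GoodZ p ↥(T : Subgroup G) Z)
    (hii : ∀ N₀ : Subgroup G, N₀.Normal → N₀ ≤ Z.map (T : Subgroup G).subtype → N₀ = ⊥) :
    Cfsg.pCore p G ≤ (T : Subgroup G) ∧ Z.map (T : Subgroup G).subtype ≤ Cfsg.pCore p G ∧
    Cfsg.IsElementaryAbelian p (Cfsg.pCore p G) ∧
    Subgroup.centralizer (Cfsg.pCore p G : Set G) = Cfsg.pCore p G := by
  obtain ⟨hG1, hG2, hG3, -, -⟩ := hZ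
  set Q := Cfsg.pCore p G with hQ
  have hQn : Q.Normal := Cfsg.Agent.Helper14.pCore_normal p
  have hQT : Q ≤ (T : Subgroup G) := Cfsg.Agent.Helper14.pCore_le_sylow p T
  have hCQ : Subgroup.centralizer (Q : Set G) ≤ Q :=
    Cfsg.Agent.Helper23.centralizer_pCore_le_of_isPSolvable hsol hO
  have hZC : Z.map (T : Subgroup G).subtype ≤ Subgroup.centralizer (Q : Set G) := by
    rintro _ ⟨z, hz, rfl⟩
    rw [Subgroup.mem_centralizer_iff]
    intro q hq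
    have hzc := hG1 hz
    rw [Subgroup.mem_center_iff] at hzc
    have := hzc ⟨q, hQT hq⟩
    exact congrArg Subtype.val this
  have hZQ : Z.map (T : Subgroup G).subtype ≤ Q := hZC.trans hCQ
  -- the normal subgroup generated by the p-th powers and commutators of Q
  set S : Set G := {s | (∃ x ∈ Q, s = x ^ p) ∨ ∃ x ∈ Q, ∃ y ∈ Q, s = x * y * x⁻¹ * y⁻¹} with hS
  have hSZ : ∀ s ∈ S, s ∈ Z.map (T : Subgroup G).subtype := by
    rintro s (⟨x, hx, rfl⟩ | ⟨x, hx, y, hy, rfl⟩)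
    · exact ⟨⟨x, hQT hx⟩ ^ p, hG3 _, rfl⟩
    · exact ⟨⟨x, hQT hx⟩ * ⟨y, hQT hy⟩ * (⟨x, hQT hx⟩ : ↥(T : Subgroup G))⁻¹
        * (⟨y, hQT hy⟩ : ↥(T : Subgroup G))⁻¹, hG2 _ _, rfl⟩
  have hSconj : ∀ s ∈ S, ∀ g : G, g * s * g⁻¹ ∈ S := by
    rintro s (⟨x, hx, rfl⟩ | ⟨x, hx, y, hy, rfl⟩) g
    · left
      refine ⟨g * x * g⁻¹, hQn.conj_mem x hx g, ?_⟩
      rw [conj_pow]
    · right
      refine ⟨g * x * g⁻¹, hQn.conj_mem x hx g, g * y * g⁻¹, hQn.conj_mem y hy g, ?_⟩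
      group
  have hM : Subgroup.normalClosure S ≤ Z.map (T : Subgroup G).subtype := by
    unfold Subgroup.normalClosure
    rw [Subgroup.closure_le]
    intro a ha
    rw [Group.mem_conjugatesOfSet_iff] at ha
    obtain ⟨s, hs, hsa⟩ := ha
    rw [isConj_iff] at hsa
    obtain ⟨c, rfl⟩ := hsa
    exact hSZ _ (hSconj s hs c)
  have hMbot : Subgroup.normalClosure S = ⊥ := hii _ Subgroup.normalClosure_normal hM
  have hS1 : ∀ s ∈ S, s = 1 := by
    intro s hs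
    have : s ∈ Subgroup.normalClosure S := Subgroup.subset_normalClosure hs
    rw [hMbot, Subgroup.mem_bot] at this
    exact this
  have hcomm : ∀ x ∈ Q, ∀ y ∈ Q, x * y = y * x := by
    intro x hx y hy
    have := hS1 (x * y * x⁻¹ * y⁻¹) (Or.inr ⟨x, hx, y, hy, rfl⟩)
    calc x * y = (x * y * x⁻¹ * y⁻¹) * (y * x) := by group
      _ = y * x := by rw [this, one_mul]
  have hpow : ∀ x ∈ Q, x ^ p = 1 := fun x hx => hS1 _ (Or.inl ⟨x, hx, rfl⟩)
  refine ⟨hQT, hZQ, ⟨?_, hpow⟩, le_antisymm hCQ ?_⟩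
  · exact ⟨⟨fun a b => Subtype.ext (hcomm a a.2 b b.2)⟩⟩
  · intro x hx
    rw [Subgroup.mem_centralizer_iff]
    intro q hq
    exact hcomm q hq x hx

end Cfsg.Agent.S4394P
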