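import Mathlib
import Cfsg.Agent.Helper3.S4411Defs
import Cfsg.Agent.Helper21.S4411CHARA

/-!
S4411 (Thompson, N-groups): piece TSUB: transport of the conclusion of Lemma T from a subgroup `X`.
-/

set_option autoImplicit false

namespace Cfsg.Agent.S4411P

open Cfsg

/-- `Acts` is transported along an injective homomorphism. -/
theorem TSUB_aux_acts_map {Y Z : Type*} [Group Y] [Group Z] (q : ℕ) (f : Y →* Z)
    (hf : Function.Injective f) {K : Subgroup Y} (h : Acts q K) : Acts q (K.map f) := by
  obtain ⟨y, hyn, hyc, k, hk⟩ := h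
  refine ⟨f y, ?_, ?_, ⟨k, by rw [← map_pow, hk, map_one]⟩⟩
  · rw [Subgroup.mem_normalizer_iff]
    intro z
    constructor
    · rintro ⟨k, hk, rfl⟩
      refine ⟨y * k * y⁻¹, (Subgroup.mem_normalizer_iff.1 hyn k).1 hk, ?_⟩
      rw [map_mul, map_mul, map_inv]
    · rintro ⟨k', hk', hk'z⟩
      refine ⟨y⁻¹ * k' * y, ?_, ?_⟩
      · apply (Subgroup.mem_normalizer_iff.1 hyn _).2
        have : y * (y⁻¹ * k' * y) * y⁻¹ = k' := by group
        rw [this]; exact hk'
      · rw [map_mul, map_mul, map_inv, hk'z]; group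
  · intro hc
    apply hyc
    rw [Subgroup.mem_centralizer_iff]
    intro k hk
    apply hf
    rw [map_mul, map_mul]
    exact (Subgroup.mem_centralizer_iff.1 hc) (f k) ⟨k, hk, rfl⟩

/-- transport of the conclusion from a subgroup `X` (with its Sylow `R'`, whose image is characteristic in `R`). -/
theorem TSUB {Y : Type*} [Group Y] (q : ℕ) (X R : Subgroup Y) (R' : Subgroup ↥X)
    (hle : R'.map X.subtype ≤ R) (hchar : ((R'.map X.subtype).subgroupOf R).Characteristic)
    (h : TConcl q R') : TConcl q R := by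
  obtain ⟨K', hK'R', hK'char, hK'acts⟩ := h
  have hKM : K'.map X.subtype ≤ R'.map X.subtype := Subgroup.map_mono hK'R'
  refine ⟨K'.map X.subtype, hKM.trans hle, ?_, TSUB_aux_acts_map q X.subtype X.subtype_injective hK'acts⟩
  exact CHAR_trans hKM hle hchar (CHAR_map X.subtype X.subtype_injective hK'R' hK'char)

end Cfsg.Agent.S4411P
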