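import Mathlib
import Cfsg.Agent.Helper3.S4411Defs
import Cfsg.Agent.Helper21.PSolv
import Cfsg.Agent.Helper14.PCore
import Cfsg.Agent.Helper9.S4411HALLPQ
import Cfsg.Agent.Helper21.S4411CHARA
import Cfsg.Agent.Helper3.S4411TIND

/-!
S4411 (Thompson, N-groups): piece ORDSTEP (`ORD_step`): if `N_G(H)` is `p`-solvable, `R ∈ Syl_p(N_G(H))` and a
`q`-element acts non-trivially on `H`, then some characteristic subgroup `K` of `R` has `Acts q K`, and
`N_G(R) ≤ N_G(K)`.  (Hall `{p,q}`-subgroup `Y ≥ R` of `N_G(H)` + Lemma T in `Y`.)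
-/

set_option autoImplicit false

namespace Cfsg.Agent.S4411P

open Cfsg

universe u

theorem ORDSTEP_aux_isQElt_conj {Y : Type*} [Group Y] (q : ℕ) {x : Y} (g : Y) (h : IsQElt q x) :
    IsQElt q (g * x * g⁻¹) := by
  obtain ⟨k, hk⟩ := h
  exact ⟨k, by rw [conj_pow, hk, mul_one, mul_inv_cancel]⟩

theorem ORDSTEP_aux_isQElt_map {Y Z : Type*} [Group Y] [Group Z] (q : ℕ) (f : Y →* Z) {x : Y}
    (h : IsQElt q x) : IsQElt q (f x) := by
  obtain ⟨k, hk⟩ := h
  exact ⟨k, by rw [← map_pow, hk, map_one]⟩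

theorem ORDSTEP_aux_isQElt_of_map {Y Z : Type*} [Group Y] [Group Z] (q : ℕ) (f : Y →* Z)
    (hf : Function.Injective f) {x : Y} (h : IsQElt q (f x)) : IsQElt q x := by
  obtain ⟨k, hk⟩ := h
  exact ⟨k, hf (by rw [map_pow, hk, map_one])⟩

/-- `Acts` is transported along an injective homomorphism. -/
theorem ORDSTEP_aux_acts_map {Y Z : Type*} [Group Y] [Group Z] (q : ℕ) (f : Y →* Z)
    (hf : Function.Injective f) {K : Subgroup Y} (h : Acts q K) : Acts q (K.map f) := by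
  obtain ⟨y, hyn, hyc, hyq⟩ := h
  refine ⟨f y, ?_, ?_, ORDSTEP_aux_isQElt_map q f hyq⟩
  · rw [Subgroup.mem_normalizer_iff]
    intro z
    constructor
    · rintro ⟨k, hk, rfl⟩
      refine ⟨y * k * y⁻¹, (Subgroup.mem_normalizer_iff.1 hyn k).1 hk, ?_⟩
      rw [map_mul, map_mul, map_inv]
    · rintro ⟨k', hk', hk'z⟩
      refine ⟨y⁻¹ * k' * y, ?_, ?_⟩
      · apply (Subgroup.mem_normalizer_iff.1 hyn _).2
        have : y * (y⁻¹ * k' * y) * y⁻¹ = k' := by group
        rw [this]; exact hk'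
      · rw [map_mul, map_mul, map_inv, hk'z]; group
  · intro hc
    apply hyc
    rw [Subgroup.mem_centralizer_iff]
    intro k hk
    apply hf
    rw [map_mul, map_mul]
    exact (Subgroup.mem_centralizer_iff.1 hc) (f k) ⟨k, hk, rfl⟩

/-- `Acts` restricts to a subgroup containing the acted-on subgroup and the acting element. -/
theorem ORDSTEP_aux_acts_subgroupOf {X : Type*} [Group X] (q : ℕ) {K Y : Subgroup X} (hKY : K ≤ Y)
    {y : X} (hyY : y ∈ Y) (hyn : y ∈ Subgroup.normalizer (K : Set X))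
    (hyc : y ∉ Subgroup.centralizer (K : Set X)) (hyq : IsQElt q y) : Acts q (K.subgroupOf Y) := by
  refine ⟨⟨y, hyY⟩, ?_, ?_, ?_⟩
  · rw [Subgroup.mem_normalizer_iff]
    intro h
    rw [Subgroup.mem_subgroupOf, Subgroup.mem_subgroupOf]
    exact (Subgroup.mem_normalizer_iff.1 hyn) (h : X)
  · intro hc
    apply hyc
    rw [Subgroup.mem_centralizer_iff]
    intro k hk
    have := (Subgroup.mem_centralizer_iff.1 hc) ⟨k, hKY hk⟩ (Subgroup.mem_subgroupOf.2 hk)
    exact congrArg Subtype.val this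
  · exact ORDSTEP_aux_isQElt_of_map q Y.subtype Y.subtype_injective hyq

/-- a `q`-element generates a `q`-group -/
theorem ORDSTEP_aux_zpowers {X : Type*} [Group X] (q : ℕ) {y : X} (h : IsQElt q y) :
    IsPGroup q ↥(Subgroup.zpowers y) := by
  obtain ⟨k, hk⟩ := h
  rintro ⟨g, hg⟩
  obtain ⟨n, rfl⟩ := Subgroup.mem_zpowers_iff.1 hg
  refine ⟨k, Subtype.ext ?_⟩
  simp only [Subgroup.coe_pow, Subgroup.coe_one]
  rw [← zpow_natCast, ← zpow_mul, mul_comm, zpow_mul, zpow_natCast, hk, one_zpow]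

/-- the step: if `N_G(H)` is `p`-solvable then some characteristic subgroup `K` of `R` is a member. -/
theorem ORD_step {G : Type u} [Group G] [Finite G] (p q : ℕ) [Fact p.Prime] [Fact q.Prime] (hpq : p ≠ q)
    (h23 : ¬ ((p = 2 ∧ q = 3) ∨ (p = 3 ∧ q = 2)))
    (H : Subgroup G) (hH : IsPGroup p H) (hA : Acts q H)
    (hsol : Cfsg.IsPSolvable p ↥(Subgroup.normalizer (H : Set G)))
    (R : Subgroup G) (hRN : R ≤ Subgroup.normalizer (H : Set G))
    (hRsyl : ∃ R' : Sylow p ↥(Subgroup.normalizer (H : Set G)),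
      (R' : Subgroup _).map (Subgroup.normalizer (H : Set G)).subtype = R) :
    ∃ K : Subgroup G, K ≤ R ∧ Acts q K ∧
      Subgroup.normalizer (R : Set G) ≤ Subgroup.normalizer (K : Set G) := by
  obtain ⟨R', hR'⟩ := hRsyl
  obtain ⟨Y, hRY, hYpq, Q, hQY⟩ := HALLPQ p q hpq hsol R'
  have hHN : H ≤ Subgroup.normalizer (H : Set G) := Subgroup.le_normalizer
  have hH'n : (H.subgroupOf (Subgroup.normalizer (H : Set G))).Normal := Subgroup.normal_in_normalizer
  have hH'p : IsPGroup p ↥(H.subgroupOf (Subgroup.normalizer (H : Set G))) := hH.comap_subtype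
  have hH'R' : H.subgroupOf (Subgroup.normalizer (H : Set G)) ≤ (R' : Subgroup _) :=
    (Cfsg.Agent.Helper14.le_pCore p hH'n hH'p).trans (Cfsg.Agent.Helper14.pCore_le_sylow p R')
  have hH'Y : H.subgroupOf (Subgroup.normalizer (H : Set G)) ≤ Y := hH'R'.trans hRY
  -- the acting element, conjugated into `Y`
  obtain ⟨y, hyn, hyc, hyq⟩ := hA
  have hy'q : IsQElt q (⟨y, hyn⟩ : ↥(Subgroup.normalizer (H : Set G))) :=
    ORDSTEP_aux_isQElt_of_map q (Subgroup.normalizer (H : Set G)).subtype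
      (Subgroup.subtype_injective _) hyq
  obtain ⟨Q₀, hQ₀⟩ := (ORDSTEP_aux_zpowers q hy'q).exists_le_sylow
  obtain ⟨g, hg⟩ := MulAction.exists_smul_eq (↥(Subgroup.normalizer (H : Set G))) Q₀ Q
  have hy''Q : g * (⟨y, hyn⟩ : ↥(Subgroup.normalizer (H : Set G))) * g⁻¹ ∈ (Q : Subgroup _) := by
    rw [← hg, Sylow.coe_subgroup_smul]
    have := Subgroup.smul_mem_pointwise_smul _ (MulAut.conj g) _
      (hQ₀ (Subgroup.mem_zpowers (⟨y, hyn⟩ : ↥(Subgroup.normalizer (H : Set G)))))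
    simpa [MulAut.smul_def] using this
  have hy''Y := hQY hy''Q
  have hy''n : g * (⟨y, hyn⟩ : ↥(Subgroup.normalizer (H : Set G))) * g⁻¹ ∈
      Subgroup.normalizer ((H.subgroupOf (Subgroup.normalizer (H : Set G)) : Subgroup _) : Set _) := by
    rw [Subgroup.normalizer_eq_top_iff.2 hH'n]; exact Subgroup.mem_top _
  have hy''c : g * (⟨y, hyn⟩ : ↥(Subgroup.normalizer (H : Set G))) * g⁻¹ ∉
      Subgroup.centralizer ((H.subgroupOf (Subgroup.normalizer (H : Set G)) : Subgroup _) : Set _) := by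
    intro hc
    apply hyc
    rw [Subgroup.mem_centralizer_iff]
    intro h hh
    have hmem : g * (⟨h, hHN hh⟩ : ↥(Subgroup.normalizer (H : Set G))) * g⁻¹ ∈
        H.subgroupOf (Subgroup.normalizer (H : Set G)) :=
      hH'n.conj_mem _ (Subgroup.mem_subgroupOf.2 hh) g
    have h1 := (Subgroup.mem_centralizer_iff.1 hc) _ hmem
    have h2 : (⟨h, hHN hh⟩ : ↥(Subgroup.normalizer (H : Set G))) * ⟨y, hyn⟩ = ⟨y, hyn⟩ * ⟨h, hHN hh⟩ := by
      have e1 : g * (⟨h, hHN hh⟩ : ↥(Subgroup.normalizer (H : Set G))) * g⁻¹ * (g * ⟨y, hyn⟩ * g⁻¹) =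
          g * (⟨h, hHN hh⟩ * ⟨y, hyn⟩) * g⁻¹ := by group
      have e2 : g * (⟨y, hyn⟩ : ↥(Subgroup.normalizer (H : Set G))) * g⁻¹ * (g * ⟨h, hHN hh⟩ * g⁻¹) =
          g * (⟨y, hyn⟩ * ⟨h, hHN hh⟩) * g⁻¹ := by group
      rw [e1, e2] at h1
      exact mul_left_cancel (mul_right_cancel h1)
    exact congrArg Subtype.val h2
  have hy''q := ORDSTEP_aux_isQElt_conj q g hy'q
  have hTNT : TNT p q ↥Y :=
    ⟨(H.subgroupOf (Subgroup.normalizer (H : Set G))).subgroupOf Y, hH'p.comap_subtype,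
      ORDSTEP_aux_acts_subgroupOf q hH'Y hy''Y hy''n hy''c hy''q⟩
  have hp : p.Prime := Fact.out
  obtain ⟨K₀, hK₀R, hK₀char, hK₀acts⟩ := TIND p q hpq h23
    (Cfsg.Agent.Helper21.PSolv.isPSolvable_subgroup hp hsol Y) hYpq (R'.subtype hRY) hTNT
  -- transport to `G`
  have hf : Function.Injective ((Subgroup.normalizer (H : Set G)).subtype.comp Y.subtype) :=
    (Subgroup.subtype_injective _).comp (Subgroup.subtype_injective _)
  have hRmap : ((R'.subtype hRY : Sylow p ↥Y) : Subgroup ↥Y).map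
      ((Subgroup.normalizer (H : Set G)).subtype.comp Y.subtype) = R := by
    rw [Sylow.coe_subtype, ← Subgroup.map_map, Subgroup.map_subgroupOf_eq_of_le hRY, hR']
  have hKR : K₀.map ((Subgroup.normalizer (H : Set G)).subtype.comp Y.subtype) ≤ R := by
    rw [← hRmap]; exact Subgroup.map_mono hK₀R
  refine ⟨K₀.map ((Subgroup.normalizer (H : Set G)).subtype.comp Y.subtype), hKR,
    ORDSTEP_aux_acts_map q _ hf hK₀acts, ?_⟩
  have hc := CHAR_map ((Subgroup.normalizer (H : Set G)).subtype.comp Y.subtype) hf hK₀R hK₀char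
  rw [hRmap] at hc
  exact CHAR_normalizer hKR hc

end Cfsg.Agent.S4411P
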