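import Mathlib
import Cfsg.Agent.Helper6.S4414Defs

/-! Board `s4414pieces`, row CA0: `C_E(A) = 0` for a nontrivial normal subgroup `A` acting faithfully on an irreducible module. -/

set_option autoImplicit false
set_option linter.unusedSectionVars false
set_option linter.unusedVariables false

namespace Cfsg.Agent.S4414P

open Module TensorProduct Cfsg.Agent.Helper5.FrobMod Cfsg.Agent.S4414P

variable {K : Type*} [Field K] {W : Type*} [AddCommGroup W] [Module K W]
variable {G : Type*} [Group G] (σ : Representation K G W)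

/-- CA0 (S): `C_E(A) = 0`. -/
theorem CA0 {k : Type*} [Field k] {E : Type*} [AddCommGroup E] [Module k E] (ρ : Representation k G E) [Nontrivial E]
    (A : Subgroup G) [A.Normal] (hA : A ≠ ⊥)
    (hirr : ∀ N : Submodule k E, (∀ s : G, ∀ m ∈ N, ρ s m ∈ N) → N = ⊥ ∨ N = ⊤)
    (hfaith : ∀ x ∈ A, ρ x = 1 → x = 1) : fixOf ρ A = ⊥ := by
  have hinv : ∀ s : G, ∀ m ∈ fixOf ρ A, ρ s m ∈ fixOf ρ A := by
    intro s m hm
    rw [mem_fixOf] at hm ⊢
    intro b hb
    have hb' : s⁻¹ * b * s ∈ A := by
      have := ‹A.Normal›.conj_mem b hb s⁻¹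
      rwa [inv_inv] at this
    have e : b * s = s * (s⁻¹ * b * s) := by group
    calc ρ b (ρ s m) = ρ (b * s) m := by rw [map_mul, Module.End.mul_apply]
      _ = ρ (s * (s⁻¹ * b * s)) m := by rw [e]
      _ = ρ s (ρ (s⁻¹ * b * s) m) := by rw [map_mul, Module.End.mul_apply]
      _ = ρ s m := by rw [hm _ hb']
  rcases hirr _ hinv with h | h
  · exact h
  · exfalso
    apply hA
    rw [Subgroup.eq_bot_iff_forall]
    intro x hx
    apply hfaith x hx
    ext v
    have hv : v ∈ fixOf ρ A := by rw [h]; exact Submodule.mem_top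
    rw [Module.End.one_apply]
    exact (mem_fixOf ρ).mp hv x hx

end Cfsg.Agent.S4414P
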