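import Mathlib
import Cfsg.Agent.Helper9.S4415Defs
import Cfsg.Agent.Lead.Coprime3

/-! Board `s4415pieces`, row B1: `[Y,B] ∈ 𝒴` (coprime action). -/

set_option autoImplicit false

namespace Cfsg.Agent.S4415P

open Subgroup

variable {S : Type*} [Group S] [Finite S]

theorem B1_aux_solvable (B : Subgroup S) (hB : Nat.card ↥B = 3) : Group.IsSolvable ↥B := by
  have : Fact (Nat.Prime 3) := ⟨by norm_num⟩
  have : IsCyclic ↥B := isCyclic_of_prime_card hB
  let _ : CommGroup ↥B := IsCyclic.commGroup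
  infer_instance

/-- B1: `[Y,B] ∈ 𝒴`. -/
theorem yc_comm (B : Subgroup S) (hB : Nat.card ↥B = 3) (Y : Subgroup S) (hN : B ≤ normalizer (Y : Set S))
    (hc : (Nat.card ↥Y).Coprime 3) : YC B ⁅Y, B⁆ ∧ ⁅Y, B⁆ ≤ Y ∧ Y ≤ normalizer ((⁅Y, B⁆ : Subgroup S) : Set S) := by
  have hle : ⁅Y, B⁆ ≤ Y := Cfsg.Agent.Lead.commutator_le_of_le_normalizer hN
  refine ⟨⟨Cfsg.Agent.Lead.le_normalizer_commutator_right Y B, ?_, ?_⟩, hle,
    Cfsg.Agent.Lead.le_normalizer_commutator_left Y B⟩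
  · exact Nat.Coprime.coprime_dvd_left (Subgroup.card_dvd_of_le hle) hc
  · exact Cfsg.Agent.Lead.coprime_commutator_commutator B Y hN (by rw [hB]; exact hc.symm)
      (Or.inl (B1_aux_solvable B hB))

end Cfsg.Agent.S4415P
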