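import Mathlib
import Cfsg.Agent.Helper9.S4415Defs

/-! Board `s4415pieces`, row D1F: an involution `x` with `|[E,x]| = 9` cannot centralise a group `T'` of order `13` with
`|[E,T']| = 27` inside `D` with `|[E,D]| ≤ 81`. -/

set_option autoImplicit false

namespace Cfsg.Agent.S4415P

open Subgroup

variable {S : Type*} [Group S] [Finite S] {E : Type*} [AddCommGroup E] [Module (ZMod 3) E] [Finite E]

omit [Finite E] in
theorem D1F_aux_eq_neg (v : E) (h : v = -v) : v = 0 := by
  have h3 : (3 : ℕ) • v = 0 := ZModModule.char_nsmul_eq_zero 3 v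
  have h2 : v + v = 0 := by
    have : v + v = v + -v := by rw [← h]
    rw [this, add_neg_cancel]
  have e : (3 : ℕ) • v = v + v + v := by
    rw [succ_nsmul, succ_nsmul, one_nsmul]
  rw [e, h2, zero_add] at h3
  exact h3

omit [Finite E] in
theorem D1F_aux_thirteen (w : E) : (13 : ℕ) • w = w := by
  have e : (13 : ℕ) • w = (3 : ℕ) • ((4 : ℕ) • w) + w := by
    rw [smul_smul, ← succ_nsmul]
    norm_num
  rw [e, ZModModule.char_nsmul_eq_zero 3 ((4 : ℕ) • w), zero_add]

omit [Finite E] in
/-- `C_{[E,T']}(T') = 0` for `|T'| = 13`. -/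
theorem D1F_aux_fix_comE (ρ : Representation (ZMod 3) S E) (T' : Subgroup S) (hT13 : Nat.card ↥T' = 13)
    (w : E) (hw : w ∈ ComE ρ T') (hfix : ∀ t ∈ T', ρ t w = w) : w = 0 := by
  classical
  have : Fintype ↥T' := Fintype.ofFinite _
  let tr : E →ₗ[ZMod 3] E := ∑ t : ↥T', ρ (t : S)
  have h1 : ComE ρ T' ≤ LinearMap.ker tr := by
    unfold ComE
    rw [Submodule.span_le]
    rintro _ ⟨y, hy, v, rfl⟩
    rw [SetLike.mem_coe, LinearMap.mem_ker, map_sub]
    simp only [tr, LinearMap.sum_apply]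
    have := Equiv.sum_comp (Equiv.mulRight (⟨y, hy⟩ : ↥T')) (fun t : ↥T' => ρ (t : S) v)
    simp only [Equiv.coe_mulRight, Subgroup.coe_mul, map_mul, Module.End.mul_apply] at this
    rw [this, sub_self]
  have h2 : tr w = w := by
    simp only [tr, LinearMap.sum_apply]
    rw [Finset.sum_congr rfl (fun (t : ↥T') _ => hfix (t : S) t.2), Finset.sum_const, Finset.card_univ,
      ← Nat.card_eq_fintype_card, hT13]
    exact D1F_aux_thirteen w
  have h3 := LinearMap.mem_ker.mp (h1 hw)
  rw [h2] at h3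
  exact h3

omit [Finite S] [Finite E] in
/-- `T'` leaves `[E,T']` invariant. -/
theorem D1F_aux_inv (ρ : Representation (ZMod 3) S E) (T' : Subgroup S) (g : S)
    (hg : ∀ t ∈ T', g * t * g⁻¹ ∈ T') : ∀ w ∈ ComE ρ T', ρ g w ∈ ComE ρ T' := by
  have : ComE ρ T' ≤ (ComE ρ T').comap (ρ g) := by
    unfold ComE
    rw [Submodule.span_le]
    rintro _ ⟨y, hy, v, rfl⟩
    rw [SetLike.mem_coe, Submodule.mem_comap, map_sub]
    have e : ρ g (ρ y v) = ρ (g * y * g⁻¹) (ρ g v) := by
      rw [← Module.End.mul_apply, ← Module.End.mul_apply, ← map_mul, ← map_mul]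
      congr 2
      group
    rw [e]
    exact Submodule.subset_span ⟨g * y * g⁻¹, hg y hy, ρ g v, rfl⟩
  exact fun w hw => this hw

/-- D1F. -/
theorem no_comm (ρ : Representation (ZMod 3) S E) (D T' : Subgroup S) (x : S) (hxD : x ∈ D) (hTD : T' ≤ D)
    (hxx : x * x = 1) (hx9 : Nat.card ↥(ComE ρ (zpowers x)) = 9) (hT13 : Nat.card ↥T' = 13)
    (hT27 : Nat.card ↥(ComE ρ T') = 27) (hxT : x ∈ centralizer (T' : Set S)) (h81 : Nat.card ↥(ComE ρ D) ≤ 81) :
    False := by
  classical
  have hxt : ∀ t ∈ T', t * x = x * t := fun t ht => mem_centralizer_iff.mp hxT t ht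
  -- `x` and `T'` leave `W = [E,T']` invariant
  have hxW : ∀ w ∈ ComE ρ T', ρ x w ∈ ComE ρ T' := by
    apply D1F_aux_inv ρ T' x
    intro t ht
    have : x * t * x⁻¹ = t := by rw [← hxt t ht, mul_assoc, mul_inv_cancel, mul_one]
    rw [this]; exact ht
  have hTW : ∀ t ∈ T', ∀ w ∈ ComE ρ T', ρ t w ∈ ComE ρ T' := by
    intro t ht
    apply D1F_aux_inv ρ T' t
    intro s hs
    exact T'.mul_mem (T'.mul_mem ht hs) (T'.inv_mem ht)
  have hxx' : ∀ v : E, ρ x (ρ x v) = v := by
    intro v
    rw [← Module.End.mul_apply, ← map_mul, hxx, map_one]; rfl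
  -- `x = -1` on `[E,x]`
  have hXneg : ∀ u ∈ ComE ρ (zpowers x), ρ x u = -u := by
    have : ComE ρ (zpowers x) ≤ LinearMap.ker (ρ x + 1) := by
      unfold ComE
      rw [Submodule.span_le]
      rintro _ ⟨y, hy, v, rfl⟩
      rw [SetLike.mem_coe, LinearMap.mem_ker, LinearMap.add_apply, Module.End.one_apply]
      have hy' : y = 1 ∨ y = x := by
        obtain ⟨k, rfl⟩ := mem_zpowers_iff.mp hy
        have hsq : x ^ (2 : ℤ) = 1 := by rw [zpow_two]; exact hxx
        rcases Int.emod_two_eq_zero_or_one k with h0 | h1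
        · left
          have : k = 2 * (k / 2) := by omega
          rw [this, zpow_mul, hsq, one_zpow]
        · right
          have : k = 2 * (k / 2) + 1 := by omega
          rw [this, zpow_add, zpow_mul, hsq, one_zpow, one_mul, zpow_one]
      rcases hy' with rfl | rfl
      · simp
      · rw [map_sub, hxx' v]; abel
    intro u hu
    have h := LinearMap.mem_ker.mp (this hu)
    rw [LinearMap.add_apply, Module.End.one_apply] at h
    exact eq_neg_of_add_eq_zero_left h
  -- the fixed space of `x` on `W`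
  let Wp : Submodule (ZMod 3) E := ComE ρ T' ⊓ LinearMap.ker (ρ x - 1)
  have hWp : ∀ w : E, w ∈ Wp ↔ w ∈ ComE ρ T' ∧ ρ x w = w := by
    intro w
    simp only [Wp, Submodule.mem_inf, LinearMap.mem_ker, LinearMap.sub_apply, Module.End.one_apply, sub_eq_zero]
  have hWp_inv : ∀ t ∈ T', ∀ w ∈ Wp, ρ t w ∈ Wp := by
    intro t ht w hw
    rw [hWp] at hw ⊢
    refine ⟨hTW t ht w hw.1, ?_⟩
    rw [← Module.End.mul_apply, ← map_mul, ← hxt t ht, map_mul, Module.End.mul_apply, hw.2]
  let _ : MulAction ↥T' ↥Wp :=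
    { smul := fun t w => ⟨ρ (t : S) w, hWp_inv t t.2 w w.2⟩
      one_smul := by
        intro w
        apply Subtype.ext
        change ρ ((1 : ↥T') : S) (w : E) = w
        rw [Subgroup.coe_one, map_one]; rfl
      mul_smul := by
        intro s t w
        apply Subtype.ext
        change ρ ((s * t : ↥T') : S) (w : E) = ρ (s : S) (ρ (t : S) (w : E))
        rw [Subgroup.coe_mul, map_mul]; rfl }
  have hp : IsPGroup 13 ↥T' := IsPGroup.of_card (n := 1) (by rw [hT13]; norm_num)
  have : Fact (Nat.Prime 13) := ⟨by norm_num⟩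
  have hmod := hp.card_modEq_card_fixedPoints ↥Wp
  have hfp : Nat.card (MulAction.fixedPoints ↥T' ↥Wp) = 1 := by
    rw [Nat.card_eq_one_iff_unique]
    refine ⟨⟨?_⟩, ⟨⟨0, fun t => Subtype.ext ?_⟩⟩⟩
    · intro a c
      have h0 : ∀ a : MulAction.fixedPoints ↥T' ↥Wp, ((a : ↥Wp) : E) = 0 := by
        intro a
        apply D1F_aux_fix_comE ρ T' hT13 _ ((hWp _).mp a.1.2).1
        intro t ht
        have := a.2 ⟨t, ht⟩
        exact congrArg Subtype.val this
      apply Subtype.ext
      apply Subtype.ext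
      rw [h0 a, h0 c]
    · change ρ (t : S) ((0 : ↥Wp) : E) = ((0 : ↥Wp) : E)
      rw [Submodule.coe_zero, map_zero]
  rw [hfp] at hmod
  -- `|Wp|` divides `27`
  have hdvd : Nat.card ↥Wp ∣ 27 := by
    rw [← hT27]
    have hle : Wp.toAddSubgroup ≤ (ComE ρ T').toAddSubgroup := fun w hw => ((hWp w).mp hw).1
    exact AddSubgroup.card_dvd_of_le hle
  have hcases : Nat.card ↥Wp = 1 ∨ Nat.card ↥Wp = 27 := by
    have hmem : Nat.card ↥Wp ∈ Nat.divisors 27 := Nat.mem_divisors.mpr ⟨hdvd, by norm_num⟩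
    have hdiv : Nat.divisors 27 = {1, 3, 9, 27} := by decide
    rw [hdiv] at hmem
    simp only [Finset.mem_insert, Finset.mem_singleton] at hmem
    rcases hmem with h | h | h | h
    · exact Or.inl h
    · rw [h] at hmod; exact absurd hmod (by decide)
    · rw [h] at hmod; exact absurd hmod (by decide)
    · exact Or.inr h
  rcases hcases with h1 | h27
  · -- `Wp = 0`: `x = -1` on `W`, so `W ≤ [E,x]`
    have hWp0 : ∀ w ∈ Wp, w = 0 := by
      intro w hw
      have := (Nat.card_eq_one_iff_unique.mp h1).1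
      have h := Subsingleton.elim (⟨w, hw⟩ : ↥Wp) 0
      exact congrArg Subtype.val h
    have hneg : ∀ w ∈ ComE ρ T', ρ x w = -w := by
      intro w hw
      have hmem : w + ρ x w ∈ Wp := by
        rw [hWp]
        refine ⟨Submodule.add_mem _ hw (hxW w hw), ?_⟩
        rw [map_add, hxx' w, add_comm]
      have := hWp0 _ hmem
      exact (neg_eq_of_add_eq_zero_right this).symm
    have hle : (ComE ρ T').toAddSubgroup ≤ (ComE ρ (zpowers x)).toAddSubgroup := by
      intro w hw
      have e : w = ρ x w - w := by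
        rw [hneg w hw]
        have h3 : (3 : ℕ) • w = 0 := ZModModule.char_nsmul_eq_zero 3 w
        have e3 : (3 : ℕ) • w = w + w + w := by rw [succ_nsmul, succ_nsmul, one_nsmul]
        rw [e3] at h3
        have : w = -w - w + (w + w + w) := by abel
        rw [h3, add_zero] at this
        exact this
      change w ∈ ComE ρ (zpowers x)
      rw [e]
      exact sub_mem_ComE ρ (mem_zpowers x) w
    have := Nat.le_of_dvd (by norm_num) (hx9 ▸ hT27 ▸ AddSubgroup.card_dvd_of_le hle)
    omega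
  · -- `Wp = W`: `x = 1` on `W`, so `W ∩ [E,x] = 0`
    have hfixW : ∀ w ∈ ComE ρ T', ρ x w = w := by
      intro w hw
      have hle : Wp.toAddSubgroup ≤ (ComE ρ T').toAddSubgroup := fun w hw => ((hWp w).mp hw).1
      have heq : Wp.toAddSubgroup = (ComE ρ T').toAddSubgroup := by
        apply AddSubgroup.eq_of_le_of_card_ge hle
        change Nat.card ↥(ComE ρ T') ≤ Nat.card ↥Wp
        rw [h27, hT27]
      have : w ∈ Wp.toAddSubgroup := by rw [heq]; exact hw
      exact ((hWp w).mp this).2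
    let f : ↥(ComE ρ T') × ↥(ComE ρ (zpowers x)) → ↥(ComE ρ D) := fun p =>
      ⟨(p.1 : E) + (p.2 : E), Submodule.add_mem _ (ComE_mono ρ hTD p.1.2)
        (ComE_mono ρ ((zpowers_le).mpr hxD) p.2.2)⟩
    have hf : Function.Injective f := by
      rintro ⟨⟨w, hw⟩, ⟨u, hu⟩⟩ ⟨⟨w', hw'⟩, ⟨u', hu'⟩⟩ h
      have h' : w + u = w' + u' := congrArg Subtype.val h
      have hd : w - w' = u' - u := by
        rw [sub_eq_sub_iff_add_eq_add, h', add_comm]
      have h1 : ρ x (w - w') = w - w' := hfixW _ (Submodule.sub_mem _ hw hw')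
      have h2 : ρ x (w - w') = -(w - w') := by
        rw [hd]; exact hXneg _ (Submodule.sub_mem _ hu' hu)
      have h0 : w - w' = 0 := D1F_aux_eq_neg _ (h1.symm.trans h2)
      have hw0 : w = w' := sub_eq_zero.mp h0
      have hu0 : u = u' := by
        rw [h0] at hd
        exact (sub_eq_zero.mp hd.symm).symm
      subst hw0; subst hu0; rfl
    have hcard := Nat.card_le_card_of_injective f hf
    rw [Nat.card_prod, hT27, hx9] at hcard
    omega

end Cfsg.Agent.S4415P
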