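import Mathlib
import Cfsg.Agent.Helper9.S4415Defs
import Cfsg.Agent.Helper15.S4404CNT
import Cfsg.Agent.Lead.CoprimeAbelian

/-! Board `s4415pieces`, row E1 (core): a four-group `T₁ ∈ 𝒴` central in `R ∈ 𝒴` equals `R`.
The rows KEY (MOD5), MOD3, MOD4, MOD6, V4A, V4B enter as hypotheses (instantiated). -/

set_option autoImplicit false

namespace Cfsg.Agent.S4415P

open Subgroup
open Cfsg.Agent.S4409P (Zc IsV4)

variable {S : Type*} [Group S] [Finite S] {E : Type*} [AddCommGroup E] [Module (ZMod 3) E] [Finite E]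

omit [Finite S] in
theorem E1_aux_two (T : Subgroup S) [Finite ↥T] (hT : Nat.card ↥T = 4) :
    ∃ t₁ ∈ T, ∃ t₂ ∈ T, t₁ ≠ 1 ∧ t₂ ≠ 1 ∧ t₁ ≠ t₂ := by
  classical
  have : Fintype ↥T := Fintype.ofFinite _
  have hc : Fintype.card ↥T = 4 := by rw [← Nat.card_eq_fintype_card]; exact hT
  have h1 : ({1} : Finset ↥T).card < (Finset.univ : Finset ↥T).card := by
    rw [Finset.card_univ, hc]; simp
  obtain ⟨t₁, _, ht₁⟩ := Finset.exists_mem_notMem_of_card_lt_card h1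
  have h2 : ({1, t₁} : Finset ↥T).card < (Finset.univ : Finset ↥T).card := by
    rw [Finset.card_univ, hc]
    exact lt_of_le_of_lt (Finset.card_insert_le _ _) (by simp)
  obtain ⟨t₂, _, ht₂⟩ := Finset.exists_mem_notMem_of_card_lt_card h2
  simp only [Finset.mem_singleton, Finset.mem_insert, not_or] at ht₁ ht₂
  refine ⟨t₁, t₁.2, t₂, t₂.2, ?_, ?_, ?_⟩
  · intro h; exact ht₁ (Subtype.ext h)
  · intro h; exact ht₂.1 (Subtype.ext h)
  · intro h; exact ht₂.2 (Subtype.ext h.symm)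

omit [Finite E] in
/-- a linear map leaving a line (of order `3`) invariant and injective on it is `±1` there. -/
theorem E1_aux_line (L : Submodule (ZMod 3) E) [Finite ↥L] (hL : Nat.card ↥L = 3) (g : E →ₗ[ZMod 3] E)
    (hg : ∀ v ∈ L, g v ∈ L) (hinj : ∀ v ∈ L, g v = 0 → v = 0) :
    (∀ v ∈ L, g v = v) ∨ (∀ v ∈ L, g v = -v) := by
  have hnt : Nontrivial ↥L := by
    rw [← Finite.one_lt_card_iff_nontrivial, hL]; norm_num
  obtain ⟨⟨e, he⟩, hne⟩ := exists_ne (0 : ↥L)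
  have he0 : e ≠ 0 := fun h => hne (Subtype.ext h)
  let f : ZMod 3 → ↥L := fun c => ⟨c • e, L.smul_mem c he⟩
  have hf : Function.Injective f := by
    intro c c' h
    have h' : c • e = c' • e := congrArg Subtype.val h
    have h'' : (c - c') • e = 0 := by rw [sub_smul, h', sub_self]
    rcases smul_eq_zero.mp h'' with h0 | h0
    · exact sub_eq_zero.mp h0
    · exact absurd h0 he0
  have hbij : Function.Bijective f := hf.bijective_of_nat_card_le (by rw [hL]; simp)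
  have hsurj : ∀ v ∈ L, ∃ c : ZMod 3, c • e = v := by
    intro v hv
    obtain ⟨c, hc⟩ := hbij.2 ⟨v, hv⟩
    exact ⟨c, congrArg Subtype.val hc⟩
  obtain ⟨c₀, hc₀⟩ := hsurj (g e) (hg e he)
  have hc₀ne : c₀ ≠ 0 := by
    intro h
    rw [h, zero_smul] at hc₀
    exact he0 (hinj e he hc₀.symm)
  have key : ∀ c : ZMod 3, c ≠ 0 → c = 1 ∨ c = -1 := by decide
  rcases key c₀ hc₀ne with h1 | h1
  · left
    intro v hv
    obtain ⟨c, rfl⟩ := hsurj v hv
    rw [map_smul, ← hc₀, h1, one_smul]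
  · right
    intro v hv
    obtain ⟨c, rfl⟩ := hsurj v hv
    rw [map_smul, ← hc₀, h1, neg_smul, one_smul, smul_neg]

/-- E1 (core). -/
theorem E1_aux_core (ρ : Representation (ZMod 3) S E) (b : S) (B : Subgroup S) (hb : Base ρ b B) (R : Subgroup S)
    (hR : YC B R) (T₁ : Subgroup S) (hT : IsV4 T₁) (hTZ : T₁ ≤ Zc R)
    (hKEY : TrivOn ρ B (CE ρ T₁))
    (hM3 : ∀ (Y : Subgroup S) (g : S), g ∈ normalizer (Y : Set S) →
      (∀ v ∈ CE ρ Y, ρ g v ∈ CE ρ Y) ∧ (∀ v ∈ ComE ρ Y, ρ g v ∈ ComE ρ Y))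
    (hM4 : ∀ (X : Subgroup S) (b : S) (U : Submodule (ZMod 3) E), Inv ρ X U → (∀ v ∈ U, ρ b v = v) →
      TrivOn ρ ⁅X, zpowers b⁆ U)
    (hM6 : ∀ (H : Subgroup S), TrivOn ρ H (CE ρ T₁) → ∀ h ∈ H, (∀ v ∈ ComE ρ T₁, ρ h v = v) → h = 1)
    (hV4A : ∀ t₁ t₂ : S, t₁ ∈ T₁ → t₂ ∈ T₁ → t₁ ≠ 1 → t₂ ≠ 1 → t₁ ≠ t₂ →
      ComE ρ T₁ ≤ Ln ρ T₁ t₁ ⊔ Ln ρ T₁ t₂ ⊔ Ln ρ T₁ (t₁ * t₂))
    (hV4B : ∀ t ∈ T₁, t ≠ 1 → Nat.card ↥(Ln ρ T₁ t) = 3) : R = T₁ := by
  classical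
  have hTR : T₁ ≤ R := hTZ.trans (Cfsg.Agent.S4409P.Zc_le R)
  -- `R` centralises every element of `T₁`
  have hcomm : ∀ r ∈ R, ∀ t ∈ T₁, r * t = t * r := fun r hr t ht =>
    ((Cfsg.Agent.S4409P.mem_Zc.mp (hTZ ht)).2 r hr)
  have hRN : ∀ r ∈ R, r ∈ normalizer (T₁ : Set S) := by
    intro r hr
    rw [mem_normalizer_iff]
    intro t
    have key : ∀ t ∈ T₁, r * t * r⁻¹ = t := by
      intro t ht
      rw [hcomm r hr t ht, mul_assoc, mul_inv_cancel, mul_one]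
    constructor
    · intro ht; rw [key t ht]; exact ht
    · intro ht
      have := key _ ht
      have e : t = r⁻¹ * (r * t * r⁻¹) * r := by group
      have hc := hcomm r hr _ ht
      rw [e]
      have : r⁻¹ * (r * t * r⁻¹) * r = r * t * r⁻¹ := by
        rw [mul_assoc, ← hc, ← mul_assoc, inv_mul_cancel, one_mul]
      rw [this]; exact ht
  have hRNt : ∀ r ∈ R, ∀ t ∈ T₁, r ∈ normalizer ((zpowers t : Subgroup S) : Set S) := by
    intro r hr t ht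
    have hc : ∀ y ∈ zpowers t, r * y * r⁻¹ = y := by
      intro y hy
      obtain ⟨k, rfl⟩ := mem_zpowers_iff.mp hy
      have : Commute r (t ^ k) := (show Commute r t from hcomm r hr t ht).zpow_right k
      rw [this.eq, mul_assoc, mul_inv_cancel, mul_one]
    rw [mem_normalizer_iff]
    intro y
    constructor
    · intro hy; rw [hc y hy]; exact hy
    · intro hy
      have h1 := hc _ hy
      have : r * y * r⁻¹ = y := by
        have e : y = r⁻¹ * (r * y * r⁻¹) * r := by group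
        have h2 : r * (r * y * r⁻¹) * r⁻¹ = r * y * r⁻¹ := h1
        have h3 : r * y * r⁻¹ = r⁻¹ * (r * (r * y * r⁻¹) * r⁻¹) * r := by group
        rw [h2] at h3
        rw [← e] at h3
        exact h3
      rw [← this]; exact hy
  have hbB : b ∈ B := hb.gen ▸ mem_zpowers b
  -- `R` is trivial on `C_E(T₁)`
  have hRtriv : TrivOn ρ R (CE ρ T₁) := by
    have hinv : Inv ρ R (CE ρ T₁) := fun r hr v hv => (hM3 T₁ r (hRN r hr)).1 v hv
    have := hM4 R b (CE ρ T₁) hinv (fun v hv => hKEY b hbB v hv)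
    rw [hb.gen, hR.comm] at this
    exact this
  have hfaith : ∀ r ∈ R, (∀ v ∈ ComE ρ T₁, ρ r v = v) → r = 1 := hM6 R hRtriv
  -- the three lines
  obtain ⟨t₁, ht₁, t₂, ht₂, h₁1, h₂1, h12⟩ := E1_aux_two T₁ hT.1
  have ht₃ : t₁ * t₂ ∈ T₁ := T₁.mul_mem ht₁ ht₂
  have h₃1 : t₁ * t₂ ≠ 1 := by
    intro h
    apply h12
    have := hT.2 t₁ ht₁
    calc t₁ = t₁ * (t₁ * t₂) := by rw [h, mul_one]
      _ = t₂ := by rw [← mul_assoc, this, one_mul]
  have hspan := hV4A t₁ t₂ ht₁ ht₂ h₁1 h₂1 h12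
  have hLinv : ∀ t ∈ T₁, ∀ r ∈ R, ∀ v ∈ Ln ρ T₁ t, ρ r v ∈ Ln ρ T₁ t := by
    intro t ht r hr v hv
    unfold Ln at hv ⊢
    rw [Submodule.mem_inf] at hv ⊢
    exact ⟨(hM3 T₁ r (hRN r hr)).2 v hv.1, (hM3 (zpowers t) r (hRNt r hr t ht)).1 v hv.2⟩
  have hinj : ∀ r : S, ∀ v : E, ρ r v = 0 → v = 0 := by
    intro r v hv
    have : ρ r⁻¹ (ρ r v) = v := by
      rw [← Module.End.mul_apply, ← map_mul, inv_mul_cancel, map_one]; rfl
    rw [← this, hv, map_zero]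
  have hpm : ∀ t ∈ T₁, t ≠ 1 → ∀ r ∈ R,
      (∀ v ∈ Ln ρ T₁ t, ρ r v = v) ∨ (∀ v ∈ Ln ρ T₁ t, ρ r v = -v) := by
    intro t ht ht1 r hr
    exact E1_aux_line (Ln ρ T₁ t) (hV4B t ht ht1) (ρ r) (hLinv t ht r hr) (fun v _ => hinj r v)
  -- trivial on the three lines => trivial on `[E,T₁]`
  have htriv3 : ∀ g : S, (∀ v ∈ Ln ρ T₁ t₁, ρ g v = v) → (∀ v ∈ Ln ρ T₁ t₂, ρ g v = v) →
      (∀ v ∈ Ln ρ T₁ (t₁ * t₂), ρ g v = v) → ∀ v ∈ ComE ρ T₁, ρ g v = v := by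
    intro g h1 h2 h3 v hv
    have hle : Ln ρ T₁ t₁ ⊔ Ln ρ T₁ t₂ ⊔ Ln ρ T₁ (t₁ * t₂) ≤ LinearMap.ker (ρ g - 1) := by
      refine sup_le (sup_le ?_ ?_) ?_
      · intro w hw
        rw [LinearMap.mem_ker, LinearMap.sub_apply, Module.End.one_apply, h1 w hw, sub_self]
      · intro w hw
        rw [LinearMap.mem_ker, LinearMap.sub_apply, Module.End.one_apply, h2 w hw, sub_self]
      · intro w hw
        rw [LinearMap.mem_ker, LinearMap.sub_apply, Module.End.one_apply, h3 w hw, sub_self]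
    have := hle (hspan hv)
    rw [LinearMap.mem_ker, LinearMap.sub_apply, Module.End.one_apply, sub_eq_zero] at this
    exact this
  -- products of two elements with the same signs are trivial
  have hprod : ∀ t ∈ T₁, t ≠ 1 → ∀ r ∈ R, ∀ s ∈ R,
      ((∀ v ∈ Ln ρ T₁ t, ρ r v = v) ↔ (∀ v ∈ Ln ρ T₁ t, ρ s v = v)) →
      ∀ v ∈ Ln ρ T₁ t, ρ (r * s) v = v := by
    intro t ht ht1 r hr s hs hiff v hv
    rw [map_mul, Module.End.mul_apply]
    rcases hpm t ht ht1 r hr with hr1 | hr1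
    · rw [(hiff.mp hr1) v hv, hr1 v hv]
    · rcases hpm t ht ht1 s hs with hs1 | hs1
      · rw [hs1 v hv, (hiff.mpr hs1) v hv]
      · rw [hs1 v hv, map_neg, hr1 v hv, neg_neg]
  -- every element of `R` is an involution
  have hsq : ∀ r ∈ R, r * r = 1 := by
    intro r hr
    apply hfaith (r * r) (R.mul_mem hr hr)
    exact htriv3 (r * r) (hprod t₁ ht₁ h₁1 r hr r hr Iff.rfl) (hprod t₂ ht₂ h₂1 r hr r hr Iff.rfl)
      (hprod _ ht₃ h₃1 r hr r hr Iff.rfl)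
  -- `|R| ≤ 8`
  let f : ↥R → Bool × Bool × Bool := fun r =>
    (decide (∀ v ∈ Ln ρ T₁ t₁, ρ (r : S) v = v), decide (∀ v ∈ Ln ρ T₁ t₂, ρ (r : S) v = v),
      decide (∀ v ∈ Ln ρ T₁ (t₁ * t₂), ρ (r : S) v = v))
  have hf : Function.Injective f := by
    intro r s h
    simp only [f, Prod.mk.injEq, decide_eq_decide] at h
    obtain ⟨e1, e2, e3⟩ := h
    have h1 : (r : S) * (s : S) = 1 := by
      apply hfaith _ (R.mul_mem r.2 s.2)
      exact htriv3 _ (hprod t₁ ht₁ h₁1 r r.2 s s.2 e1) (hprod t₂ ht₂ h₂1 r r.2 s s.2 e2)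
        (hprod _ ht₃ h₃1 r r.2 s s.2 e3)
    apply Subtype.ext
    calc (r : S) = (r : S) * ((s : S) * (s : S)) := by rw [hsq s s.2, mul_one]
      _ = (s : S) := by rw [← mul_assoc, h1, one_mul]
  have hle8 : Nat.card ↥R ≤ 8 := by
    have := Nat.card_le_card_of_injective f hf
    simpa using this
  -- `R` is abelian, so `C_R(B) = 1`
  have hab : IsMulCommutative ↥R := by
    refine ⟨⟨fun x y => Subtype.ext ?_⟩⟩
    change (x : S) * (y : S) = (y : S) * (x : S)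
    have hx := hsq x x.2
    have hy := hsq y y.2
    have hxy := hsq _ (R.mul_mem x.2 y.2)
    have hxi : (x : S)⁻¹ = x := inv_eq_of_mul_eq_one_right hx
    have hyi : (y : S)⁻¹ = y := inv_eq_of_mul_eq_one_right hy
    have hxyi : ((x : S) * y)⁻¹ = x * y := inv_eq_of_mul_eq_one_right hxy
    rw [← hxyi, mul_inv_rev, hxi, hyi]
  have hcent : R ⊓ centralizer (B : Set S) = ⊥ := by
    have h := Cfsg.Agent.Lead.coprime_abelian_inf B R hR.norm (by rw [hb.card]; exact hR.cop.symm)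
    rw [hR.comm] at h
    rw [← h]
    exact (inf_eq_left.mpr inf_le_left).symm
  have hB3 : IsPGroup 3 ↥B := IsPGroup.of_card (n := 1) (by rw [hb.card]; norm_num)
  have : Fact (Nat.Prime 3) := ⟨by norm_num⟩
  have hmod := Cfsg.Agent.S4404P.card_modEq_card_cent 3 B R hB3 hR.norm
  rw [hcent, Subgroup.card_bot] at hmod
  have hmod' : Nat.card ↥R % 3 = 1 % 3 := hmod
  have h4 : 4 ∣ Nat.card ↥R := hT.1 ▸ Subgroup.card_dvd_of_le hTR
  have hR4 : Nat.card ↥R = 4 := by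
    obtain ⟨k, hk⟩ := h4
    omega
  exact (Subgroup.eq_of_le_of_card_ge hTR (by rw [hR4, hT.1])).symm

end Cfsg.Agent.S4415P
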