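import Mathlib
import Cfsg.Agent.Helper13.S4415E1core
import Cfsg.Agent.Helper9.S4415MOD5
import Cfsg.Agent.Helper9.S4415MOD4
import Cfsg.Agent.Helper23.S4415MOD3
import Cfsg.Agent.Helper17.S4415MOD6
import Cfsg.Agent.Helper27.S4415V4A
import Cfsg.Agent.Helper1.S4415V4B

/-! Board `s4415pieces`, row E1: a four-group `T₁ ∈ 𝒴` central in `R ∈ 𝒴` equals `R`. -/

set_option autoImplicit false

namespace Cfsg.Agent.S4415P

open Subgroup
open Cfsg.Agent.S4409P (Zc IsV4)

variable {S : Type*} [Group S] [Finite S] {E : Type*} [AddCommGroup E] [Module (ZMod 3) E] [Finite E]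

/-- E1 : if a four-group `T₁ ∈ 𝒴` is central in `R ∈ 𝒴` then `R = T₁`. -/
theorem v4_central (ρ : Representation (ZMod 3) S E) (b : S) (B : Subgroup S) (hb : Base ρ b B) (R : Subgroup S)
    (hR : YC B R) (T₁ : Subgroup S) (hT : IsV4 T₁) (hY : YC B T₁) (hTZ : T₁ ≤ Zc R) : R = T₁ := by
  have hne : T₁ ≠ ⊥ := by
    intro h
    have := hT.1
    rw [h, Subgroup.card_bot] at this
    omega
  exact E1_aux_core ρ b B hb R hR T₁ hT hTZ (key ρ b B hb T₁ hY hne).1 (inv_of_normalizer ρ) (triv_comm ρ)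
    (fun H hH h hh ht => faithful_comE ρ hb.faith T₁ hY.cop H hH h hh ht) (v4_span ρ T₁ hT)
    (fun t ht ht1 => ((v4_cards ρ b B hb T₁ hT hY).2 t ht ht1).1)

end Cfsg.Agent.S4415P
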