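import Mathlib
import Cfsg.Agent.Helper4.S5033Defs
import Cfsg.Agent.Helper4.S5033DAGGER
import Cfsg.Agent.Helper22.S5033FIX
import Cfsg.Agent.Helper9.S5033GEN
import Cfsg.Agent.Helper21.S5033CLAIM3

set_option autoImplicit false

/-! S5033 board, piece CLAIM1 + STAR (driver helper4): a normal subgroup meeting no member of `S`
is central; every normal subgroup is central or contains `G'`. -/

namespace Cfsg.Agent.S5033P

open Cfsg

variable {G : Type*} [Group G] {S : Set (Subgroup G)}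

theorem CLAIM1 (H : Hyp S) {N : Subgroup G} (hN : N.Normal) (h : ∀ A ∈ S, N ⊓ A = ⊥) :
    N ≤ Subgroup.center G := by
  have hfix : ∀ A ∈ S, ∀ t ∈ N, conjBy A t = A :=
    FIX H (T := N) (fun A hA D hD hAD t ht => DAGGER H hN h hA hD hAD ht)
  intro n hn
  apply GEN.mem_center (S := S) H.hS.generates
  intro A hA a ha
  have h1 : n * a * n⁻¹ ∈ A := by
    have : n * a * n⁻¹ ∈ conjBy A n := ⟨a, ha, rfl⟩
    rwa [hfix A hA n hn] at this
  have h2 : n * a * n⁻¹ * a⁻¹ ∈ A := A.mul_mem h1 (A.inv_mem ha)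
  have h3 : n * a * n⁻¹ * a⁻¹ ∈ N := by
    have : a * n⁻¹ * a⁻¹ ∈ N := hN.conj_mem n⁻¹ (N.inv_mem hn) a
    have h4 := N.mul_mem hn this
    have e : n * (a * n⁻¹ * a⁻¹) = n * a * n⁻¹ * a⁻¹ := by group
    rwa [e] at h4
  have h5 : n * a * n⁻¹ * a⁻¹ ∈ N ⊓ A := ⟨h3, h2⟩
  rw [h A hA, Subgroup.mem_bot] at h5
  have h6 : n * a * n⁻¹ = a := by
    have := mul_inv_eq_one.mp h5
    exact this
  calc n * a = n * a * n⁻¹ * n := by group
    _ = a * n := by rw [h6]

theorem STAR (H : Hyp S) {N : Subgroup G} (hN : N.Normal) :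
    N ≤ Subgroup.center G ∨ commutator G ≤ N := by
  by_cases h : ∀ A ∈ S, N ⊓ A = ⊥
  · exact Or.inl (CLAIM1 H hN h)
  · push Not at h
    obtain ⟨A, hA, hne⟩ := h
    exact Or.inr (CLAIM3 H hN hA hne)

end Cfsg.Agent.S5033P
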