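import Mathlib
import Cfsg.Prelude.Def_RootSubgroups
import Cfsg.Agent.Helper22.S5047Defs

set_option autoImplicit false

/-!
# S5047, piece NORM: the norm map of `σ` on `U = ⟨σ^j b σ^{-j}⟩` is trivial, so `σ` has no fixed point on `U`.
-/

namespace Cfsg.Agent.S5047P

variable {G : Type*} [Group G]

theorem NORM_aux_dd_succ (σ b : G) (j : ℕ) : σ * dd σ b j * σ⁻¹ = dd σ b (j + 1) := by
  unfold dd
  rw [pow_succ']
  group

theorem NORM_aux_dd_zero (σ b : G) : dd σ b 0 = b := by
  unfold dd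
  simp

theorem NORM_aux_inv {σ b : G} : ∀ u ∈ UU σ b, σ * u * σ⁻¹ ∈ UU σ b := by
  intro u hu
  unfold UU at hu ⊢
  induction hu using Subgroup.closure_induction with
  | mem x hx =>
    obtain ⟨j, rfl⟩ := hx
    rw [NORM_aux_dd_succ]
    exact Subgroup.subset_closure ⟨j + 1, rfl⟩
  | one => simp
  | mul x y _ _ hx hy =>
    have : σ * (x * y) * σ⁻¹ = (σ * x * σ⁻¹) * (σ * y * σ⁻¹) := by group
    rw [this]; exact mul_mem hx hy
  | inv x _ hx =>
    have : σ * x⁻¹ * σ⁻¹ = (σ * x * σ⁻¹)⁻¹ := by group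
    rw [this]; exact inv_mem hx

/-- conjugation by `σ` as an endomorphism of `U`. -/
def NORM_aux_phi (σ b : G) : ↥(UU σ b) →* ↥(UU σ b) where
  toFun u := ⟨σ * (u : G) * σ⁻¹, NORM_aux_inv (u : G) u.2⟩
  map_one' := by apply Subtype.ext; simp
  map_mul' x y := by apply Subtype.ext; simp only [Subgroup.coe_mul]; group

theorem NORM_aux_phi_coe (σ b : G) (u : ↥(UU σ b)) :
    ((NORM_aux_phi σ b u : ↥(UU σ b)) : G) = σ * (u : G) * σ⁻¹ := rfl

theorem NORM_aux_phi_iter (σ b : G) (j : ℕ) (u : ↥(UU σ b)) :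
    (((NORM_aux_phi σ b)^[j] u : ↥(UU σ b)) : G) = σ ^ j * (u : G) * (σ ^ j)⁻¹ := by
  induction j with
  | zero => simp
  | succ j ih =>
    rw [Function.iterate_succ_apply', NORM_aux_phi_coe, ih, pow_succ']
    group

open scoped IsMulCommutative in
theorem NORM_aux_coe_prod (H : Subgroup G) [IsMulCommutative ↥H] (f : ℕ → ↥H) (n : ℕ) :
    ((∏ j ∈ Finset.range n, f j : ↥H) : G)
      = ((List.range n).map (fun j => (f j : G))).prod := by
  induction n with
  | zero => simp
  | succ n ih =>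
    rw [Finset.prod_range_succ, Subgroup.coe_mul, ih, List.range_succ, List.map_append,
      List.prod_append]
    simp

open scoped IsMulCommutative in
/-- NORM: if the product of all `m` conjugates of `b` is 1 (m odd), then `σ` has no fixed point on `U`. -/
theorem NORM {σ b : G} {m : ℕ} (hodd : Odd m) (hσ : σ ^ m = 1) (hb : b * b = 1)
    (hcomm : ∀ i j : ℕ, Commute (dd σ b i) (dd σ b j))
    (hP : ((List.range m).map (dd σ b)).prod = 1) :
    ∀ v ∈ UU σ b, σ * v = v * σ → v = 1 := by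
  have hC : IsMulCommutative ↥(UU σ b) := by
    unfold UU
    exact Subgroup.isMulCommutative_closure (by
      rintro _ ⟨i, rfl⟩ _ ⟨j, rfl⟩
      exact (hcomm i j).eq)
  set φ := NORM_aux_phi σ b with hφ
  -- the norm
  set N : ↥(UU σ b) → ↥(UU σ b) := fun v => ∏ j ∈ Finset.range m, φ^[j] v with hN
  have hNmul : ∀ v w, N (v * w) = N v * N w := by
    intro v w
    simp only [hN]
    rw [← Finset.prod_mul_distrib]
    refine Finset.prod_congr rfl (fun j _ => ?_)
    exact iterate_map_mul φ j v w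
  have hNinv : ∀ v, N v⁻¹ = (N v)⁻¹ := by
    intro v
    simp only [hN]
    rw [← Finset.prod_inv_distrib]
    refine Finset.prod_congr rfl (fun j _ => ?_)
    exact iterate_map_inv φ j v
  have hNone : N 1 = 1 := by
    simp only [hN]
    refine Finset.prod_eq_one (fun j _ => ?_)
    exact iterate_map_one φ j
  have hφm : ∀ v, φ^[m] v = v := by
    intro v
    apply Subtype.ext
    rw [hφ, NORM_aux_phi_iter, hσ]
    simp
  have hNφ : ∀ v, N (φ v) = N v := by
    intro v
    simp only [hN]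
    have h1 := Finset.prod_range_succ (fun j => φ^[j] v) m
    have h2 := Finset.prod_range_succ' (fun j => φ^[j] v) m
    simp only [Function.iterate_succ_apply] at h2
    rw [h1] at h2
    simp only [Function.iterate_zero, id_eq, hφm v] at h2
    exact (mul_right_cancel h2).symm
  have hNφi : ∀ (i : ℕ) v, N (φ^[i] v) = N v := by
    intro i
    induction i with
    | zero => intro v; rfl
    | succ i ih => intro v; rw [Function.iterate_succ_apply, ih, hNφ]
  -- N b = 1
  have hb0 : b ∈ UU σ b := by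
    have : dd σ b 0 ∈ UU σ b := Subgroup.subset_closure ⟨0, rfl⟩
    rwa [NORM_aux_dd_zero] at this
  have hNb : N ⟨b, hb0⟩ = 1 := by
    apply Subtype.ext
    simp only [hN]
    rw [NORM_aux_coe_prod]
    rw [Subgroup.coe_one, ← hP]
    congr 1
    apply List.map_congr_left
    intro j _
    rw [hφ, NORM_aux_phi_iter]
    rfl
  -- N = 1 on U
  have hNall : ∀ (v : G) (hv : v ∈ UU σ b), N ⟨v, hv⟩ = 1 := by
    intro v hv
    unfold UU at hv
    induction hv using Subgroup.closure_induction with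
    | mem x hx =>
      obtain ⟨i, rfl⟩ := hx
      have : (⟨dd σ b i, Subgroup.subset_closure ⟨i, rfl⟩⟩ : ↥(UU σ b)) = φ^[i] ⟨b, hb0⟩ := by
        apply Subtype.ext
        rw [hφ, NORM_aux_phi_iter]
        rfl
      calc N _ = N (φ^[i] ⟨b, hb0⟩) := congrArg N this
        _ = 1 := by rw [hNφi, hNb]
    | one => exact hNone
    | mul x y hx hy ihx ihy =>
      have : (⟨x * y, mul_mem hx hy⟩ : ↥(UU σ b)) = ⟨x, hx⟩ * ⟨y, hy⟩ := rfl
      calc N _ = N (⟨x, hx⟩ * ⟨y, hy⟩) := congrArg N this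
        _ = 1 := by rw [hNmul, ihx, ihy, one_mul]
    | inv x hx ihx =>
      have : (⟨x⁻¹, inv_mem hx⟩ : ↥(UU σ b)) = (⟨x, hx⟩ : ↥(UU σ b))⁻¹ := rfl
      calc N _ = N ((⟨x, hx⟩ : ↥(UU σ b))⁻¹) := congrArg N this
        _ = 1 := by rw [hNinv, ihx, inv_one]
  -- exponent 2
  have hexp : ∀ (v : G) (hv : v ∈ UU σ b), v * v = 1 := by
    intro v hv
    unfold UU at hv
    induction hv using Subgroup.closure_induction with
    | mem x hx =>
      obtain ⟨i, rfl⟩ := hx
      unfold dd
      have : σ ^ i * b * (σ ^ i)⁻¹ * (σ ^ i * b * (σ ^ i)⁻¹) = σ ^ i * (b * b) * (σ ^ i)⁻¹ := by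
        group
      rw [this, hb]; group
    | one => simp
    | mul x y hx hy ihx ihy =>
      have hxy : x * y = y * x := by
        have := mul_comm' (⟨x, hx⟩ : ↥(UU σ b)) ⟨y, hy⟩
        exact congrArg Subtype.val this
      calc x * y * (x * y) = x * (y * x) * y := by group
        _ = x * (x * y) * y := by rw [hxy]
        _ = (x * x) * (y * y) := by group
        _ = 1 := by rw [ihx, ihy, one_mul]
    | inv x hx ihx =>
      calc x⁻¹ * x⁻¹ = (x * x)⁻¹ := by group
        _ = 1 := by rw [ihx, inv_one]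
  -- conclusion
  intro v hv hcv
  have hfix : φ ⟨v, hv⟩ = ⟨v, hv⟩ := by
    apply Subtype.ext
    rw [hφ, NORM_aux_phi_coe]
    show σ * v * σ⁻¹ = v
    rw [hcv]; group
  have hNv : N ⟨v, hv⟩ = (⟨v, hv⟩ : ↥(UU σ b)) ^ m := by
    simp only [hN]
    rw [Finset.prod_congr rfl (fun j _ => Function.iterate_fixed hfix j), Finset.prod_const,
      Finset.card_range]
  obtain ⟨k, hk⟩ := hodd
  have hv2 : (⟨v, hv⟩ : ↥(UU σ b)) ^ 2 = 1 := by
    apply Subtype.ext
    rw [pow_two]
    exact hexp v hv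
  have : (⟨v, hv⟩ : ↥(UU σ b)) ^ m = ⟨v, hv⟩ := by
    rw [hk, pow_succ, pow_mul, hv2, one_pow, one_mul]
  have h1 : (⟨v, hv⟩ : ↥(UU σ b)) = 1 := by
    rw [← this, ← hNv]
    exact hNall v hv
  exact congrArg Subtype.val h1

end Cfsg.Agent.S5047P
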