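import Mathlib
import Cfsg.Prelude.Def_RootSubgroups
import Cfsg.Agent.Helper2.RootSub
import Cfsg.Agent.Helper2.SL2Emb
import Cfsg.Agent.Helper28.Siegel6
import Cfsg.Agent.Helper28.Spin9

/-!
# S5072 (Siegel transvection subgroups of `O⁺_{2(m+3)}(F)` form a set of abstract root subgroups):
shared definitions

`V = Vm (m+3) F` with the form `QfPlus (m+3) F` (any field `F`).  A *singular pair* `SP p r` is a
linearly independent pair of singular vectors with `B p r = 0` (a basis of a singular line).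
`El h c` is the Siegel transformation `x ↦ x + c B(p,x) r - c B(r,x) p`, `TT p r` the subgroup of the
statement (generated by the isometries fixing `⟨p,r⟩^⊥` pointwise), `Sig` the set of all `TT p r`.
-/

set_option autoImplicit false
set_option linter.unusedSectionVars false

namespace Cfsg.Agent.S5072P

open Matrix Cfsg Cfsg.Agent.Helper28.Sg Cfsg.Agent.Helper28.Spin Cfsg.Agent.Helper28.QPlus
  Cfsg.Agent.Helper28.IsoTransport

variable {F : Type*} [Field F] {m : ℕ}

/-- the isometry group of the plus type form in dimension `2(m+3)` -/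
abbrev GOp (m : ℕ) (F : Type*) [Field F] := ↥(Cfsg.isometryGroup F ⇑(QfPlus (m + 3) F))

theorem nondegP (m : ℕ) : (QuadraticMap.polarBilin (QfPlus (m + 3) F)).Nondegenerate :=
  QfPlus_nondeg (m + 3)

theorem hypPair_plus3 (n : ℕ) (j : Fin n) :
    IsHypPair (QfPlus n F) (Sum.inl j) (Sum.inr j) := by
  classical
  intro x s t
  simp only [QfPlus_coe, Cfsg.quadFormPlus, Pi.add_apply, Pi.smul_apply, Pi.single_apply, smul_eq_mul,
    Sum.inl.injEq, Sum.inr.injEq, reduceCtorEq, if_false, mul_zero, add_zero, mul_ite, mul_one]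
  have : ∀ k : Fin n, (x (Sum.inl k) + if k = j then s else 0) * (x (Sum.inr k) + if k = j then t else 0)
      = x (Sum.inl k) * x (Sum.inr k) + ((if k = j then s * x (Sum.inr k) else 0) +
        (if k = j then t * x (Sum.inl k) else 0) + (if k = j then s * t else 0)) := by
    intro k
    split_ifs <;> ring
  simp only [this, Finset.sum_add_distrib, Finset.sum_ite_eq', Finset.mem_univ, if_true]
  ring

/-- the standard frame (first three hyperbolic pairs) -/
noncomputable def fr3 (m : ℕ) : Frame3 (QfPlus (m + 3) F) :=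
  frameOf (fun j => Sum.inl (Fin.castLE (Nat.le_add_left 3 m) j))
    (fun j => Sum.inr (Fin.castLE (Nat.le_add_left 3 m) j))
    (by
      intro x y h
      rcases x with x | x <;> rcases y with y | y <;>
        simp only [Sum.elim_inl, Sum.elim_inr, Sum.inl.injEq, Sum.inr.injEq, reduceCtorEq,
          Fin.castLE_inj] at h
      · rw [h]
      · rw [h])
    (fun _ => hypPair_plus3 (m + 3) _)

/-- a basis of a singular line -/
structure SP (p r : Vm (m + 3) F) : Prop where
  ind : Indep p r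
  qp : QfPlus (m + 3) F p = 0
  qr : QfPlus (m + 3) F r = 0
  pr : B (QfPlus (m + 3) F) p r = 0

theorem SP.rp {p r : Vm (m + 3) F} (h : SP p r) : B (QfPlus (m + 3) F) r p = 0 := by
  rw [B_comm]; exact h.pr

theorem SP.pp {p r : Vm (m + 3) F} (h : SP p r) : B (QfPlus (m + 3) F) p p = 0 :=
  B_self_of_singular _ h.qp

theorem SP.rr {p r : Vm (m + 3) F} (h : SP p r) : B (QfPlus (m + 3) F) r r = 0 :=
  B_self_of_singular _ h.qr

theorem SP.symm {p r : Vm (m + 3) F} (h : SP p r) : SP r p :=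
  ⟨fun x y hxy => (h.ind y x (by rw [← hxy]; exact add_comm _ _)).symm, h.qr, h.qp, h.rp⟩

/-- the root element `x ↦ x + c B(p,x) r - c B(r,x) p` of the singular line `⟨p, r⟩` -/
noncomputable def El {p r : Vm (m + 3) F} (h : SP p r) (c : F) : GOp m F :=
  siegO (QfPlus (m + 3) F) p (c • r) h.qp (B_smul_right_zero _ c h.pr)

theorem El_mulVec {p r : Vm (m + 3) F} (h : SP p r) (c : F) (x : Vm (m + 3) F) :
    mt (QfPlus (m + 3) F) (El h c) *ᵥ x
      = x + (c * B (QfPlus (m + 3) F) p x) • r - (c * B (QfPlus (m + 3) F) r x) • p := by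
  unfold El
  rw [siegO_mulVec, Cfsg.Agent.Helper28.Sg.Q_smul, h.qr]
  simp only [B, QuadraticMap.polar_smul_left, smul_eq_mul]
  module

/-- the subgroup of the statement: generated by the isometries fixing `⟨p, r⟩^⊥` pointwise -/
def TT (p r : Vm (m + 3) F) : Subgroup (GOp m F) :=
  Subgroup.closure {σ : GOp m F | ∀ v : Vm (m + 3) F,
    B (QfPlus (m + 3) F) v p = 0 → B (QfPlus (m + 3) F) v r = 0 →
      mt (QfPlus (m + 3) F) σ *ᵥ v = v}

/-- the set of Siegel transvection subgroups -/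
def Sig (m : ℕ) (F : Type*) [Field F] : Set (Subgroup (GOp m F)) :=
  {A | ∃ p r : Vm (m + 3) F, SP p r ∧ A = TT p r}

/-- the Gram determinant of two pairs -/
def Dt (p r u w : Vm (m + 3) F) : F :=
  B (QfPlus (m + 3) F) p u * B (QfPlus (m + 3) F) r w
    - B (QfPlus (m + 3) F) p w * B (QfPlus (m + 3) F) r u

theorem TT_swap (p r : Vm (m + 3) F) : TT p r = TT r p := by
  unfold TT
  congr 1
  ext σ
  exact ⟨fun h v h1 h2 => h v h2 h1, fun h v h1 h2 => h v h2 h1⟩

/-- the image of a singular pair under an isometry -/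
theorem SP.map {p r : Vm (m + 3) F} (h : SP p r) (g : GOp m F) :
    SP (mt (QfPlus (m + 3) F) g *ᵥ p) (mt (QfPlus (m + 3) F) g *ᵥ r) := by
  refine ⟨fun x y hxy => ?_, ?_, ?_, ?_⟩
  · apply h.ind x y
    have h1 : mt (QfPlus (m + 3) F) g⁻¹ *ᵥ (x • (mt (QfPlus (m + 3) F) g *ᵥ p)
        + y • (mt (QfPlus (m + 3) F) g *ᵥ r)) = 0 := by rw [hxy, Matrix.mulVec_zero]
    rw [Matrix.mulVec_add, Matrix.mulVec_smul, Matrix.mulVec_smul, mt_inv_mulVec,
      mt_inv_mulVec] at h1
    exact h1
  · rw [Cfsg.Agent.Helper28.Spin.isom_apply, h.qp]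
  · rw [Cfsg.Agent.Helper28.Spin.isom_apply, h.qr]
  · rw [B_isom, h.pr]

theorem conj_El {p r : Vm (m + 3) F} (h : SP p r) (g : GOp m F) (c : F) :
    g * El h c * g⁻¹ = El (h.map g) c := by
  unfold El
  rw [siegO_conj (QfPlus (m + 3) F) g h.qp (B_smul_right_zero _ c h.pr) (h.map g).qp
    (by rw [B_isom]; exact B_smul_right_zero _ c h.pr)]
  apply siegO_congr
  · rfl
  · rw [Matrix.mulVec_smul]

theorem El_add {p r : Vm (m + 3) F} (h : SP p r) (c d : F) :
    El h c * El h d = El h (c + d) := by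
  unfold El
  rw [siegO_mul (QfPlus (m + 3) F) h.qp (B_smul_right_zero _ c h.pr) (B_smul_right_zero _ d h.pr)
    (B_add_right_zero _ (B_smul_right_zero _ c h.pr) (B_smul_right_zero _ d h.pr))]
  apply siegO_congr
  · rfl
  · rw [add_smul]

theorem El_zero {p r : Vm (m + 3) F} (h : SP p r) : El h 0 = 1 := by
  apply O_ext
  intro x
  rw [El_mulVec, mt_one_mulVec]
  simp

theorem El_inv {p r : Vm (m + 3) F} (h : SP p r) (c : F) : (El h c)⁻¹ = El h (-c) := by
  apply inv_eq_of_mul_eq_one_right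
  rw [El_add, add_neg_cancel, El_zero]

/-- dual vectors of a singular pair (from Witt's theorem) -/
theorem SP.exists_dual {p r : Vm (m + 3) F} (h : SP p r) :
    ∃ p' r' : Vm (m + 3) F, SP p' r' ∧
      B (QfPlus (m + 3) F) p p' = 1 ∧ B (QfPlus (m + 3) F) p r' = 0 ∧
      B (QfPlus (m + 3) F) r p' = 0 ∧ B (QfPlus (m + 3) F) r r' = 1 := by
  obtain ⟨g, hg1, hg2⟩ := witt_pair (nondegP m) (fr3 m) p r h.ind
  rw [h.qp, zero_smul, add_zero] at hg1
  rw [h.qr, h.pr, zero_smul, zero_smul, add_zero, add_zero] at hg2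
  have h01 : ((0 : Fin 3) = 1) = False := by simp
  have h10 : ((1 : Fin 3) = 0) = False := by simp
  have hf : SP ((fr3 m).f 0) ((fr3 m).f 1 : Vm (m + 3) F) := by
    refine ⟨fun x y hxy => ?_, (fr3 m).Qf 0, (fr3 m).Qf 1, (fr3 m).Bff 0 1⟩
    have h1 := congrArg (fun v => B (QfPlus (m + 3) F) ((fr3 m).e 0) v) hxy
    have h2 := congrArg (fun v => B (QfPlus (m + 3) F) ((fr3 m).e 1) v) hxy
    simp only [B, QuadraticMap.polar_add_right, QuadraticMap.polar_smul_right, (fr3 m).Bef,
      smul_eq_mul, QuadraticMap.polar_zero_right, h01, h10, if_true, if_false, mul_one, mul_zero,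
      add_zero, zero_add] at h1 h2
    exact ⟨h1, h2⟩
  refine ⟨_, _, hf.map g, ?_, ?_, ?_, ?_⟩
  · conv_lhs => rw [← hg1]
    rw [B_isom]; simp only [B, (fr3 m).Bef]; simp
  · conv_lhs => rw [← hg1]
    rw [B_isom]; simp only [B, (fr3 m).Bef]; simp
  · conv_lhs => rw [← hg2]
    rw [B_isom]; simp only [B, (fr3 m).Bef]; simp
  · conv_lhs => rw [← hg2]
    rw [B_isom]; simp only [B, (fr3 m).Bef]; simp

theorem El_eq_one_iff {p r : Vm (m + 3) F} (h : SP p r) (c : F) : El h c = 1 ↔ c = 0 := by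
  constructor
  · intro h1
    obtain ⟨p', r', -, h1', -, h3', -⟩ := h.exists_dual
    have h2 := congrArg (fun g => mt (QfPlus (m + 3) F) g *ᵥ p') h1
    simp only [El_mulVec, mt_one_mulVec, h1', h3', mul_one, mul_zero, zero_smul, sub_zero] at h2
    have h3 : c • r = 0 := by
      have : p' + c • r = p' + 0 := by rw [add_zero]; exact h2
      exact add_left_cancel this
    have := h.ind 0 c (by rw [zero_smul, zero_add]; exact h3)
    exact this.2
  · rintro rfl
    exact El_zero h

theorem El_injective {p r : Vm (m + 3) F} (h : SP p r) : Function.Injective (El h) := by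
  intro c d hcd
  have h1 : El h (c - d) = 1 := by
    rw [sub_eq_add_neg, ← El_add, ← El_inv, hcd, mul_inv_cancel]
  exact sub_eq_zero.mp ((El_eq_one_iff h _).mp h1)

/-- the hypotheses on a (possibly non-degenerate) family of subgroups -/
structure Hyp3 {G : Type*} [Group G] (L : Type*) [Field L] (S : Set (Subgroup G)) : Prop where
  comm : ∀ A ∈ S, IsMulCommutative A
  ne_bot : ∀ A ∈ S, A ≠ ⊥
  conj : ∀ A ∈ S, ∀ g : G, conjBy A g ∈ S
  pair : ∀ A ∈ S, ∀ B ∈ S, (∀ a ∈ A, ∀ b ∈ B, a * b = b * a) ∨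
    Cfsg.Agent.Helper2.RootSub.SL2Pair L A B ∨ RootCommutatorCase S A B

end Cfsg.Agent.S5072P
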