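import Mathlib
import Cfsg.Agent.Helper13.S5072Defs

/-! S5072 piece BASEA: change of basis of a singular line. -/

set_option autoImplicit false
set_option linter.unusedSectionVars false

namespace Cfsg.Agent.S5072P

open Matrix Cfsg Cfsg.Agent.Helper28.Sg Cfsg.Agent.Helper28.Spin Cfsg.Agent.Helper28.QPlus
  Cfsg.Agent.Helper28.IsoTransport

variable {F : Type*} [Field F] {m : ℕ}

theorem SP.lin {p r : Vm (m + 3) F} (h : SP p r) (a b c d : F) (hdet : a * d - b * c ≠ 0) :
    SP (a • p + b • r) (c • p + d • r) := by
  have e1 := h.pr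
  have e2 := h.rp
  have e3 := h.pp
  have e4 := h.rr
  refine ⟨fun s t hst => ?_, ?_, ?_, ?_⟩
  · have h1 : (s * a + t * c) • p + (s * b + t * d) • r = 0 := by
      rw [← hst]; module
    obtain ⟨h2, h3⟩ := h.ind _ _ h1
    constructor
    · have : s * (a * d - b * c) = 0 := by linear_combination d * h2 - c * h3
      exact (mul_eq_zero.mp this).resolve_right hdet
    · have : t * (a * d - b * c) = 0 := by linear_combination a * h3 - b * h2
      exact (mul_eq_zero.mp this).resolve_right hdet
  · rw [Q_lin2, h.qp, h.qr, h.pr]; ring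
  · rw [Q_lin2, h.qp, h.qr, h.pr]; ring
  · simp only [B] at e1 e2 e3 e4
    simp only [B, QuadraticMap.polar_add_right, QuadraticMap.polar_add_left,
      QuadraticMap.polar_smul_right, QuadraticMap.polar_smul_left, smul_eq_mul, e1, e2, e3, e4]
    ring

theorem TT_lin (p r : Vm (m + 3) F) (a b c d : F) (hdet : a * d - b * c ≠ 0) :
    TT (a • p + b • r) (c • p + d • r) = TT p r := by
  unfold TT
  congr 1
  ext σ
  simp only [Set.mem_setOf_eq]
  constructor
  · intro hσ v h1 h2
    apply hσ v
    · simp only [B] at h1 h2
      simp only [B, QuadraticMap.polar_add_right, QuadraticMap.polar_smul_right, smul_eq_mul,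
        h1, h2]
      ring
    · simp only [B] at h1 h2
      simp only [B, QuadraticMap.polar_add_right, QuadraticMap.polar_smul_right, smul_eq_mul,
        h1, h2]
      ring
  · intro hσ v h1 h2
    simp only [B, QuadraticMap.polar_add_right, QuadraticMap.polar_smul_right,
      smul_eq_mul] at h1 h2
    apply hσ v
    · have : (a * d - b * c) * QuadraticMap.polar (⇑(QfPlus (m + 3) F)) v p = 0 := by
        linear_combination d * h1 - b * h2
      exact (mul_eq_zero.mp this).resolve_left hdet
    · have : (a * d - b * c) * QuadraticMap.polar (⇑(QfPlus (m + 3) F)) v r = 0 := by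
        linear_combination a * h2 - c * h1
      exact (mul_eq_zero.mp this).resolve_left hdet

end Cfsg.Agent.S5072P
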