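import Mathlib
import Cfsg.Agent.Helper13.S5072Defs

/-! S5072 piece CCV: the commutator of two root elements in adapted position. -/

set_option autoImplicit false
set_option linter.unusedSectionVars false

namespace Cfsg.Agent.S5072P

open Matrix Cfsg Cfsg.Agent.Helper28.Sg Cfsg.Agent.Helper28.Spin Cfsg.Agent.Helper28.QPlus
  Cfsg.Agent.Helper28.IsoTransport

variable {F : Type*} [Field F] {m : ℕ}

theorem comm_El_mulVec {x y x' y' : Vm (m + 3) F} (h : SP x y) (h' : SP x' y')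
    (h1 : B (QfPlus (m + 3) F) x x' = 0) (h2 : B (QfPlus (m + 3) F) x y' = 0)
    (h3 : B (QfPlus (m + 3) F) y x' = 0) (a b : F) (v : Vm (m + 3) F) :
    mt (QfPlus (m + 3) F) (El h a * El h' b * (El h a)⁻¹ * (El h' b)⁻¹) *ᵥ v
      = v + (a * b * B (QfPlus (m + 3) F) y y') •
          (B (QfPlus (m + 3) F) x v • x' - B (QfPlus (m + 3) F) x' v • x) := by
  have e1 := h.pr
  have e2 := h.rp
  have e3 := h.pp
  have e4 := h.rr
  have e5 := h'.pr
  have e6 := h'.rp
  have e7 := h'.pp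
  have e8 := h'.rr
  have g1 : B (QfPlus (m + 3) F) x' x = 0 := by rw [B_comm]; exact h1
  have g2 : B (QfPlus (m + 3) F) y' x = 0 := by rw [B_comm]; exact h2
  have g3 : B (QfPlus (m + 3) F) x' y = 0 := by rw [B_comm]; exact h3
  have g4 : B (QfPlus (m + 3) F) y' y = B (QfPlus (m + 3) F) y y' := B_comm _ _ _
  rw [El_inv, El_inv, mt_mul_mulVec, mt_mul_mulVec, mt_mul_mulVec, El_mulVec h' (-b) v,
    El_mulVec h (-a), El_mulVec h' b, El_mulVec h a]
  simp only [B] at e1 e2 e3 e4 e5 e6 e7 e8 g1 g2 g3 g4 h1 h2 h3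
  simp only [B, QuadraticMap.polar_add_right, QuadraticMap.polar_sub_right,
    QuadraticMap.polar_smul_right, smul_eq_mul, e1, e2, e3, e4, e5, e6, e7, e8, g1, g2, g3, g4,
    h1, h2, h3, mul_zero, add_zero, sub_zero]
  module

end Cfsg.Agent.S5072P
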