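import Mathlib
import Cfsg.Agent.Helper13.S5072Defs
import Cfsg.Agent.Helper25.S5072TID

/-! S5072 piece SL2: two dual singular pairs give an embedding of `SL₂(F)` whose unitriangular
subgroups map onto the two Siegel transvection subgroups. -/

set_option autoImplicit false
set_option linter.unusedSectionVars false

namespace Cfsg.Agent.S5072P

open Matrix Cfsg Cfsg.Agent.Helper28.Sg Cfsg.Agent.Helper28.Spin Cfsg.Agent.Helper28.QPlus
  Cfsg.Agent.Helper28.IsoTransport Cfsg.Agent.Helper25 Cfsg.Agent.Helper2.SL2Emb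

namespace SL2

variable {F : Type*} [Field F] {ι : Type} [Fintype ι] [DecidableEq ι]

/-- the matrix with columns `u₀`, `u₁` -/
def colM (u₀ u₁ : ι → F) : Matrix ι (Fin 2) F := Matrix.of fun i j => ![u₀ i, u₁ i] j

/-- the matrix with rows `a₀`, `a₁` -/
def rowM (a₀ a₁ : ι → F) : Matrix (Fin 2) ι F := Matrix.of fun j i => ![a₀ i, a₁ i] j

theorem rowM_mul_colM (a₀ a₁ u₀ u₁ : ι → F) :
    rowM a₀ a₁ * colM u₀ u₁ = !![a₀ ⬝ᵥ u₀, a₀ ⬝ᵥ u₁; a₁ ⬝ᵥ u₀, a₁ ⬝ᵥ u₁] := by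
  ext j k
  fin_cases j <;> fin_cases k <;> simp [Matrix.mul_apply, dotProduct, rowM, colM]

theorem one_add_smul_vecMulVec_mulVec (c : F) (u a x : ι → F) :
    (1 + c • vecMulVec u a) *ᵥ x = x + (c * (a ⬝ᵥ x)) • u := by
  rw [Matrix.add_mulVec, Matrix.one_mulVec, Matrix.smul_mulVec, Matrix.vecMulVec_mulVec]
  ext i
  simp only [Pi.add_apply, Pi.smul_apply, MulOpposite.smul_eq_mul_unop, MulOpposite.unop_op,
    smul_eq_mul]
  ring

variable {E₁ E₂ : Matrix ι (Fin 2) F} {R₁ R₂ : Matrix (Fin 2) ι F}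

theorem emb_comm (h12 : R₁ * E₂ = 0) (h21 : R₂ * E₁ = 0) (g g' : Matrix (Fin 2) (Fin 2) F) :
    emb E₁ R₁ g * emb E₂ R₂ g' = emb E₂ R₂ g' * emb E₁ R₁ g := by
  have k1 : ∀ A B' : Matrix (Fin 2) (Fin 2) F, (E₁ * A * R₁) * (E₂ * B' * R₂) = 0 := by
    intro A B'
    calc (E₁ * A * R₁) * (E₂ * B' * R₂) = E₁ * A * (R₁ * E₂) * B' * R₂ := by
          simp only [Matrix.mul_assoc]
      _ = 0 := by rw [h12]; simp
  have k2 : ∀ A B' : Matrix (Fin 2) (Fin 2) F, (E₂ * B' * R₂) * (E₁ * A * R₁) = 0 := by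
    intro A B'
    calc (E₂ * B' * R₂) * (E₁ * A * R₁) = E₂ * B' * (R₂ * E₁) * A * R₁ := by
          simp only [Matrix.mul_assoc]
      _ = 0 := by rw [h21]; simp
  simp only [emb, Matrix.mul_add, Matrix.add_mul, Matrix.mul_one, Matrix.one_mul, k1, k2]
  abel

/-- the product of the two block embeddings -/
def emb2 (E₁ : Matrix ι (Fin 2) F) (R₁ : Matrix (Fin 2) ι F) (E₂ : Matrix ι (Fin 2) F)
    (R₂ : Matrix (Fin 2) ι F) (g : Matrix (Fin 2) (Fin 2) F) : Matrix ι ι F :=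
  emb E₁ R₁ g * emb E₂ R₂ g

theorem emb2_mul (h11 : R₁ * E₁ = 1) (h22 : R₂ * E₂ = 1) (h12 : R₁ * E₂ = 0)
    (h21 : R₂ * E₁ = 0) (g g' : Matrix (Fin 2) (Fin 2) F) :
    emb2 E₁ R₁ E₂ R₂ (g * g') = emb2 E₁ R₁ E₂ R₂ g * emb2 E₁ R₁ E₂ R₂ g' := by
  unfold emb2
  rw [emb_mul h11, emb_mul h22]
  calc emb E₁ R₁ g * emb E₁ R₁ g' * (emb E₂ R₂ g * emb E₂ R₂ g')
      = emb E₁ R₁ g * (emb E₁ R₁ g' * emb E₂ R₂ g) * emb E₂ R₂ g' := by
        simp only [Matrix.mul_assoc]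
    _ = emb E₁ R₁ g * (emb E₂ R₂ g * emb E₁ R₁ g') * emb E₂ R₂ g' := by
        rw [emb_comm h12 h21]
    _ = emb E₁ R₁ g * emb E₂ R₂ g * (emb E₁ R₁ g' * emb E₂ R₂ g') := by
        simp only [Matrix.mul_assoc]

theorem emb2_one : emb2 E₁ R₁ E₂ R₂ 1 = 1 := by
  unfold emb2; rw [emb_one, emb_one, Matrix.one_mul]

theorem emb2_eq (h12 : R₁ * E₂ = 0) (g : Matrix (Fin 2) (Fin 2) F) :
    emb2 E₁ R₁ E₂ R₂ g = 1 + E₁ * (g - 1) * R₁ + E₂ * (g - 1) * R₂ := by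
  have k1 : (E₁ * (g - 1) * R₁) * (E₂ * (g - 1) * R₂) = 0 := by
    calc (E₁ * (g - 1) * R₁) * (E₂ * (g - 1) * R₂)
        = E₁ * (g - 1) * (R₁ * E₂) * (g - 1) * R₂ := by simp only [Matrix.mul_assoc]
      _ = 0 := by rw [h12]; simp
  simp only [emb2, emb, Matrix.mul_add, Matrix.add_mul, Matrix.mul_one, Matrix.one_mul, k1]
  abel

theorem emb2_injective (h11 : R₁ * E₁ = 1) (h12 : R₁ * E₂ = 0) (h21 : R₂ * E₁ = 0)
    {g g' : Matrix (Fin 2) (Fin 2) F} (hgg : emb2 E₁ R₁ E₂ R₂ g = emb2 E₁ R₁ E₂ R₂ g') :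
    g = g' := by
  rw [emb2_eq h12, emb2_eq h12] at hgg
  have h3 : ∀ A : Matrix (Fin 2) (Fin 2) F,
      R₁ * (1 + E₁ * A * R₁ + E₂ * A * R₂) * E₁ = 1 + A := by
    intro A
    calc R₁ * (1 + E₁ * A * R₁ + E₂ * A * R₂) * E₁
        = R₁ * E₁ + (R₁ * E₁) * A * (R₁ * E₁) + (R₁ * E₂) * A * (R₂ * E₁) := by
          simp only [Matrix.mul_add, Matrix.add_mul, Matrix.mul_one, Matrix.mul_assoc]
      _ = 1 + A := by rw [h11, h12, h21]; simp
  have h4 := congrArg (fun M => R₁ * M * E₁) hgg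
  simp only [h3] at h4
  have h5 : g - 1 = g' - 1 := add_left_cancel h4
  exact sub_left_injective h5

theorem det_emb2 (h11 : R₁ * E₁ = 1) (h22 : R₂ * E₂ = 1) (g : Matrix (Fin 2) (Fin 2) F) :
    (emb2 E₁ R₁ E₂ R₂ g).det = g.det * g.det := by
  unfold emb2
  rw [Matrix.det_mul, det_emb h11, det_emb h22]

end SL2

open SL2

variable {F : Type*} [Field F] {m : ℕ}

namespace SL2

section data

variable {p r f₁ f₂ : Vm (m + 3) F}

/-- first block: columns `p, f₂` -/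
def E1 (p f₂ : Vm (m + 3) F) : Matrix (Fin (m + 3) ⊕ Fin (m + 3)) (Fin 2) F := colM p f₂
/-- first block: rows `B(f₁,·), B(r,·)` -/
def R1 (f₁ r : Vm (m + 3) F) : Matrix (Fin 2) (Fin (m + 3) ⊕ Fin (m + 3)) F :=
  rowM (Cfsg.polarVec ⇑(QfPlus (m + 3) F) f₁) (Cfsg.polarVec ⇑(QfPlus (m + 3) F) r)
/-- second block: columns `-r, f₁` -/
def E2 (r f₁ : Vm (m + 3) F) : Matrix (Fin (m + 3) ⊕ Fin (m + 3)) (Fin 2) F := colM (-r) f₁
/-- second block: rows `-B(f₂,·), B(p,·)` -/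
def R2 (f₂ p : Vm (m + 3) F) : Matrix (Fin 2) (Fin (m + 3) ⊕ Fin (m + 3)) F :=
  rowM (-Cfsg.polarVec ⇑(QfPlus (m + 3) F) f₂) (Cfsg.polarVec ⇑(QfPlus (m + 3) F) p)

theorem pv_dot (u x : Vm (m + 3) F) :
    Cfsg.polarVec ⇑(QfPlus (m + 3) F) u ⬝ᵥ x = B (QfPlus (m + 3) F) u x :=
  polarVec_dot (QfPlus (m + 3) F) u x

variable (h : SP p r) (hf : SP f₁ f₂)
  (h11 : B (QfPlus (m + 3) F) p f₁ = 1) (h12 : B (QfPlus (m + 3) F) p f₂ = 0)
  (h21 : B (QfPlus (m + 3) F) r f₁ = 0) (h22 : B (QfPlus (m + 3) F) r f₂ = 1)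

include h hf h11 h12 h21 h22

theorem R1E1 : R1 f₁ r * E1 p f₂ = 1 := by
  unfold R1 E1
  rw [rowM_mul_colM, pv_dot, pv_dot, pv_dot, pv_dot, B_comm _ f₁ p, h11, hf.pr, h.rp, h22]
  exact Matrix.one_fin_two.symm

theorem R2E2 : R2 f₂ p * E2 r f₁ = 1 := by
  unfold R2 E2
  rw [rowM_mul_colM]
  simp only [neg_dotProduct, dotProduct_neg, pv_dot, neg_neg]
  rw [B_comm _ f₂ r, h22, hf.rp, h.pr, h11]
  simp [Matrix.one_fin_two]

theorem R1E2 : R1 f₁ r * E2 r f₁ = 0 := by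
  unfold R1 E2
  rw [rowM_mul_colM]
  simp only [dotProduct_neg, pv_dot]
  rw [B_comm _ f₁ r, h21, hf.pp, h.rr]
  ext i j; fin_cases i <;> fin_cases j <;> simp

theorem R2E1 : R2 f₂ p * E1 p f₂ = 0 := by
  unfold R2 E1
  rw [rowM_mul_colM]
  simp only [neg_dotProduct, pv_dot]
  rw [B_comm _ f₂ p, h12, hf.rr, h.pp]
  ext i j; fin_cases i <;> fin_cases j <;> simp

/-- the image of an upper unitriangular matrix -/
theorem emb2_upper (c : F) :
    emb2 (E1 p f₂) (R1 f₁ r) (E2 r f₁) (R2 f₂ p)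
      ((sl2Upper c : Matrix.SpecialLinearGroup (Fin 2) F) : Matrix (Fin 2) (Fin 2) F)
      = mt (QfPlus (m + 3) F) (El h (-c)) := by
  apply matrix_ext_mulVec
  intro x
  unfold emb2
  rw [emb_upper, emb_upper, ← Matrix.mulVec_mulVec, El_mulVec]
  have a1 : (fun i => E2 r f₁ i 0) = -r := by
    funext i; simp [E2, colM]
  have a2 : (fun j => R2 f₂ p 1 j) = Cfsg.polarVec ⇑(QfPlus (m + 3) F) p := by
    funext j; simp [R2, rowM]
  have a3 : (fun i => E1 p f₂ i 0) = p := by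
    funext i; simp [E1, colM]
  have a4 : (fun j => R1 f₁ r 1 j) = Cfsg.polarVec ⇑(QfPlus (m + 3) F) r := by
    funext j; simp [R1, rowM]
  rw [a1, a2, a3, a4, one_add_smul_vecMulVec_mulVec, one_add_smul_vecMulVec_mulVec, pv_dot,
    pv_dot]
  have e4 := h.rr
  simp only [B] at e4
  simp only [B, QuadraticMap.polar_add_right, QuadraticMap.polar_smul_right,
    QuadraticMap.polar_neg_right, smul_eq_mul, e4]
  module

/-- the image of a lower unitriangular matrix -/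
theorem emb2_lower (c : F) :
    emb2 (E1 p f₂) (R1 f₁ r) (E2 r f₁) (R2 f₂ p)
      ((sl2Lower c : Matrix.SpecialLinearGroup (Fin 2) F) : Matrix (Fin 2) (Fin 2) F)
      = mt (QfPlus (m + 3) F) (El hf c) := by
  apply matrix_ext_mulVec
  intro x
  unfold emb2
  rw [emb_lower, emb_lower, ← Matrix.mulVec_mulVec, El_mulVec]
  have a1 : (fun i => E2 r f₁ i 1) = f₁ := by
    funext i; simp [E2, colM]
  have a2 : (fun j => R2 f₂ p 0 j) = -Cfsg.polarVec ⇑(QfPlus (m + 3) F) f₂ := by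
    funext j; simp [R2, rowM]
  have a3 : (fun i => E1 p f₂ i 1) = f₂ := by
    funext i; simp [E1, colM]
  have a4 : (fun j => R1 f₁ r 0 j) = Cfsg.polarVec ⇑(QfPlus (m + 3) F) f₁ := by
    funext j; simp [R1, rowM]
  rw [a1, a2, a3, a4, one_add_smul_vecMulVec_mulVec, one_add_smul_vecMulVec_mulVec,
    neg_dotProduct, pv_dot, pv_dot]
  have e4 := hf.pp
  simp only [B] at e4
  simp only [B, QuadraticMap.polar_add_right, QuadraticMap.polar_smul_right, smul_eq_mul, e4]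
  module

/-- every image is (the matrix of) an isometry -/
theorem emb2_isom (g : Matrix.SpecialLinearGroup (Fin 2) F) :
    ∃ σ : GOp m F, mt (QfPlus (m + 3) F) σ
      = emb2 (E1 p f₂) (R1 f₁ r) (E2 r f₁) (R2 f₂ p) (g : Matrix (Fin 2) (Fin 2) F) := by
  let P : Matrix.SpecialLinearGroup (Fin 2) F → Prop := fun g =>
    ∃ σ : GOp m F, mt (QfPlus (m + 3) F) σ
      = emb2 (E1 p f₂) (R1 f₁ r) (E2 r f₁) (R2 f₂ p) (g : Matrix (Fin 2) (Fin 2) F)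
  have h1 : ∀ c, P (sl2Upper c) := fun c =>
    ⟨El h (-c), (emb2_upper h hf h11 h12 h21 h22 c).symm⟩
  have h2 : ∀ c, P (sl2Lower c) := fun c =>
    ⟨El hf c, (emb2_lower h hf h11 h12 h21 h22 c).symm⟩
  have h3 : ∀ a b, P a → P b → P (a * b) := by
    rintro a b ⟨σ, hσ⟩ ⟨τ, hτ⟩
    refine ⟨σ * τ, ?_⟩
    rw [mt_mul, hσ, hτ, Matrix.SpecialLinearGroup.coe_mul,
      emb2_mul (R1E1 h hf h11 h12 h21 h22) (R2E2 h hf h11 h12 h21 h22)
        (R1E2 h hf h11 h12 h21 h22) (R2E1 h hf h11 h12 h21 h22)]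
  exact sl2_induction P h1 h2 h3 g

end data

end SL2

theorem sl2Pair_of_dual {p r f₁ f₂ : Vm (m + 3) F} (h : SP p r) (hf : SP f₁ f₂)
    (h11 : B (QfPlus (m + 3) F) p f₁ = 1) (h12 : B (QfPlus (m + 3) F) p f₂ = 0)
    (h21 : B (QfPlus (m + 3) F) r f₁ = 0) (h22 : B (QfPlus (m + 3) F) r f₂ = 1) :
    Cfsg.Agent.Helper2.RootSub.SL2Pair F (TT p r) (TT f₁ f₂) := by
  classical
  have hisom := SL2.emb2_isom h hf h11 h12 h21 h22
  have H11 := SL2.R1E1 h hf h11 h12 h21 h22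
  have H22 := SL2.R2E2 h hf h11 h12 h21 h22
  have H12 := SL2.R1E2 h hf h11 h12 h21 h22
  have H21 := SL2.R2E1 h hf h11 h12 h21 h22
  -- the map
  let φ : Matrix.SpecialLinearGroup (Fin 2) F → GOp m F := fun g => (hisom g).choose
  have hφ : ∀ g, mt (QfPlus (m + 3) F) (φ g)
      = emb2 (SL2.E1 p f₂) (SL2.R1 f₁ r) (SL2.E2 r f₁) (SL2.R2 f₂ p)
          (g : Matrix (Fin 2) (Fin 2) F) := fun g => (hisom g).choose_spec
  have hext : ∀ σ τ : GOp m F, mt (QfPlus (m + 3) F) σ = mt (QfPlus (m + 3) F) τ → σ = τ := by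
    intro σ τ hst
    apply O_ext
    intro x
    rw [hst]
  let ρ : Matrix.SpecialLinearGroup (Fin 2) F →* GOp m F := MonoidHom.mk' φ (by
    intro a b
    apply hext
    rw [mt_mul, hφ, hφ, hφ, Matrix.SpecialLinearGroup.coe_mul, emb2_mul H11 H22 H12 H21])
  have hρ : ∀ g, mt (QfPlus (m + 3) F) (ρ g)
      = emb2 (SL2.E1 p f₂) (SL2.R1 f₁ r) (SL2.E2 r f₁) (SL2.R2 f₂ p)
          (g : Matrix (Fin 2) (Fin 2) F) := hφ
  have hinj : Function.Injective ρ := by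
    intro a b hab
    apply Subtype.ext
    apply emb2_injective H11 H12 H21
    rw [← hρ, ← hρ, hab]
  have hu : ∀ c : F, ρ (sl2Upper c) = El h (-c) := by
    intro c
    apply hext
    rw [hρ, SL2.emb2_upper h hf h11 h12 h21 h22]
  have hl : ∀ c : F, ρ (sl2Lower c) = El hf c := by
    intro c
    apply hext
    rw [hρ, SL2.emb2_lower h hf h11 h12 h21 h22]
  refine ⟨ρ, hinj, ?_, ?_⟩
  · ext g
    rw [Subgroup.mem_map, mem_TT h]
    constructor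
    · rintro ⟨x, hx, rfl⟩
      rw [eq_sl2Upper_of_mem hx, hu]
      exact ⟨_, rfl⟩
    · rintro ⟨c, rfl⟩
      refine ⟨sl2Upper (-c), sl2Upper_mem _, ?_⟩
      rw [hu, neg_neg]
  · ext g
    rw [Subgroup.mem_map, mem_TT hf]
    constructor
    · rintro ⟨x, hx, rfl⟩
      rw [eq_sl2Lower_of_mem hx, hl]
      exact ⟨_, rfl⟩
    · rintro ⟨c, rfl⟩
      exact ⟨sl2Lower c, sl2Lower_mem _, hl c⟩

end Cfsg.Agent.S5072P
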