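import Mathlib
import Cfsg.Agent.Helper13.S5072Defs
import Cfsg.Agent.Helper8.S5072GEN
import Cfsg.Agent.Helper25.S5072TID
import Cfsg.Agent.Helper13.S5072CCV
import Cfsg.Agent.Helper13.S5072BASEA
import Cfsg.Agent.Helper3.S5072BASE1
import Cfsg.Agent.Helper7.S5072BASE2
import Cfsg.Agent.Helper13.S5072SL2
import Cfsg.Agent.Helper7.S5072CO
import Cfsg.Agent.Helper21.S5072ZEX

/-!
# S5072: assembly (trichotomy for pairs of Siegel transvection subgroups, connectivity, `Hyp3`)
-/

set_option autoImplicit false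
set_option linter.unusedSectionVars false

namespace Cfsg.Agent.S5072P

open Matrix Cfsg Cfsg.Agent.Helper28.Sg Cfsg.Agent.Helper28.Spin Cfsg.Agent.Helper28.QPlus
  Cfsg.Agent.Helper28.IsoTransport Cfsg.Agent.Helper25 Cfsg.Agent.Helper2.RootGeneric

open scoped commutatorElement

variable {F : Type*} [Field F] {m : ℕ}

theorem mem_Sig {p r : Vm (m + 3) F} (h : SP p r) : TT p r ∈ Sig m F := ⟨p, r, h, rfl⟩

theorem El_mem_TT {p r : Vm (m + 3) F} (h : SP p r) (c : F) : El h c ∈ TT p r :=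
  (mem_TT h _).mpr ⟨c, rfl⟩

theorem TT_comm {p r : Vm (m + 3) F} (h : SP p r) : IsMulCommutative (TT p r) := by
  refine ⟨⟨fun a b => ?_⟩⟩
  obtain ⟨c, hc⟩ := (mem_TT h a.1).mp a.2
  obtain ⟨d, hd⟩ := (mem_TT h b.1).mp b.2
  apply Subtype.ext
  show a.1 * b.1 = b.1 * a.1
  rw [hc, hd, El_add, El_add, add_comm]

theorem TT_ne_bot {p r : Vm (m + 3) F} (h : SP p r) : TT p r ≠ ⊥ := by
  intro hb
  have h1 : El h 1 ∈ TT p r := El_mem_TT h 1
  rw [hb, Subgroup.mem_bot, El_eq_one_iff] at h1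
  exact one_ne_zero h1

theorem conjBy_TT {p r : Vm (m + 3) F} (h : SP p r) (g : GOp m F) :
    conjBy (TT p r) g
      = TT (mt (QfPlus (m + 3) F) g *ᵥ p) (mt (QfPlus (m + 3) F) g *ᵥ r) := by
  ext x
  rw [mem_conjBy_iff, mem_TT h, mem_TT (h.map g)]
  constructor
  · rintro ⟨c, hc⟩
    refine ⟨c, ?_⟩
    rw [← conj_El h g c, ← hc]; group
  · rintro ⟨c, hc⟩
    refine ⟨c, ?_⟩
    rw [hc, ← conj_El h g c]; group

theorem commute_of_comm_one {G : Type*} [Group G] {a b : G} (h : a * b * a⁻¹ * b⁻¹ = 1) :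
    a * b = b * a := by
  calc a * b = (a * b * a⁻¹ * b⁻¹) * (b * a) := by group
    _ = b * a := by rw [h, one_mul]

/-- the vector `B x v • x' - B x' v • x` vanishes when `x`, `x'` are dependent -/
theorem dep_vec_zero {x x' : Vm (m + 3) F} (hdep : ¬ Indep x x') (v : Vm (m + 3) F) :
    B (QfPlus (m + 3) F) x v • x' - B (QfPlus (m + 3) F) x' v • x = 0 := by
  unfold Indep at hdep
  rw [not_forall] at hdep
  obtain ⟨s, hdep⟩ := hdep
  rw [not_forall] at hdep
  obtain ⟨t, hdep⟩ := hdep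
  rw [Classical.not_imp] at hdep
  obtain ⟨hst, hne⟩ := hdep
  have e1 : t • x' = -(s • x) := by
    have : s • x + t • x' = 0 := hst
    exact (neg_eq_of_add_eq_zero_right this).symm
  have e2 : s • x = -(t • x') := by
    exact (neg_eq_of_add_eq_zero_left hst).symm
  have ht : t • (B (QfPlus (m + 3) F) x v • x' - B (QfPlus (m + 3) F) x' v • x) = 0 := by
    have h1 : t * B (QfPlus (m + 3) F) x' v = -(s * B (QfPlus (m + 3) F) x v) := by
      have := congrArg (fun z => B (QfPlus (m + 3) F) z v) e1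
      simpa only [B, QuadraticMap.polar_smul_left, QuadraticMap.polar_neg_left, smul_eq_mul]
        using this
    calc t • (B (QfPlus (m + 3) F) x v • x' - B (QfPlus (m + 3) F) x' v • x)
        = B (QfPlus (m + 3) F) x v • (t • x') - (t * B (QfPlus (m + 3) F) x' v) • x := by module
      _ = 0 := by rw [e1, h1]; module
  have hs : s • (B (QfPlus (m + 3) F) x v • x' - B (QfPlus (m + 3) F) x' v • x) = 0 := by
    have h1 : s * B (QfPlus (m + 3) F) x v = -(t * B (QfPlus (m + 3) F) x' v) := by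
      have := congrArg (fun z => B (QfPlus (m + 3) F) z v) e2
      simpa only [B, QuadraticMap.polar_smul_left, QuadraticMap.polar_neg_left, smul_eq_mul]
        using this
    calc s • (B (QfPlus (m + 3) F) x v • x' - B (QfPlus (m + 3) F) x' v • x)
        = (s * B (QfPlus (m + 3) F) x v) • x' - B (QfPlus (m + 3) F) x' v • (s • x) := by module
      _ = 0 := by rw [e2, h1]; module
  by_cases hs0 : s = 0
  · have ht0 : t ≠ 0 := fun h0 => hne ⟨hs0, h0⟩
    exact (smul_eq_zero.mp ht).resolve_left ht0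
  · exact (smul_eq_zero.mp hs).resolve_left hs0

/-- root elements in adapted position commute when `B y y' = 0` or `x`, `x'` are dependent -/
theorem El_commute {x y x' y' : Vm (m + 3) F} (h : SP x y) (h' : SP x' y')
    (h1 : B (QfPlus (m + 3) F) x x' = 0) (h2 : B (QfPlus (m + 3) F) x y' = 0)
    (h3 : B (QfPlus (m + 3) F) y x' = 0)
    (hz : B (QfPlus (m + 3) F) y y' = 0 ∨ ¬ Indep x x') (a b : F) :
    El h a * El h' b = El h' b * El h a := by
  apply commute_of_comm_one
  apply O_ext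
  intro v
  rw [comm_El_mulVec h h' h1 h2 h3, mt_one_mulVec]
  rcases hz with hz | hz
  · rw [hz]; simp
  · rw [dep_vec_zero hz]; simp

/-- the commutator of two root elements in adapted position -/
theorem El_comm_eq {x y x' y' : Vm (m + 3) F} (h : SP x y) (h' : SP x' y')
    (h1 : B (QfPlus (m + 3) F) x x' = 0) (h2 : B (QfPlus (m + 3) F) x y' = 0)
    (h3 : B (QfPlus (m + 3) F) y x' = 0) (hxx : SP x x') (a b : F) :
    El h a * El h' b * (El h a)⁻¹ * (El h' b)⁻¹
      = El hxx (a * b * B (QfPlus (m + 3) F) y y') := by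
  apply O_ext
  intro v
  rw [comm_El_mulVec h h' h1 h2 h3, El_mulVec]
  module

/-- the trichotomy -/
theorem pair3 : ∀ A ∈ Sig m F, ∀ B' ∈ Sig m F, (∀ a ∈ A, ∀ b ∈ B', a * b = b * a) ∨
    Cfsg.Agent.Helper2.RootSub.SL2Pair F A B' ∨ RootCommutatorCase (Sig m F) A B' := by
  rintro _ ⟨p, r, h, rfl⟩ _ ⟨p', r', h', rfl⟩
  by_cases hd : Dt p r p' r' = 0
  · obtain ⟨x, y, x', y', hx, hx', e1, e2, h1, h2, h3⟩ := exists_adapted h h' hd
    rw [← e1, ← e2]
    by_cases hc : B (QfPlus (m + 3) F) y y' = 0 ∨ ¬ Indep x x'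
    · left
      intro a ha b hb
      obtain ⟨α, rfl⟩ := (mem_TT hx a).mp ha
      obtain ⟨β, rfl⟩ := (mem_TT hx' b).mp hb
      exact El_commute hx hx' h1 h2 h3 hc α β
    · right; right
      have hμ : B (QfPlus (m + 3) F) y y' ≠ 0 := fun h0 => hc (Or.inl h0)
      have hind : Indep x x' := by
        by_contra h0; exact hc (Or.inr h0)
      have hxx : SP x x' := ⟨hind, hx.qp, hx'.qp, h1⟩
      have key := El_comm_eq hx hx' h1 h2 h3 hxx
      have hcomm : ⁅TT x y, TT x' y'⁆ = TT x x' := by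
        apply le_antisymm
        · rw [Subgroup.commutator_le]
          intro a ha b hb
          obtain ⟨α, rfl⟩ := (mem_TT hx a).mp ha
          obtain ⟨β, rfl⟩ := (mem_TT hx' b).mp hb
          rw [commutatorElement_def, key]
          exact El_mem_TT hxx _
        · intro g hg
          obtain ⟨c, rfl⟩ := (mem_TT hxx g).mp hg
          have h4 : ⁅El hx (c * (B (QfPlus (m + 3) F) y y')⁻¹), El hx' 1⁆
              ∈ ⁅TT x y, TT x' y'⁆ :=
            Subgroup.commutator_mem_commutator (El_mem_TT hx _) (El_mem_TT hx' _)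
          rw [commutatorElement_def, key] at h4
          have h5 : c * (B (QfPlus (m + 3) F) y y')⁻¹ * 1 * B (QfPlus (m + 3) F) y y' = c := by
            field_simp
          rw [h5] at h4
          exact h4
      refine ⟨?_, ?_, ?_, ?_⟩
      · rw [hcomm]; exact mem_Sig hxx
      · intro c hc' z hz
        rw [hcomm] at hc'
        obtain ⟨γ, rfl⟩ := (mem_TT hxx c).mp hc'
        have hle : TT x y ⊔ TT x' y' ≤ Subgroup.centralizer {El hxx γ} := by
          apply sup_le
          · intro a ha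
            obtain ⟨α, rfl⟩ := (mem_TT hx a).mp ha
            rw [Subgroup.mem_centralizer_iff]
            intro g hg
            rw [Set.mem_singleton_iff] at hg
            rw [hg]
            exact El_commute hxx hx hx.pp hx.pr (by rw [B_comm]; exact h1)
              (Or.inl (by rw [B_comm]; exact h3)) γ α
          · intro b hb
            obtain ⟨β, rfl⟩ := (mem_TT hx' b).mp hb
            rw [Subgroup.mem_centralizer_iff]
            intro g hg
            rw [Set.mem_singleton_iff] at hg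
            rw [hg]
            exact El_commute hxx hx' h1 h2 hx'.pp (Or.inl hx'.pr) γ β
        exact Subgroup.mem_centralizer_iff.mp (hle hz) _ (Set.mem_singleton _)
      · intro a ha ha1
        obtain ⟨α, rfl⟩ := (mem_TT hx a).mp ha
        have hα : α ≠ 0 := fun h0 => ha1 ((El_eq_one_iff hx α).mpr h0)
        rw [hcomm]
        apply le_antisymm
        · rw [Subgroup.closure_le]
          rintro _ ⟨b, hb, rfl⟩
          obtain ⟨β, rfl⟩ := (mem_TT hx' b).mp hb
          show El hx α * El hx' β * (El hx α)⁻¹ * (El hx' β)⁻¹ ∈ TT x x'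
          rw [key]
          exact El_mem_TT hxx _
        · intro g hg
          obtain ⟨c, rfl⟩ := (mem_TT hxx g).mp hg
          apply Subgroup.subset_closure
          refine ⟨El hx' (c * (α * B (QfPlus (m + 3) F) y y')⁻¹), El_mem_TT hx' _, ?_⟩
          show El hx α * El hx' _ * (El hx α)⁻¹ * (El hx' _)⁻¹ = _
          rw [key]
          congr 1
          field_simp
      · intro b hb hb1
        obtain ⟨β, rfl⟩ := (mem_TT hx' b).mp hb
        have hβ : β ≠ 0 := fun h0 => hb1 ((El_eq_one_iff hx' β).mpr h0)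
        rw [hcomm]
        apply le_antisymm
        · rw [Subgroup.closure_le]
          rintro _ ⟨a, ha, rfl⟩
          obtain ⟨α, rfl⟩ := (mem_TT hx a).mp ha
          show El hx α * El hx' β * (El hx α)⁻¹ * (El hx' β)⁻¹ ∈ TT x x'
          rw [key]
          exact El_mem_TT hxx _
        · intro g hg
          obtain ⟨c, rfl⟩ := (mem_TT hxx g).mp hg
          apply Subgroup.subset_closure
          refine ⟨El hx (c * (β * B (QfPlus (m + 3) F) y y')⁻¹), El_mem_TT hx _, ?_⟩
          show El hx _ * El hx' β * (El hx _)⁻¹ * (El hx' β)⁻¹ = _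
          rw [key]
          congr 1
          field_simp
  · right; left
    obtain ⟨f₁, f₂, hf, e, h11, h12, h21, h22⟩ := exists_dual_basis h h' hd
    rw [← e]
    exact sl2Pair_of_dual h hf h11 h12 h21 h22

/-- the family satisfies the hypotheses of the generic theorem -/
theorem hyp3 : Hyp3 F (Sig m F) where
  comm := by
    rintro _ ⟨p, r, h, rfl⟩; exact TT_comm h
  ne_bot := by
    rintro _ ⟨p, r, h, rfl⟩; exact TT_ne_bot h
  conj := by
    rintro _ ⟨p, r, h, rfl⟩ g
    exact ⟨_, _, h.map g, conjBy_TT h g⟩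
  pair := pair3

/-! ### connectivity -/

theorem FAdj_symm {G : Type*} [Group G] {Λ : Set (Subgroup G)} {A B' : Subgroup G}
    (h : FAdj Λ A B') : FAdj Λ B' A :=
  ⟨h.2.1, h.1, RankOnePair_symm h.2.2⟩

theorem adj_of_opp {p r u w : Vm (m + 3) F} (h : SP p r) (h' : SP u w)
    (hd : Dt p r u w ≠ 0) : FAdj (Sig m F) (TT p r) (TT u w) := by
  obtain ⟨f₁, f₂, hf, e, h11, h12, h21, h22⟩ := exists_dual_basis h h' hd
  obtain ⟨ρ, hinj, hA, hB⟩ := sl2Pair_of_dual h hf h11 h12 h21 h22
  refine ⟨mem_Sig h, mem_Sig h', ?_⟩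
  rw [← e]
  exact (pair_of_sl2_hom ρ hinj hA hB).1

theorem connected : IsConnectedFamily (FAdj (Sig m F)) (Sig m F) := by
  rintro _ ⟨p, r, h, rfl⟩ _ ⟨p', r', h', rfl⟩
  obtain ⟨z, hz, hz'⟩ := exists_mid h h'
  obtain ⟨u₁, w₁, s₁, d₁, d₁'⟩ := exists_common_opp h hz
  obtain ⟨u₂, w₂, s₂, d₂, d₂'⟩ := exists_common_opp hz.symm hz'.symm
  obtain ⟨u₃, w₃, s₃, d₃, d₃'⟩ := exists_common_opp hz' h'
  have e1 := adj_of_opp h s₁ d₁
  have e2 := FAdj_symm (adj_of_opp hz s₁ d₁')
  have e3 := adj_of_opp hz.symm s₂ d₂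
  have e4 := FAdj_symm (adj_of_opp hz'.symm s₂ d₂')
  have e5 := adj_of_opp hz' s₃ d₃
  have e6 := FAdj_symm (adj_of_opp h' s₃ d₃')
  rw [TT_swap z p] at e3
  rw [TT_swap z p'] at e4
  exact Relation.ReflTransGen.trans (Relation.ReflTransGen.single e1)
    (Relation.ReflTransGen.trans (Relation.ReflTransGen.single e2)
    (Relation.ReflTransGen.trans (Relation.ReflTransGen.single e3)
    (Relation.ReflTransGen.trans (Relation.ReflTransGen.single e4)
    (Relation.ReflTransGen.trans (Relation.ReflTransGen.single e5)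
    (Relation.ReflTransGen.single e6)))))

/-! ### the set of the statement -/

theorem sig_eq :
    {A : Subgroup ↥(Cfsg.isometryGroup F (Cfsg.quadFormPlus (m + 3) F)) | ∃ p r : Fin (m + 3) ⊕ Fin (m + 3) → F, LinearIndependent F ![p, r] ∧
          Cfsg.quadFormPlus (m + 3) F p = 0 ∧ Cfsg.quadFormPlus (m + 3) F r = 0 ∧
          Cfsg.quadFormPlus (m + 3) F (p + r) = 0 ∧
          A = Subgroup.closure {σ : ↥(Cfsg.isometryGroup F (Cfsg.quadFormPlus (m + 3) F)) | ∀ v : Fin (m + 3) ⊕ Fin (m + 3) → F,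
            Cfsg.quadFormPlus (m + 3) F (v + p) - Cfsg.quadFormPlus (m + 3) F v - Cfsg.quadFormPlus (m + 3) F p = 0 →
            Cfsg.quadFormPlus (m + 3) F (v + r) - Cfsg.quadFormPlus (m + 3) F v - Cfsg.quadFormPlus (m + 3) F r = 0 →
              ((σ : Matrix.GeneralLinearGroup (Fin (m + 3) ⊕ Fin (m + 3)) F) : Matrix (Fin (m + 3) ⊕ Fin (m + 3)) (Fin (m + 3) ⊕ Fin (m + 3)) F) *ᵥ v = v}}
      = Sig m F := by
  ext A
  constructor
  · rintro ⟨p, r, hli, hp, hr, hpr, rfl⟩
    refine ⟨p, r, ⟨LinearIndependent.pair_iff.mp hli, hp, hr, ?_⟩, rfl⟩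
    show Cfsg.quadFormPlus (m + 3) F (p + r) - Cfsg.quadFormPlus (m + 3) F p
      - Cfsg.quadFormPlus (m + 3) F r = 0
    rw [hpr, hp, hr]; simp
  · rintro ⟨p, r, h, rfl⟩
    refine ⟨p, r, LinearIndependent.pair_iff.mpr h.ind, h.qp, h.qr, ?_, rfl⟩
    have h1 : Cfsg.quadFormPlus (m + 3) F (p + r) - Cfsg.quadFormPlus (m + 3) F p
      - Cfsg.quadFormPlus (m + 3) F r = 0 := h.pr
    have h2 : Cfsg.quadFormPlus (m + 3) F p = 0 := h.qp
    have h3 : Cfsg.quadFormPlus (m + 3) F r = 0 := h.qr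
    rw [h2, h3, sub_zero, sub_zero] at h1
    exact h1

end Cfsg.Agent.S5072P
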