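import Mathlib
import Cfsg.Agent.Helper25.S5165.Defs
import Cfsg.Agent.Helper17.S5165SYLOWSQ

set_option autoImplicit false
set_option linter.unusedSectionVars false
set_option linter.unusedVariables false

/-! S5165, piece SYLOWPLUS: the intersection of a Sylow subgroup with a normal subgroup is a Sylow subgroup
of the normal subgroup; applied to `SQ r Q` and the alternating group. -/

namespace Cfsg.Agent.S5165P

open Equiv

/-- `[N : P ⊓ N] = [P N : P]` divides `[G : P]` for a normal subgroup `N` -/
theorem SYLOWPLUS.relIndex_dvd_index {G : Type*} [Group G] [Finite G] (P N : Subgroup G) [N.Normal] :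
    P.relIndex N ∣ P.index := by
  have h1 : P.relIndex N * N.index = (P ⊓ N).index := by
    have := Subgroup.relIndex_inf_mul_relIndex P N ⊤
    simpa [Subgroup.relIndex_top_right] using this
  have h2 : N.relIndex P * P.index = (P ⊓ N).index := by
    have := Subgroup.relIndex_inf_mul_relIndex N P ⊤
    rw [inf_comm N P] at this
    simpa [Subgroup.relIndex_top_right] using this
  have h3 : N.relIndex (P ⊔ N) = N.relIndex P := Subgroup.relIndex_sup_right P N
  have h4 : N.relIndex (P ⊔ N) * (P ⊔ N).index = N.index :=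
    Subgroup.relIndex_mul_index le_sup_right
  have h5 : N.relIndex P ≠ 0 := by
    have : (N.subgroupOf P).FiniteIndex := inferInstance
    exact this.index_ne_zero
  refine ⟨(P ⊔ N).index, ?_⟩
  apply Nat.eq_of_mul_eq_mul_left (Nat.pos_of_ne_zero h5)
  rw [h2, ← h1, ← h4, h3]
  ring

/-- the intersection of a Sylow subgroup with a normal subgroup is a Sylow subgroup of the normal subgroup -/
theorem SYLOWPLUS.exists_sylow_subgroupOf {G : Type*} [Group G] [Finite G] {p : ℕ} [Fact p.Prime]
    (P : Sylow p G) (N : Subgroup G) [N.Normal] :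
    ∃ R : Sylow p N, (R : Subgroup N) = (P : Subgroup G).subgroupOf N := by
  have hP1 : IsPGroup p ((P : Subgroup G).subgroupOf N) := P.2.comap_subtype
  have hP2 : ¬ p ∣ ((P : Subgroup G).subgroupOf N).index := by
    intro h
    exact P.not_dvd_index (h.trans (SYLOWPLUS.relIndex_dvd_index (P : Subgroup G) N))
  exact ⟨hP1.toSylow hP2, rfl⟩

theorem SYLOWPLUS.exists_sylow {p : ℕ} [Fact p.Prime] {I : Type} [Fintype I] [DecidableEq I] {r : ℕ}
    (Q : Sylow p (Perm I)) (hr : r < p) :
    ∃ P : Sylow p (alternatingGroup (X p I r)),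
      (P : Subgroup (alternatingGroup (X p I r))).map (alternatingGroup (X p I r)).subtype =
        SQ r (Q : Subgroup (Perm I)) ⊓ alternatingGroup (X p I r) := by
  obtain ⟨P0, hP0⟩ := SYLOWSQ.exists_sylow Q hr
  obtain ⟨R, hR⟩ := SYLOWPLUS.exists_sylow_subgroupOf P0 (alternatingGroup (X p I r))
  refine ⟨R, ?_⟩
  rw [hR, Subgroup.subgroupOf_map_subtype, hP0]

end Cfsg.Agent.S5165P
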