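import Cfsg.Agent.Helper27.M24Syl2Norm

/-!
Data for the strongly closed subgroups of a Sylow 2-subgroup of `M24`: five conjugates of the central involution
lying in the standard Sylow 2-subgroup, with the conjugating elements, and a spanning tree showing that they generate.
-/

set_option autoImplicit false

namespace Cfsg.Agent.Helper13.S5170D

open Cfsg.Agent.Helper27

/-- pairs `(X, G)` with `X G = G zS` -/
def conjL : List (List ℕ × List ℕ) := [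
  ([4, 7, 10, 12, 0, 5, 6, 1, 8, 22, 2, 11, 3, 13, 17, 15, 19, 14, 18, 16, 21, 20, 9, 23], [21, 20, 19, 16, 14, 13, 1, 17, 5, 12, 9, 7, 22, 10, 15, 23, 11, 8, 2, 6, 0, 4, 3, 18]),
  ([21, 20, 18, 13, 22, 5, 12, 9, 8, 7, 11, 10, 6, 3, 14, 15, 16, 17, 2, 19, 1, 0, 4, 23], [22, 4, 9, 7, 2, 23, 10, 18, 14, 6, 13, 11, 3, 1, 17, 5, 15, 16, 20, 19, 0, 21, 12, 8]),
  ([2, 3, 0, 1, 7, 14, 6, 4, 8, 9, 12, 11, 10, 21, 5, 15, 16, 23, 20, 19, 18, 13, 22, 17], [10, 12, 21, 13, 3, 8, 17, 1, 11, 0, 14, 23, 5, 20, 15, 19, 9, 6, 18, 16, 7, 4, 2, 22]),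
  ([2, 3, 0, 1, 4, 23, 6, 7, 19, 9, 10, 11, 12, 20, 17, 16, 15, 14, 21, 8, 13, 18, 22, 5], [18, 21, 19, 8, 5, 22, 17, 23, 11, 2, 1, 14, 3, 13, 9, 12, 6, 4, 20, 7, 15, 16, 0, 10]),
  ([0, 1, 2, 3, 4, 8, 18, 7, 5, 20, 10, 13, 12, 11, 19, 23, 17, 16, 6, 14, 9, 22, 21, 15], [9, 20, 13, 11, 15, 10, 8, 23, 2, 16, 19, 5, 14, 21, 3, 0, 12, 7, 22, 4, 6, 18, 17, 1])]

/-- the spanning tree: parent index, generator index, depth -/
def genCert : List (ℕ × ℕ × ℕ) := [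
  (0, 0, 0), (0, 4, 1), (6, 4, 4), (189, 3, 5), (186, 3, 3), (4, 4, 4), (183, 2, 3), (3, 4, 6),
  (9, 4, 3), (180, 3, 2), (183, 3, 3), (186, 2, 3), (10, 4, 4), (176, 3, 3), (11, 4, 4), (13, 4, 4),
  (527, 0, 6), (526, 0, 7), (525, 0, 4), (522, 0, 6), (788, 1, 5), (18, 4, 5), (521, 0, 3), (22, 4, 4),
  (27, 4, 6), (640, 0, 7), (29, 4, 7), (166, 3, 5), (30, 4, 6), (168, 2, 6), (647, 0, 5), (167, 3, 6),
  (676, 0, 6), (872, 1, 7), (36, 4, 6), (38, 4, 6), (831, 1, 5), (335, 1, 6), (672, 0, 5), (37, 4, 7),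
  (41, 4, 5), (894, 1, 4), (245, 3, 5), (244, 3, 6), (45, 4, 6), (234, 2, 5), (233, 2, 6), (240, 3, 7),
  (349, 1, 5), (865, 1, 6), (492, 1, 5), (232, 3, 5), (48, 4, 6), (236, 3, 6), (233, 3, 6), (234, 3, 5),
  (57, 4, 7), (555, 0, 6), (813, 1, 5), (325, 1, 6), (61, 4, 6), (556, 0, 5), (58, 4, 6), (59, 4, 7),
  (308, 0, 5), (205, 3, 4), (307, 0, 4), (64, 4, 6), (310, 0, 5), (66, 4, 5), (68, 4, 6), (305, 0, 5),
  (73, 4, 5), (513, 0, 4), (514, 0, 3), (77, 4, 7), (516, 0, 6), (582, 1, 6), (74, 4, 4), (192, 3, 7),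
  (476, 1, 5), (201, 2, 5), (83, 4, 7), (208, 3, 6), (205, 2, 4), (81, 4, 6), (203, 2, 6), (396, 0, 7),
  (89, 4, 6), (223, 3, 5), (222, 3, 6), (451, 1, 6), (95, 4, 7), (666, 0, 7), (90, 4, 7), (598, 1, 6),
  (100, 4, 7), (101, 4, 7), (689, 0, 5), (98, 4, 6), (693, 0, 6), (692, 0, 6), (633, 1, 6), (691, 0, 7),
  (564, 0, 6), (629, 1, 6), (982, 1, 6), (562, 0, 7), (715, 1, 5), (567, 0, 7), (111, 4, 7), (565, 0, 6),
  (157, 3, 6), (608, 1, 5), (116, 4, 4), (154, 3, 6), (963, 1, 3), (140, 2, 6), (115, 4, 7), (156, 3, 5),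
  (157, 2, 6), (156, 2, 5), (143, 3, 6), (140, 3, 6), (142, 3, 5), (282, 0, 7), (971, 1, 5), (954, 1, 6),
  (101, 2, 7), (110, 3, 8), (545, 0, 7), (104, 3, 7), (868, 1, 6), (805, 1, 8), (108, 3, 6), (111, 3, 7),
  (877, 1, 7), (143, 4, 6), (113, 2, 6), (126, 3, 6), (142, 4, 5), (269, 0, 5), (116, 2, 4), (824, 1, 5),
  (891, 1, 6), (149, 4, 8), (702, 0, 6), (111, 2, 7), (101, 3, 7), (104, 2, 7), (340, 1, 7), (110, 2, 8),
  (882, 1, 5), (324, 1, 6), (156, 4, 5), (114, 3, 5), (503, 1, 4), (159, 4, 5), (155, 4, 6), (116, 3, 4),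
  (16, 2, 7), (475, 1, 7), (23, 2, 5), (162, 4, 6), (17, 2, 8), (30, 3, 6), (22, 2, 4), (166, 4, 5),
  (171, 4, 5), (175, 4, 6), (21, 3, 6), (22, 3, 4), (18, 3, 5), (532, 0, 5), (30, 2, 6), (23, 3, 5),
  (1, 2, 2), (176, 4, 3), (11, 3, 4), (8, 3, 4), (0, 2, 1), (179, 4, 5), (178, 4, 5), (180, 4, 2),
  (1, 3, 2), (184, 4, 3), (188, 4, 2), (6, 3, 4), (0, 3, 1), (8, 2, 4), (187, 4, 5), (849, 1, 5),
  (860, 1, 6), (88, 2, 7), (78, 3, 5), (77, 3, 7), (74, 3, 4), (194, 4, 6), (196, 4, 5), (92, 2, 8),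
  (367, 1, 4), (205, 4, 4), (71, 3, 6), (898, 1, 5), (200, 4, 5), (791, 1, 3), (66, 3, 5), (206, 4, 6),
  (66, 2, 5), (1002, 1, 6), (70, 2, 7), (84, 3, 5), (80, 3, 6), (68, 2, 6), (71, 2, 6), (212, 4, 7),
  (72, 2, 6), (221, 4, 6), (219, 4, 6), (78, 2, 5), (661, 0, 5), (73, 2, 5), (223, 4, 5), (74, 2, 4),
  (36, 2, 6), (610, 1, 7), (34, 2, 7), (57, 3, 7), (58, 3, 6), (226, 4, 8), (228, 4, 7), (56, 3, 8),
  (630, 1, 4), (232, 4, 5), (977, 1, 4), (50, 3, 6), (41, 2, 5), (945, 1, 5), (234, 4, 5), (236, 4, 6),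
  (50, 2, 6), (933, 1, 5), (246, 4, 6), (247, 4, 7), (278, 0, 5), (989, 1, 4), (41, 3, 5), (40, 3, 6),
  (36, 3, 6), (683, 0, 7), (56, 2, 8), (708, 1, 8), (248, 4, 7), (34, 3, 7), (57, 2, 7), (58, 2, 6),
  (260, 4, 7), (678, 3, 8), (914, 1, 3), (677, 3, 7), (693, 2, 6), (258, 4, 4), (679, 3, 6), (694, 2, 7),
  (265, 4, 6), (355, 1, 5), (143, 0, 6), (142, 0, 5), (269, 4, 5), (773, 1, 4), (266, 4, 7), (267, 4, 6),
  (365, 1, 5), (272, 4, 6), (276, 4, 7), (278, 4, 5), (246, 0, 6), (247, 0, 7), (785, 1, 4), (902, 1, 6),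
  (382, 1, 6), (692, 3, 6), (693, 3, 6), (694, 3, 7), (280, 4, 7), (925, 1, 5), (689, 3, 5), (993, 1, 6),
  (289, 4, 7), (522, 3, 6), (292, 4, 5), (294, 4, 5), (518, 2, 4), (0, 0, 1), (520, 3, 4), (293, 4, 2),
  (188, 0, 2), (189, 0, 5), (184, 0, 3), (296, 4, 3), (825, 1, 6), (298, 4, 4), (187, 0, 5), (191, 0, 6),
  (305, 4, 5), (513, 3, 4), (310, 4, 5), (514, 3, 3), (518, 3, 4), (307, 4, 4), (520, 2, 4), (308, 4, 5),
  (316, 4, 6), (541, 3, 4), (203, 0, 6), (538, 3, 5), (533, 2, 5), (313, 4, 5), (319, 4, 5), (205, 0, 4),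
  (406, 1, 4), (504, 3, 4), (323, 4, 6), (507, 3, 5), (492, 2, 5), (321, 4, 5), (101, 1, 7), (491, 2, 6),
  (492, 3, 5), (111, 1, 7), (507, 2, 5), (330, 4, 6), (328, 4, 6), (491, 3, 6), (504, 2, 4), (334, 4, 5),
  (484, 2, 5), (503, 3, 4), (499, 3, 5), (342, 4, 7), (338, 4, 6), (500, 3, 5), (487, 2, 6), (341, 4, 6),
  (484, 3, 5), (344, 4, 6), (499, 2, 5), (500, 2, 5), (498, 2, 6), (503, 2, 4), (487, 3, 6), (658, 1, 7),
  (997, 2, 5), (424, 1, 6), (358, 4, 5), (359, 4, 4), (993, 2, 6), (73, 1, 5), (1015, 3, 4), (1009, 3, 3),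
  (440, 1, 6), (997, 3, 5), (1015, 2, 4), (993, 3, 6), (362, 4, 5), (367, 4, 4), (363, 4, 7), (1009, 2, 3),
  (1022, 2, 4), (1018, 2, 5), (1007, 3, 6), (369, 4, 6), (1003, 3, 5), (370, 4, 7), (375, 4, 5), (1005, 3, 4),
  (1022, 3, 4), (1018, 3, 5), (1006, 2, 7), (376, 4, 5), (1005, 2, 4), (220, 1, 6), (1003, 2, 5), (1007, 2, 6),
  (387, 4, 6), (983, 1, 5), (389, 4, 5), (631, 1, 5), (390, 4, 6), (659, 3, 4), (663, 3, 5), (211, 0, 6),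
  (667, 3, 5), (392, 4, 6), (396, 4, 7), (640, 2, 7), (641, 2, 6), (647, 2, 5), (81, 0, 6), (967, 1, 4),
  (404, 4, 6), (403, 4, 3), (649, 3, 6), (180, 0, 2), (632, 1, 5), (178, 0, 5), (176, 0, 3), (406, 4, 4),
  (13, 0, 4), (647, 3, 5), (11, 0, 4), (9, 0, 3), (413, 4, 5), (10, 0, 4), (410, 4, 5), (411, 4, 4),
  (561, 2, 7), (457, 1, 6), (555, 3, 6), (564, 2, 6), (553, 3, 7), (847, 1, 5), (55, 0, 6), (556, 3, 5),
  (232, 0, 5), (234, 0, 5), (581, 1, 7), (237, 0, 6), (424, 4, 6), (425, 4, 6), (236, 0, 6), (430, 4, 7),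
  (564, 3, 6), (553, 2, 7), (436, 4, 8), (477, 1, 4), (560, 3, 7), (606, 1, 6), (435, 4, 5), (561, 3, 7),
  (159, 0, 5), (155, 0, 6), (156, 0, 5), (452, 1, 7), (440, 4, 6), (748, 1, 4), (152, 0, 6), (594, 1, 5),
  (812, 0, 5), (811, 0, 4), (809, 0, 7), (449, 4, 5), (448, 4, 6), (587, 3, 6), (810, 0, 4), (201, 1, 5),
  (597, 3, 4), (958, 0, 5), (598, 3, 6), (599, 3, 5), (953, 0, 5), (582, 2, 6), (955, 0, 5), (459, 4, 6),
  (467, 4, 5), (606, 3, 6), (713, 0, 4), (718, 0, 4), (605, 3, 5), (466, 4, 5), (716, 0, 6), (465, 4, 7),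
  (890, 0, 5), (582, 3, 6), (576, 3, 7), (598, 2, 6), (477, 4, 4), (895, 0, 3), (893, 0, 6), (888, 0, 5),
  (349, 3, 5), (480, 4, 6), (739, 0, 7), (741, 0, 5), (518, 1, 4), (299, 1, 4), (347, 3, 6), (484, 4, 5),
  (920, 0, 5), (923, 0, 6), (334, 3, 5), (309, 1, 5), (922, 0, 4), (924, 0, 5), (491, 4, 6), (325, 2, 6),
  (242, 1, 7), (786, 0, 6), (502, 4, 5), (503, 4, 4), (520, 1, 4), (500, 4, 5), (790, 0, 4), (791, 0, 3),
  (295, 1, 3), (325, 3, 6), (860, 0, 6), (504, 4, 4), (327, 3, 7), (651, 1, 5), (324, 3, 6), (859, 0, 5),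
  (513, 4, 4), (295, 2, 3), (293, 2, 2), (309, 3, 5), (310, 3, 5), (516, 4, 6), (514, 4, 3), (515, 4, 6),
  (521, 4, 3), (293, 3, 2), (309, 2, 5), (527, 4, 6), (525, 4, 4), (295, 3, 3), (928, 1, 6), (292, 3, 5),
  (175, 0, 6), (319, 2, 5), (296, 3, 3), (301, 3, 5), (299, 3, 4), (530, 4, 4), (532, 4, 5), (298, 3, 4),
  (302, 2, 6), (319, 3, 5), (541, 4, 4), (965, 1, 6), (303, 2, 7), (296, 2, 3), (543, 4, 5), (299, 2, 4),
  (444, 3, 7), (442, 3, 6), (445, 3, 5), (778, 1, 7), (424, 2, 6), (131, 0, 8), (440, 3, 6), (920, 1, 5),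
  (556, 4, 5), (555, 4, 6), (417, 3, 7), (435, 2, 5), (790, 1, 4), (897, 1, 6), (58, 0, 6), (437, 2, 7),
  (564, 4, 6), (565, 4, 6), (438, 3, 6), (562, 4, 7), (1003, 1, 5), (435, 3, 5), (356, 1, 7), (904, 1, 6),
  (444, 2, 7), (373, 1, 8), (919, 1, 5), (224, 0, 7), (424, 3, 6), (575, 4, 7), (440, 2, 6), (442, 2, 6),
  (457, 2, 6), (189, 1, 5), (476, 3, 5), (475, 3, 7), (477, 3, 4), (578, 4, 6), (580, 4, 5), (267, 1, 6),
  (454, 3, 5), (451, 3, 6), (449, 3, 5), (466, 2, 5), (586, 4, 6), (452, 3, 7), (11, 1, 4), (173, 1, 6),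
  (457, 3, 6), (463, 3, 7), (597, 4, 4), (472, 2, 6), (18, 1, 5), (176, 1, 3), (599, 4, 5), (477, 2, 4),
  (451, 2, 6), (600, 4, 7), (606, 4, 6), (454, 2, 5), (466, 3, 5), (6, 1, 4), (449, 2, 5), (603, 4, 6),
  (977, 2, 4), (608, 4, 5), (614, 4, 6), (292, 1, 5), (613, 4, 7), (979, 2, 6), (983, 2, 5), (989, 3, 4),
  (617, 4, 5), (977, 3, 4), (983, 3, 5), (528, 1, 7), (979, 3, 6), (310, 1, 5), (982, 3, 6), (989, 2, 4),
  (298, 1, 4), (966, 2, 7), (513, 1, 4), (969, 3, 6), (971, 3, 5), (626, 4, 5), (963, 2, 3), (630, 4, 4),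
  (635, 4, 4), (639, 4, 5), (57, 1, 7), (963, 3, 3), (965, 3, 6), (522, 1, 6), (971, 2, 5), (967, 3, 4),
  (875, 1, 6), (647, 4, 5), (645, 4, 5), (408, 3, 5), (646, 4, 6), (411, 3, 4), (334, 1, 5), (828, 1, 4),
  (404, 3, 6), (938, 1, 5), (386, 2, 6), (653, 4, 4), (655, 4, 5), (403, 3, 3), (384, 2, 7), (401, 3, 4),
  (406, 2, 4), (656, 4, 5), (219, 0, 6), (403, 2, 3), (661, 4, 5), (401, 2, 4), (407, 2, 5), (659, 4, 4),
  (668, 4, 6), (502, 1, 5), (397, 3, 6), (411, 2, 4), (399, 3, 5), (410, 2, 5), (408, 2, 5), (414, 2, 6),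
  (258, 3, 4), (672, 4, 5), (676, 4, 6), (853, 1, 6), (261, 3, 5), (36, 0, 6), (287, 2, 7), (466, 1, 5),
  (755, 1, 7), (253, 0, 8), (278, 3, 5), (275, 3, 6), (267, 2, 6), (269, 2, 5), (682, 4, 6), (271, 2, 7),
  (287, 3, 7), (258, 2, 4), (693, 4, 6), (834, 1, 6), (599, 1, 5), (449, 1, 5), (692, 4, 6), (689, 4, 5),
  (601, 1, 8), (271, 3, 7), (267, 3, 6), (275, 2, 6), (269, 3, 5), (699, 4, 7), (278, 2, 5), (700, 4, 6),
  (311, 1, 6), (376, 0, 5), (534, 1, 6), (928, 2, 6), (383, 0, 7), (380, 0, 5), (932, 2, 7), (377, 0, 6),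
  (939, 2, 4), (514, 1, 3), (38, 1, 6), (713, 4, 4), (953, 3, 5), (956, 3, 5), (296, 1, 3), (718, 4, 4),
  (938, 3, 5), (956, 2, 5), (319, 1, 5), (1022, 0, 4), (939, 3, 4), (940, 3, 6), (727, 4, 6), (943, 3, 5),
  (604, 0, 6), (605, 0, 5), (603, 0, 6), (542, 1, 6), (947, 2, 7), (928, 3, 6), (932, 3, 7), (933, 3, 5),
  (484, 0, 5), (741, 4, 5), (858, 3, 5), (860, 3, 6), (30, 1, 6), (861, 3, 4), (840, 2, 6), (859, 3, 5),
  (276, 1, 7), (842, 3, 6), (22, 1, 4), (840, 3, 6), (750, 4, 3), (746, 4, 5), (180, 1, 2), (858, 2, 5),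
  (848, 2, 6), (169, 1, 7), (344, 0, 6), (346, 0, 6), (849, 2, 5), (350, 0, 7), (12, 1, 5), (347, 0, 6),
  (848, 3, 6), (163, 1, 7), (853, 3, 6), (611, 0, 6), (849, 3, 5), (832, 2, 6), (615, 0, 5), (613, 0, 7),
  (919, 3, 5), (208, 1, 6), (772, 4, 5), (914, 3, 3), (74, 1, 4), (775, 4, 3), (771, 4, 4), (917, 3, 2),
  (904, 2, 6), (898, 3, 5), (618, 0, 6), (623, 0, 5), (218, 1, 7), (902, 3, 6), (620, 0, 7), (621, 0, 6),
  (916, 2, 6), (791, 4, 3), (920, 3, 5), (500, 0, 5), (790, 4, 4), (786, 4, 6), (914, 2, 3), (917, 2, 2),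
  (898, 2, 5), (336, 0, 6), (342, 0, 7), (901, 2, 5), (902, 2, 6), (341, 0, 6), (900, 2, 6), (197, 1, 7),
  (882, 2, 5), (660, 1, 6), (584, 0, 6), (875, 3, 6), (590, 0, 5), (585, 0, 7), (587, 0, 6), (872, 3, 7),
  (667, 1, 5), (891, 3, 6), (403, 1, 3), (895, 3, 3), (894, 3, 4), (811, 4, 4), (810, 4, 4), (812, 4, 5),
  (876, 2, 7), (375, 0, 5), (872, 2, 7), (652, 1, 6), (369, 0, 6), (878, 2, 6), (875, 2, 6), (368, 0, 5),
  (894, 2, 4), (824, 4, 5), (868, 3, 6), (1005, 0, 4), (895, 2, 3), (888, 2, 5), (826, 4, 7), (828, 4, 4),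
  (320, 0, 5), (756, 3, 6), (321, 0, 5), (837, 4, 7), (839, 4, 8), (323, 0, 6), (834, 4, 6), (553, 1, 7),
  (66, 1, 5), (840, 4, 6), (223, 1, 5), (746, 3, 5), (842, 4, 6), (750, 3, 3), (748, 3, 4), (845, 4, 4),
  (849, 4, 5), (630, 0, 4), (561, 1, 7), (766, 3, 6), (853, 4, 6), (626, 0, 5), (850, 4, 8), (624, 0, 5),
  (859, 4, 5), (736, 3, 6), (504, 0, 4), (748, 2, 4), (746, 2, 5), (750, 2, 3), (860, 4, 6), (742, 3, 7),
  (810, 2, 4), (867, 4, 5), (869, 4, 6), (828, 3, 4), (813, 2, 5), (824, 3, 5), (831, 3, 5), (870, 4, 6),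
  (875, 4, 6), (583, 0, 7), (301, 1, 5), (580, 0, 5), (878, 4, 6), (578, 0, 6), (512, 1, 5), (233, 1, 6),
  (884, 4, 6), (360, 0, 7), (367, 0, 4), (361, 0, 6), (362, 0, 5), (882, 4, 5), (524, 1, 5), (886, 4, 6),
  (541, 1, 4), (893, 4, 6), (810, 3, 4), (831, 2, 5), (813, 3, 5), (814, 3, 5), (895, 4, 3), (293, 1, 2),
  (21, 1, 6), (639, 0, 5), (635, 0, 4), (694, 1, 7), (901, 4, 5), (177, 1, 4), (898, 4, 5), (634, 0, 8),
  (334, 0, 5), (904, 4, 6), (908, 4, 7), (910, 4, 5), (330, 0, 6), (333, 0, 7), (185, 1, 4), (329, 0, 8),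
  (773, 3, 4), (915, 4, 7), (917, 4, 2), (770, 3, 6), (166, 1, 5), (0, 1, 1), (772, 3, 5), (785, 2, 4),
  (773, 2, 4), (927, 4, 5), (791, 3, 3), (772, 2, 5), (785, 3, 4), (922, 4, 4), (924, 4, 5), (790, 3, 4),
  (599, 0, 5), (157, 1, 6), (933, 4, 5), (929, 4, 7), (928, 4, 6), (597, 0, 4), (596, 0, 6), (728, 3, 7),
  (721, 3, 6), (723, 3, 5), (718, 2, 4), (1009, 0, 3), (715, 2, 5), (940, 4, 6), (938, 4, 5), (713, 2, 4),
  (707, 3, 7), (359, 0, 4), (140, 1, 6), (357, 0, 6), (358, 0, 5), (946, 4, 7), (948, 4, 6), (945, 4, 5),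
  (953, 4, 5), (659, 1, 4), (958, 4, 5), (718, 3, 4), (411, 1, 4), (956, 4, 5), (713, 3, 4), (715, 3, 5),
  (915, 0, 7), (638, 3, 6), (632, 3, 5), (917, 0, 2), (916, 0, 6), (631, 2, 5), (918, 0, 6), (963, 4, 3),
  (630, 3, 4), (968, 4, 5), (843, 0, 6), (845, 0, 4), (632, 2, 5), (626, 3, 5), (631, 3, 5), (842, 0, 6),
  (641, 1, 6), (775, 0, 3), (623, 3, 5), (772, 0, 5), (771, 0, 4), (768, 0, 6), (980, 4, 5), (977, 4, 4),
  (611, 3, 6), (608, 3, 5), (989, 4, 4), (985, 4, 6), (745, 0, 7), (750, 0, 3), (746, 0, 5), (990, 4, 6),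
  (367, 3, 4), (867, 0, 5), (868, 0, 6), (870, 0, 6), (864, 0, 5), (8, 1, 4), (355, 2, 5), (997, 4, 5),
  (826, 0, 7), (673, 1, 6), (824, 0, 5), (828, 0, 4), (1005, 4, 4), (186, 1, 3), (1002, 4, 6), (1003, 4, 5),
  (355, 3, 5), (1, 1, 2), (352, 3, 6), (940, 0, 6), (938, 0, 5), (356, 3, 7), (198, 1, 6), (1009, 4, 3),
  (727, 0, 6), (23, 1, 5), (1022, 4, 4), (382, 3, 6), (380, 3, 5), (1019, 4, 7), (183, 1, 3), (720, 0, 6)]

/-- the check of a spanning tree certificate -/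
def genCheck (L XL : List (List ℕ)) (cert : List (ℕ × ℕ × ℕ)) : Bool :=
  (L.zip cert).all (fun p => (p.1 == idT) ||
    ((p.1 == compT (L.getD p.2.1 []) (XL.getD p.2.2.1 [])) && decide (p.2.1 < L.length) &&
      decide (p.2.1 < cert.length) && decide (p.2.2.1 < XL.length) &&
      decide ((cert.getD p.2.1 (0, 0, 0)).2.2 < p.2.2.2)))

set_option maxRecDepth 100000 in
theorem conjL_ok : conjL.all (fun p => syl2L.contains p.1 && validTbl p.2 && tblInCode p.2 &&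
    (compT p.1 p.2 == compT p.2 zS)) = true := by decide +kernel

set_option maxRecDepth 100000 in
theorem genCert_length : genCert.length = 1024 := by decide +kernel

set_option maxRecDepth 1000000 in
theorem genCert_ok : genCheck syl2L (conjL.map Prod.fst) genCert = true := by decide +kernel

end Cfsg.Agent.Helper13.S5170D
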