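import Cfsg.Agent.Helper13.S5170D
import Cfsg.Agent.Helper13.S3171G
import Cfsg.Agent.Helper23.PGroup

/-!
A Sylow 2-subgroup of `M24` has no proper nontrivial strongly closed subgroup.
-/

set_option autoImplicit false

namespace Cfsg.Agent.Helper13.S5170G

open Cfsg Cfsg.Agent.Helper27 Cfsg.Agent.Helper13.S5170D Cfsg.Agent.Helper13.S3171G

/-- a subgroup containing the generators of a spanning tree certificate is everything -/
theorem gen_of_cert {T : Type*} [Group T] {τ : T → List ℕ} {L XL : List (List ℕ)} {cert : List (ℕ × ℕ × ℕ)}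
    (hτ : IsTblRep τ L) (hc : genCheck L XL cert = true) (hlen : L.length ≤ cert.length)
    (hXL : ∀ X ∈ XL, X ∈ L)
    (K : Subgroup T) (hK : ∀ t, τ t ∈ XL → t ∈ K) : ∀ t, t ∈ K := by
  have key : ∀ (d : ℕ) (p : List ℕ × ℕ × ℕ × ℕ), p ∈ L.zip cert → p.2.2.2 = d → ∀ t, τ t = p.1 → t ∈ K := by
    intro d
    induction d using Nat.strong_induction_on with
    | _ d ih =>
      intro p hp hd t ht
      have h := all_mem hc hp
      rw [Bool.or_eq_true] at h
      rcases h with h | h
      · have h1 : τ t = idT := by rw [ht]; exact eq_of_beq h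
        rw [← hτ.one] at h1
        rw [hτ.inj h1]
        exact K.one_mem
      · simp only [Bool.and_eq_true, decide_eq_true_eq, beq_iff_eq] at h
        obtain ⟨⟨⟨⟨h1, h2⟩, h3⟩, h4⟩, h5⟩ := h
        have hmemL : L.getD p.2.1 [] ∈ L := by
          rw [List.getD_eq_getElem _ _ h2]
          exact List.getElem_mem _
        have hmemX : XL.getD p.2.2.1 [] ∈ XL := by
          rw [List.getD_eq_getElem _ _ h4]
          exact List.getElem_mem _
        obtain ⟨ta, hta⟩ := hτ.surj _ hmemL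
        obtain ⟨x, hx⟩ := hτ.surj _ (hXL _ hmemX)
        have hta_mem : ta ∈ K := by
          have hz : p.2.1 < (L.zip cert).length := by
            rw [List.length_zip]
            omega
          have hpa : (L.getD p.2.1 [], cert.getD p.2.1 (0, 0, 0)) ∈ L.zip cert := by
            have : (L.zip cert)[p.2.1]'hz = (L[p.2.1]'h2, cert[p.2.1]'h3) := List.getElem_zip
            rw [List.getD_eq_getElem _ _ h2, List.getD_eq_getElem _ _ h3, ← this]
            exact List.getElem_mem _
          exact ih _ (by rw [← hd]; exact h5) _ hpa rfl ta hta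
        have hx_mem : x ∈ K := hK x (by rw [hx]; exact hmemX)
        have : t = ta * x := by
          apply hτ.inj
          rw [hτ.mul, hta, hx, ht, h1]
        rw [this]
        exact K.mul_mem hta_mem hx_mem
  intro t
  obtain ⟨c, hc'⟩ := exists_zip L cert hlen (hτ.mem t)
  exact key _ _ hc' rfl t rfl

theorem finite_M24 : Finite ↥M24 := Nat.finite_of_card_ne_zero (by rw [card_M24]; norm_num)

/-- the table of an element of the standard Sylow subgroup -/
noncomputable def tauB (x : ↥sylB) : List ℕ := tblOf x.1.1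

theorem tauB_rep : IsTblRep tauB syl2L where
  inj := fun x y h => Subtype.ext (Subtype.ext (tblOf_injective h))
  mem := fun x => (mem_sylB _).mp x.2
  surj := fun X hX => by
    obtain ⟨b, hb, hr⟩ := exists_of_tbl hX
    exact ⟨⟨b, hb⟩, tblOf_eq hr⟩
  mul := fun x y => tblOf_mul _ _
  one := tblOf_one

/-- the standard Sylow 2-subgroup has no proper nontrivial strongly closed subgroup -/
theorem strongly_closed_sylB (T : Subgroup ↥M24) (hT : T ≤ sylB)
    (hcl : ∀ t ∈ T, ∀ g : ↥M24, g * t * g⁻¹ ∈ sylB → g * t * g⁻¹ ∈ T) : T = ⊥ ∨ T = sylB := by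
  by_cases hbot : T = ⊥
  · left
    exact hbot
  right
  have : Finite ↥M24 := finite_M24
  have : Fact (Nat.Prime 2) := ⟨Nat.prime_two⟩
  have hP : IsPGroup 2 ↥sylB := IsPGroup.of_card (n := 10) card_sylB
  have hN : (T.subgroupOf sylB).Normal := by
    refine ⟨fun n hn s => ?_⟩
    rw [Subgroup.mem_subgroupOf] at hn ⊢
    have : ((s * n * s⁻¹ : ↥sylB) : ↥M24) = (s : ↥M24) * n * (s : ↥M24)⁻¹ := rfl
    rw [this]
    apply hcl _ hn
    exact sylB.mul_mem (sylB.mul_mem s.2 n.2) (sylB.inv_mem s.2)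
  have hNne : T.subgroupOf sylB ≠ ⊥ := by
    intro h
    apply hbot
    rw [Subgroup.eq_bot_iff_forall]
    intro t ht
    have : (⟨t, hT ht⟩ : ↥sylB) ∈ T.subgroupOf sylB := by
      rw [Subgroup.mem_subgroupOf]
      exact ht
    rw [h, Subgroup.mem_bot] at this
    exact congrArg Subtype.val this
  obtain ⟨b, hbN, hbZ, hb1⟩ := Cfsg.Agent.Helper23.exists_mem_inf_center_ne_one hP (T.subgroupOf sylB) hNne
  have hbz : b = zT tauB_rep := ((mem_center_iff' tauB_rep b).mp hbZ).resolve_left hb1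
  rw [hbz] at hbN
  have hconj : ∀ t : ↥sylB, tauB t ∈ conjL.map Prod.fst → t ∈ T.subgroupOf sylB := by
    intro t ht
    rw [List.mem_map] at ht
    obtain ⟨p, hp, hpt⟩ := ht
    have h := all_mem conjL_ok hp
    simp only [Bool.and_eq_true, beq_iff_eq] at h
    obtain ⟨⟨⟨h1, h2⟩, h3⟩, h4⟩ := h
    let g : ↥M24 := ⟨tblPerm p.2 h2, tblPerm_mem_M24 p.2 h2 h3⟩
    have hg : tblOf g.1 = p.2 := tblOf_eq (tblPerm_represents p.2 h2)
    have hz : tblOf (zT tauB_rep).1.1 = zS := tau_zT tauB_rep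
    have hcomm : (t : ↥M24) * g = g * ((zT tauB_rep : ↥sylB) : ↥M24) := by
      apply Subtype.ext
      apply tblOf_injective
      show tblOf (t.1.1 * g.1) = tblOf (g.1 * (zT tauB_rep).1.1)
      rw [tblOf_mul, tblOf_mul, hg, hz]
      have : tblOf t.1.1 = p.1 := hpt.symm
      rw [this, h4]
    have ht_eq : (t : ↥M24) = g * ((zT tauB_rep : ↥sylB) : ↥M24) * g⁻¹ := by
      rw [← hcomm, mul_inv_cancel_right]
    rw [Subgroup.mem_subgroupOf, ht_eq]
    apply hcl _ (Subgroup.mem_subgroupOf.mp hbN)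
    rw [← ht_eq]
    exact t.2
  have hall := gen_of_cert tauB_rep genCert_ok (by rw [syl2L_length, genCert_length]) ?_
    (T.subgroupOf sylB) hconj
  · apply le_antisymm hT
    intro s hs
    exact Subgroup.mem_subgroupOf.mp (hall ⟨s, hs⟩)
  · intro X hX
    rw [List.mem_map] at hX
    obtain ⟨p, hp, rfl⟩ := hX
    have h := all_mem conjL_ok hp
    simp only [Bool.and_eq_true, beq_iff_eq] at h
    exact mem_of_contains h.1.1.1

/-- no Sylow 2-subgroup of `M24` has a proper nontrivial strongly closed subgroup -/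
theorem strongly_closed_sylow (S : Sylow 2 ↥M24) (T : Subgroup ↥M24) (hT : T ≤ S)
    (hcl : ∀ t ∈ T, ∀ g : ↥M24, g * t * g⁻¹ ∈ S → g * t * g⁻¹ ∈ T) : T = ⊥ ∨ T = S := by
  have : Finite ↥M24 := finite_M24
  have h2 : Fact (Nat.Prime 2) := ⟨Nat.prime_two⟩
  have hS : Nat.card (S : Subgroup ↥M24) = 2 ^ 10 :=
    sylow_card_of_card (p := 2) (n := 10) (m := 239085) (by rw [card_M24]; norm_num) (by norm_num) S
  obtain ⟨c, hc⟩ := exists_conj_of_card_eq (p := 2) (k := 10) (S : Subgroup ↥M24) sylB hS card_sylB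
    (by rw [card_M24]; norm_num)
  have hmemS : ∀ x : ↥M24, x ∈ (S : Subgroup ↥M24) ↔ c⁻¹ * x * c ∈ sylB := by
    intro x
    rw [hc, Subgroup.mem_map]
    constructor
    · rintro ⟨y, hy, rfl⟩
      simp only [MulEquiv.coe_toMonoidHom, MulAut.conj_apply]
      have : c⁻¹ * (c * y * c⁻¹) * c = y := by group
      rw [this]
      exact hy
    · intro h
      refine ⟨c⁻¹ * x * c, h, ?_⟩
      simp only [MulEquiv.coe_toMonoidHom, MulAut.conj_apply]
      group
  have hT'mem : ∀ x, x ∈ T.comap (MulAut.conj c).toMonoidHom ↔ c * x * c⁻¹ ∈ T := fun x => Iff.rfl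
  have h1 := strongly_closed_sylB (T.comap (MulAut.conj c).toMonoidHom) ?_ ?_
  · rcases h1 with h1 | h1
    · left
      rw [Subgroup.eq_bot_iff_forall] at h1 ⊢
      intro t ht
      have h3 : c * (c⁻¹ * t * c) * c⁻¹ = t := by group
      have h4 : c⁻¹ * t * c ∈ T.comap (MulAut.conj c).toMonoidHom := by
        rw [hT'mem, h3]
        exact ht
      have h5 := h1 _ h4
      rw [← h3, h5]
      group
    · right
      apply le_antisymm hT
      intro s hs
      have h4 : c⁻¹ * s * c ∈ T.comap (MulAut.conj c).toMonoidHom := by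
        rw [h1]
        exact (hmemS s).mp hs
      rw [hT'mem] at h4
      have h3 : c * (c⁻¹ * s * c) * c⁻¹ = s := by group
      rwa [h3] at h4
  · intro x hx
    rw [hT'mem] at hx
    have h4 := (hmemS _).mp (hT hx)
    have h3 : c⁻¹ * (c * x * c⁻¹) * c = x := by group
    rwa [h3] at h4
  · intro t ht g hg
    rw [hT'mem] at ht ⊢
    have h3 : c * (g * t * g⁻¹) * c⁻¹ = (c * g * c⁻¹) * (c * t * c⁻¹) * (c * g * c⁻¹)⁻¹ := by group
    rw [h3]
    apply hcl _ ht
    rw [← h3]
    show _ ∈ (S : Subgroup ↥M24)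
    rw [hmemS]
    have h4 : c⁻¹ * (c * (g * t * g⁻¹) * c⁻¹) * c = g * t * g⁻¹ := by group
    rw [h4]
    exact hg

end Cfsg.Agent.Helper13.S5170G
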