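import Mathlib
import Cfsg.Prelude.Def_FusionReduction
import Cfsg.Agent.Helper25.FusionPPowerNormal
import Cfsg.Agent.Helper26.S5113UNIQ
import Cfsg.Agent.Helper26.FusionRestrict

set_option autoImplicit false

/-! Helper for S5203: a subsystem of `p`-power index has the same hyperfocal subgroup. -/

namespace Cfsg.Agent.Helper13.S5203Aux

open Cfsg Cfsg.FusionSystem Cfsg.Agent.Helper25

/-- Abstract coprime-action step: if `α` moves every element of `P` by an element of the
`α`-invariant subgroup `K`, moves every element of `K` by an element of `H`, `K` normalizes `H`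
and the orders of the elements of `K` are prime to the order of `α`, then `α` moves every
element of `P` by an element of `H`. -/
theorem comm_mem_of_coprime {P : Type*} [Group P] (α : MulAut P) (K H : Subgroup P)
    (h1 : ∀ x : P, x⁻¹ * α x ∈ K)
    (h2 : ∀ z ∈ K, α z ∈ K)
    (h3 : ∀ z ∈ K, z⁻¹ * α z ∈ H)
    (h4 : ∀ k ∈ K, ∀ h ∈ H, k⁻¹ * h * k ∈ H)
    (h5 : ∀ k ∈ K, (orderOf α).Coprime (orderOf k))
    (x : P) : x⁻¹ * α x ∈ H := by
  have A : ∀ j : ℕ, ∀ z ∈ K, (α ^ j) z ∈ K ∧ z⁻¹ * (α ^ j) z ∈ H := by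
    intro j
    induction j with
    | zero =>
      intro z hz
      refine ⟨by simpa using hz, ?_⟩
      simp [H.one_mem]
    | succ j ih =>
      intro z hz
      obtain ⟨hw, hw'⟩ := ih z hz
      have e : (α ^ (j + 1)) z = α ((α ^ j) z) := by
        rw [pow_succ', MulAut.mul_apply]
      rw [e]
      refine ⟨h2 _ hw, ?_⟩
      have e2 : z⁻¹ * α ((α ^ j) z) = (z⁻¹ * (α ^ j) z) * (((α ^ j) z)⁻¹ * α ((α ^ j) z)) := by
        group
      rw [e2]
      exact H.mul_mem hw' (h3 _ hw)
  have hk : x⁻¹ * α x ∈ K := h1 x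
  have B : ∀ j : ℕ, ∃ h ∈ H, x⁻¹ * (α ^ j) x = (x⁻¹ * α x) ^ j * h := by
    intro j
    induction j with
    | zero => exact ⟨1, H.one_mem, by simp⟩
    | succ j ih =>
      obtain ⟨h, hh, e⟩ := ih
      obtain ⟨-, hk'⟩ := A j _ hk
      refine ⟨((x⁻¹ * α x)⁻¹ * h * (x⁻¹ * α x)) * ((x⁻¹ * α x)⁻¹ * (α ^ j) (x⁻¹ * α x)),
        H.mul_mem (h4 _ hk h hh) hk', ?_⟩
      have e1 : (α ^ (j + 1)) x = (α ^ j) (α x) := by
        rw [pow_succ, MulAut.mul_apply]
      have e2 : α x = x * (x⁻¹ * α x) := by group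
      have e3 : (α ^ j) (α x) = (α ^ j) x * (α ^ j) (x⁻¹ * α x) := by
        conv_lhs => rw [e2]
        rw [map_mul]
      rw [e1, e3, ← mul_assoc, e, pow_succ]
      group
  obtain ⟨h, hh, e⟩ := B (orderOf α)
  rw [pow_orderOf_eq_one, MulAut.one_apply, inv_mul_cancel] at e
  have hkn : (x⁻¹ * α x) ^ orderOf α ∈ H := by
    have : (x⁻¹ * α x) ^ orderOf α = h⁻¹ := eq_inv_of_mul_eq_one_left e.symm
    rw [this]
    exact H.inv_mem hh
  obtain ⟨m, hm⟩ := exists_pow_eq_self_of_coprime (h5 _ hk)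
  rw [← hm]
  exact H.pow_mem hkn m

variable {Ω : Type*} [Group Ω]

/-- A subsystem of `F` over `T` lives over a subgroup of `S`. -/
theorem le_of_isSubsystemOf {S T : Subgroup Ω} {E : FusionSystem T} {F : FusionSystem S}
    (h : E.IsSubsystemOf F) : T ≤ S :=
  (F.le_of_mem (h T (subtype_mem E le_rfl))).1

/-- The hyperfocal subgroup of a subsystem is contained in that of the system. -/
theorem hyperfocal_mono {S T : Subgroup Ω} (p : ℕ) {E : FusionSystem T} {F : FusionSystem S}
    (hEF : E.IsSubsystemOf F) : E.hyperfocalSubgroup p ≤ F.hyperfocalSubgroup p := by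
  have hTS : T ≤ S := le_of_isSubsystemOf hEF
  unfold hyperfocalSubgroup
  rw [Subgroup.closure_le]
  rintro _ ⟨P, α, x, hPT, hα, rfl⟩
  apply Subgroup.subset_closure
  have hPS : P ≤ S := le_trans hPT hTS
  have hle : E.autGroup P ≤ F.autGroup P := by
    intro β hβ
    rw [mem_autGroup_iff E hPT] at hβ
    rw [mem_autGroup_iff F hPS]
    exact hEF P hβ
  refine ⟨P, Subgroup.inclusion hle α, x, hPS, ?_, rfl⟩
  exact map_mem_pResidual p (Subgroup.inclusion hle) hα

/-- Key step: an automorphism in `F` of order prime to `p` moves elements by elements of the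
hyperfocal subgroup of any subsystem of `p`-power index. -/
theorem inv_mul_apply_mem_hyperfocal_of_index {S T : Subgroup Ω} [Finite S] (p : ℕ) [Fact p.Prime]
    (hS : IsPGroup p S) (F : FusionSystem S) (E : FusionSystem T) (hidx : E.HasPPowerIndexIn F p)
    {P : Subgroup Ω} (hPS : P ≤ S) {α : MulAut P} (hα : α ∈ F.autGroup P)
    (hcop : Nat.Coprime (orderOf α) p) (x : P) :
    (x : Ω)⁻¹ * ((α x : P) : Ω) ∈ E.hyperfocalSubgroup p := by
  have hTS : T ≤ S := le_of_isSubsystemOf hidx.1
  have hfinP : Finite P := finite_of_le hPS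
  set K : Subgroup P := Subgroup.closure (Set.range fun x : P => x⁻¹ * α x) with hKdef
  set H : Subgroup P := (E.hyperfocalSubgroup p).comap P.subtype with hHdef
  have h1 : ∀ x : P, x⁻¹ * α x ∈ K := fun x => Subgroup.subset_closure ⟨x, rfl⟩
  have h2 : ∀ z ∈ K, α z ∈ K := by
    intro z hz
    induction hz using Subgroup.closure_induction with
    | mem z hz =>
      obtain ⟨y, rfl⟩ := hz
      have : α (y⁻¹ * α y) = (α y)⁻¹ * α (α y) := by rw [map_mul, map_inv]
      rw [this]
      exact h1 (α y)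
    | one => rw [map_one]; exact K.one_mem
    | mul a b _ _ ha hb => rw [map_mul]; exact K.mul_mem ha hb
    | inv a _ ha => rw [map_inv]; exact K.inv_mem ha
  have hKhyp : ∀ z ∈ K, (z : Ω) ∈ F.hyperfocalSubgroup p := by
    intro z hz
    induction hz using Subgroup.closure_induction with
    | mem z hz =>
      obtain ⟨y, rfl⟩ := hz
      exact inv_mul_apply_mem_hyperfocal F p hPS hα hcop y
    | one => exact Subgroup.one_mem _
    | mul a b _ _ ha hb => exact Subgroup.mul_mem _ ha hb
    | inv a _ ha => exact Subgroup.inv_mem _ ha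
  have hKT : ∀ z ∈ K, (z : Ω) ∈ T := fun z hz => hidx.2.1 (hKhyp z hz)
  -- the restriction of `α` to `K`, as an automorphism of a subgroup of `Ω`
  have hfinK : Finite K := inferInstance
  let γ₀ : K →* K := (α.toMonoidHom.comp K.subtype).codRestrict K (fun z => h2 z z.2)
  have hγinj : Function.Injective γ₀ := by
    intro a b hab
    have : α (a : P) = α (b : P) := congrArg Subtype.val hab
    exact Subtype.ext (α.injective this)
  let γ : MulAut K := MulEquiv.ofBijective γ₀ ⟨hγinj, Finite.injective_iff_surjective.mp hγinj⟩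
  let K' : Subgroup Ω := K.map P.subtype
  let e₁ : K ≃* K' := K.equivMapOfInjective P.subtype P.subtype_injective
  let β : MulAut K' := e₁.symm.trans (γ.trans e₁)
  have hK'P : K' ≤ P := Subgroup.map_subtype_le K
  have hK'T : K' ≤ T := by
    rintro _ ⟨z, hz, rfl⟩
    exact hKT z hz
  have hβ : ∀ y : K', ((β y : K') : Ω) = ((α (Subgroup.inclusion hK'P y) : P) : Ω) := by
    intro y
    have e0 : e₁ (e₁.symm y) = y := e₁.apply_symm_apply y
    have e2 : (((e₁.symm y : K) : P) : Ω) = (y : Ω) := by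
      have h := congrArg Subtype.val e0
      exact h
    show ((e₁ (γ (e₁.symm y)) : K') : Ω) = _
    have e3 : ((e₁ (γ (e₁.symm y)) : K') : Ω) = ((α ((e₁.symm y : K) : P) : P) : Ω) := rfl
    rw [e3]
    congr 2
    exact Subtype.ext e2
  have hβF : β ∈ F.autGroup K' := by
    rw [mem_autGroup_iff F (hK'P.trans hPS)]
    have hαF := (mem_autGroup_iff F hPS α).mp hα
    have := restrict_mem F hK'P hαF
    have e : autHom β = (autHom α).comp (Subgroup.inclusion hK'P) := by
      ext y
      exact hβ y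
    rw [e]
    exact this
  have hβord : orderOf β ∣ orderOf α := orderOf_dvd_of_restrict hK'P α β hβ
  have hβcop : Nat.Coprime (orderOf β) p := Nat.Coprime.coprime_dvd_left hβord hcop
  have hβE : β ∈ E.autGroup K' :=
    hidx.2.2 K' hK'T ⟨⟨β, hβF⟩, mem_pResidual_of_coprime F p hβF hβcop, rfl⟩
  have h3 : ∀ z ∈ K, z⁻¹ * α z ∈ H := by
    intro z hz
    have hz' : (z : Ω) ∈ K' := ⟨z, hz, rfl⟩
    have := inv_mul_apply_mem_hyperfocal E p hK'T hβE hβcop ⟨(z : Ω), hz'⟩
    rw [hβ] at this
    have ez : Subgroup.inclusion hK'P ⟨(z : Ω), hz'⟩ = z := Subtype.ext rfl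
    rw [ez] at this
    show ((z⁻¹ * α z : P) : Ω) ∈ E.hyperfocalSubgroup p
    simpa using this
  have h4 : ∀ k ∈ K, ∀ h ∈ H, k⁻¹ * h * k ∈ H := by
    intro k hk h hh
    have hkT : (k : Ω) ∈ T := hKT k hk
    have hn := le_normalizer_hyperfocalSubgroup E p (T.inv_mem hkT)
    rw [Subgroup.mem_normalizer_iff] at hn
    have := (hn (h : Ω)).mp hh
    show ((k⁻¹ * h * k : P) : Ω) ∈ E.hyperfocalSubgroup p
    simpa using this
  have h5 : ∀ k ∈ K, (orderOf α).Coprime (orderOf k) := by
    intro k hk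
    have hkS : (k : Ω) ∈ S := hPS k.2
    obtain ⟨j, hj⟩ := hS ⟨(k : Ω), hkS⟩
    have hkj : k ^ (p ^ j) = 1 := by
      apply Subtype.ext
      have := congrArg Subtype.val hj
      simpa using this
    have hdvd : orderOf k ∣ p ^ j := orderOf_dvd_of_pow_eq_one hkj
    exact Nat.Coprime.coprime_dvd_right hdvd (Nat.Coprime.pow_right j hcop)
  have := comm_mem_of_coprime α K H h1 h2 h3 h4 h5 x
  have h' : ((x⁻¹ * α x : P) : Ω) ∈ E.hyperfocalSubgroup p := this
  simpa using h'

/-- A subsystem of `p`-power index has the same hyperfocal subgroup. -/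
theorem hyperfocal_eq_of_index {S T : Subgroup Ω} [Finite S] (p : ℕ) [Fact p.Prime]
    (hS : IsPGroup p S) (F : FusionSystem S) (E : FusionSystem T) (hidx : E.HasPPowerIndexIn F p) :
    E.hyperfocalSubgroup p = F.hyperfocalSubgroup p := by
  apply le_antisymm (hyperfocal_mono p hidx.1)
  -- the set of automorphisms moving everything into `hyp(E)` is a subgroup
  have key : ∀ (P : Subgroup Ω), P ≤ S → ∀ a : F.autGroup P, a ∈ pResidual p (F.autGroup P) →
      ∀ x : P, (x : Ω)⁻¹ * (((a : MulAut P) x : P) : Ω) ∈ E.hyperfocalSubgroup p := by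
    intro P hPS a ha
    unfold pResidual at ha
    induction ha using Subgroup.closure_induction with
    | mem a ha =>
      intro x
      have hcop : Nat.Coprime (orderOf (a : MulAut P)) p := by
        have : Nat.Coprime (orderOf a) p := ha
        rwa [Subgroup.orderOf_coe]
      exact inv_mul_apply_mem_hyperfocal_of_index p hS F E hidx hPS a.2 hcop x
    | one =>
      intro x
      simp
    | mul a b _ _ iha ihb =>
      intro x
      have e : (x : Ω)⁻¹ * ((((a * b : F.autGroup P) : MulAut P) x : P) : Ω) =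
          ((x : Ω)⁻¹ * (((b : MulAut P) x : P) : Ω)) *
          ((((b : MulAut P) x : P) : Ω)⁻¹ * (((a : MulAut P) ((b : MulAut P) x) : P) : Ω)) := by
        rw [Subgroup.coe_mul, MulAut.mul_apply]
        group
      rw [e]
      exact Subgroup.mul_mem _ (ihb x) (iha _)
    | inv a _ iha =>
      intro x
      have := iha (((a : MulAut P)⁻¹) x)
      have e : (x : Ω)⁻¹ * ((((a⁻¹ : F.autGroup P) : MulAut P) x : P) : Ω) =
          (((((a : MulAut P)⁻¹) x : P) : Ω)⁻¹ *
            (((a : MulAut P) (((a : MulAut P)⁻¹) x) : P) : Ω))⁻¹ := by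
        rw [Subgroup.coe_inv, MulAut.apply_inv_self]
        group
      rw [e]
      exact Subgroup.inv_mem _ this
  unfold hyperfocalSubgroup
  rw [Subgroup.closure_le]
  rintro _ ⟨P, a, x, hPS, ha, rfl⟩
  exact key P hPS a ha x

end Cfsg.Agent.Helper13.S5203Aux
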