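import Mathlib
import Cfsg.Prelude.Def_FusionReduction
import Cfsg.Agent.Helper13.S5203Hyp

set_option autoImplicit false

/-! Helper for S5203: uniqueness of the residual limit of a saturated fusion system, up to
equality of the sets of maps. -/

namespace Cfsg.Agent.Helper13.S5203Aux

open Cfsg Cfsg.FusionSystem Cfsg.Agent.Helper25

universe u

variable {Ω : Type u} [Group Ω]

/-- Two fusion systems, over possibly different subgroups, with the same maps. -/
def SameHom {U V : Subgroup Ω} (A : FusionSystem U) (B : FusionSystem V) : Prop :=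
  ∀ P : Subgroup Ω, A.Hom P = B.Hom P

theorem SameHom.refl {U : Subgroup Ω} (A : FusionSystem U) : SameHom A A := fun _ => rfl

theorem SameHom.symm {U V : Subgroup Ω} {A : FusionSystem U} {B : FusionSystem V}
    (h : SameHom A B) : SameHom B A := fun P => (h P).symm

theorem SameHom.trans {U V W : Subgroup Ω} {A : FusionSystem U} {B : FusionSystem V}
    {C : FusionSystem W} (h : SameHom A B) (h' : SameHom B C) : SameHom A C :=
  fun P => (h P).trans (h' P)

theorem SameHom.base_le {U V : Subgroup Ω} {A : FusionSystem U} {B : FusionSystem V}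
    (h : SameHom A B) : U ≤ V := by
  have h1 : U.subtype ∈ A.Hom U := subtype_mem A le_rfl
  rw [h U] at h1
  exact (B.le_of_mem h1).1

theorem SameHom.base_eq {U V : Subgroup Ω} {A : FusionSystem U} {B : FusionSystem V}
    (h : SameHom A B) : U = V := le_antisymm h.base_le h.symm.base_le

/-- Transport of any property along equality of maps. -/
theorem SameHom.transport {U V : Subgroup Ω} {A : FusionSystem U} {B : FusionSystem V}
    (h : SameHom A B) (M : ∀ W : Subgroup Ω, FusionSystem W → Prop) (hA : M U A) : M V B := by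
  have hUV : U = V := h.base_eq
  subst hUV
  have hAB : A = B := Cfsg.Agent.S5113P.UNIQ.aux_ext A B h
  subst hAB
  exact hA

/-- Reading a fusion system over `U` as one over an equal subgroup `V`. -/
def castSystem {U V : Subgroup Ω} (h : U = V) (A : FusionSystem U) : FusionSystem V := h ▸ A

theorem castSystem_sameHom {U V : Subgroup Ω} (h : U = V) (A : FusionSystem U) :
    SameHom (castSystem h A) A := by
  subst h
  exact SameHom.refl A

/-- A system has `p`-power index in itself. -/
theorem hasPPowerIndexIn_refl {S : Subgroup Ω} (p : ℕ) (F : FusionSystem S) :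
    F.HasPPowerIndexIn F p := by
  refine ⟨fun P => subset_rfl, hyperfocalSubgroup_le F p, ?_⟩
  intro P _
  exact Subgroup.map_subtype_le _

/-- Uniqueness of the `p`-residual subsystem. -/
theorem isPResidual_unique {S : Subgroup Ω} [Finite S] (p : ℕ) [Fact p.Prime] (hS : IsPGroup p S)
    (F : FusionSystem S) (hF : F.IsSaturated p) (D₁ D₂ : FusionSystem (F.hyperfocalSubgroup p))
    (h₁ : F.IsPResidual p D₁) (h₂ : F.IsPResidual p D₂) : D₁ = D₂ :=
  Cfsg.Agent.S5113P.UNIQ p hS F hF (hyperfocalSubgroup_le F p) D₂ D₁ h₂.1 h₂.2 h₁.1 h₁.2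

/-- Uniqueness of the `p'`-residual subsystem. -/
theorem isPPrimeResidual_unique {S : Subgroup Ω} (p : ℕ) (F : FusionSystem S)
    (D₁ D₂ : FusionSystem S) (h₁ : F.IsPPrimeResidual p D₁) (h₂ : F.IsPPrimeResidual p D₂) :
    D₁ = D₂ := by
  apply Cfsg.Agent.S5113P.UNIQ.aux_ext
  intro P
  exact Set.Subset.antisymm (h₁.2.2 D₂ h₂.1 h₂.2.1 P) (h₂.2.2 D₁ h₁.1 h₁.2.1 P)

theorem finite_hyperfocal {S : Subgroup Ω} [Finite S] (F : FusionSystem S) (p : ℕ) :
    Finite (F.hyperfocalSubgroup p) := finite_of_le (hyperfocalSubgroup_le F p)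

theorem isPGroup_hyperfocal {S : Subgroup Ω} (p : ℕ) (hS : IsPGroup p S) (F : FusionSystem S) :
    IsPGroup p (F.hyperfocalSubgroup p) := isPGroup_of_le hS (hyperfocalSubgroup_le F p)

/-- A stable saturated system is its own `p`-residual and `p'`-residual, read over its
hyperfocal subgroup. -/
theorem stable_step {S : Subgroup Ω} (p : ℕ) (F : FusionSystem S) (hF : F.IsSaturated p)
    (h1 : F.hyperfocalSubgroup p = S) (h2 : F.IsPPrimeResidual p F) :
    ∃ D : FusionSystem (F.hyperfocalSubgroup p), SameHom D F ∧ F.IsPResidual p D ∧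
      D.IsPPrimeResidual p D ∧ D.hyperfocalSubgroup p = F.hyperfocalSubgroup p := by
  refine ⟨castSystem h1.symm F, castSystem_sameHom h1.symm F, ?_, ?_, ?_⟩
  · exact (castSystem_sameHom h1.symm F).symm.transport
      (fun W X => X.IsSaturated p ∧ X.HasPPowerIndexIn F p) ⟨hF, hasPPowerIndexIn_refl p F⟩
  · exact (castSystem_sameHom h1.symm F).symm.transport
      (fun W X => X.IsPPrimeResidual p X) h2
  · exact (castSystem_sameHom h1.symm F).symm.transport
      (fun W X => X.hyperfocalSubgroup p = W) h1

/-- A residual limit of a stable saturated system has the same maps as the system. -/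
theorem limit_of_stable :
    ∀ {U S : Subgroup Ω} {L : FusionSystem U} {F : FusionSystem S} {p : ℕ},
      IsResidualLimitOf L F p →
      ∀ [Fact p.Prime] [Finite S], IsPGroup p S → F.IsSaturated p → F.hyperfocalSubgroup p = S →
        F.IsPPrimeResidual p F → SameHom F L := by
  intro U S L F p h
  induction h with
  | stable F p _ _ =>
    intro _ _ _ _ _ _
    exact SameHom.refl F
  | step F p D D' hD hD' hlim ih =>
    intro _ _ hS hF h1 h2
    obtain ⟨D₀, hD₀F, hD₀res, hD₀pp, hD₀hyp⟩ := stable_step p F hF h1 h2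
    have e1 : D = D₀ := isPResidual_unique p hS F hF D D₀ hD hD₀res
    subst e1
    have e2 : D' = D := isPPrimeResidual_unique p D D' D hD' hD₀pp
    subst e2
    have := finite_hyperfocal F p
    exact hD₀F.symm.trans (ih (isPGroup_hyperfocal p hS F) hD.1 hD₀hyp hD₀pp)

/-- Any two residual limits of a saturated system over a finite `p`-group have the same maps. -/
theorem limit_unique :
    ∀ {U₁ S : Subgroup Ω} {L₁ : FusionSystem U₁} {F : FusionSystem S} {p : ℕ},
      IsResidualLimitOf L₁ F p →
      ∀ [Fact p.Prime] [Finite S], IsPGroup p S → F.IsSaturated p →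
        ∀ {U₂ : Subgroup Ω} (L₂ : FusionSystem U₂), IsResidualLimitOf L₂ F p → SameHom L₁ L₂ := by
  intro U₁ S L₁ F p h
  induction h with
  | stable F p h1 h2 =>
    intro _ _ hS hF U₂ L₂ hL₂
    exact limit_of_stable hL₂ hS hF h1 h2
  | step F p D D' hD hD' hlim ih =>
    intro _ _ hS hF U₂ L₂ hL₂
    cases hL₂ with
    | stable _ _ h1 h2 =>
      exact (limit_of_stable (IsResidualLimitOf.step _ p D D' hD hD' hlim) hS hF h1 h2).symm
    | step _ _ D₂ D₂' hD₂ hD₂' hlim₂ =>
      have e1 : D₂ = D := isPResidual_unique p hS F hF D₂ D hD₂ hD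
      subst e1
      have e2 : D₂' = D' := isPPrimeResidual_unique p D₂ D₂' D' hD₂' hD'
      subst e2
      have := finite_hyperfocal F p
      exact ih (isPGroup_hyperfocal p hS F) hD'.1 L₂ hlim₂

/-- Every residual limit is reached through a step. -/
theorem limit_exists_step (p : ℕ) {U S : Subgroup Ω} {L : FusionSystem U} {F : FusionSystem S}
    (hF : F.IsSaturated p) (h : IsResidualLimitOf L F p) :
    ∃ D D' : FusionSystem (F.hyperfocalSubgroup p), F.IsPResidual p D ∧ D.IsPPrimeResidual p D' ∧
      IsResidualLimitOf L D' p := by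
  cases h with
  | stable _ _ h1 h2 =>
    obtain ⟨D₀, hD₀F, hD₀res, hD₀pp, -⟩ := stable_step p L hF h1 h2
    refine ⟨D₀, D₀, hD₀res, hD₀pp, ?_⟩
    exact hD₀F.symm.transport (fun W X => IsResidualLimitOf L X p)
      (IsResidualLimitOf.stable L p h1 h2)
  | step _ _ D D' hD hD' hlim => exact ⟨D, D', hD, hD', hlim⟩

end Cfsg.Agent.Helper13.S5203Aux
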