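import Mathlib
import Cfsg.Prelude.Def_GeometricClasses
import Cfsg.Agent.Helper19.Mono.Defs
import Cfsg.Agent.Helper11.S5634SECGRP
import Cfsg.Agent.Helper5.S5634SECMONO
import Cfsg.Agent.Helper22.S5634SECLIFT
import Cfsg.Agent.Helper22.S5634CUT
import Cfsg.Agent.Helper19.S5634MONOGRP

/-! S5634, monomial half, piece COLSL: an element of `M` with a column having at most one non-zero entry is
monomial. -/

set_option autoImplicit false

namespace Cfsg.Agent.MonoP

open Matrix

variable {ι : Type} [Fintype ι] [DecidableEq ι] {K : Type*} [Field K] [Fintype K]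

namespace COLSL

/-- a monomial matrix of determinant one whose column `k'` is supported at row `k` -/
theorem exists_swap (k k' : ι) :
    ∃ n : GL ι K, IsMono (n : Matrix ι ι K) ∧ (n : Matrix ι ι K).det = 1 ∧
      ∀ i, i ≠ k → (n : Matrix ι ι K) i k' = 0 := by
  by_cases hkk : k = k'
  · subst hkk
    refine ⟨1, ⟨1, ?_⟩, by simp, ?_⟩
    · intro i j hij
      rw [Units.val_one, Matrix.one_apply_ne]
      simpa using hij
    · intro i hi
      rw [Units.val_one, Matrix.one_apply_ne hi]
  · set s : Equiv.Perm ι := Equiv.swap k k' with hs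
    set d : ι → K := Function.update (fun _ => (1 : K)) k' (-1) with hd
    set A : Matrix ι ι K := Matrix.diagonal d * s.permMatrix K with hA
    have hdet : A.det = 1 := by
      rw [hA, Matrix.det_mul, Matrix.det_diagonal, Matrix.det_permutation, hs,
        Equiv.Perm.sign_swap hkk, hd, Finset.prod_update_of_mem (Finset.mem_univ k')]
      simp
    have hentry : ∀ i j, A i j = if s i = j then d i else 0 := by
      intro i j
      rw [hA, Matrix.diagonal_mul, Equiv.Perm.permMatrix, PEquiv.toMatrix_apply]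
      by_cases h : s i = j
      · simp [h]
      · simp [h]
    refine ⟨Matrix.GeneralLinearGroup.mkOfDetNeZero A (by rw [hdet]; exact one_ne_zero),
      ⟨s, ?_⟩, hdet, ?_⟩
    · intro i j hij
      show A i j = 0
      rw [hentry, if_neg]
      intro h
      apply hij
      rw [← h, hs, Equiv.swap_apply_self]
    · intro i hi
      show A i k' = 0
      rw [hentry, if_neg]
      intro h
      apply hi
      have : i = s k' := by rw [← h, hs, Equiv.swap_apply_self]
      rw [this, hs, Equiv.swap_apply_right]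

/-- a matrix in `GL` whose column `o` is supported at row `o`: the diagonal entry is non-zero and the
inverse has the same shape -/
theorem inv_col (y : GL ι K) (o : ι) (h : ∀ i, i ≠ o → (y : Matrix ι ι K) i o = 0) :
    (y : Matrix ι ι K) o o ≠ 0 ∧ ∀ i, i ≠ o → ((y⁻¹ : GL ι K) : Matrix ι ι K) i o = 0 := by
  have hmul : ∀ i, ((y⁻¹ : GL ι K) : Matrix ι ι K) i o * (y : Matrix ι ι K) o o =
      (1 : Matrix ι ι K) i o := by
    intro i
    have h1 : ((y⁻¹ : GL ι K) : Matrix ι ι K) * (y : Matrix ι ι K) = 1 := by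
      rw [← Units.val_mul, inv_mul_cancel, Units.val_one]
    have h2 := congrFun (congrFun h1 i) o
    rw [Matrix.mul_apply, Finset.sum_eq_single o] at h2
    · exact h2
    · intro r _ hr
      rw [h r hr, mul_zero]
    · intro ho
      exact absurd (Finset.mem_univ o) ho
  have hne : (y : Matrix ι ι K) o o ≠ 0 := by
    intro h0
    have := hmul o
    rw [h0, mul_zero, Matrix.one_apply_eq] at this
    exact zero_ne_one this
  refine ⟨hne, fun i hi => ?_⟩
  have := hmul i
  rw [Matrix.one_apply_ne hi] at this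
  exact (mul_eq_zero.mp this).resolve_right hne

/-- the block of a product, when column `o` of the left factor is supported at row `o` -/
theorem block_mul (a b : Matrix ι ι K) (o : ι) (h : ∀ i, i ≠ o → a i o = 0)
    (i j : {i : ι // i ≠ o}) :
    (a * b) i j = ∑ r : {i : ι // i ≠ o}, a i r * b r j := by
  rw [Matrix.mul_apply, Fintype.sum_eq_add_sum_subtype_ne (fun r => a i r * b r j) o, h i i.2,
    zero_mul, zero_add]

/-- the block of an element of `GL` whose column `o` is supported at row `o`, as an element of `GL` -/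
def blockGL (y : GL ι K) (o : ι) (h : ∀ i, i ≠ o → (y : Matrix ι ι K) i o = 0) :
    GL {i : ι // i ≠ o} K :=
  ⟨(y : Matrix ι ι K).submatrix Subtype.val Subtype.val,
    ((y⁻¹ : GL ι K) : Matrix ι ι K).submatrix Subtype.val Subtype.val,
    by
      ext i j
      have := block_mul (y : Matrix ι ι K) ((y⁻¹ : GL ι K) : Matrix ι ι K) o h i j
      rw [← Units.val_mul, mul_inv_cancel, Units.val_one] at this
      rw [Matrix.mul_apply]
      simp only [Matrix.submatrix_apply]
      rw [← this, Matrix.one_apply, Matrix.one_apply]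
      simp [Subtype.ext_iff],
    by
      ext i j
      have := block_mul ((y⁻¹ : GL ι K) : Matrix ι ι K) (y : Matrix ι ι K) o (inv_col y o h).2 i j
      rw [← Units.val_mul, inv_mul_cancel, Units.val_one] at this
      rw [Matrix.mul_apply]
      simp only [Matrix.submatrix_apply]
      rw [← this, Matrix.one_apply, Matrix.one_apply]
      simp [Subtype.ext_iff]⟩

theorem blockGL_apply (y : GL ι K) (o : ι) (h : ∀ i, i ≠ o → (y : Matrix ι ι K) i o = 0)
    (i j : {i : ι // i ≠ o}) :
    ((blockGL y o h : GL {i : ι // i ≠ o} K) : Matrix _ _ K) i j = (y : Matrix ι ι K) i j := rfl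

/-- the transvection `1 + e_o φ` (`φ o = 0`) as an element of `GL` -/
def tv (o : ι) (φ : ι → K) (hφ : φ o = 0) : GL ι K :=
  ⟨1 + Matrix.vecMulVec (Pi.single o (1 : K)) φ, 1 - Matrix.vecMulVec (Pi.single o (1 : K)) φ,
    by
      have h0 : Matrix.vecMulVec (Pi.single o (1 : K)) φ * Matrix.vecMulVec (Pi.single o (1 : K)) φ
          = 0 := by
        rw [Matrix.vecMulVec_mul_vecMulVec]
        simp [hφ]
      rw [add_mul, one_mul, mul_sub, mul_one, h0]
      abel,
    by
      have h0 : Matrix.vecMulVec (Pi.single o (1 : K)) φ * Matrix.vecMulVec (Pi.single o (1 : K)) φ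
          = 0 := by
        rw [Matrix.vecMulVec_mul_vecMulVec]
        simp [hφ]
      rw [sub_mul, one_mul, mul_add, mul_one, h0]
      abel⟩

theorem tv_val (o : ι) (φ : ι → K) (hφ : φ o = 0) :
    ((tv o φ hφ : GL ι K) : Matrix ι ι K) = 1 + Matrix.vecMulVec (Pi.single o (1 : K)) φ := rfl

theorem tv_inv_val (o : ι) (φ : ι → K) (hφ : φ o = 0) :
    (((tv o φ hφ)⁻¹ : GL ι K) : Matrix ι ι K) = 1 - Matrix.vecMulVec (Pi.single o (1 : K)) φ := rfl

theorem tv_inv_det (o : ι) (φ : ι → K) (hφ : φ o = 0) :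
    (((tv o φ hφ)⁻¹ : GL ι K) : Matrix ι ι K).det = 1 := by
  rw [tv_inv_val, sub_eq_add_neg, ← Matrix.vecMulVec_neg, Matrix.vecMulVec_eq Unit,
    Matrix.det_one_add_replicateCol_mul_replicateRow]
  simp [hφ]

/-- the core: an element of `M` whose column `o` is supported at row `o` is monomial -/
theorem isMono_of_col (hK : 5 ≤ Fintype.card K) (hι : 4 ≤ Fintype.card ι) (M : Subgroup (GL ι K))
    (hSL : M ≤ Cfsg.Geo.specialLinear ι K) (hmon : MonoSLE M) (hE : ¬ HasE M)
    (hGL : ∀ (o : ι) (S : Subgroup (GL {i : ι // i ≠ o} K)), MonoLE S → ¬ HasE S →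
      ∀ h ∈ S, IsMono ((h : GL {i : ι // i ≠ o} K) : Matrix {i : ι // i ≠ o} {i : ι // i ≠ o} K))
    (y : GL ι K) (hy : y ∈ M) (o : ι) (hc : ∀ i, i ≠ o → (y : Matrix ι ι K) i o = 0) :
    IsMono (y : Matrix ι ι K) := by
  obtain ⟨S, hS⟩ := SECGRP.exists_subgroup M o
  have hSmon : MonoLE S := SECMONO.monoLE M hmon o S hS
  have hSE : ¬ HasE S := fun h => hE (SECLIFT.hasE (by omega) hι M hSL hmon o S hS h)
  have hbS : blockGL y o hc ∈ S := by
    have : blockGL y o hc ∈ (S : Set (GL {i : ι // i ≠ o} K)) := by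
      rw [hS]
      exact ⟨y, hy, hc, fun i j => rfl⟩
    exact this
  obtain ⟨τ, hτ⟩ := hGL o S hSmon hSE _ hbS
  obtain ⟨hα, -⟩ := inv_col y o hc
  set α : K := (y : Matrix ι ι K) o o with hαdef
  -- the functional
  set φ : ι → K := fun j => if j = o then 0 else α⁻¹ * (y : Matrix ι ι K) o j with hφdef
  have hφo : φ o = 0 := by simp [hφdef]
  set n₂ : GL ι K := y * (tv o φ hφo)⁻¹ with hn₂
  have hn₂entry : ∀ i j, (n₂ : Matrix ι ι K) i j =
      (y : Matrix ι ι K) i j - (y : Matrix ι ι K) i o * φ j := by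
    intro i j
    rw [hn₂, Units.val_mul, tv_inv_val, mul_sub, mul_one, Matrix.mul_vecMulVec, Matrix.sub_apply,
      Matrix.vecMulVec_apply]
    congr 2
    simp [Matrix.mulVec, dotProduct, Pi.single_apply]
  have hn₂mono : IsMono (n₂ : Matrix ι ι K) := by
    refine ⟨Equiv.Perm.ofSubtype τ, ?_⟩
    intro i j hij
    rw [hn₂entry]
    by_cases hj : j = o
    · subst hj
      rw [Equiv.Perm.ofSubtype_apply_of_not_mem τ (by simp)] at hij
      rw [hφo, mul_zero, sub_zero, hc i hij]
    · rw [Equiv.Perm.ofSubtype_apply_of_mem τ (show j ≠ o from hj)] at hij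
      by_cases hi : i = o
      · subst hi
        simp only [hφdef, if_neg hj]
        rw [← hαdef]
        field_simp
        ring
      · rw [hc i hi, zero_mul, sub_zero]
        have := hτ ⟨i, hi⟩ ⟨j, hj⟩ (by
          intro h
          apply hij
          rw [← h])
        exact this
  have hydet : (y : Matrix ι ι K).det = 1 := by
    have := hSL hy
    rw [Cfsg.Geo.specialLinear, MonoidHom.mem_ker] at this
    have h2 := congrArg Units.val this
    simpa using h2
  have hn₂det : (n₂ : Matrix ι ι K).det = 1 := by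
    rw [hn₂, Units.val_mul, Matrix.det_mul, hydet, tv_inv_det, one_mul]
  have hn₂M : n₂ ∈ M := hmon n₂ hn₂mono hn₂det
  have htvM : tv o φ hφo ∈ M := by
    have : tv o φ hφo = n₂⁻¹ * y := by
      rw [hn₂]; group
    rw [this]
    exact M.mul_mem (M.inv_mem hn₂M) hy
  have hφ0 : φ = 0 := by
    by_contra hne
    exact hE (CUT.hasE (by omega) hι M hmon o φ hφo hne (tv o φ hφo) htvM (tv_val o φ hφo))
  have hyn : y = n₂ := by
    rw [hn₂]
    have : tv o φ hφo = 1 := by
      apply Units.ext
      rw [tv_val, hφ0]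
      simp
    rw [this]; simp
  rw [hyn]
  exact hn₂mono

end COLSL

/-- COLSL (L; uses SECGRP, SECMONO, SECLIFT, CUT, MONOGRP): property (B) for `M`: an element of `M` with a column having
at most one non-zero entry is monomial. -/
theorem COLSL.isMono (hK : 5 ≤ Fintype.card K) (hι : 4 ≤ Fintype.card ι) (M : Subgroup (GL ι K))
    (hSL : M ≤ Cfsg.Geo.specialLinear ι K) (hmon : MonoSLE M) (hE : ¬ HasE M)
    (hGL : ∀ (o : ι) (S : Subgroup (GL {i : ι // i ≠ o} K)), MonoLE S → ¬ HasE S →
      ∀ h ∈ S, IsMono ((h : GL {i : ι // i ≠ o} K) : Matrix {i : ι // i ≠ o} {i : ι // i ≠ o} K))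
    (y : GL ι K) (hy : y ∈ M) (hc : ColMono (y : Matrix ι ι K)) : IsMono (y : Matrix ι ι K) := by
  obtain ⟨k, k', hcol⟩ := hc
  obtain ⟨n₁, hn₁mono, hn₁det, hn₁col⟩ := COLSL.exists_swap (K := K) k k'
  obtain ⟨N, hN⟩ := MONOGRP.exists_subgroup (ι := ι) (K := K)
  have hn₁M : n₁ ∈ M := hmon n₁ hn₁mono hn₁det
  have hy₁M : y * n₁ ∈ M := M.mul_mem hy hn₁M
  have hy₁col : ∀ i, i ≠ k' → ((y * n₁ : GL ι K) : Matrix ι ι K) i k' = 0 := by
    intro i hi
    rw [Units.val_mul, Matrix.mul_apply]
    apply Finset.sum_eq_zero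
    intro r _
    by_cases hr : r = k
    · subst hr
      rw [hcol i hi, zero_mul]
    · rw [hn₁col r hr, mul_zero]
  have hy₁mono : IsMono ((y * n₁ : GL ι K) : Matrix ι ι K) :=
    COLSL.isMono_of_col hK hι M hSL hmon hE hGL (y * n₁) hy₁M k' hy₁col
  have h1 : y * n₁ ∈ N := (hN _).mpr hy₁mono
  have h2 : n₁ ∈ N := (hN _).mpr hn₁mono
  have h3 : y ∈ N := by
    have : y = y * n₁ * n₁⁻¹ := by group
    rw [this]
    exact N.mul_mem h1 (N.inv_mem h2)
  exact (hN _).mp h3

end Cfsg.Agent.MonoP
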