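import Cfsg.Agent.Helper29.S5677.Defs2
import Cfsg.Agent.Helper11.S5677CYC3
import Cfsg.Agent.Helper25.S5677LINKCONJ
import Cfsg.Agent.Helper10.S5677LINKS

set_option autoImplicit false
set_option linter.unusedSectionVars false
set_option linter.unusedVariables false

/-! # S5677 piece ALLLINK: one link gives all links -/

namespace Cfsg.Agent.S5677P

open Matrix Cfsg.Agent.Helper28.Sg Cfsg.Agent.Helper28.Spin Cfsg.Agent.Helper12.OrthGen
  Cfsg.Agent.S2614 Cfsg.Agent.S5683P Cfsg.Agent.Helper28.NDM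

variable {F : Type*} [Field F] [Fintype F] {m t k : ℕ} {D : Fin t → Submodule F (Idx m → F)}
  {M : Subgroup (OG m F)}

/-- a block 3-cycle `a → b → c → a` in `HS D` carries `Link a b` to `Link b c` -/
theorem ALLLINK.step (h2 : (2 : F) ≠ 0) (hm : 3 ≤ m) (hD : HD k D) (hHM : HS D ≤ M)
    {a b c : Fin t} (hab : a ≠ b) (hbc : b ≠ c) (hac : a ≠ c) (h : Link M D a b) :
    Link M D b c := by
  obtain ⟨g, hg, h1, h2', h3⟩ := CYC3.exists h2 hm hD hab hbc hac
  exact LINKCONJ.map' hD hHM hg h1 h2' h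

/-- one link gives all links (CYC3.exists, LINKCONJ.map', LINKS.symm; `t ≥ 3`) -/
theorem ALLLINK.all (h2 : (2 : F) ≠ 0) (hm : 3 ≤ m) (hD : HD k D) (hHM : HS D ≤ M) {c b : Fin t}
    (hcb : c ≠ b) (h : Link M D c b) : ∀ x y : Fin t, x ≠ y → Link M D x y := by
  have hA : ∀ z : Fin t, z ≠ c → Link M D c z := by
    intro z hz
    by_cases hzb : z = b
    · subst hzb; exact h
    · have h1 : Link M D b z := ALLLINK.step h2 hm hD hHM hcb (Ne.symm hzb) (Ne.symm hz) h
      have h2' : Link M D z c := ALLLINK.step h2 hm hD hHM (Ne.symm hzb) hz (Ne.symm hcb) h1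
      exact LINKS.symm h2 hD hHM hz h2'
  intro x y hxy
  by_cases hxc : x = c
  · subst hxc; exact hA y (Ne.symm hxy)
  · have hcx : Link M D c x := hA x hxc
    by_cases hyc : y = c
    · subst hyc; exact LINKS.symm h2 hD hHM (Ne.symm hxc) hcx
    · exact ALLLINK.step h2 hm hD hHM (Ne.symm hxc) hxy (Ne.symm hyc) hcx

end Cfsg.Agent.S5677P
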