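import Mathlib
import Cfsg.Prelude.Def_GeometricClasses
import Cfsg.Agent.Helper24.S5704.Defs
import Cfsg.Agent.Helper17.S5704.STDefs

set_option autoImplicit false
set_option linter.unusedSectionVars false
set_option linter.unusedVariables false

/-! # S5704, chapter STAR' (driver helper17): piece STCONJ. -/

namespace Cfsg.Agent.S5704P

open Matrix Cfsg.Agent.S5637P Cfsg.Agent.S5704S Cfsg.Agent.S5634P

variable {F : Type*} [Field F] {n a b : ℕ} (e : Fin n ≃ Fin a × Fin b)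

theorem STCONJ.inv_mul_cancel_vec (y : GL (Fin n) F) (x : Fin n → F) :
    ((y⁻¹ : GL (Fin n) F) : Matrix (Fin n) (Fin n) F) *ᵥ
      ((y : Matrix (Fin n) (Fin n) F) *ᵥ x) = x := by
  rw [Matrix.mulVec_mulVec, ← Units.val_mul, inv_mul_cancel, Units.val_one, Matrix.one_mulVec]

theorem STCONJ.conj_mulVec (y s : GL (Fin n) F) (v : Fin n → F) :
    ((y * s * y⁻¹ : GL (Fin n) F) : Matrix (Fin n) (Fin n) F) *ᵥ v =
      (y : Matrix (Fin n) (Fin n) F) *ᵥ ((s : Matrix (Fin n) (Fin n) F) *ᵥ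
        (((y⁻¹ : GL (Fin n) F) : Matrix (Fin n) (Fin n) F) *ᵥ v)) := by
  rw [Units.val_mul, Units.val_mul, Matrix.mulVec_mulVec, Matrix.mulVec_mulVec]

/-- STCONJ (M): conjugating a radical element `s` of `H` by `y` (`y V_z = V_z`, `y⁻¹ K_z ⊆ K_z`) gives a radical element, with an explicit
action.  `(y s y⁻¹) (y x) = y (s x)`; for RadAt: `y⁻¹ (tn u z) ∈ V_z` (`hyz`), `tn u w ∈ K_z` when `w ⊥ z` (`cps_tn`, `psi_dot`). -/
theorem STCONJ {GW : Matrix (Fin b) (Fin b) F} (hW : IsSymp GW) {y : GL (Fin n) F}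
    {z : Fin b → F} (hz : z ≠ 0) (hyz : gmap y (Vw e z) = Vw e z)
    (hyK' : ∀ x : Fin n → F, cps e (psi GW z) x = 0 →
      cps e (psi GW z) (((y⁻¹ : GL (Fin n) F) : Matrix (Fin n) (Fin n) F) *ᵥ x) = 0)
    (α : GL (Fin a) F)
    (hα : ∀ u : Fin a → F,
      (y : Matrix (Fin n) (Fin n) F) *ᵥ tn e u z = tn e ((α : Matrix (Fin a) (Fin a) F) *ᵥ u) z)
    {s : GL (Fin n) F} (ψ : Fin b → F)
    (hs1 : ∀ u : Fin a → F, (s : Matrix (Fin n) (Fin n) F) *ᵥ tn e u z = tn e u z)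
    (hs2 : ∀ x : Fin n → F, cps e (psi GW z) x = 0 →
      (s : Matrix (Fin n) (Fin n) F) *ᵥ x = x + tn e (cps e ψ x) z) :
    RadAt e GW z (y * s * y⁻¹) ∧
      ∀ x : Fin n → F, cps e (psi GW z) x = 0 →
        ((y * s * y⁻¹ : GL (Fin n) F) : Matrix (Fin n) (Fin n) F) *ᵥ
            ((y : Matrix (Fin n) (Fin n) F) *ᵥ x) - (y : Matrix (Fin n) (Fin n) F) *ᵥ x =
          tn e ((α : Matrix (Fin a) (Fin a) F) *ᵥ cps e ψ x) z := by
  have hkey : ∀ x : Fin n → F, cps e (psi GW z) x = 0 →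
      ((y * s * y⁻¹ : GL (Fin n) F) : Matrix (Fin n) (Fin n) F) *ᵥ
            ((y : Matrix (Fin n) (Fin n) F) *ᵥ x) - (y : Matrix (Fin n) (Fin n) F) *ᵥ x =
          tn e ((α : Matrix (Fin a) (Fin a) F) *ᵥ cps e ψ x) z := by
    intro x hx
    rw [STCONJ.conj_mulVec, STCONJ.inv_mul_cancel_vec, hs2 x hx, Matrix.mulVec_add, hα,
      add_sub_cancel_left]
  have hyy : ∀ v : Fin n → F, (y : Matrix (Fin n) (Fin n) F) *ᵥ
      (((y⁻¹ : GL (Fin n) F) : Matrix (Fin n) (Fin n) F) *ᵥ v) = v := by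
    intro v
    rw [Matrix.mulVec_mulVec, ← Units.val_mul, mul_inv_cancel, Units.val_one, Matrix.one_mulVec]
  refine ⟨⟨?_, ?_⟩, hkey⟩
  · intro u
    have hmem : tn e u z ∈ gmap y (Vw e z) := by
      rw [hyz]; exact (mem_Vw e).mpr ⟨u, rfl⟩
    obtain ⟨x, hxV, hx⟩ := mem_gmap.mp hmem
    obtain ⟨u', rfl⟩ := (mem_Vw e).mp hxV
    rw [← hx, STCONJ.conj_mulVec, STCONJ.inv_mul_cancel_vec, hs1]
  · intro u w hwz
    have hK : cps e (psi GW z) (tn e u w) = 0 := by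
      rw [cps_tn, psi_dot, hwz, zero_smul]
    have hK' := hyK' _ hK
    refine ⟨(α : Matrix (Fin a) (Fin a) F) *ᵥ cps e ψ
      (((y⁻¹ : GL (Fin n) F) : Matrix (Fin n) (Fin n) F) *ᵥ tn e u w), ?_⟩
    have := hkey _ hK'
    rw [hyy] at this
    exact this

end Cfsg.Agent.S5704P
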