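import Mathlib
import Cfsg.Prelude.Def_Classical
import Cfsg.Prelude.Def_GeometricClasses
import Cfsg.Agent.Helper5.S5973Defs
import Cfsg.Agent.Helper13.QuadWitt
import Cfsg.Agent.Helper28.Spin6
import Cfsg.Agent.Helper21.OCa

set_option autoImplicit false

/-! S5973 + S5987 piece CLASSIF: nondegenerate quadratic spaces of the same even dimension and the
same type are isometric (from helper21's `OC.exists_isometry_of_plus_iff`). -/

universe u

namespace Cfsg.Agent.S5973P

open Module Cfsg.Agent.S5955P

section Types

variable {F : Type*} [Field F] [Fintype F] {V : Type*} [AddCommGroup V] [Module F V]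
  [FiniteDimensional F V]

/-- CLASSIF: nondegenerate quadratic spaces of the same even dimension and the same type are isometric -/
theorem exists_isometry_of_type {V' : Type*} [AddCommGroup V'] [Module F V'] [FiniteDimensional F V']
    (Q : QuadraticForm F V) (Q' : QuadraticForm F V') (hQ : ND Q) (hQ' : ND Q')
    (hdim : finrank F V = finrank F V') (hev : Even (finrank F V)) (htype : IsHyp Q ↔ IsHyp Q') :
    ∃ g : V ≃ₗ[F] V', ∀ v, Q' (g v) = Q v := by
  obtain ⟨m, hm⟩ := hev
  rcases Nat.eq_zero_or_pos m with h0 | hpos
  · have hV0 : finrank F V = 0 := by omega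
    have : Subsingleton V := Module.finrank_zero_iff.mp hV0
    refine ⟨LinearEquiv.ofFinrankEq V V' hdim, fun v => ?_⟩
    rw [Subsingleton.elim v 0, map_zero, map_zero, map_zero]
  · exact Cfsg.Agent.Helper21.OC.exists_isometry_of_plus_iff (m := m) hpos (by omega) (by omega)
      Q Q' hQ hQ' htype

end Types

end Cfsg.Agent.S5973P
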