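import Mathlib
import Cfsg.Prelude.Def_Classical
import Cfsg.Prelude.Def_GeometricClasses
import Cfsg.Agent.Helper5.S5973Defs
import Cfsg.Agent.Helper13.QuadWitt
import Cfsg.Agent.Helper28.Spin6

set_option autoImplicit false

/-! S5973 + S5987 piece HYPISO: the Witt type is invariant under isometries. -/

universe u

namespace Cfsg.Agent.S5973P

open Module Cfsg.Agent.S5955P

namespace HYPISO

variable {F : Type*} [Field F] {V : Type*} [AddCommGroup V] [Module F V]

theorem isHyp_map {V' : Type*} [AddCommGroup V'] [Module F V']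
    (Q : QuadraticForm F V) (Q' : QuadraticForm F V') (g : V ≃ₗ[F] V') (hg : ∀ v, Q' (g v) = Q v)
    (h : IsHyp Q) : IsHyp Q' := by
  obtain ⟨W, hW, hdim⟩ := h
  refine ⟨W.map g.toLinearMap, ?_, ?_⟩
  · rintro _ ⟨w, hw, rfl⟩
    show Q' (g w) = 0
    rw [hg, hW w hw]
  · have h1 : finrank F (W.map g.toLinearMap) = finrank F W := LinearEquiv.finrank_map_eq g W
    rw [h1, hdim, g.finrank_eq]

end HYPISO

section Types

variable {F : Type*} [Field F] [Fintype F] {V : Type*} [AddCommGroup V] [Module F V]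
  [FiniteDimensional F V]

/-- HYPISO: the type is invariant under isometries -/
theorem isHyp_of_isometry {V' : Type*} [AddCommGroup V'] [Module F V'] [FiniteDimensional F V']
    (Q : QuadraticForm F V) (Q' : QuadraticForm F V') (g : V ≃ₗ[F] V') (hg : ∀ v, Q' (g v) = Q v) :
    IsHyp Q ↔ IsHyp Q' := by
  refine ⟨HYPISO.isHyp_map Q Q' g hg, HYPISO.isHyp_map Q' Q g.symm fun v => ?_⟩
  have := hg (g.symm v)
  rw [LinearEquiv.apply_symm_apply] at this
  exact this.symm

end Types

end Cfsg.Agent.S5973P
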