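import Mathlib
import Cfsg.Prelude.Def_Classical
import Cfsg.Prelude.Def_GeometricClasses
import Cfsg.Agent.Helper5.S5973Defs
import Cfsg.Agent.Helper13.QuadWitt
import Cfsg.Agent.Helper28.Spin6
import Cfsg.Agent.Helper13.S5973WDHYP

set_option autoImplicit false

/-! S5973 + S5987 piece TSEX: totally singular subspaces of every dimension up to the Witt index. -/

universe u

namespace Cfsg.Agent.S5973P

open Module Cfsg.Agent.S5955P

section Types

variable {F : Type*} [Field F] [Fintype F] {V : Type*} [AddCommGroup V] [Module F V]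
  [FiniteDimensional F V]

open WDHYP in
/-- TSEX: totally singular subspaces of every dimension up to the Witt index -/
theorem exists_ts (Q : QuadraticForm F V) (hQ : ND Q) (k : ℕ)
    (hk : 2 * k + 2 ≤ finrank F V ∨ (IsHyp Q ∧ 2 * k ≤ finrank F V)) :
    ∃ W : Submodule F V, IsTS Q W ∧ finrank F W = k := by
  obtain ⟨m, e, f, A, h⟩ := Cfsg.Agent.Helper13.exists_wittDecomp (F := F) (finrank F V) Q rfl
    (HCANCEL.left_of_nd Q hQ)
  have hkm : k ≤ m := by
    have h1 := h.rank
    have h2 := h.rankA
    rcases hk with hk | ⟨hH, hk⟩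
    · omega
    · have hA : A = ⊥ := (isHyp_iff_of_wittDecomp Q hQ m e f A h).mp hH
      rw [hA, finrank_bot] at h1
      omega
  set e' : Fin k → V := e ∘ Fin.castLE hkm with he'
  refine ⟨Submodule.span F (Set.range e'), isTS_span Q e' (fun i => h.Qe _) (fun i j => h.ee _ _), ?_⟩
  have hli : LinearIndependent F e' := (li_e h).comp _ (Fin.castLE_injective hkm)
  rw [finrank_span_eq_card hli]
  simp

end Types

end Cfsg.Agent.S5973P
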