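import Mathlib
import Cfsg.Prelude.Def_Classical
import Cfsg.Prelude.Def_GeometricClasses
import Cfsg.Agent.Helper5.S5973Defs
import Cfsg.Agent.Helper13.QuadWitt
import Cfsg.Agent.Helper28.Spin6
import Cfsg.Agent.Helper13.S5973HCANCEL

set_option autoImplicit false

/-! S5973 + S5987 piece TSHALF (wrapper of an auxiliary lemma of HCANCEL). -/

universe u

namespace Cfsg.Agent.S5973P

open Module Cfsg.Agent.S5955P

section Types

variable {F : Type*} [Field F] [Fintype F] {V : Type*} [AddCommGroup V] [Module F V]
  [FiniteDimensional F V]

/-- TSHALF: a totally singular subspace of a nondegenerate space has at most half the dimension -/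
theorem ts_le_half (Q : QuadraticForm F V) (hQ : ND Q) (W : Submodule F V) (hW : IsTS Q W) :
    2 * finrank F W ≤ finrank F V :=
  HCANCEL.ts_le_half' Q hQ W hW

end Types

end Cfsg.Agent.S5973P
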