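import Mathlib
import Cfsg.Prelude.Def_GeometricClasses
import Cfsg.Prelude.Def_Classical
import Cfsg.Agent.Helper16.S5974Defs
import Cfsg.Agent.Helper7.S5992ORTHSYM
import Cfsg.Agent.Helper19.Inv2TYPESUM2
import Cfsg.Agent.Helper28.QWitt

/-! # S5974 piece ORTHTY (helper13): the orthogonal complement of a type-`θ` `m`-space -/

set_option autoImplicit false

namespace Cfsg.Agent.S5974P

open Module Cfsg.Agent.S5973P Cfsg.Agent.Helper2.SympInvol Cfsg.Agent.Helper2.SympUnits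
  Cfsg.Agent.S5961P
open Cfsg.Agent.S5992P (PB Plus IsTy TS)

namespace ORTHTY

theorem beq_true_iff (ε θ : Bool) : (ε == θ) = true ↔ (ε = true ↔ θ = true) := by
  cases ε <;> cases θ <;> simp

end ORTHTY

/-- ORTHTY -/
theorem exists_orth_compl_ty {F V : Type*} [Field F] [Fintype F] [AddCommGroup V] [Module F V]
    [FiniteDimensional F V] (Q : QuadraticForm F V) (hQ : ND Q) (d : ℕ)
    (hV : finrank F V = 2 * d) (ε : Bool) (hε : IsHyp Q ↔ ε = true) (θ : Bool) (m : ℕ)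
    (hme : Even m) (W : Submodule F V) (hW : IsTy Q θ m W) :
    ∃ W' : Submodule F V, IsTy Q (ε == θ) (2 * d - m) W' ∧ Orth (PB Q) W W' ∧ IsCompl W W' ∧
      (∀ v, (∀ w ∈ W, PB Q w v = 0) → v ∈ W') ∧
      (∀ y : Module.End F V, (∀ v, Q (y v) = Q v) → W.map y ≤ W → W'.map y ≤ W') := by
  obtain ⟨hWf, hWnd, hWp⟩ := hW
  obtain ⟨W', -, hW'nd, ho, hsup, hdisj, hfin, hinv⟩ :=
    Cfsg.Agent.S5992P.orth_compl_sym Q ⊤ W le_top (nondeg_top_of_nd Q hQ) hWnd
  rw [finrank_top, hV, hWf] at hfin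
  have hW'f : finrank F W' = 2 * d - m := by omega
  have hW'e : Even (finrank F W') := by
    obtain ⟨a, ha⟩ := hme
    rw [hW'f]
    exact ⟨d - a, by omega⟩
  have hiff := Cfsg.Agent.Inv2P.plus_sup_iff2 Q W W' hWnd hW'nd ho (by rw [hWf]; exact hme) hW'e
  rw [hsup, ← isHyp_iff_plus_top, hε] at hiff
  refine ⟨W', ⟨hW'f, hW'nd, ?_⟩, ho, ⟨hdisj, codisjoint_iff.mpr hsup⟩, ?_, ?_⟩
  · rw [ORTHTY.beq_true_iff, ← hWp, hiff]
    tauto
  · intro v hv
    have hvtop : v ∈ W ⊔ W' := by rw [hsup]; trivial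
    obtain ⟨w, hw, w', hw', rfl⟩ := Submodule.mem_sup.mp hvtop
    have hw0 : w = 0 := by
      by_contra hne
      obtain ⟨u, hu, hwu⟩ := hWnd w hw hne
      apply hwu
      have h1 := hv u hu
      rw [map_add, ho u hu w' hw', add_zero] at h1
      rw [Cfsg.Agent.S5992P.PB_comm]
      exact h1
    rw [hw0, zero_add]
    exact hw'
  · intro y hy hWy
    exact hinv y hy (Cfsg.Agent.Helper28.QWitt.isom_injective Q hQ hy) hWy le_top

end Cfsg.Agent.S5974P
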