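import Mathlib
import Cfsg.Prelude.Def_GeometricClasses
import Cfsg.Prelude.Def_Classical
import Cfsg.Agent.Helper16.S5974Defs
import Cfsg.Agent.Helper7.S5992ORTHSYM
import Cfsg.Agent.Helper19.Inv2TYPESUM2
import Cfsg.Agent.Helper19.Inv2A2RK
import Cfsg.Agent.Helper28.QWitt
import Cfsg.Agent.Helper13.Inv2C2BLOCK
import Cfsg.Agent.Helper13.Inv2A2DER

/-! # S5974 piece UNIHYP (helper13): `(x - 1)^2 = 0`, `dim ker ∈ {d, d + 1}`: every invariant
nondegenerate even-dimensional `W` of a hyperbolic space is hyperbolic -/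

set_option autoImplicit false

namespace Cfsg.Agent.S5974P

open Module Cfsg.Agent.S5973P Cfsg.Agent.Helper2.SympInvol Cfsg.Agent.Helper2.SympUnits
  Cfsg.Agent.S5961P
open Cfsg.Agent.S5992P (PB Plus IsTy TS)
open Cfsg.Agent.Inv2P (InvOn rk)

namespace UNIHYP

section

variable {F V : Type*} [Field F] [AddCommGroup V] [Module F V]

theorem N_N_apply (x : Module.End F V) (hx2 : (x - 1) ^ 2 = 0) (v : V) :
    (x - 1) ((x - 1) v) = 0 := by
  have := LinearMap.congr_fun hx2 v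
  rwa [pow_two, Module.End.mul_apply, LinearMap.zero_apply] at this

/-- the range of `x - 1` is totally singular -/
theorem Q_N (h2 : (2 : F) ≠ 0) (Q : QuadraticForm F V) (x : Module.End F V)
    (hxQ : ∀ v, Q (x v) = Q v) (hx2 : (x - 1) ^ 2 = 0) (v : V) : Q ((x - 1) v) = 0 := by
  have hfix : x ((x - 1) v) = (x - 1) v := by
    have := N_N_apply x hx2 v
    rw [Cfsg.Agent.Inv2P.N_apply x ((x - 1) v), sub_eq_zero] at this
    exact this
  have h1 := Cfsg.Agent.S5992P.PB_isom Q hxQ v ((x - 1) v)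
  rw [hfix, Cfsg.Agent.Inv2P.t_apply x v, map_add, LinearMap.add_apply] at h1
  have h3 : PB Q ((x - 1) v) ((x - 1) v) = 0 := by
    have := h1
    rwa [add_eq_left] at this
  rw [Cfsg.Agent.S5992P.PB_self] at h3
  rcases mul_eq_zero.mp h3 with h | h
  · exact absurd h h2
  · exact h

variable [FiniteDimensional F V]

/-- if the rank on `W` is half the dimension then `W` is hyperbolic -/
theorem plus_of_half (h2 : (2 : F) ≠ 0) (Q : QuadraticForm F V) (x : Module.End F V)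
    (hxQ : ∀ v, Q (x v) = Q v) (hx2 : (x - 1) ^ 2 = 0) (W : Submodule F V) (hWx : InvOn x W)
    (hhalf : 2 * rk x W = finrank F W) : Plus Q W := by
  refine ⟨W.map (x - 1), Cfsg.Agent.Inv2P.map_N_le x W hWx, ?_, hhalf⟩
  rintro _ ⟨v, -, rfl⟩
  exact Q_N h2 Q x hxQ hx2 v

theorem two_rk_le (x : Module.End F V) (hx2 : (x - 1) ^ 2 = 0) (W : Submodule F V)
    (hWx : InvOn x W) : 2 * rk x W ≤ finrank F W := by
  have h1 := Cfsg.Agent.Inv2P.A2RK.finrank_inf_ker_add (x - 1) W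
  have hle : W.map (x - 1) ≤ W ⊓ LinearMap.ker (x - 1) := by
    rintro _ ⟨v, hv, rfl⟩
    exact ⟨Cfsg.Agent.Inv2P.map_N_le x W hWx ⟨v, hv, rfl⟩,
      LinearMap.mem_ker.mpr (N_N_apply x hx2 v)⟩
  have h2 := Submodule.finrank_mono hle
  unfold rk
  omega

end

end UNIHYP

open UNIHYP

/-- UNIHYP -/
theorem plus_of_unip_invariant {F V : Type*} [Field F] [Fintype F] [AddCommGroup V]
    [Module F V] [FiniteDimensional F V] (h2 : (2 : F) ≠ 0) (Q : QuadraticForm F V) (hQ : ND Q)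
    (hhyp : IsHyp Q) (x : Module.End F V) (hxQ : ∀ v, Q (x v) = Q v)
    (hx2 : (x - 1) ^ 2 = 0) (d : ℕ) (hV : finrank F V = 2 * d)
    (hk : finrank F (LinearMap.ker (x - 1)) = d ∨ finrank F (LinearMap.ker (x - 1)) = d + 1)
    (W : Submodule F V) (hWx : W.map x ≤ W) (hWnd : Nondeg (PB Q) W)
    (hWe : Even (finrank F W)) : Plus Q W := by
  have hWi : InvOn x W := (Cfsg.Agent.Inv2P.invOn_iff_map x W).mpr hWx
  obtain ⟨W', -, hW'nd, ho, hsup, hdisj, hfin, hinv⟩ :=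
    Cfsg.Agent.S5992P.orth_compl_sym Q ⊤ W le_top (nondeg_top_of_nd Q hQ) hWnd
  have hW'x : W'.map x ≤ W' :=
    hinv x hxQ (Cfsg.Agent.Helper28.QWitt.isom_injective Q hQ hxQ) hWx le_top
  have hW'i : InvOn x W' := (Cfsg.Agent.Inv2P.invOn_iff_map x W').mpr hW'x
  rw [finrank_top, hV] at hfin
  have hrk := Cfsg.Agent.Inv2P.C2BLOCK.rk_sup_of_disjoint x W W' hWi hW'i hdisj
  rw [hsup] at hrk
  have htop := Cfsg.Agent.Inv2P.A2DER.rk_top x
  rw [hV] at htop
  have hle := two_rk_le x hx2 W hWi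
  have hle' := two_rk_le x hx2 W' hW'i
  by_cases hhalf : 2 * rk x W = finrank F W
  · exact plus_of_half h2 Q x hxQ hx2 W hWi hhalf
  · obtain ⟨a, ha⟩ := hWe
    have hhalf' : 2 * rk x W' = finrank F W' := by
      rcases hk with hk | hk <;> omega
    have hp' := plus_of_half h2 Q x hxQ hx2 W' hW'i hhalf'
    have hiff := Cfsg.Agent.Inv2P.plus_sup_iff2 Q W W' hWnd hW'nd ho ⟨a, ha⟩
      ⟨d - a, by omega⟩
    rw [hsup] at hiff
    exact (hiff.mp ((isHyp_iff_plus_top Q).mp hhyp)).mpr hp'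

end Cfsg.Agent.S5974P
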