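import Mathlib
import Cfsg.Agent.Helper29.S5976Defs
import Cfsg.Agent.Helper28.SympTrans
import Cfsg.Agent.Helper2.QuadExt

/-! S5976 piece FRAME: a `K`-orthonormal frame for a generator `ι` with `ι² = tι - n`,
`ι* = t - ι` on the symplectic space `F^{2d}`. -/

set_option autoImplicit false
set_option linter.unusedSectionVars false

namespace Cfsg.Agent.S5976P

namespace FRAME

open Matrix Cfsg.Agent.Helper28

variable {F : Type*} [Field F] {d : ℕ}

section basics

variable {t n : F} {ι : Matrix (Fin d ⊕ Fin d) (Fin d ⊕ Fin d) F}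
  (hsq : ι * ι = t • ι - n • (1 : Matrix (Fin d ⊕ Fin d) (Fin d ⊕ Fin d) F))
  (hadj : ∀ u v : Fin d ⊕ Fin d → F, Cfsg.sympForm d F (ι.mulVec u) v =
    Cfsg.sympForm d F u ((t • (1 : Matrix (Fin d ⊕ Fin d) (Fin d ⊕ Fin d) F) - ι).mulVec v))

include hsq in
theorem iota_iota (v : Fin d ⊕ Fin d → F) :
    ι *ᵥ (ι *ᵥ v) = t • (ι *ᵥ v) - n • v := by
  rw [Matrix.mulVec_mulVec, hsq, Matrix.sub_mulVec, Matrix.smul_mulVec, Matrix.smul_mulVec,
    Matrix.one_mulVec]

include hadj in
theorem adj' (u v : Fin d ⊕ Fin d → F) :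
    Cfsg.sympForm d F (ι *ᵥ u) v
      = t * Cfsg.sympForm d F u v - Cfsg.sympForm d F u (ι *ᵥ v) := by
  rw [hadj, Matrix.sub_mulVec, Matrix.smul_mulVec, Matrix.one_mulVec, sympForm_sub_right,
    sympForm_smul_right]

include hsq hadj in
theorem form_iota_iota (u v : Fin d ⊕ Fin d → F) :
    Cfsg.sympForm d F (ι *ᵥ u) (ι *ᵥ v) = n * Cfsg.sympForm d F u v := by
  rw [adj' hadj, iota_iota hsq, sympForm_sub_right, sympForm_smul_right, sympForm_smul_right]
  ring

include hadj in
theorem form_swap_iota (u v : Fin d ⊕ Fin d → F) :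
    Cfsg.sympForm d F v (ι *ᵥ u)
      = Cfsg.sympForm d F u (ι *ᵥ v) - t * Cfsg.sympForm d F u v := by
  rw [sympForm_swap v, adj' hadj]; ring

/-- the norm form `Q(u) = f(u, ι u)` -/
def Qn (ι : Matrix (Fin d ⊕ Fin d) (Fin d ⊕ Fin d) F) (u : Fin d ⊕ Fin d → F) : F :=
  Cfsg.sympForm d F u (ι *ᵥ u)

include hsq in
theorem Qn_smul (α β : F) (u : Fin d ⊕ Fin d → F) :
    Qn ι (α • u + β • (ι *ᵥ u)) = (α ^ 2 + t * α * β + n * β ^ 2) * Qn ι u := by
  unfold Qn
  rw [Matrix.mulVec_add, Matrix.mulVec_smul, Matrix.mulVec_smul, iota_iota hsq]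
  simp only [sympForm_add_left, sympForm_add_right, sympForm_smul_left, sympForm_smul_right,
    sympForm_sub_right, sympForm_self]
  rw [sympForm_swap (ι *ᵥ u) u]
  ring

include hadj in
theorem Qn_polar (u v : Fin d ⊕ Fin d → F) :
    Qn ι (u + v) - Qn ι u - Qn ι v
      = Cfsg.sympForm d F u ((2 : F) • (ι *ᵥ v) - t • v) := by
  unfold Qn
  rw [Matrix.mulVec_add]
  simp only [sympForm_add_left, sympForm_add_right, sympForm_sub_right, sympForm_smul_right]
  rw [form_swap_iota hadj u v]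
  ring

end basics

section partial_frames

variable (ι : Matrix (Fin d ⊕ Fin d) (Fin d ⊕ Fin d) F)

/-- partial frames -/
structure PF (k : ℕ) (e : Fin k → (Fin d ⊕ Fin d → F)) : Prop where
  o00 : ∀ a b, Cfsg.sympForm d F (e a) (e b) = 0
  o01 : ∀ a b, Cfsg.sympForm d F (e a) (ι *ᵥ e b) = if a = b then 1 else 0

/-- orthogonal to the partial frame -/
def InW {k : ℕ} (e : Fin k → (Fin d ⊕ Fin d → F)) (v : Fin d ⊕ Fin d → F) : Prop :=
  ∀ a, Cfsg.sympForm d F v (e a) = 0 ∧ Cfsg.sympForm d F v (ι *ᵥ e a) = 0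

/-- projection to the orthogonal complement of a partial frame -/
def proj {k : ℕ} (e : Fin k → (Fin d ⊕ Fin d → F)) (v : Fin d ⊕ Fin d → F) :
    Fin d ⊕ Fin d → F :=
  v - ∑ a, (Cfsg.sympForm d F v (ι *ᵥ e a) • e a - Cfsg.sympForm d F v (e a) • (ι *ᵥ e a))

theorem sympForm_sum_left {κ : Type*} (s : Finset κ) (u : κ → (Fin d ⊕ Fin d → F))
    (v : Fin d ⊕ Fin d → F) :
    Cfsg.sympForm d F (∑ a ∈ s, u a) v = ∑ a ∈ s, Cfsg.sympForm d F (u a) v := by
  classical
  induction s using Finset.induction_on with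
  | empty => simp
  | insert a s ha ih => rw [Finset.sum_insert ha, Finset.sum_insert ha, sympForm_add_left, ih]

theorem sympForm_sum_right {κ : Type*} (s : Finset κ) (u : κ → (Fin d ⊕ Fin d → F))
    (v : Fin d ⊕ Fin d → F) :
    Cfsg.sympForm d F v (∑ a ∈ s, u a) = ∑ a ∈ s, Cfsg.sympForm d F v (u a) := by
  classical
  induction s using Finset.induction_on with
  | empty => simp
  | insert a s ha ih => rw [Finset.sum_insert ha, Finset.sum_insert ha, sympForm_add_right, ih]

variable {ι} {t n : F}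
  (hsq : ι * ι = t • ι - n • (1 : Matrix (Fin d ⊕ Fin d) (Fin d ⊕ Fin d) F))
  (hadj : ∀ u v : Fin d ⊕ Fin d → F, Cfsg.sympForm d F (ι.mulVec u) v =
    Cfsg.sympForm d F u ((t • (1 : Matrix (Fin d ⊕ Fin d) (Fin d ⊕ Fin d) F) - ι).mulVec v))

include hsq hadj in
theorem proj_inW {k : ℕ} {e : Fin k → (Fin d ⊕ Fin d → F)} (he : PF ι k e)
    (v : Fin d ⊕ Fin d → F) : InW ι e (proj ι e v) := by
  classical
  intro b
  constructor
  · unfold proj
    rw [sympForm_sub_left, sympForm_sum_left]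
    have h1 : ∀ a, Cfsg.sympForm d F
        (Cfsg.sympForm d F v (ι *ᵥ e a) • e a - Cfsg.sympForm d F v (e a) • (ι *ᵥ e a)) (e b)
        = if a = b then Cfsg.sympForm d F v (e a) else 0 := by
      intro a
      rw [sympForm_sub_left, sympForm_smul_left, sympForm_smul_left, he.o00,
        sympForm_swap (ι *ᵥ e a) (e b), he.o01]
      by_cases hab : a = b
      · subst hab; simp
      · rw [if_neg hab, if_neg (fun h => hab h.symm)]; ring
    simp only [h1, Finset.sum_ite_eq', Finset.mem_univ, if_true, sub_self]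
  · unfold proj
    rw [sympForm_sub_left, sympForm_sum_left]
    have h1 : ∀ a, Cfsg.sympForm d F
        (Cfsg.sympForm d F v (ι *ᵥ e a) • e a - Cfsg.sympForm d F v (e a) • (ι *ᵥ e a))
          (ι *ᵥ e b)
        = if a = b then Cfsg.sympForm d F v (ι *ᵥ e a) else 0 := by
      intro a
      rw [sympForm_sub_left, sympForm_smul_left, sympForm_smul_left, he.o01,
        form_iota_iota hsq hadj, he.o00]
      by_cases hab : a = b
      · subst hab; simp
      · rw [if_neg hab, if_neg hab]; ring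
    simp only [h1, Finset.sum_ite_eq', Finset.mem_univ, if_true, sub_self]

theorem form_proj {k : ℕ} {e : Fin k → (Fin d ⊕ Fin d → F)} {w : Fin d ⊕ Fin d → F}
    (hw : InW ι e w) (v : Fin d ⊕ Fin d → F) :
    Cfsg.sympForm d F w (proj ι e v) = Cfsg.sympForm d F w v := by
  unfold proj
  rw [sympForm_sub_right, sympForm_sum_right]
  have h1 : ∀ a, Cfsg.sympForm d F w
      (Cfsg.sympForm d F v (ι *ᵥ e a) • e a - Cfsg.sympForm d F v (e a) • (ι *ᵥ e a)) = 0 := by
    intro a
    rw [sympForm_sub_right, sympForm_smul_right, sympForm_smul_right, (hw a).1, (hw a).2]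
    ring
  simp only [h1, Finset.sum_const_zero, sub_zero]

theorem mem_span_of_proj_eq_zero {k : ℕ} {e : Fin k → (Fin d ⊕ Fin d → F)}
    {v : Fin d ⊕ Fin d → F} (hv : proj ι e v = 0) :
    v ∈ Submodule.span F (Set.range (Sum.elim e (fun a => ι *ᵥ e a))) := by
  have h1 : v = ∑ a, (Cfsg.sympForm d F v (ι *ᵥ e a) • e a
      - Cfsg.sympForm d F v (e a) • (ι *ᵥ e a)) := by
    unfold proj at hv
    exact sub_eq_zero.mp hv
  rw [h1]
  apply Submodule.sum_mem
  intro a _
  apply Submodule.sub_mem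
  · apply Submodule.smul_mem
    exact Submodule.subset_span ⟨Sum.inl a, rfl⟩
  · apply Submodule.smul_mem
    exact Submodule.subset_span ⟨Sum.inr a, rfl⟩

include hadj in
theorem inW_add {k : ℕ} {e : Fin k → (Fin d ⊕ Fin d → F)} {u v : Fin d ⊕ Fin d → F}
    (hu : InW ι e u) (hv : InW ι e v) : InW ι e (u + v) := by
  intro a
  rw [sympForm_add_left, sympForm_add_left, (hu a).1, (hu a).2, (hv a).1, (hv a).2]
  simp

theorem inW_smul {k : ℕ} {e : Fin k → (Fin d ⊕ Fin d → F)} {u : Fin d ⊕ Fin d → F} (c : F)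
    (hu : InW ι e u) : InW ι e (c • u) := by
  intro a
  rw [sympForm_smul_left, sympForm_smul_left, (hu a).1, (hu a).2]
  simp

include hsq hadj in
theorem inW_iota {k : ℕ} {e : Fin k → (Fin d ⊕ Fin d → F)} {u : Fin d ⊕ Fin d → F}
    (hu : InW ι e u) : InW ι e (ι *ᵥ u) := by
  intro a
  rw [adj' hadj, form_iota_iota hsq hadj, (hu a).1, (hu a).2]
  simp

/-- not in the span of a short partial frame -/
theorem exists_not_mem_span {k : ℕ} (hk : k < d) (e : Fin k → (Fin d ⊕ Fin d → F)) :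
    ∃ v : Fin d ⊕ Fin d → F,
      v ∉ Submodule.span F (Set.range (Sum.elim e (fun a => ι *ᵥ e a))) := by
  by_contra hcon
  have htop : Submodule.span F (Set.range (Sum.elim e (fun a => ι *ᵥ e a))) = ⊤ := by
    rw [eq_top_iff]
    intro v _
    by_contra hv
    exact hcon ⟨v, hv⟩
  have h1 := finrank_range_le_card (R := F) (Sum.elim e (fun a => ι *ᵥ e a))
  unfold Set.finrank at h1
  rw [htop, finrank_top, Module.finrank_fintype_fun_eq_card, Fintype.card_sum, Fintype.card_sum,
    Fintype.card_fin, Fintype.card_fin] at h1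
  omega

end partial_frames

section main

variable [Fintype F] {t n : F} {ι : Matrix (Fin d ⊕ Fin d) (Fin d ⊕ Fin d) F}
  (h2 : (2 : F) ≠ 0) (hirr : ∀ c : F, c * c - t * c + n ≠ 0)
  (hsq : ι * ι = t • ι - n • (1 : Matrix (Fin d ⊕ Fin d) (Fin d ⊕ Fin d) F))
  (hadj : ∀ u v : Fin d ⊕ Fin d → F, Cfsg.sympForm d F (ι.mulVec u) v =
    Cfsg.sympForm d F u ((t • (1 : Matrix (Fin d ⊕ Fin d) (Fin d ⊕ Fin d) F) - ι).mulVec v))

include h2 hirr in
theorem disc_ne : t ^ 2 - 4 * n ≠ 0 := by
  intro h0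
  apply hirr (t / 2)
  have h4 : (4 : F) ≠ 0 := by
    have : (4 : F) = 2 * 2 := by norm_num
    rw [this]; exact mul_ne_zero h2 h2
  field_simp
  linear_combination -h0

include hirr in
theorem exists_norm {c : F} (hc : c ≠ 0) : ∃ α β : F, α ^ 2 + t * α * β + n * β ^ 2 = c := by
  have hirr' : ∀ r : F, r ^ 2 - t * r + n ≠ 0 := by
    intro r; have := hirr r; rwa [← sq] at this
  have h1 := Cfsg.Agent.Helper2.QExt.card_norm_eq' (F := F) (q := Fintype.card F) rfl hirr' hc
  have h3 : Nonempty {p : F × F // p.1 ^ 2 + t * p.1 * p.2 + n * p.2 ^ 2 = c} := by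
    by_contra hemp
    rw [not_nonempty_iff] at hemp
    rw [Nat.card_of_isEmpty] at h1
    omega
  obtain ⟨⟨⟨α, β⟩, h⟩⟩ := h3
  exact ⟨α, β, h⟩

include h2 hirr hsq hadj in
/-- the extension step -/
theorem exists_next {k : ℕ} (hk : k < d) {e : Fin k → (Fin d ⊕ Fin d → F)} (he : PF ι k e) :
    ∃ w : Fin d ⊕ Fin d → F, InW ι e w ∧ Qn ι w = 1 := by
  -- a non-zero vector of the complement
  obtain ⟨v₀, hv₀⟩ := exists_not_mem_span (ι := ι) hk e
  set w := proj ι e v₀ with hw
  have hwW : InW ι e w := proj_inW hsq hadj he v₀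
  have hw0 : w ≠ 0 := fun h0 => hv₀ (mem_span_of_proj_eq_zero h0)
  -- a vector of the complement pairing non-trivially with `w`
  obtain ⟨v₁, hv₁⟩ := sympForm_exists_ne_zero hw0
  set v' := proj ι e v₁ with hv'
  have hv'W : InW ι e v' := proj_inW hsq hadj he v₁
  have hwv' : Cfsg.sympForm d F w v' ≠ 0 := by rw [form_proj hwW]; exact hv₁
  -- `v = (t² - 4n)⁻¹ (2ι - t) v'`
  have hD := disc_ne h2 hirr
  set v := (t ^ 2 - 4 * n)⁻¹ • ((2 : F) • (ι *ᵥ v') - t • v') with hv
  have hvW : InW ι e v :=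
    inW_smul _ (by
      have h1 : (2 : F) • (ι *ᵥ v') - t • v' = (2 : F) • (ι *ᵥ v') + (-t) • v' := by
        rw [neg_smul, sub_eq_add_neg]
      rw [h1]
      exact inW_add hadj (inW_smul _ (inW_iota hsq hadj hv'W)) (inW_smul _ hv'W))
  have hback : (2 : F) • (ι *ᵥ v) - t • v = v' := by
    rw [hv, Matrix.mulVec_smul, Matrix.mulVec_sub, Matrix.mulVec_smul, Matrix.mulVec_smul,
      iota_iota hsq]
    have : (t ^ 2 - 4 * n)⁻¹ * (t ^ 2 - 4 * n) = 1 := inv_mul_cancel₀ hD
    calc (2 : F) • (t ^ 2 - 4 * n)⁻¹ • ((2 : F) • (t • (ι *ᵥ v') - n • v') - t • (ι *ᵥ v'))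
          - t • (t ^ 2 - 4 * n)⁻¹ • ((2 : F) • (ι *ᵥ v') - t • v')
        = ((t ^ 2 - 4 * n)⁻¹ * (t ^ 2 - 4 * n)) • v' := by module
      _ = v' := by rw [this, one_smul]
  have hpol : Qn ι (w + v) - Qn ι w - Qn ι v ≠ 0 := by
    rw [Qn_polar hadj, hback]; exact hwv'
  -- one of the three vectors has non-zero norm
  obtain ⟨e₀, he₀W, he₀⟩ : ∃ e₀, InW ι e e₀ ∧ Qn ι e₀ ≠ 0 := by
    by_cases h1 : Qn ι w = 0
    · by_cases h3 : Qn ι v = 0
      · refine ⟨w + v, inW_add hadj hwW hvW, ?_⟩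
        intro h4
        apply hpol
        rw [h1, h3, h4]; ring
      · exact ⟨v, hvW, h3⟩
    · exact ⟨w, hwW, h1⟩
  obtain ⟨α, β, hαβ⟩ := exists_norm hirr (inv_ne_zero he₀)
  refine ⟨α • e₀ + β • (ι *ᵥ e₀),
    inW_add hadj (inW_smul _ he₀W) (inW_smul _ (inW_iota hsq hadj he₀W)), ?_⟩
  rw [Qn_smul hsq, hαβ, inv_mul_cancel₀ he₀]

include h2 hirr hsq hadj in
theorem exists_pf : ∀ k : ℕ, k ≤ d → ∃ e : Fin k → (Fin d ⊕ Fin d → F), PF ι k e := by
  intro k
  induction k with
  | zero =>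
    intro _
    exact ⟨Fin.elim0, ⟨fun a => a.elim0, fun a => a.elim0⟩⟩
  | succ k ih =>
    intro hk
    obtain ⟨e, he⟩ := ih (Nat.le_of_succ_le hk)
    obtain ⟨w, hwW, hw1⟩ := exists_next h2 hirr hsq hadj (Nat.lt_of_succ_le hk) he
    refine ⟨Fin.snoc e w, ?_, ?_⟩
    · intro a b
      induction a using Fin.lastCases with
      | last =>
        induction b using Fin.lastCases with
        | last => rw [Fin.snoc_last]; exact sympForm_self w
        | cast b => rw [Fin.snoc_last, Fin.snoc_castSucc]; exact (hwW b).1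
      | cast a =>
        induction b using Fin.lastCases with
        | last =>
          rw [Fin.snoc_last, Fin.snoc_castSucc, sympForm_swap, (hwW a).1, neg_zero]
        | cast b => rw [Fin.snoc_castSucc, Fin.snoc_castSucc]; exact he.o00 a b
    · intro a b
      induction a using Fin.lastCases with
      | last =>
        induction b using Fin.lastCases with
        | last => rw [Fin.snoc_last, if_pos rfl]; exact hw1
        | cast b =>
          rw [Fin.snoc_last, Fin.snoc_castSucc, (hwW b).2, if_neg]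
          exact fun h => (Fin.castSucc_lt_last b).ne h.symm
      | cast a =>
        induction b using Fin.lastCases with
        | last =>
          rw [Fin.snoc_last, Fin.snoc_castSucc, form_swap_iota hadj, (hwW a).2, (hwW a).1,
            if_neg]
          · ring
          · exact fun h => (Fin.castSucc_lt_last a).ne h
        | cast b =>
          rw [Fin.snoc_castSucc, Fin.snoc_castSucc, he.o01 a b]
          by_cases hab : a = b
          · subst hab; simp
          · rw [if_neg hab, if_neg]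
            exact fun h => hab (Fin.castSucc_injective _ h)

end main

end FRAME

open FRAME Matrix Cfsg.Agent.Helper28 in
theorem exists_frame {F : Type*} [Field F] [Fintype F] (h2 : (2 : F) ≠ 0) (d : ℕ)
    (t n : F) (hirr : ∀ c : F, c * c - t * c + n ≠ 0)
    (ι : Matrix (Fin d ⊕ Fin d) (Fin d ⊕ Fin d) F)
    (hsq : ι * ι = t • ι - n • (1 : Matrix (Fin d ⊕ Fin d) (Fin d ⊕ Fin d) F))
    (hadj : ∀ u v : Fin d ⊕ Fin d → F, Cfsg.sympForm d F (ι.mulVec u) v =
      Cfsg.sympForm d F u ((t • (1 : Matrix (Fin d ⊕ Fin d) (Fin d ⊕ Fin d) F) - ι).mulVec v)) :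
    ∃ e : Fin d → (Fin d ⊕ Fin d → F), IsFrame d F ι e := by
  classical
  obtain ⟨e, he⟩ := exists_pf h2 hirr hsq hadj d le_rfl
  refine ⟨e, he.o00, he.o01, ?_, ?_⟩
  · intro a b
    show Cfsg.sympForm d F (ι *ᵥ e a) (ι *ᵥ e b) = 0
    rw [form_iota_iota hsq hadj, he.o00, mul_zero]
  · rw [Fintype.linearIndependent_iff]
    intro g hg
    rw [Fintype.sum_sum_type] at hg
    simp only [Sum.elim_inl, Sum.elim_inr] at hg
    have key1 : ∀ b, g (Sum.inl b) = 0 := by
      intro b
      have h1 := congrArg (fun v => Cfsg.sympForm d F v (ι *ᵥ e b)) hg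
      simp only [sympForm_add_left, sympForm_sum_left, sympForm_smul_left, he.o01,
        form_iota_iota hsq hadj, he.o00, mul_zero, Finset.sum_const_zero, add_zero,
        sympForm_zero_left] at h1
      simpa using h1
    have key2 : ∀ b, g (Sum.inr b) = 0 := by
      intro b
      have h1 := congrArg (fun v => Cfsg.sympForm d F (e b) v) hg
      simp only [sympForm_add_right, sympForm_sum_right, sympForm_smul_right, he.o01, he.o00,
        mul_zero, Finset.sum_const_zero, zero_add, sympForm_zero_right] at h1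
      simpa using h1
    intro s
    rcases s with s | s
    · exact key1 s
    · exact key2 s

end Cfsg.Agent.S5976P
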