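import Mathlib
import Cfsg.Agent.Helper29.S5976Defs
import Cfsg.Agent.Helper13.S5976FRAME
import Cfsg.Agent.Helper3.S5976CONJK
import Cfsg.Agent.Helper2.SpPairs

/-! S5976 piece SPCONJM1: two elements of `Sp_{2d}(F)` (`F` finite, odd characteristic) with square
`-1` are conjugate in `Sp_{2d}(F)`. -/

set_option autoImplicit false
set_option linter.unusedSectionVars false

namespace Cfsg.Agent.S5976P

namespace SPCONJM1

open Matrix Cfsg.Agent.Helper28 Cfsg.Agent.Helper2.SpPairs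

variable {F : Type*} [Field F] {d : ℕ}

theorem mem_spGL_iff (g : GL (Fin d ⊕ Fin d) F) :
    g ∈ Cfsg.spGL d F ↔ ∀ u v : Fin d ⊕ Fin d → F,
      Cfsg.sympForm d F ((g : Matrix (Fin d ⊕ Fin d) (Fin d ⊕ Fin d) F) *ᵥ u)
        ((g : Matrix (Fin d ⊕ Fin d) (Fin d ⊕ Fin d) F) *ᵥ v) = Cfsg.sympForm d F u v :=
  Iff.rfl

/-- a symplectic matrix as an element of `GL` -/
def toGL' (A : Spd d F) : GL (Fin d ⊕ Fin d) F :=
  ⟨A.1, (A⁻¹ : Spd d F).1, mul_inv_coe A, inv_mul_coe A⟩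

theorem toGL'_mem (A : Spd d F) : toGL' A ∈ Cfsg.spGL d F := by
  rw [mem_spGL_iff]
  intro u v
  exact preserves A u v

theorem gl_inv_mulVec (g : GL (Fin d ⊕ Fin d) F) (v : Fin d ⊕ Fin d → F) :
    ((g⁻¹ : GL (Fin d ⊕ Fin d) F) : Matrix (Fin d ⊕ Fin d) (Fin d ⊕ Fin d) F) *ᵥ
      ((g : Matrix (Fin d ⊕ Fin d) (Fin d ⊕ Fin d) F) *ᵥ v) = v := by
  rw [Matrix.mulVec_mulVec, ← Units.val_mul, inv_mul_cancel, Units.val_one, Matrix.one_mulVec]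

section square_case

variable {x : GL (Fin d ⊕ Fin d) F} (h2 : (2 : F) ≠ 0) (hx : x ∈ Cfsg.spGL d F)
  (hx2 : (x : Matrix (Fin d ⊕ Fin d) (Fin d ⊕ Fin d) F) *
    (x : Matrix (Fin d ⊕ Fin d) (Fin d ⊕ Fin d) F) =
      (-1 : F) • (1 : Matrix (Fin d ⊕ Fin d) (Fin d ⊕ Fin d) F))
  {c : F} (hc : c * c = -1)

/-- eigenspace -/
def Eig (x : GL (Fin d ⊕ Fin d) F) (c : F) : Submodule F (Fin d ⊕ Fin d → F) :=
  LinearMap.ker (Matrix.toLin' (x : Matrix (Fin d ⊕ Fin d) (Fin d ⊕ Fin d) F) - c • LinearMap.id)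

theorem mem_Eig {x : GL (Fin d ⊕ Fin d) F} {c : F} {v : Fin d ⊕ Fin d → F} :
    v ∈ Eig x c ↔ (x : Matrix (Fin d ⊕ Fin d) (Fin d ⊕ Fin d) F) *ᵥ v = c • v := by
  unfold Eig
  rw [LinearMap.mem_ker, LinearMap.sub_apply, Matrix.toLin'_apply, LinearMap.smul_apply,
    LinearMap.id_apply, sub_eq_zero]

include hx2 in
theorem xx_mulVec (v : Fin d ⊕ Fin d → F) :
    (x : Matrix (Fin d ⊕ Fin d) (Fin d ⊕ Fin d) F) *ᵥ
      ((x : Matrix (Fin d ⊕ Fin d) (Fin d ⊕ Fin d) F) *ᵥ v) = -v := by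
  rw [Matrix.mulVec_mulVec, hx2, Matrix.smul_mulVec, Matrix.one_mulVec, neg_one_smul]

include h2 hx hx2 hc in
theorem isLP_eig : IsLP (Eig x c) (Eig x (-c)) := by
  have hc0 : c ≠ 0 := by
    intro h0; rw [h0, mul_zero] at hc
    have : (1 : F) = 0 := by linear_combination hc
    exact one_ne_zero this
  have h2c : (2 : F) * c ≠ 0 := mul_ne_zero h2 hc0
  refine ⟨IsCompl.of_eq ?_ ?_, ?_, ?_⟩
  · rw [eq_bot_iff]
    rintro v ⟨h1, h3⟩
    rw [Submodule.mem_bot]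
    have e1 := mem_Eig.mp h1
    have e2 := mem_Eig.mp h3
    have : ((2 : F) * c) • v = 0 := by
      have : c • v = (-c) • v := e1.symm.trans e2
      calc ((2 : F) * c) • v = c • v - (-c) • v := by module
        _ = 0 := by rw [this, sub_self]
    exact (smul_eq_zero.mp this).resolve_left h2c
  · rw [eq_top_iff]
    intro v _
    rw [Submodule.mem_sup]
    refine ⟨((2 : F) * c)⁻¹ • ((x : Matrix (Fin d ⊕ Fin d) (Fin d ⊕ Fin d) F) *ᵥ v + c • v), ?_,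
      -((2 : F) * c)⁻¹ • ((x : Matrix (Fin d ⊕ Fin d) (Fin d ⊕ Fin d) F) *ᵥ v - c • v), ?_, ?_⟩
    · rw [mem_Eig, Matrix.mulVec_smul, Matrix.mulVec_add, Matrix.mulVec_smul, xx_mulVec hx2]
      have : -v = (c * c) • v := by rw [hc, neg_one_smul]
      rw [this]
      module
    · rw [mem_Eig, Matrix.mulVec_smul, Matrix.mulVec_sub, Matrix.mulVec_smul, xx_mulVec hx2]
      have : -v = (c * c) • v := by rw [hc, neg_one_smul]
      rw [this]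
      module
    · have : ((2 : F) * c)⁻¹ * ((2 : F) * c) = 1 := inv_mul_cancel₀ h2c
      calc ((2 : F) * c)⁻¹ • ((x : Matrix (Fin d ⊕ Fin d) (Fin d ⊕ Fin d) F) *ᵥ v + c • v)
            + -((2 : F) * c)⁻¹ • ((x : Matrix (Fin d ⊕ Fin d) (Fin d ⊕ Fin d) F) *ᵥ v - c • v)
          = (((2 : F) * c)⁻¹ * ((2 : F) * c)) • v := by module
        _ = v := by rw [this, one_smul]
  · intro u hu v hv
    have h1 := (mem_spGL_iff x).mp hx u v
    rw [mem_Eig.mp hu, mem_Eig.mp hv, sympForm_smul_left, sympForm_smul_right, ← mul_assoc,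
      hc] at h1
    have : (2 : F) * Cfsg.sympForm d F u v = 0 := by linear_combination -h1
    exact (mul_eq_zero.mp this).resolve_left h2
  · intro u hu v hv
    have h1 := (mem_spGL_iff x).mp hx u v
    rw [mem_Eig.mp hu, mem_Eig.mp hv, sympForm_smul_left, sympForm_smul_right, ← mul_assoc,
      neg_mul_neg, hc] at h1
    have : (2 : F) * Cfsg.sympForm d F u v = 0 := by linear_combination -h1
    exact (mul_eq_zero.mp this).resolve_left h2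

include h2 hx hx2 hc in
/-- normal form -/
theorem exists_normal_form : ∃ a : GL (Fin d ⊕ Fin d) F, a ∈ Cfsg.spGL d F ∧
    (∀ u ∈ U0 d F, ((a⁻¹ * x * a : GL (Fin d ⊕ Fin d) F) :
      Matrix (Fin d ⊕ Fin d) (Fin d ⊕ Fin d) F) *ᵥ u = c • u) ∧
    (∀ w ∈ W0 d F, ((a⁻¹ * x * a : GL (Fin d ⊕ Fin d) F) :
      Matrix (Fin d ⊕ Fin d) (Fin d ⊕ Fin d) F) *ᵥ w = (-c) • w) := by
  obtain ⟨A, hU, hW⟩ := exists_symplectic_map (isLP_eig h2 hx hx2 hc)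
  refine ⟨toGL' A, toGL'_mem A, ?_, ?_⟩
  · intro u hu
    have h1 : A.1 *ᵥ u ∈ Eig x c := by
      rw [← hU]; exact ⟨u, hu, Matrix.toLin'_apply _ _⟩
    rw [Units.val_mul, Units.val_mul, ← Matrix.mulVec_mulVec, ← Matrix.mulVec_mulVec]
    show ((toGL' A)⁻¹ : GL (Fin d ⊕ Fin d) F).1 *ᵥ (x.1 *ᵥ (A.1 *ᵥ u)) = c • u
    rw [mem_Eig.mp h1, Matrix.mulVec_smul]
    congr 1
    exact gl_inv_mulVec (toGL' A) u
  · intro w hw
    have h1 : A.1 *ᵥ w ∈ Eig x (-c) := by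
      rw [← hW]; exact ⟨w, hw, Matrix.toLin'_apply _ _⟩
    rw [Units.val_mul, Units.val_mul, ← Matrix.mulVec_mulVec, ← Matrix.mulVec_mulVec]
    show ((toGL' A)⁻¹ : GL (Fin d ⊕ Fin d) F).1 *ᵥ (x.1 *ᵥ (A.1 *ᵥ w)) = (-c) • w
    rw [mem_Eig.mp h1, Matrix.mulVec_smul]
    congr 1
    exact gl_inv_mulVec (toGL' A) w

end square_case

/-- two matrices agreeing on `U0` and `W0` are equal -/
theorem gl_ext_of_std {g h : GL (Fin d ⊕ Fin d) F}
    (hU : ∀ u ∈ U0 d F, (g : Matrix (Fin d ⊕ Fin d) (Fin d ⊕ Fin d) F) *ᵥ u =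
      (h : Matrix (Fin d ⊕ Fin d) (Fin d ⊕ Fin d) F) *ᵥ u)
    (hW : ∀ w ∈ W0 d F, (g : Matrix (Fin d ⊕ Fin d) (Fin d ⊕ Fin d) F) *ᵥ w =
      (h : Matrix (Fin d ⊕ Fin d) (Fin d ⊕ Fin d) F) *ᵥ w) : g = h := by
  apply Units.ext
  apply Matrix.toLin'.injective
  apply LinearMap.ext
  intro v
  have hv : v ∈ U0 d F ⊔ W0 d F := by
    rw [(isLP_std (d := d) (F := F)).1.sup_eq_top]; trivial
  obtain ⟨u, hu, w, hw, rfl⟩ := Submodule.mem_sup.mp hv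
  rw [Matrix.toLin'_apply, Matrix.toLin'_apply, Matrix.mulVec_add, Matrix.mulVec_add, hU u hu,
    hW w hw]

end SPCONJM1

open SPCONJM1 Matrix Cfsg.Agent.Helper28 in
theorem conj_of_sq_eq_neg_one {F : Type*} [Field F] [Fintype F] (h2 : (2 : F) ≠ 0) (d : ℕ)
    (x y : GL (Fin d ⊕ Fin d) F) (hx : x ∈ Cfsg.spGL d F) (hy : y ∈ Cfsg.spGL d F)
    (hx2 : (x : Matrix (Fin d ⊕ Fin d) (Fin d ⊕ Fin d) F) *
      (x : Matrix (Fin d ⊕ Fin d) (Fin d ⊕ Fin d) F) =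
        (-1 : F) • (1 : Matrix (Fin d ⊕ Fin d) (Fin d ⊕ Fin d) F))
    (hy2 : (y : Matrix (Fin d ⊕ Fin d) (Fin d ⊕ Fin d) F) *
      (y : Matrix (Fin d ⊕ Fin d) (Fin d ⊕ Fin d) F) =
        (-1 : F) • (1 : Matrix (Fin d ⊕ Fin d) (Fin d ⊕ Fin d) F)) :
    ∃ g : GL (Fin d ⊕ Fin d) F, g ∈ Cfsg.spGL d F ∧ g⁻¹ * x * g = y := by
  classical
  by_cases hsq : ∃ c : F, c * c = -1
  · obtain ⟨c, hc⟩ := hsq
    obtain ⟨a, ha, haU, haW⟩ := exists_normal_form h2 hx hx2 hc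
    obtain ⟨b, hb, hbU, hbW⟩ := exists_normal_form h2 hy hy2 hc
    have hab : a⁻¹ * x * a = b⁻¹ * y * b :=
      gl_ext_of_std (fun u hu => by rw [haU u hu, hbU u hu])
        (fun w hw => by rw [haW w hw, hbW w hw])
    refine ⟨a * b⁻¹, Subgroup.mul_mem _ ha (Subgroup.inv_mem _ hb), ?_⟩
    have : (a * b⁻¹)⁻¹ * x * (a * b⁻¹) = b * (a⁻¹ * x * a) * b⁻¹ := by group
    rw [this, hab]
    group
  · -- `-1` is a non-square: frames
    have hirr : ∀ c : F, c * c - (0 : F) * c + 1 ≠ 0 := by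
      intro c h0
      exact hsq ⟨c, by linear_combination h0⟩
    have hsqm : ∀ z : GL (Fin d ⊕ Fin d) F,
        (z : Matrix (Fin d ⊕ Fin d) (Fin d ⊕ Fin d) F) *
          (z : Matrix (Fin d ⊕ Fin d) (Fin d ⊕ Fin d) F) =
          (-1 : F) • (1 : Matrix (Fin d ⊕ Fin d) (Fin d ⊕ Fin d) F) →
        (z : Matrix (Fin d ⊕ Fin d) (Fin d ⊕ Fin d) F) *
          (z : Matrix (Fin d ⊕ Fin d) (Fin d ⊕ Fin d) F) =
          (0 : F) • (z : Matrix (Fin d ⊕ Fin d) (Fin d ⊕ Fin d) F) -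
            (1 : F) • (1 : Matrix (Fin d ⊕ Fin d) (Fin d ⊕ Fin d) F) := by
      intro z hz
      rw [hz, zero_smul, zero_sub, neg_smul]
    have hadjm : ∀ z : GL (Fin d ⊕ Fin d) F, z ∈ Cfsg.spGL d F →
        (z : Matrix (Fin d ⊕ Fin d) (Fin d ⊕ Fin d) F) *
          (z : Matrix (Fin d ⊕ Fin d) (Fin d ⊕ Fin d) F) =
          (-1 : F) • (1 : Matrix (Fin d ⊕ Fin d) (Fin d ⊕ Fin d) F) →
        ∀ u v : Fin d ⊕ Fin d → F,
          Cfsg.sympForm d F ((z : Matrix (Fin d ⊕ Fin d) (Fin d ⊕ Fin d) F).mulVec u) v =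
          Cfsg.sympForm d F u (((0 : F) • (1 : Matrix (Fin d ⊕ Fin d) (Fin d ⊕ Fin d) F) -
            (z : Matrix (Fin d ⊕ Fin d) (Fin d ⊕ Fin d) F)).mulVec v) := by
      intro z hz hz2 u v
      rw [zero_smul, zero_sub, Matrix.neg_mulVec]
      have h1 := (mem_spGL_iff z).mp hz u (-((z : Matrix (Fin d ⊕ Fin d) (Fin d ⊕ Fin d) F) *ᵥ v))
      rw [Matrix.mulVec_neg, xx_mulVec hz2, neg_neg] at h1
      exact h1
    obtain ⟨e, he⟩ := exists_frame h2 d 0 1 hirr _ (hsqm y hy2) (hadjm y hy hy2)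
    obtain ⟨e₂, he₂⟩ := exists_frame h2 d 0 1 hirr _ (hsqm x hx2) (hadjm x hx hx2)
    obtain ⟨g, hg, hgc⟩ := exists_conj_of_frames d 0 1 _ _ (hsqm y hy2) (hsqm x hx2) e e₂ he he₂
    refine ⟨g, hg, ?_⟩
    have h3 : g * y = x * g := by
      apply Units.ext
      rw [Units.val_mul, Units.val_mul]
      exact hgc
    calc g⁻¹ * x * g = g⁻¹ * (x * g) := by group
      _ = g⁻¹ * (g * y) := by rw [h3]
      _ = y := by group

end Cfsg.Agent.S5976P
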