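import Mathlib
import Cfsg.Prelude.Def_GeometricClasses
import Cfsg.Prelude.Def_Classical
import Cfsg.Prelude.Def_LieClassical
import Cfsg.Agent.Helper23.S5984Defs

/-! S5984 piece EIG2: a matrix with `x² = c²` is diagonalizable with eigenvalues `± c`. -/

set_option autoImplicit false
open scoped MatrixGroups Matrix

namespace Cfsg.Agent.S5984P

open Cfsg.Agent.S2644 Cfsg.Agent.Helper2.SUGen Cfsg.Agent.Helper28.UPair

namespace EIG2

variable {F : Type*} [Field F] {n : ℕ}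

theorem xx_mulVec (x : Matrix (Fin n) (Fin n) F) (c : F)
    (hx : x * x = (c ^ 2) • (1 : Matrix (Fin n) (Fin n) F)) (v : Fin n → F) :
    x *ᵥ (x *ᵥ v) = (c * c) • v := by
  rw [Matrix.mulVec_mulVec, hx, Matrix.smul_mulVec, Matrix.one_mulVec, pow_two]

/-- the eigenspaces for `c` and `-c` are disjoint -/
theorem eig_inf (h2 : (2 : F) ≠ 0) (x : Matrix (Fin n) (Fin n) F) (c : F) (hc : c ≠ 0) :
    Module.End.eigenspace (Matrix.toLin' x) c ⊓ Module.End.eigenspace (Matrix.toLin' x) (-c) = ⊥ := by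
  have h2c : (2 : F) * c ≠ 0 := mul_ne_zero h2 hc
  rw [eq_bot_iff]
  rintro v ⟨h1, h3⟩
  rw [Submodule.mem_bot]
  have e1 := (mem_eig x c v).mp h1
  have e2 := (mem_eig x (-c) v).mp h3
  have : ((2 : F) * c) • v = 0 := by
    have : c • v = (-c) • v := e1.symm.trans e2
    calc ((2 : F) * c) • v = c • v - (-c) • v := by module
      _ = 0 := by rw [this, sub_self]
  exact (smul_eq_zero.mp this).resolve_left h2c

theorem decomp (h2 : (2 : F) ≠ 0) (x : Matrix (Fin n) (Fin n) F)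
    (c : F) (hc : c ≠ 0) (hx : x * x = (c ^ 2) • (1 : Matrix (Fin n) (Fin n) F))
    (v : Fin n → F) : ∃ a b : Fin n → F, x *ᵥ a = c • a ∧ x *ᵥ b = (-c) • b ∧ v = a + b := by
  have h2c : (2 : F) * c ≠ 0 := mul_ne_zero h2 hc
  refine ⟨((2 : F) * c)⁻¹ • (x *ᵥ v + c • v), -((2 : F) * c)⁻¹ • (x *ᵥ v - c • v), ?_, ?_, ?_⟩
  · rw [Matrix.mulVec_smul, Matrix.mulVec_add, Matrix.mulVec_smul, xx_mulVec x c hx]
    module
  · rw [Matrix.mulVec_smul, Matrix.mulVec_sub, Matrix.mulVec_smul, xx_mulVec x c hx]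
    module
  · have : ((2 : F) * c)⁻¹ * ((2 : F) * c) = 1 := inv_mul_cancel₀ h2c
    symm
    calc ((2 : F) * c)⁻¹ • (x *ᵥ v + c • v) + -((2 : F) * c)⁻¹ • (x *ᵥ v - c • v)
        = (((2 : F) * c)⁻¹ * ((2 : F) * c)) • v := by module
      _ = v := by rw [this, one_smul]

/-- the eigenspaces for `c` and `-c` span -/
theorem eig_sup (h2 : (2 : F) ≠ 0) (x : Matrix (Fin n) (Fin n) F) (c : F) (hc : c ≠ 0)
    (hx : x * x = (c ^ 2) • (1 : Matrix (Fin n) (Fin n) F)) :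
    Module.End.eigenspace (Matrix.toLin' x) c ⊔ Module.End.eigenspace (Matrix.toLin' x) (-c) = ⊤ := by
  rw [eq_top_iff]
  intro v _
  obtain ⟨a, b, ha, hb, rfl⟩ := decomp h2 x c hc hx v
  exact Submodule.add_mem_sup ((mem_eig x c a).mpr ha) ((mem_eig x (-c) b).mpr hb)

end EIG2

/-- EIG2: a matrix with `x² = c²` is diagonalizable with eigenvalues `± c` -/
theorem eig_decomp {F : Type*} [Field F] {n : ℕ} (h2 : (2 : F) ≠ 0) (x : Matrix (Fin n) (Fin n) F)
    (c : F) (hc : c ≠ 0) (hx : x * x = (c ^ 2) • (1 : Matrix (Fin n) (Fin n) F)) :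
    (∀ v : Fin n → F, ∃ a b : Fin n → F, x *ᵥ a = c • a ∧ x *ᵥ b = (-c) • b ∧ v = a + b) ∧
      kd x c + kd x (-c) = n := by
  refine ⟨EIG2.decomp h2 x c hc hx, ?_⟩
  have h := Submodule.finrank_sup_add_finrank_inf_eq
    (Module.End.eigenspace (Matrix.toLin' x) c) (Module.End.eigenspace (Matrix.toLin' x) (-c))
  rw [EIG2.eig_sup h2 x c hc hx, EIG2.eig_inf h2 x c hc, finrank_top, finrank_bot,
    Module.finrank_fin_fun, add_zero] at h
  rw [kd_def, kd_def]
  exact h.symm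

end Cfsg.Agent.S5984P
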