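import Mathlib
import Cfsg.Prelude.Def_GeometricClasses
import Cfsg.Prelude.Def_Classical
import Cfsg.Prelude.Def_LieClassical
import Cfsg.Agent.Helper23.S5984Defs
import Cfsg.Agent.Helper13.S5984EIG2

/-! S5984 piece DETEIG: the determinant of a matrix with `x² = c²`. -/

set_option autoImplicit false
open scoped MatrixGroups Matrix

namespace Cfsg.Agent.S5984P

open Cfsg.Agent.S2644 Cfsg.Agent.Helper2.SUGen Cfsg.Agent.Helper28.UPair

/-- DETEIG: the determinant of a matrix with `x² = c²` -/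
theorem det_of_sq {F : Type*} [Field F] {n : ℕ} (h2 : (2 : F) ≠ 0) (x : Matrix (Fin n) (Fin n) F)
    (c : F) (hc : c ≠ 0) (hx : x * x = (c ^ 2) • (1 : Matrix (Fin n) (Fin n) F)) :
    x.det = c ^ (kd x c) * (-c) ^ (kd x (-c)) := by
  have hcompl : IsCompl (Module.End.eigenspace (Matrix.toLin' x) c)
      (Module.End.eigenspace (Matrix.toLin' x) (-c)) :=
    IsCompl.of_eq (EIG2.eig_inf h2 x c hc) (EIG2.eig_sup h2 x c hc hx)
  set P := Module.End.eigenspace (Matrix.toLin' x) c with hP
  set Q := Module.End.eigenspace (Matrix.toLin' x) (-c) with hQ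
  let e := Submodule.prodEquivOfIsCompl P Q hcompl
  let f : Module.End F (P × Q) :=
    LinearMap.prodMap (c • (LinearMap.id : P →ₗ[F] P)) ((-c) • (LinearMap.id : Q →ₗ[F] Q))
  have hconj : Matrix.toLin' x = (e : (P × Q) →ₗ[F] (Fin n → F)) ∘ₗ f ∘ₗ
      (e.symm : (Fin n → F) →ₗ[F] (P × Q)) := by
    apply LinearMap.ext
    intro v
    obtain ⟨w, rfl⟩ := e.surjective v
    rw [LinearMap.comp_apply, LinearMap.comp_apply, LinearEquiv.coe_coe, LinearEquiv.coe_coe,
      LinearEquiv.symm_apply_apply]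
    obtain ⟨a, b⟩ := w
    rw [Submodule.coe_prodEquivOfIsCompl', Submodule.coe_prodEquivOfIsCompl']
    rw [map_add, Matrix.toLin'_apply, Matrix.toLin'_apply, (mem_eig x c a.1).mp a.2,
      (mem_eig x (-c) b.1).mp b.2]
    rfl
  rw [← LinearMap.det_toLin' x, hconj, LinearMap.det_conj, LinearMap.det_prodMap,
    LinearMap.det_smul, LinearMap.det_smul, LinearMap.det_id, LinearMap.det_id, mul_one, mul_one,
    kd_def, kd_def]

end Cfsg.Agent.S5984P
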