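import Mathlib
import Cfsg.Prelude.Def_GeometricClasses
import Cfsg.Prelude.Def_Classical
import Cfsg.Prelude.Def_LieClassical
import Cfsg.Agent.Helper23.S5984Defs

/-! S5984 piece HYPDEC: a non-degenerate subspace of even dimension of a unitary space is the sum
of two totally singular subspaces. -/

set_option autoImplicit false
open scoped MatrixGroups Matrix

namespace Cfsg.Agent.S5984P

open Cfsg.Agent.S2644 Cfsg.Agent.Helper2.SUGen Cfsg.Agent.Helper28.UPair

namespace HYPDEC

variable {F : Type*} [Field F] {q n : ℕ}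

local notation "h" => Cfsg.hermForm n F q

theorem mem_perpL_pair (D : Frob F q) (u v y : Fin n → F) :
    y ∈ perpL q (Submodule.span F {u, v}) ↔ h y u = 0 ∧ h y v = 0 := by
  constructor
  · intro hy
    exact ⟨hy u (Submodule.subset_span (by simp)), hy v (Submodule.subset_span (by simp))⟩
  · rintro ⟨hyu, hyv⟩ x hx
    obtain ⟨a, b, rfl⟩ := Submodule.mem_span_pair.mp hx
    rw [h_add_right D, h_smul_right D, h_smul_right D, hyu, hyv, mul_zero, mul_zero, add_zero]

section pair

variable (D : Frob F q) {Y : Submodule F (Fin n → F)} {u v : Fin n → F}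
  (hu : u ∈ Y) (hv : v ∈ Y) (huu : Cfsg.hermForm n F q u u = 0)
  (hvv : Cfsg.hermForm n F q v v = 0) (huv : Cfsg.hermForm n F q u v = 1)
  (hvu : Cfsg.hermForm n F q v u = 1)

include D hu hv huu hvv huv hvu in
theorem proj_mem {y : Fin n → F} (hy : y ∈ Y) :
    y - h y v • u - h y u • v ∈ Y ⊓ perpL q (Submodule.span F {u, v}) := by
  refine ⟨Y.sub_mem (Y.sub_mem hy (Y.smul_mem _ hu)) (Y.smul_mem _ hv),
    (mem_perpL_pair D u v _).mpr ⟨?_, ?_⟩⟩
  · rw [h_sub_left, h_sub_left, h_smul_left, h_smul_left, huu, hvu]; ring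
  · rw [h_sub_left, h_sub_left, h_smul_left, h_smul_left, huv, hvv]; ring

include D hu hv huu hvv huv hvu in
theorem nonDeg_cut' (hY : NonDeg q Y) :
    NonDeg q (Y ⊓ perpL q (Submodule.span F {u, v})) := by
  intro y' hy' hall
  apply hY y' hy'.1
  intro y hy
  have hmem := proj_mem D hu hv huu hvv huv hvu hy
  have h0 := hall _ hmem
  obtain ⟨hy'u, hy'v⟩ := (mem_perpL_pair D u v y').mp hy'.2
  rw [h_sub_right D, h_sub_right D, h_smul_right D, h_smul_right D, hy'u, hy'v, mul_zero,
    mul_zero, sub_zero, sub_zero] at h0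
  exact h0

include hu hv in
theorem pair_le : Submodule.span F {u, v} ≤ Y := by
  rw [Submodule.span_le]
  intro x hx
  rcases hx with rfl | hx
  · exact hu
  · rw [Set.mem_singleton_iff] at hx
    rw [hx]; exact hv

include D huu hvv huv hvu in
theorem pair_inf :
    Submodule.span F {u, v} ⊓ (Y ⊓ perpL q (Submodule.span F {u, v})) = ⊥ := by
  rw [eq_bot_iff]
  rintro x ⟨hx1, -, hx2⟩
  rw [Submodule.mem_bot]
  obtain ⟨hxu, hxv⟩ := (mem_perpL_pair D u v x).mp hx2
  obtain ⟨a, b, rfl⟩ := Submodule.mem_span_pair.mp hx1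
  rw [h_add_left, h_smul_left, h_smul_left, huu, hvu, mul_zero, zero_add, mul_one] at hxu
  rw [h_add_left, h_smul_left, h_smul_left, huv, hvv, mul_zero, add_zero, mul_one] at hxv
  rw [hxu, hxv, zero_smul, zero_smul, add_zero]

include D hu hv huu hvv huv hvu in
theorem pair_sup :
    Submodule.span F {u, v} ⊔ (Y ⊓ perpL q (Submodule.span F {u, v})) = Y := by
  apply le_antisymm (sup_le (pair_le hu hv) inf_le_left)
  intro y hy
  have hmem := proj_mem D hu hv huu hvv huv hvu hy
  have h1 : h y v • u + h y u • v ∈ Submodule.span F {u, v} :=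
    Submodule.mem_span_pair.mpr ⟨_, _, rfl⟩
  have : y = (h y v • u + h y u • v) + (y - h y v • u - h y u • v) := by abel
  rw [this]
  exact Submodule.add_mem_sup h1 hmem

include huu hvv huv hvu in
theorem finrank_pair : Module.finrank F (Submodule.span F {u, v}) = 2 := by
  have hli : LinearIndependent F ![u, v] := by
    rw [LinearIndependent.pair_iff]
    intro s t hst
    have h1 : h (s • u + t • v) v = 0 := by rw [hst, h_zero_left]
    have h2 : h (s • u + t • v) u = 0 := by rw [hst, h_zero_left]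
    rw [h_add_left, h_smul_left, h_smul_left, huv, hvv, mul_zero, add_zero, mul_one] at h1
    rw [h_add_left, h_smul_left, h_smul_left, huu, hvu, mul_zero, zero_add, mul_one] at h2
    exact ⟨h1, h2⟩
  have h3 := finrank_span_eq_card hli
  rw [Fintype.card_fin] at h3
  have h4 : Set.range ![u, v] = {u, v} := by
    ext x
    simp only [Set.mem_range, Set.mem_insert_iff, Set.mem_singleton_iff]
    constructor
    · rintro ⟨i, rfl⟩
      fin_cases i
      · left; rfl
      · right; rfl
    · rintro (rfl | rfl)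
      · exact ⟨0, rfl⟩
      · exact ⟨1, rfl⟩
  rw [h4] at h3
  exact h3

include D hu hv huu hvv huv hvu in
theorem finrank_cut' :
    Module.finrank F ↥(Y ⊓ perpL q (Submodule.span F {u, v})) + 2 = Module.finrank F Y := by
  have h1 := Submodule.finrank_sup_add_finrank_inf_eq (Submodule.span F {u, v})
    (Y ⊓ perpL q (Submodule.span F {u, v}))
  rw [pair_sup D hu hv huu hvv huv hvu, pair_inf D huu hvv huv hvu, finrank_bot, add_zero,
    finrank_pair huu hvv huv hvu] at h1
  omega

end pair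

theorem main (D : Frob F q) [Finite F] : ∀ (m : ℕ) (Y : Submodule F (Fin n → F)), NonDeg q Y →
    Module.finrank F Y = 2 * m →
    ∃ A B : Submodule F (Fin n → F), A ≤ Y ∧ B ≤ Y ∧
      (∀ u ∈ A, ∀ v ∈ A, Cfsg.hermForm n F q u v = 0) ∧
      (∀ u ∈ B, ∀ v ∈ B, Cfsg.hermForm n F q u v = 0) ∧ A ⊔ B = Y
  | 0, Y, _, hm => by
    have hY0 : Y = ⊥ := Submodule.finrank_eq_zero.mp (by rw [hm])
    refine ⟨⊥, ⊥, bot_le, bot_le, ?_, ?_, ?_⟩
    · intro u hu v _
      rw [(Submodule.mem_bot F).mp hu, h_zero_left]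
    · intro u hu v _
      rw [(Submodule.mem_bot F).mp hu, h_zero_left]
    · rw [hY0, sup_bot_eq]
  | m + 1, Y, hY, hm => by
    obtain ⟨u, hu, v, hv, -, huu, hvv, huv, hvu⟩ := exists_hyp_pair D hY (by omega)
    have hY' := nonDeg_cut' D hu hv huu hvv huv hvu hY
    have hfr : Module.finrank F ↥(Y ⊓ perpL q (Submodule.span F {u, v})) = 2 * m := by
      have := finrank_cut' D hu hv huu hvv huv hvu
      omega
    obtain ⟨A', B', hA', hB', hisoA, hisoB, hsup⟩ := main D m _ hY' hfr
    have hperpA : ∀ a ∈ A', h a u = 0 ∧ h a v = 0 := fun a ha =>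
      (mem_perpL_pair D u v a).mp (hA' ha).2
    have hperpB : ∀ b ∈ B', h b u = 0 ∧ h b v = 0 := fun b hb =>
      (mem_perpL_pair D u v b).mp (hB' hb).2
    refine ⟨A' ⊔ Submodule.span F {u}, B' ⊔ Submodule.span F {v},
      sup_le (hA'.trans inf_le_left) ?_, sup_le (hB'.trans inf_le_left) ?_, ?_, ?_, ?_⟩
    · rw [Submodule.span_le]; intro x hx; rw [Set.mem_singleton_iff] at hx; rw [hx]; exact hu
    · rw [Submodule.span_le]; intro x hx; rw [Set.mem_singleton_iff] at hx; rw [hx]; exact hv
    · intro x hx y hy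
      obtain ⟨a, ha, x', hx', rfl⟩ := Submodule.mem_sup.mp hx
      obtain ⟨b, hb, y', hy', rfl⟩ := Submodule.mem_sup.mp hy
      obtain ⟨c, rfl⟩ := Submodule.mem_span_singleton.mp hx'
      obtain ⟨e, rfl⟩ := Submodule.mem_span_singleton.mp hy'
      rw [h_add_left, h_add_right D, h_add_right D, h_smul_right D, h_smul_left, h_smul_left,
        h_smul_right D, hisoA a ha b hb, (hperpA a ha).1, h_symm_zero D (hperpA b hb).1, huu]
      ring
    · intro x hx y hy
      obtain ⟨a, ha, x', hx', rfl⟩ := Submodule.mem_sup.mp hx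
      obtain ⟨b, hb, y', hy', rfl⟩ := Submodule.mem_sup.mp hy
      obtain ⟨c, rfl⟩ := Submodule.mem_span_singleton.mp hx'
      obtain ⟨e, rfl⟩ := Submodule.mem_span_singleton.mp hy'
      rw [h_add_left, h_add_right D, h_add_right D, h_smul_right D, h_smul_left, h_smul_left,
        h_smul_right D, hisoB a ha b hb, (hperpB a ha).2, h_symm_zero D (hperpB b hb).2, hvv]
      ring
    · have h1 : A' ⊔ Submodule.span F {u} ⊔ (B' ⊔ Submodule.span F {v}) =
          (Submodule.span F {u} ⊔ Submodule.span F {v}) ⊔ (A' ⊔ B') := by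
        ac_rfl
      have h2 : Submodule.span F {u} ⊔ Submodule.span F {v} = Submodule.span F {u, v} := by
        rw [← Submodule.span_union]
        rfl
      rw [h1, h2, hsup, pair_sup D hu hv huu hvv huv hvu]

end HYPDEC

/-- HYPDEC: a non-degenerate subspace of even dimension is the sum of two totally singular
subspaces -/
theorem exists_polar_sub {F : Type*} [Field F] [Fintype F] {q n : ℕ} (hF : Fintype.card F = q ^ 2)
    (Y : Submodule F (Fin n → F)) (hY : NonDeg q Y) (m : ℕ) (hm : Module.finrank F Y = 2 * m) :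
    ∃ A B : Submodule F (Fin n → F), A ≤ Y ∧ B ≤ Y ∧
      (∀ u ∈ A, ∀ v ∈ A, Cfsg.hermForm n F q u v = 0) ∧
      (∀ u ∈ B, ∀ v ∈ B, Cfsg.hermForm n F q u v = 0) ∧ A ⊔ B = Y := by
  obtain ⟨D⟩ := frobOf hF
  exact HYPDEC.main D m Y hY hm

end Cfsg.Agent.S5984P
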