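import Mathlib
import Cfsg.Prelude.Def_GeometricClasses
import Cfsg.Prelude.Def_Classical
import Cfsg.Prelude.Def_LieClassical
import Cfsg.Agent.Helper23.S5984Defs
import Cfsg.Agent.Helper13.S5984EIG2

/-! S5984 piece POSB: for `ν^(q+1) = -1` the two eigenspaces of `x` (`x² = ν²`) form a polar
pair. -/

set_option autoImplicit false
open scoped MatrixGroups Matrix

namespace Cfsg.Agent.S5984P

open Cfsg.Agent.S2644 Cfsg.Agent.Helper2.SUGen Cfsg.Agent.Helper28.UPair

namespace POSB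

variable {F : Type*} [Field F] {q n : ℕ}

/-- `2 ≠ 0` in a field with `q²` elements, `q` odd -/
theorem two_ne_zero_of_odd [Fintype F] (hF : Fintype.card F = q ^ 2) (hq : Odd q) :
    (2 : F) ≠ 0 := by
  intro h
  have h2 : ringChar F = 2 :=
    CharP.ringChar_of_prime_eq_zero Nat.prime_two (by exact_mod_cast h)
  have h3 := FiniteField.even_card_of_char_two h2
  rw [hF] at h3
  have h4 : Odd (q ^ 2) := hq.pow
  rw [Nat.odd_iff] at h4
  omega

/-- an eigenspace of an isometry for an eigenvalue of norm `-1` is totally singular -/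
theorem iso_of_norm_neg_one (h2 : (2 : F) ≠ 0) (x : Matrix (Fin n) (Fin n) F)
    (hx : Pres (q := q) x) (ν : F) (hν : ν ^ (q + 1) = -1) (u v : Fin n → F)
    (hu : x *ᵥ u = ν • u) (hv : x *ᵥ v = ν • v) : Cfsg.hermForm n F q u v = 0 := by
  have h1 := hx u v
  rw [hu, hv, Cfsg.Agent.Helper28.hermForm_smul_left, Cfsg.Agent.Helper28.hermForm_smul_right,
    ← mul_assoc, ← pow_succ', hν] at h1
  have : (2 : F) * Cfsg.hermForm n F q u v = 0 := by linear_combination -h1
  exact (mul_eq_zero.mp this).resolve_left h2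

end POSB

/-- POSB: for `ν^(q+1) = -1` the two eigenspaces of `x` (`x² = ν²`) form a polar pair -/
theorem lp_of_nonsplit {F : Type*} [Field F] [Fintype F] {q n : ℕ}
    (hF : Fintype.card F = q ^ 2) (hq : Odd q) (x : Matrix (Fin n) (Fin n) F) (hx : Pres (q := q) x)
    (ν : F) (hν : ν ^ (q + 1) = -1) (hxx : x * x = (ν ^ 2) • (1 : Matrix (Fin n) (Fin n) F)) :
    LP q (Module.End.eigenspace (Matrix.toLin' x) ν) (Module.End.eigenspace (Matrix.toLin' x) (-ν)) := by
  have h2 : (2 : F) ≠ 0 := POSB.two_ne_zero_of_odd hF hq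
  have hν0 : ν ≠ 0 := by
    intro h0
    rw [h0, zero_pow (Nat.succ_ne_zero q)] at hν
    have : (1 : F) = 0 := by linear_combination hν
    exact one_ne_zero this
  have hν' : (-ν) ^ (q + 1) = -1 := by
    have he : Even (q + 1) := hq.add_one
    rw [he.neg_pow, hν]
  refine ⟨?_, ?_, ?_⟩
  · intro u hu v hv
    exact POSB.iso_of_norm_neg_one h2 x hx ν hν u v ((mem_eig x ν u).mp hu) ((mem_eig x ν v).mp hv)
  · intro u hu v hv
    exact POSB.iso_of_norm_neg_one h2 x hx (-ν) hν' u v ((mem_eig x (-ν) u).mp hu)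
      ((mem_eig x (-ν) v).mp hv)
  · intro v
    obtain ⟨a, b, ha, hb, hv⟩ := (eig_decomp h2 x ν hν0 hxx).1 v
    exact ⟨a, (mem_eig x ν a).mpr ha, b, (mem_eig x (-ν) b).mpr hb, hv⟩

end Cfsg.Agent.S5984P
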