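import Mathlib
import Cfsg.Prelude.Def_GeometricClasses
import Cfsg.Prelude.Def_Classical
import Cfsg.Prelude.Def_LieClassical
import Cfsg.Agent.Helper23.S5984Defs
import Cfsg.Agent.Helper13.S5984EIG2
import Cfsg.Agent.Helper13.S5984POSB
import Cfsg.Agent.Helper13.S5984HYPDEC

/-! S5984 piece POSA: a scalar multiple of an involution with even-dimensional eigenspaces fixes a
polar pair. -/

set_option autoImplicit false
open scoped MatrixGroups Matrix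

namespace Cfsg.Agent.S5984P

open Cfsg.Agent.S2644 Cfsg.Agent.Helper2.SUGen Cfsg.Agent.Helper28.UPair

namespace POSA

variable {F : Type*} [Field F] {q n : ℕ}

local notation "h" => Cfsg.hermForm n F q

/-- eigenvectors for `μ` and `-μ` (`μ` of norm one, `q` odd) are orthogonal -/
theorem orth_of_norm_one (h2 : (2 : F) ≠ 0) (hq : Odd q) (x : Matrix (Fin n) (Fin n) F)
    (hx : Pres (q := q) x) (μ : F) (hμ : μ ^ (q + 1) = 1) (u v : Fin n → F)
    (hu : x *ᵥ u = μ • u) (hv : x *ᵥ v = (-μ) • v) : Cfsg.hermForm n F q u v = 0 := by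
  have h1 := hx u v
  rw [hu, hv, Cfsg.Agent.Helper28.hermForm_smul_left, Cfsg.Agent.Helper28.hermForm_smul_right,
    ← mul_assoc, hq.neg_pow, mul_neg, ← pow_succ', hμ] at h1
  have : (2 : F) * Cfsg.hermForm n F q u v = 0 := by linear_combination -h1
  exact (mul_eq_zero.mp this).resolve_left h2

/-- an eigenspace is non-degenerate -/
theorem nonDeg_eig (D : Frob F q) (x : Matrix (Fin n) (Fin n) F) (c c' : F)
    (hdec : ∀ v : Fin n → F, ∃ a b : Fin n → F, x *ᵥ a = c • a ∧ x *ᵥ b = c' • b ∧ v = a + b)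
    (horth : ∀ u v : Fin n → F, x *ᵥ u = c • u → x *ᵥ v = c' • v → h u v = 0) :
    NonDeg q (Module.End.eigenspace (Matrix.toLin' x) c) := by
  intro y hy hall
  apply h_nondeg D
  intro z
  obtain ⟨a, b, ha, hb, rfl⟩ := hdec z
  rw [h_add_right D, hall a ((mem_eig x c a).mpr ha), horth y b ((mem_eig x c y).mp hy) hb,
    add_zero]

end POSA

/-- POSA: a scalar multiple of an involution with even-dimensional eigenspaces fixes a polar
pair -/
theorem exists_polar_of_invol {F : Type*} [Field F] [Fintype F] {q n : ℕ}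
    (hF : Fintype.card F = q ^ 2) (hq : Odd q) (x : Matrix (Fin n) (Fin n) F) (hx : Pres (q := q) x)
    (μ : F) (hμ : μ ^ (q + 1) = 1) (hxx : x * x = (μ ^ 2) • (1 : Matrix (Fin n) (Fin n) F))
    (he : Even (kd x μ)) (he' : Even (kd x (-μ))) :
    ∃ A B : Submodule F (Fin n → F), LP q A B ∧ (∀ a ∈ A, x *ᵥ a ∈ A) ∧ (∀ b ∈ B, x *ᵥ b ∈ B) := by
  obtain ⟨D⟩ := frobOf hF
  have h2 : (2 : F) ≠ 0 := POSB.two_ne_zero_of_odd hF hq
  have hμ0 : μ ≠ 0 := by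
    intro h0
    rw [h0, zero_pow (Nat.succ_ne_zero q)] at hμ
    exact zero_ne_one hμ
  have hμ' : (-μ) ^ (q + 1) = 1 := by
    have hev : Even (q + 1) := hq.add_one
    rw [hev.neg_pow, hμ]
  have hdec := (eig_decomp h2 x μ hμ0 hxx).1
  have hdec' : ∀ v : Fin n → F, ∃ a b : Fin n → F, x *ᵥ a = (-μ) • a ∧ x *ᵥ b = μ • b ∧
      v = a + b := by
    intro v
    obtain ⟨a, b, ha, hb, hv⟩ := hdec v
    exact ⟨b, a, hb, ha, by rw [hv, add_comm]⟩
  have horth : ∀ u v : Fin n → F, x *ᵥ u = μ • u → x *ᵥ v = (-μ) • v →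
      Cfsg.hermForm n F q u v = 0 :=
    fun u v hu hv => POSA.orth_of_norm_one h2 hq x hx μ hμ u v hu hv
  have horth' : ∀ u v : Fin n → F, x *ᵥ u = (-μ) • u → x *ᵥ v = μ • v →
      Cfsg.hermForm n F q u v = 0 :=
    fun u v hu hv => h_symm_zero D (horth v u hv hu)
  have hN := POSA.nonDeg_eig D x μ (-μ) hdec horth
  have hN' := POSA.nonDeg_eig D x (-μ) μ hdec' horth'
  obtain ⟨m, hm⟩ := he
  obtain ⟨m', hm'⟩ := he'
  rw [kd_def] at hm hm'
  obtain ⟨A1, B1, hA1, hB1, hisoA1, hisoB1, hsup1⟩ :=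
    exists_polar_sub hF _ hN m (by rw [hm]; ring)
  obtain ⟨A2, B2, hA2, hB2, hisoA2, hisoB2, hsup2⟩ :=
    exists_polar_sub hF _ hN' m' (by rw [hm']; ring)
  -- general facts
  have hiso : ∀ (X1 X2 : Submodule F (Fin n → F)),
      X1 ≤ Module.End.eigenspace (Matrix.toLin' x) μ →
      X2 ≤ Module.End.eigenspace (Matrix.toLin' x) (-μ) →
      (∀ u ∈ X1, ∀ v ∈ X1, Cfsg.hermForm n F q u v = 0) →
      (∀ u ∈ X2, ∀ v ∈ X2, Cfsg.hermForm n F q u v = 0) →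
      ∀ u ∈ X1 ⊔ X2, ∀ v ∈ X1 ⊔ X2, Cfsg.hermForm n F q u v = 0 := by
    intro X1 X2 h1 h2' i1 i2 u hu v hv
    obtain ⟨a, ha, b, hb, rfl⟩ := Submodule.mem_sup.mp hu
    obtain ⟨a', ha', b', hb', rfl⟩ := Submodule.mem_sup.mp hv
    rw [h_add_left, h_add_right D, h_add_right D, i1 a ha a' ha', i2 b hb b' hb',
      horth a b' ((mem_eig x μ a).mp (h1 ha)) ((mem_eig x (-μ) b').mp (h2' hb')),
      horth' b a' ((mem_eig x (-μ) b).mp (h2' hb)) ((mem_eig x μ a').mp (h1 ha'))]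
    ring
  have hinv : ∀ (X1 X2 : Submodule F (Fin n → F)),
      X1 ≤ Module.End.eigenspace (Matrix.toLin' x) μ →
      X2 ≤ Module.End.eigenspace (Matrix.toLin' x) (-μ) →
      ∀ u ∈ X1 ⊔ X2, x *ᵥ u ∈ X1 ⊔ X2 := by
    intro X1 X2 h1 h2' u hu
    obtain ⟨a, ha, b, hb, rfl⟩ := Submodule.mem_sup.mp hu
    rw [Matrix.mulVec_add, (mem_eig x μ a).mp (h1 ha), (mem_eig x (-μ) b).mp (h2' hb)]
    exact Submodule.add_mem_sup (X1.smul_mem _ ha) (X2.smul_mem _ hb)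
  refine ⟨A1 ⊔ A2, B1 ⊔ B2, ⟨hiso A1 A2 hA1 hA2 hisoA1 hisoA2, hiso B1 B2 hB1 hB2 hisoB1 hisoB2, ?_⟩,
    hinv A1 A2 hA1 hA2, hinv B1 B2 hB1 hB2⟩
  intro v
  obtain ⟨a, b, ha, hb, rfl⟩ := hdec v
  have ha' : a ∈ A1 ⊔ B1 := by rw [hsup1]; exact (mem_eig x μ a).mpr ha
  have hb' : b ∈ A2 ⊔ B2 := by rw [hsup2]; exact (mem_eig x (-μ) b).mpr hb
  obtain ⟨a1, ha1, b1, hb1, rfl⟩ := Submodule.mem_sup.mp ha'
  obtain ⟨a2, ha2, b2, hb2, rfl⟩ := Submodule.mem_sup.mp hb'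
  refine ⟨a1 + a2, Submodule.add_mem_sup ha1 ha2, b1 + b2, Submodule.add_mem_sup hb1 hb2, ?_⟩
  abel

end Cfsg.Agent.S5984P
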