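import Mathlib

set_option autoImplicit false

/-!
# Brute-force counts in `SL₂(𝔽₁₁)`
-/

namespace Cfsg.Agent.Helper13.SL11Dec

abbrev K := ZMod 11
abbrev S := Matrix.SpecialLinearGroup (Fin 2) K

def W : S := ⟨!![0, 10; 1, 0], by decide⟩

theorem W_sq : W * W = -1 := by decide

theorem one_ne_neg_one : (1 : S) ≠ -1 := by decide

set_option maxRecDepth 100000 in
theorem card_sq : Fintype.card {X : S // X * X = -1} = 110 := by decide +kernel

set_option maxRecDepth 100000 in
theorem card_W_aux : Fintype.card {Z : S // (Z ^ 5 = 1 ∨ Z ^ 5 = -1) ∧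
    ((W * Z) ^ 3 = 1 ∨ (W * Z) ^ 3 = -1)} = 96 := by decide +kernel

end Cfsg.Agent.Helper13.SL11Dec
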