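import Mathlib
import Cfsg.Agent.Helper4.SU3Defs
set_option autoImplicit false

/-! # S2283 piece FRAME: a hyperbolic frame of `K^3` -/

namespace Cfsg.Agent.Helper13.SU3G
open Matrix Module Cfsg.Agent.S2644 Cfsg.Agent.Helper2.SUGen Cfsg.Agent.Helper4.SU3G
variable {K : Type*} [Field K] {q : ℕ}
local notation "h" => Cfsg.hermForm 3 K q

theorem exists_frame [Finite K] (D : Frob K q) : Nonempty (Frame K q) := by
  classical
  have hfr : finrank K (⊤ : Submodule K (Fin 3 → K)) = 3 := by
    rw [finrank_top, Module.finrank_fin_fun]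
  obtain ⟨u, -, v, -, hune, huu, hvv, huv, hvu⟩ :=
    exists_hyp_pair (n := 3) D (nonDeg_top D) (by rw [hfr]; norm_num)
  obtain ⟨y, -, hy⟩ := exists_not_pair (n := 3) (K := K) (Y := ⊤) (by rw [hfr]) u v
  -- the orthogonal projection
  obtain ⟨y', hy'def⟩ : ∃ y' : Fin 3 → K, y' = y - (h y v) • u - (h y u) • v := ⟨_, rfl⟩
  have hy'u : h y' u = 0 := by
    rw [hy'def, h_sub_left, h_sub_left, h_smul_left, h_smul_left, huu, hvu]; ring
  have hy'v : h y' v = 0 := by
    rw [hy'def, h_sub_left, h_sub_left, h_smul_left, h_smul_left, huv, hvv]; ring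
  have huy' : h u y' = 0 := h_symm_zero D hy'u
  have hvy' : h v y' = 0 := h_symm_zero D hy'v
  have hy'ne : y' ≠ 0 := by
    intro h0
    apply hy (h y v) (h y u)
    have : y - (h y v) • u - (h y u) • v = 0 := by rw [← hy'def]; exact h0
    have h3 := sub_eq_zero.mp this
    have h4 := sub_eq_iff_eq_add.mp h3
    rw [add_comm] at h4
    exact h4
  -- linear independence and spanning
  have hli : LinearIndependent K ![u, y', v] := by
    rw [Fintype.linearIndependent_iff]
    intro g hg
    rw [Fin.sum_univ_three] at hg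
    simp only [Matrix.cons_val_zero, Matrix.cons_val_one, Matrix.cons_val_two,
      Matrix.head_cons, Matrix.tail_cons] at hg
    have h0 : g 0 = 0 := by
      have := congrArg (fun z => h z v) hg
      simp only [h_add_left, h_smul_left, huv, hy'v, hvv, h_zero_left] at this
      simpa using this
    have h2 : g 2 = 0 := by
      have := congrArg (fun z => h z u) hg
      simp only [h_add_left, h_smul_left, huu, hy'u, hvu, h_zero_left] at this
      simpa using this
    have h1 : g 1 = 0 := by
      rw [h0, h2, zero_smul, zero_smul, zero_add, add_zero] at hg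
      rcases smul_eq_zero.mp hg with h3 | h3
      · exact h3
      · exact absurd h3 hy'ne
    intro i
    fin_cases i
    · exact h0
    · exact h1
    · exact h2
  let b : Basis (Fin 3) K (Fin 3 → K) :=
    basisOfLinearIndependentOfCardEqFinrank hli (by simp)
  have hspan : ∀ z : Fin 3 → K, ∃ a₁ a₂ a₃ : K, z = a₁ • u + a₂ • y' + a₃ • v := by
    intro z
    refine ⟨b.repr z 0, b.repr z 1, b.repr z 2, ?_⟩
    have := b.sum_repr z
    rw [Fin.sum_univ_three] at this
    simp only [b, coe_basisOfLinearIndependentOfCardEqFinrank, Matrix.cons_val_zero,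
      Matrix.cons_val_one, Matrix.cons_val_two, Matrix.head_cons, Matrix.tail_cons] at this
    exact this.symm
  -- the norm of y'
  have hN : h y' y' ≠ 0 := by
    intro hN0
    apply hy'ne
    apply h_nondeg D
    intro z
    obtain ⟨a₁, a₂, a₃, rfl⟩ := hspan z
    rw [h_add_right D, h_add_right D, h_smul_right D, h_smul_right D, h_smul_right D, hy'u, hN0,
      hy'v]
    ring
  have hNfix : D.σ (h y' y') = h y' y' := h_self_fix D y'
  have hNinv_fix : D.σ (h y' y')⁻¹ = (h y' y')⁻¹ := by rw [map_inv₀, hNfix]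
  obtain ⟨a, ha⟩ := exists_norm D (h y' y')⁻¹ (inv_ne_zero hN) hNinv_fix
  have ha0 : a ≠ 0 := by
    rintro rfl
    rw [zero_mul] at ha
    exact inv_ne_zero hN ha.symm
  -- the frame
  have h22 : h (a • y') (a • y') = 1 := by
    rw [h_smul_left, h_smul_right D]
    calc a * (D.σ a * h y' y') = (a * D.σ a) * h y' y' := by ring
      _ = 1 := by rw [ha]; exact inv_mul_cancel₀ hN
  have h12 : h u (a • y') = 0 := by rw [h_smul_right D, huy', mul_zero]
  have h21 : h (a • y') u = 0 := by rw [h_smul_left, hy'u, mul_zero]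
  have h23 : h (a • y') v = 0 := by rw [h_smul_left, hy'v, mul_zero]
  have h32 : h v (a • y') = 0 := by rw [h_smul_right D, hvy', mul_zero]
  refine ⟨{ e1 := u, e2 := a • y', e3 := v, h11 := huu, h12 := h12, h13 := huv, h21 := h21,
            h22 := h22, h23 := h23, h31 := hvu, h32 := h32, h33 := hvv, expand := ?_ }⟩
  intro z
  obtain ⟨a₁, a₂, a₃, hz⟩ := hspan z
  have e1 : h z v = a₁ := by
    rw [hz, h_add_left, h_add_left, h_smul_left, h_smul_left, h_smul_left, huv, hy'v, hvv]; ring
  have e3 : h z u = a₃ := by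
    rw [hz, h_add_left, h_add_left, h_smul_left, h_smul_left, h_smul_left, huu, hy'u, hvu]; ring
  have e2 : h z (a • y') = a₂ * a⁻¹ := by
    have hy'y' : h y' (a • y') = a⁻¹ := by
      rw [h_smul_right D]
      have : a * (D.σ a * h y' y') = 1 := by
        calc a * (D.σ a * h y' y') = (a * D.σ a) * h y' y' := by ring
          _ = 1 := by rw [ha]; exact inv_mul_cancel₀ hN
      field_simp
      rw [← this]; ring
    rw [hz, h_add_left, h_add_left, h_smul_left, h_smul_left, h_smul_left, h12, hy'y', h32]; ring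
  rw [e1, e2, e3, smul_smul]
  have : a₂ * a⁻¹ * a = a₂ := by field_simp
  rw [this]
  exact hz

end Cfsg.Agent.Helper13.SU3G
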