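import Mathlib
import Cfsg.Agent.Helper4.SUnModel
import Cfsg.Agent.Helper7.SUnP1
import Cfsg.Agent.Helper7.SUnP3
import Cfsg.Agent.Helper16.SUnUPVEC
import Cfsg.Agent.Helper12.SUnP5
import Cfsg.Agent.Helper7.SUnP6

set_option autoImplicit false

namespace Cfsg.Agent.Helper13.SUn

open Matrix Cfsg.Agent.Helper4.SUn Cfsg.Agent.Helper7.SUn Cfsg.Agent.Helper16.SUn
  Cfsg.Agent.Helper12.SUn

variable {K : Type*} [Field K] (σ : K →+* K) (k : ℕ)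

theorem eps_same (i : Fin (2 * k + 5)) : (ε k i : Fin (2 * k + 5) → K) i = 1 := by
  simp [ε]

theorem eps_ne {i j : Fin (2 * k + 5)} (h : j ≠ i) : (ε k i : Fin (2 * k + 5) → K) j = 0 := by
  simp [ε, h]

theorem idx_ne :
    i0 k ≠ i1 k ∧ i0 k ≠ iB k ∧ i0 k ≠ iL k ∧ i1 k ≠ iB k ∧ i1 k ≠ iL k ∧ iB k ≠ iL k ∧
    iM k ≠ i0 k ∧ iM k ≠ i1 k ∧ iM k ≠ iB k ∧ iM k ≠ iL k := by
  refine ⟨?_, ?_, ?_, ?_, ?_, ?_, ?_, ?_, ?_, ?_⟩ <;>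
  · intro h
    have := congrArg Fin.val h
    simp at this
    try omega

theorem rev_iL : (iL k).rev = i0 k := by
  apply Fin.ext
  simp [Fin.rev]

theorem rev_iB : (iB k).rev = i1 k := by
  apply Fin.ext
  simp [Fin.rev]

theorem KkG_eps_i0 (s t : K) :
    KkG k s t *ᵥ ε k (i0 k) = -ε k (iB k) - s • ε k (iL k) := by
  obtain ⟨h01, h0B, h0L, h1B, h1L, hBL, hM0, hM1, hMB, hML⟩ := idx_ne k
  rw [KkG_mulVec, eps_same, eps_ne k h01.symm, eps_ne k h0B.symm, eps_ne k h0L.symm]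
  module

theorem KkG_eps_i1 (s t : K) :
    KkG k s t *ᵥ ε k (i1 k) = ε k (iL k) := by
  obtain ⟨h01, h0B, h0L, h1B, h1L, hBL, hM0, hM1, hMB, hML⟩ := idx_ne k
  rw [KkG_mulVec, eps_same, eps_ne k h01, eps_ne k h1B.symm, eps_ne k h1L.symm]
  module

theorem KkG_eps_iL (s t : K) :
    KkG k s t *ᵥ ε k (iL k) = ε k (i1 k) := by
  obtain ⟨h01, h0B, h0L, h1B, h1L, hBL, hM0, hM1, hMB, hML⟩ := idx_ne k
  rw [KkG_mulVec, eps_same, eps_ne k h0L, eps_ne k h1L, eps_ne k hBL]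
  module

theorem KkG_eps_iM (s t : K) :
    KkG k s t *ᵥ ε k (iM k) = ε k (iM k) := by
  obtain ⟨h01, h0B, h0L, h1B, h1L, hBL, hM0, hM1, hMB, hML⟩ := idx_ne k
  rw [KkG_mulVec, eps_ne k hM0.symm, eps_ne k hM1.symm, eps_ne k hMB.symm, eps_ne k hML.symm]
  module

/-- moving an isometry to the other slot -/
theorem presJ_adj {M N : Matrix (Fin (2 * k + 5)) (Fin (2 * k + 5)) K} (hM : PresJ σ k M)
    (hMN : M * N = 1) (x y : Fin (2 * k + 5) → K) :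
    hJ σ k x (N *ᵥ y) = hJ σ k (M *ᵥ x) y := by
  rw [← hM x (N *ᵥ y), Matrix.mulVec_mulVec, hMN, Matrix.one_mulVec]

theorem Kkinv_presJ (hσ2 : ∀ x, σ (σ x) = x) (a : K) : PresJ σ k (Kkinv σ k a) := by
  have := KkG_presJ σ k hσ2 ((σ a)⁻¹)
  rw [map_inv₀, hσ2] at this
  exact this

theorem Kkinv_mul_Kk (a : K) : Kkinv σ k a * Kk σ k a = 1 := KkG_mul k _ _

theorem Kk_mul_Kkinv (a : K) : Kk σ k a * Kkinv σ k a = 1 := KkG_mul k _ _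

theorem UU_mul_UUinv (μ a : K) : UU σ k μ a * UUinv σ k μ a = 1 := by
  unfold UU UUinv
  rw [Matrix.mul_assoc, ← Matrix.mul_assoc (Up σ k μ), Up_mul_Upinv, Matrix.one_mul, X1_mul_X1inv]

theorem ZZ_mul_Zinv (μ : K) {a : K} (ha : a ≠ 0) : ZZ σ k μ a * Zinv σ k μ a = 1 := by
  unfold ZZ Zinv
  have e : Kk σ k a * UU σ k μ a * Kkinv σ k a * (Kk σ k a * UUinv σ k μ a * Kkinv σ k a) =
      Kk σ k a * (UU σ k μ a * ((Kkinv σ k a * Kk σ k a) * UUinv σ k μ a)) * Kkinv σ k a := by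
    simp only [Matrix.mul_assoc]
  rw [e, Kkinv_mul_Kk, Matrix.one_mul, UU_mul_UUinv, Matrix.mul_one, Kk_mul_Kkinv]

/-- `Zinv` on a vector, unfolded -/
theorem Zinv_mulVec (μ a : K) (v : Fin (2 * k + 5) → K) :
    Zinv σ k μ a *ᵥ v =
      Kk σ k a *ᵥ (Upinv σ k μ *ᵥ (X1inv σ k a *ᵥ (Kkinv σ k a *ᵥ v))) := by
  unfold Zinv UUinv
  simp only [Matrix.mulVec_mulVec, Matrix.mul_assoc]

theorem Zinv_eps_i0 (μ : K) {a : K} (ha : a ≠ 0) :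
    Zinv σ k μ a *ᵥ ε k (i0 k) = (-(σ a)⁻¹) • ε k (i1 k) := by
  obtain ⟨h01, h0B, h0L, h1B, h1L, hBL, hM0, hM1, hMB, hML⟩ := idx_ne k
  have hσa : σ a ≠ 0 := by
    intro h
    exact ha ((map_eq_zero σ).mp h)
  rw [Zinv_mulVec]
  unfold Kkinv
  rw [KkG_eps_i0, X1inv_mulVec]
  have e1 : (-ε k (iB k) - (σ a)⁻¹ • ε k (iL k) : Fin (2 * k + 5) → K) (i1 k) = 0 := by
    simp [eps_ne k h1B, eps_ne k h1L]
  have e2 : (-ε k (iB k) - (σ a)⁻¹ • ε k (iL k) : Fin (2 * k + 5) → K) (iL k) = -(σ a)⁻¹ := by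
    simp [eps_ne k hBL.symm, eps_same]
  rw [e1, e2]
  have e3 : (-ε k (iB k) - (σ a)⁻¹ • ε k (iL k) - (a * 0) • ε k (i0 k)
      - (σ a * -(σ a)⁻¹) • ε k (iB k) : Fin (2 * k + 5) → K) = (-(σ a)⁻¹) • ε k (iL k) := by
    have : σ a * -(σ a)⁻¹ = -1 := by
      rw [mul_neg, mul_inv_cancel₀ hσa]
    rw [this]
    module
  rw [e3, Matrix.mulVec_smul, Upinv_eps_iL, Matrix.mulVec_smul]
  unfold Kk
  rw [KkG_eps_iL]

/-- `Zinv ε₁`, unfolded up to the last two factors -/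
theorem Zinv_eps_i1 (μ a : K) :
    Zinv σ k μ a *ᵥ ε k (i1 k) =
      Kk σ k a *ᵥ (Upinv σ k μ *ᵥ (ε k (iL k) + (-(σ a)) • ε k (iB k))) := by
  obtain ⟨h01, h0B, h0L, h1B, h1L, hBL, hM0, hM1, hMB, hML⟩ := idx_ne k
  rw [Zinv_mulVec]
  unfold Kkinv
  rw [KkG_eps_i1, X1inv_mulVec, eps_ne k h1L, eps_same]
  congr 2
  module

/-- the common computation for `Zinv_eta` and `Zinv_omega` -/
theorem hJ_Zinv_eps_i1 (hσ2 : ∀ x, σ (σ x) = x) {μ : K} (hμ : μ + σ μ = 1) (a : K)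
    (x : Fin (2 * k + 5) → K) :
    hJ σ k x (Zinv σ k μ a *ᵥ ε k (i1 k)) =
      (Up σ k μ *ᵥ (Kkinv σ k a *ᵥ x)) (i0 k) + a * (Up σ k μ *ᵥ (Kkinv σ k a *ᵥ x)) (i1 k) := by
  rw [Zinv_eps_i1, presJ_adj σ k (Kkinv_presJ σ k hσ2 a) (Kkinv_mul_Kk σ k a),
    presJ_adj σ k (Up_presJ σ k hσ2 hμ) (Up_mul_Upinv σ k μ),
    hJ_add_right, hJ_smul_right, hJ_eps_right, hJ_eps_right, rev_iL, rev_iB, map_neg, hσ2]
  simp only [i0_val, i1_val, pow_zero, pow_one, one_mul]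
  ring

theorem Zinv_eta (hσ2 : ∀ x, σ (σ x) = x) {μ : K} (hμ : μ + σ μ = 1) {a : K} (ha : a ≠ 0) :
    hJ σ k (ε k (i0 k)) (Zinv σ k μ a *ᵥ ε k (i1 k)) = -(a * (σ μ) ^ (2 * k + 1)) := by
  obtain ⟨h01, h0B, h0L, h1B, h1L, hBL, hM0, hM1, hMB, hML⟩ := idx_ne k
  rw [hJ_Zinv_eps_i1 σ k hσ2 hμ, Up_mulVec_i0]
  unfold Kkinv
  rw [KkG_eps_i0]
  have e1 : (-ε k (iB k) - (σ a)⁻¹ • ε k (iL k) : Fin (2 * k + 5) → K) (i0 k) = 0 := by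
    simp [eps_ne k h0B, eps_ne k h0L]
  rw [e1, Matrix.mulVec_sub, Matrix.mulVec_neg, Matrix.mulVec_smul]
  have e2 : ∀ j : Fin (2 * k + 5), (Up σ k μ *ᵥ ε k j) (i1 k) = Up σ k μ (i1 k) j := by
    intro j
    unfold ε
    rw [Matrix.mulVec_single_one]
    rfl
  simp only [Pi.sub_apply, Pi.neg_apply, Pi.smul_apply, e2, smul_eq_mul]
  rw [Up_row1_iL, Up_row1 σ k hμ (iB k) (by simp) (by simp)]
  have : ((iB k : Fin (2 * k + 5)) : ℕ) - 2 = 2 * k + 1 := by simp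
  rw [this]
  ring

theorem Zinv_omega (hσ2 : ∀ x, σ (σ x) = x) {μ : K} (hμ : μ + σ μ = 1) {a : K} (ha : a ≠ 0) (β : K) :
    hJ σ k (β • ε k (iM k)) (Zinv σ k μ a *ᵥ ε k (i1 k)) = a * β * (σ μ) ^ k := by
  obtain ⟨h01, h0B, h0L, h1B, h1L, hBL, hM0, hM1, hMB, hML⟩ := idx_ne k
  rw [hJ_Zinv_eps_i1 σ k hσ2 hμ, Up_mulVec_i0]
  unfold Kkinv
  rw [Matrix.mulVec_smul, KkG_eps_iM, Matrix.mulVec_smul]
  have e2 : ∀ j : Fin (2 * k + 5), (Up σ k μ *ᵥ ε k j) (i1 k) = Up σ k μ (i1 k) j := by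
    intro j
    unfold ε
    rw [Matrix.mulVec_single_one]
    rfl
  simp only [Pi.smul_apply, e2, smul_eq_mul, eps_ne k hM0.symm]
  rw [Up_row1 σ k hμ (iM k) (by simp) (by simp; omega)]
  have : ((iM k : Fin (2 * k + 5)) : ℕ) - 2 = k := by simp
  rw [this]
  ring

end Cfsg.Agent.Helper13.SUn
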