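import Mathlib
import Cfsg.Agent.Helper29.SylMaxDefs
set_option autoImplicit false

/-! # S2245 piece AMB: `Perm α` and `alternatingGroup α` satisfy `Amb` -/

namespace Cfsg.Agent.Helper13.SylMax
open MulAction Equiv Cfsg.Agent.Helper29.SylMax
open scoped Pointwise
universe u v
variable {𝔾 : Type u} [Group 𝔾] {α : Type v} [Fintype α] [DecidableEq α] [MulAction 𝔾 α]

/-- for a set `s` in a type with at least 3 points, `s` or `sᶜ` contains two distinct points -/
theorem exists_pair_of_three_le (hα : 3 ≤ Nat.card α) (s : Set α) :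
    (∃ a ∈ s, ∃ b ∈ s, a ≠ b) ∨ (∃ a ∈ sᶜ, ∃ b ∈ sᶜ, a ≠ b) := by
  classical
  by_contra hcon
  rw [not_or] at hcon
  obtain ⟨h1, h2⟩ := hcon
  have hs : s.Subsingleton := by
    intro a ha b hb
    by_contra hab
    exact h1 ⟨a, ha, b, hb, hab⟩
  have hsc : sᶜ.Subsingleton := by
    intro a ha b hb
    by_contra hab
    exact h2 ⟨a, ha, b, hb, hab⟩
  have e1 : s.ncard ≤ 1 := Set.ncard_le_one_iff_subsingleton.mpr hs
  have e2 : sᶜ.ncard ≤ 1 := Set.ncard_le_one_iff_subsingleton.mpr hsc
  have e3 := Set.ncard_add_ncard_compl s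
  omega

theorem amb_perm (hα : 5 ≤ Nat.card α) : Amb (Perm α) α := by
  classical
  refine
    { finite := inferInstance
      faithful := ?_
      even_mem := ?_
      coatom_stab := ?_
      eq_top_of_prim := ?_
      prim := inferInstance
      trans := Equiv.Perm.isMultiplyPretransitive α _
      stab_surj := ?_
      moves := ?_ }
  · intro g hg
    ext x
    exact hg x
  · intro σ _
    exact ⟨σ, fun x => rfl⟩
  · intro s hs hsc hcard
    exact Equiv.Perm.isCoatom_stabilizer hs hsc hcard
  · intro M s hM hsM
    have h3 : 3 ≤ Nat.card α := by omega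
    rcases exists_pair_of_three_le h3 s with ⟨a, ha, b, hb, hab⟩ | ⟨a, ha, b, hb, hab⟩
    · apply Equiv.Perm.subgroup_eq_top_of_isPreprimitive_of_isSwap_mem hM (swap a b)
        ⟨a, b, hab, rfl⟩
      exact hsM (Equiv.Perm.swap_mem_stabilizer ha hb)
    · apply Equiv.Perm.subgroup_eq_top_of_isPreprimitive_of_isSwap_mem hM (swap a b)
        ⟨a, b, hab, rfl⟩
      apply hsM
      rw [← stabilizer_compl]
      exact Equiv.Perm.swap_mem_stabilizer ha hb
  · intro s _
    exact Equiv.Perm.stabilizer.surjective_toPerm s
  · intro t a ha b hb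
    exact Equiv.Perm.exists_mem_stabilizer_smul_eq a ha b hb

theorem amb_alt (hα : 5 ≤ Nat.card α) : Amb (alternatingGroup α) α := by
  classical
  refine
    { finite := inferInstance
      faithful := ?_
      even_mem := ?_
      coatom_stab := ?_
      eq_top_of_prim := ?_
      prim := alternatingGroup.isPreprimitive_of_three_le_card α (by omega)
      trans := alternatingGroup.isMultiplyPretransitive α
      stab_surj := ?_
      moves := ?_ }
  · intro g hg
    apply Subtype.ext
    ext x
    exact hg x
  · intro σ hσ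
    exact ⟨⟨σ, hσ⟩, fun x => rfl⟩
  · intro s hs hsc hcard
    exact alternatingGroup.isCoatom_stabilizer hs hsc hcard
  · intro M s hM hsM
    have := hM
    exact alternatingGroup.subgroup_eq_top_of_isPreprimitive (by omega) M hsM
  · intro s hs
    exact alternatingGroup.stabilizer.surjective_toPerm hs
  · intro t a ha b hb
    exact alternatingGroup.exists_mem_stabilizer_smul_eq (by omega) a ha b hb

end Cfsg.Agent.Helper13.SylMax
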