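import Mathlib
import Cfsg.Agent.Helper29.SylMaxDefs
set_option autoImplicit false

/-! # S2245 piece O2: two orbits of different sizes, the small one of size at least two -/

namespace Cfsg.Agent.Helper13.SylMax
open MulAction Equiv Cfsg.Agent.Helper29.SylMax
open scoped Pointwise
universe u v
variable {𝔾 : Type u} [Group 𝔾] {α : Type v} [Fintype α] [DecidableEq α] [MulAction 𝔾 α]

/-- An even permutation exchanging two disjoint sets of the same size (the first with at least two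
points) and fixing all other points. -/
theorem exists_even_exchange (C B : Set α) (hdisj : ∀ x ∈ B, x ∉ C) (hcard : B.ncard = C.ncard)
    (h2 : 2 ≤ C.ncard) :
    ∃ σ : Perm α, σ ∈ alternatingGroup α ∧ (∀ x ∈ C, σ x ∈ B) ∧ (∀ x ∈ B, σ x ∈ C) ∧
      ∀ x, x ∉ C → x ∉ B → σ x = x := by
  classical
  have hcard' : Nat.card ↥C = Nat.card ↥B := by
    rw [Nat.card_coe_set_eq, Nat.card_coe_set_eq, hcard]
  obtain ⟨e⟩ := Finite.card_eq.mp hcard'
  -- the basic exchange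
  let τf : α → α := fun x =>
    if hx : x ∈ C then (e ⟨x, hx⟩ : α) else if hx' : x ∈ B then (e.symm ⟨x, hx'⟩ : α) else x
  have hτC : ∀ x (hx : x ∈ C), τf x = (e ⟨x, hx⟩ : α) := by
    intro x hx
    simp only [τf, dif_pos hx]
  have hτB : ∀ x (hx : x ∈ B), τf x = (e.symm ⟨x, hx⟩ : α) := by
    intro x hx
    have hxC : x ∉ C := hdisj x hx
    simp only [τf, dif_neg hxC, dif_pos hx]
  have hτO : ∀ x, x ∉ C → x ∉ B → τf x = x := by
    intro x hxC hxB
    simp only [τf, dif_neg hxC, dif_neg hxB]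
  have hinv : Function.Involutive τf := by
    intro x
    by_cases hxC : x ∈ C
    · rw [hτC x hxC, hτB _ (e ⟨x, hxC⟩).2]
      simp
    · by_cases hxB : x ∈ B
      · rw [hτB x hxB, hτC _ (e.symm ⟨x, hxB⟩).2]
        simp
      · rw [hτO x hxC hxB, hτO x hxC hxB]
  let τ : Perm α := hinv.toPerm τf
  have hτ_apply : ∀ x, τ x = τf x := fun x => rfl
  have h1 : ∀ x ∈ C, τ x ∈ B := by
    intro x hx
    rw [hτ_apply, hτC x hx]
    exact (e ⟨x, hx⟩).2
  have h2' : ∀ x ∈ B, τ x ∈ C := by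
    intro x hx
    rw [hτ_apply, hτB x hx]
    exact (e.symm ⟨x, hx⟩).2
  have h3 : ∀ x, x ∉ C → x ∉ B → τ x = x := by
    intro x hxC hxB
    rw [hτ_apply, hτO x hxC hxB]
  -- two points of C
  obtain ⟨p, hp, q, hq, hpq⟩ : ∃ p ∈ C, ∃ q ∈ C, p ≠ q := by
    have : 1 < C.ncard := by omega
    rw [Set.one_lt_ncard_iff] at this
    obtain ⟨a, b, ha, hb, hab⟩ := this
    exact ⟨a, ha, b, hb, hab⟩
  rcases Int.units_eq_one_or (Perm.sign τ) with hs | hs
  · exact ⟨τ, Perm.mem_alternatingGroup.mpr hs, h1, h2', h3⟩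
  · refine ⟨τ * swap p q, ?_, ?_, ?_, ?_⟩
    · rw [Perm.mem_alternatingGroup, Perm.sign_mul, hs, Perm.sign_swap hpq]
      rfl
    · intro x hx
      rw [Perm.mul_apply]
      apply h1
      by_cases hxp : x = p
      · rw [hxp, swap_apply_left]; exact hq
      · by_cases hxq : x = q
        · rw [hxq, swap_apply_right]; exact hp
        · rw [swap_apply_of_ne_of_ne hxp hxq]; exact hx
    · intro x hx
      have hxC : x ∉ C := hdisj x hx
      have hxp : x ≠ p := fun h => hxC (h ▸ hp)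
      have hxq : x ≠ q := fun h => hxC (h ▸ hq)
      rw [Perm.mul_apply, swap_apply_of_ne_of_ne hxp hxq]
      exact h2' x hx
    · intro x hxC hxB
      have hxp : x ≠ p := fun h => hxC (h ▸ hp)
      have hxq : x ≠ q := fun h => hxC (h ▸ hq)
      rw [Perm.mul_apply, swap_apply_of_ne_of_ne hxp hxq]
      exact h3 x hxC hxB

theorem twoMax_of_two_orbits {ι : Type*} (hA : Amb 𝔾 α) (hα : 5 ≤ Nat.card α) (R : Subgroup 𝔾)
    (O : Set α) (hO : ∀ r ∈ R, r • O = O) (hbig : Nat.card α < 2 * O.ncard)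
    (f : α → ι) (hf : Pres R f)
    (hfO : ∀ x y : α, x ∈ Oᶜ → (f x = f y ↔ y ∈ Oᶜ))
    (B : Set α) (hBO : B ⊆ O) (hB : ∃ x₁ ∈ B, ∀ y : α, f y = f x₁ ↔ y ∈ B)
    (hcard : B.ncard = Oᶜ.ncard) (h2 : 2 ≤ Oᶜ.ncard) : TwoMax R := by
  classical
  have _ := hα
  obtain ⟨x₁, hx₁B, hx₁⟩ := hB
  have hdisj : ∀ x ∈ B, x ∉ Oᶜ := fun x hx hxc => hxc (hBO hx)
  obtain ⟨σ, hσeven, hσ1, hσ2, hσ3⟩ := exists_even_exchange Oᶜ B hdisj hcard h2
  obtain ⟨g, hg⟩ := hA.even_mem σ hσeven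
  -- two points of Oᶜ
  obtain ⟨p, hp, q, hq, hpq⟩ : ∃ p ∈ Oᶜ, ∃ q ∈ Oᶜ, p ≠ q := by
    have : 1 < Oᶜ.ncard := by omega
    rw [Set.one_lt_ncard_iff] at this
    obtain ⟨a, b, ha, hb, hab⟩ := this
    exact ⟨a, ha, b, hb, hab⟩
  -- g preserves f
  have hgf : ∀ x y : α, f x = f y → f (g • x) = f (g • y) := by
    intro x y hxy
    rw [hg, hg]
    by_cases hxC : x ∈ Oᶜ
    · have hyC : y ∈ Oᶜ := (hfO x y hxC).mp hxy
      have e1 := (hx₁ (σ x)).mpr (hσ1 x hxC)
      have e2 := (hx₁ (σ y)).mpr (hσ1 y hyC)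
      rw [e1, e2]
    · by_cases hxB : x ∈ B
      · have hyB : y ∈ B := by
          rw [← hx₁ y, ← hxy]
          exact (hx₁ x).mpr hxB
        exact (hfO (σ x) (σ y) (hσ2 x hxB)).mpr (hσ2 y hyB)
      · have hyC : y ∉ Oᶜ := by
          intro hyC
          exact hxC ((hfO y x hyC).mp hxy.symm)
        have hyB : y ∉ B := by
          intro hyB
          apply hxB
          rw [← hx₁ x, hxy]
          exact (hx₁ y).mpr hyB
        rw [hσ3 x hxC hxB, hσ3 y hyC hyB]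
        exact hxy
  -- the generated subgroup is proper
  have hS : ∀ s ∈ ((R : Set 𝔾) ∪ {g}), ∀ x y : α, f x = f y → f (s • x) = f (s • y) := by
    intro s hs
    rcases hs with hs | hs
    · exact hf s hs
    · rw [Set.mem_singleton_iff] at hs
      rw [hs]
      exact hgf
  have hne : Subgroup.closure ((R : Set 𝔾) ∪ {g}) ≠ ⊤ := by
    apply ne_top_of_pres hA _ f hS
    · exact ⟨p, q, hpq, (hfO p q hp).mpr hq⟩
    · refine ⟨p, x₁, ?_⟩
      intro h
      exact ((hfO p x₁ hp).mp h) (hBO hx₁B)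
  obtain ⟨M₂, hM₂, hle⟩ := exists_coatom_ge hA _ hne
  have hRM₂ : R ≤ M₂ := by
    intro r hr
    exact hle (Subgroup.subset_closure (Or.inl hr))
  have hgM₂ : g ∈ M₂ := hle (Subgroup.subset_closure (Or.inr rfl))
  -- the first coatom
  have hcoatom : IsCoatom (stabilizer 𝔾 O) := by
    apply hA.coatom_stab O ⟨x₁, hBO hx₁B⟩ ⟨p, hp⟩
    omega
  have hRM₁ : R ≤ stabilizer 𝔾 O := by
    intro r hr
    rw [mem_stabilizer_iff]
    exact hO r hr
  have hgM₁ : g ∉ stabilizer 𝔾 O := by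
    intro hmem
    rw [mem_stabilizer_iff] at hmem
    have h3 : g • x₁ ∈ g • O := Set.smul_mem_smul_set (hBO hx₁B)
    rw [hmem, hg] at h3
    exact (hσ2 x₁ hx₁B) h3
  refine ⟨stabilizer 𝔾 O, M₂, ?_, hcoatom, hM₂, hRM₁, hRM₂⟩
  intro h
  apply hgM₁
  rw [h]
  exact hgM₂

end Cfsg.Agent.Helper13.SylMax
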