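import Mathlib
import Cfsg.Agent.S2619
import Cfsg.Agent.Helper13.ArfSum

set_option autoImplicit false
set_option linter.unusedSectionVars false

namespace Cfsg.Agent.Helper13.SymOrth

open Matrix Module

abbrev K := ZMod 2

theorem mul_self_K (x : K) : x * x = x := by
  revert x; decide

theorem add_self_K (x : K) : x + x = 0 := by
  revert x; decide

theorem sum_K (g : K → ℤ) : ∑ t : K, g t = g 0 + g 1 := Fin.sum_univ_two g

section generic

variable (α : Type) [Fintype α] [DecidableEq α]

/-- the alternating form `(Σv)(Σw) + v·w` -/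
def bet : LinearMap.BilinForm K (α → K) :=
  LinearMap.mk₂ K (fun v w => (∑ i, v i) * (∑ i, w i) + v ⬝ᵥ w)
    (by intro v v' w; simp only [Pi.add_apply, Finset.sum_add_distrib, add_dotProduct]; ring)
    (by intro c v w; simp only [Pi.smul_apply, smul_eq_mul, ← Finset.mul_sum, smul_dotProduct]; ring)
    (by intro v w w'; simp only [Pi.add_apply, Finset.sum_add_distrib, dotProduct_add]; ring)
    (by intro c v w; simp only [Pi.smul_apply, smul_eq_mul, ← Finset.mul_sum, dotProduct_smul]; ring)

theorem bet_apply (v w : α → K) : bet α v w = (∑ i, v i) * (∑ i, w i) + v ⬝ᵥ w := rfl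

theorem bet_isAlt : (bet α).IsAlt := by
  intro v
  rw [bet_apply, dotProduct]
  simp only [mul_self_K]
  exact add_self_K _

/-- the quadratic form with polarisation `bet` vanishing on the standard basis -/
noncomputable def QQ : QuadraticForm K (α → K) :=
  (Cfsg.Agent.S2619.result (Pi.basisFun K α) (bet α) (bet_isAlt α) (fun _ => 0)).exists.choose

theorem QQ_polarBilin : QuadraticMap.polarBilin (QQ α) = bet α :=
  (Cfsg.Agent.S2619.result (Pi.basisFun K α) (bet α) (bet_isAlt α)
    (fun _ => 0)).exists.choose_spec.1

theorem QQ_single (i : α) : QQ α (Pi.single i 1) = 0 := by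
  have := (Cfsg.Agent.S2619.result (Pi.basisFun K α) (bet α) (bet_isAlt α)
    (fun _ => 0)).exists.choose_spec.2 i
  rw [Pi.basisFun_apply] at this
  exact this

theorem QQ_unique (Q' : QuadraticForm K (α → K)) (h1 : QuadraticMap.polarBilin Q' = bet α)
    (h2 : ∀ i, Q' (Pi.single i 1) = 0) : Q' = QQ α := by
  apply (Cfsg.Agent.S2619.result (Pi.basisFun K α) (bet α) (bet_isAlt α) (fun _ => 0)).unique
  · refine ⟨h1, ?_⟩
    intro i
    rw [Pi.basisFun_apply]
    exact h2 i
  · refine ⟨QQ_polarBilin α, ?_⟩
    intro i
    rw [Pi.basisFun_apply]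
    exact QQ_single α i

theorem QQ_add (v w : α → K) : QQ α (v + w) = QQ α v + QQ α w + bet α v w := by
  have h := congrArg (fun B => B v w) (QQ_polarBilin α)
  simp only [QuadraticMap.polarBilin_apply_apply, QuadraticMap.polar] at h
  rw [← h]
  ring


theorem QQ_smul (c : K) (v : α → K) : QQ α (c • v) = c * QQ α v := by
  rw [QuadraticMap.map_smul, smul_eq_mul, mul_self_K]

variable {α}

/-- invariance under relabelling -/
theorem QQ_equiv {α' : Type} [Fintype α'] [DecidableEq α'] (e : α ≃ α') (v : α' → K) :
    QQ α' v = QQ α (fun i => v (e i)) := by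
  have h : (QQ α).comp (LinearMap.funLeft K K e) = QQ α' := by
    apply QQ_unique
    · apply LinearMap.ext; intro x
      apply LinearMap.ext; intro y
      rw [QuadraticMap.polarBilin_apply_apply, QuadraticMap.polar, QuadraticMap.comp_apply,
        QuadraticMap.comp_apply, QuadraticMap.comp_apply, map_add, QQ_add, bet_apply, bet_apply]
      simp only [LinearMap.funLeft_apply, dotProduct]
      rw [Equiv.sum_comp e x, Equiv.sum_comp e y, Equiv.sum_comp e (fun i => x i * y i)]
      ring
    · intro i
      rw [QuadraticMap.comp_apply]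
      have : (LinearMap.funLeft K K e) (Pi.single i 1) = Pi.single (e.symm i) 1 := by
        funext j
        rw [LinearMap.funLeft_apply, Pi.single_apply, Pi.single_apply]
        simp only [Equiv.eq_symm_apply]
      rw [this, QQ_single]
  rw [← h]
  rfl

variable (α)

/-- the auxiliary form on `Option α → K` -/
noncomputable def Qopt : QuadraticForm K (Option α → K) :=
  (QQ α).comp (LinearMap.funLeft K K some) +
    QuadraticMap.linMulLin (LinearMap.proj none)
      ((∑ i : α, LinearMap.proj (some i)) : (Option α → K) →ₗ[K] K)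

theorem Qopt_apply (v : Option α → K) :
    Qopt α v = QQ α (fun i => v (some i)) + v none * ∑ i, v (some i) := by
  unfold Qopt
  rw [_root_.add_apply, QuadraticMap.comp_apply, QuadraticMap.linMulLin_apply]
  simp only [LinearMap.coe_proj, Function.eval, LinearMap.sum_apply]
  rfl

theorem QQ_option (v : Option α → K) :
    QQ (Option α) v = QQ α (fun i => v (some i)) + v none * ∑ i, v (some i) := by
  have h : Qopt α = QQ (Option α) := by
    apply QQ_unique
    · apply LinearMap.ext; intro x
      apply LinearMap.ext; intro y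
      rw [QuadraticMap.polarBilin_apply_apply, QuadraticMap.polar, Qopt_apply, Qopt_apply,
        Qopt_apply, bet_apply]
      have e1 : (fun i => (x + y) (some i)) = (fun i => x (some i)) + (fun i => y (some i)) := rfl
      rw [e1, QQ_add, bet_apply, dotProduct, dotProduct, Fintype.sum_option, Fintype.sum_option,
        Fintype.sum_option]
      simp only [Pi.add_apply, Finset.sum_add_distrib]
      have := add_self_K (x none * y none)
      linear_combination (-1 : K) * this
    · intro o
      rw [Qopt_apply]
      rcases o with _ | i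
      · have : (fun i : α => (Pi.single (none : Option α) (1 : K) : Option α → K) (some i)) = 0 := by
          funext i; simp
        rw [this, map_zero]
        simp
      · have : (fun j : α => (Pi.single (some i : Option α) (1 : K) : Option α → K) (some j)) =
            Pi.single i 1 := by
          funext j
          simp [Pi.single_apply]
        rw [this, QQ_single]
        simp
  rw [← h, Qopt_apply]


/-- the two character sums -/
noncomputable def A : ℤ := ∑ v : α → K, chi2 (QQ α v)

noncomputable def B : ℤ := ∑ v : α → K, chi2 (QQ α v + ∑ i, v i)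

/-- value on the all-ones vector -/
noncomputable def cc : K := QQ α (fun _ => 1)

variable {α}

theorem A_congr {α' : Type} [Fintype α'] [DecidableEq α'] (e : α ≃ α') : A α' = A α := by
  unfold A
  refine Fintype.sum_equiv (Equiv.arrowCongr e.symm (Equiv.refl K)) _ _ ?_
  intro v
  rw [QQ_equiv e v]
  rfl

theorem B_congr {α' : Type} [Fintype α'] [DecidableEq α'] (e : α ≃ α') : B α' = B α := by
  unfold B
  refine Fintype.sum_equiv (Equiv.arrowCongr e.symm (Equiv.refl K)) _ _ ?_
  intro v
  rw [QQ_equiv e v, ← Equiv.sum_comp e v]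
  rfl

theorem cc_congr {α' : Type} [Fintype α'] [DecidableEq α'] (e : α ≃ α') : cc α' = cc α := by
  unfold cc
  rw [QQ_equiv e]

variable (α)

theorem sum_option_fun (F : (Option α → K) → ℤ) :
    ∑ v : Option α → K, F v =
      ∑ v : α → K, (F (fun o => o.elim 0 v) + F (fun o => o.elim 1 v)) := by
  rw [← Equiv.sum_comp (Equiv.piOptionEquivProd (β := fun _ : Option α => K)).symm F,
    Fintype.sum_prod_type_right]
  apply Finset.sum_congr rfl
  intro v _
  rw [sum_K]
  congr 1
  · congr 1
    funext o
    rcases o with _ | i <;> rfl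
  · congr 1
    funext o
    rcases o with _ | i <;> rfl

theorem A_option : A (Option α) = A α + B α := by
  unfold A B
  rw [sum_option_fun, ← Finset.sum_add_distrib]
  apply Finset.sum_congr rfl
  intro v _
  rw [QQ_option, QQ_option]
  simp

theorem B_option : B (Option α) = B α - A α := by
  unfold A B
  rw [sum_option_fun, ← Finset.sum_sub_distrib]
  apply Finset.sum_congr rfl
  intro v _
  rw [QQ_option, QQ_option, Fintype.sum_option, Fintype.sum_option]
  simp only [Option.elim_none, Option.elim_some, zero_mul, add_zero, zero_add, one_mul]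
  have e1 : QQ α v + ∑ i, v i + (1 + ∑ i, v i) = QQ α v + 1 := by
    have := add_self_K (∑ i, v i)
    linear_combination this
  rw [e1, chi2_add_one]
  ring

theorem cc_option : cc (Option α) = cc α + (Fintype.card α : K) := by
  unfold cc
  rw [QQ_option]
  simp

end generic

theorem A_zero : A (Fin 0) = 1 := by
  unfold A
  have : ∀ v : Fin 0 → K, chi2 (QQ (Fin 0) v) = 1 := by
    intro v
    rw [Subsingleton.elim v 0, map_zero]
    rfl
  rw [Fintype.sum_unique]
  exact this _

theorem B_zero : B (Fin 0) = 1 := by
  unfold B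
  have : ∀ v : Fin 0 → K, chi2 (QQ (Fin 0) v + ∑ i, v i) = 1 := by
    intro v
    rw [Subsingleton.elim v 0, map_zero]
    simp [chi2_zero]
  rw [Fintype.sum_unique]
  exact this _

theorem cc_zero : cc (Fin 0) = 0 := by
  unfold cc
  rw [Subsingleton.elim (fun _ : Fin 0 => (1 : K)) 0, map_zero]

theorem A_succ (n : ℕ) : A (Fin (n + 1)) = A (Fin n) + B (Fin n) := by
  rw [A_congr (finSuccEquiv n).symm, A_option]

theorem B_succ (n : ℕ) : B (Fin (n + 1)) = B (Fin n) - A (Fin n) := by
  rw [B_congr (finSuccEquiv n).symm, B_option]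

theorem cc_succ (n : ℕ) : cc (Fin (n + 1)) = cc (Fin n) + (n : K) := by
  rw [cc_congr (finSuccEquiv n).symm, cc_option, Fintype.card_fin]

theorem AB_four (n : ℕ) : A (Fin (n + 4)) = -4 * A (Fin n) ∧ B (Fin (n + 4)) = -4 * B (Fin n) := by
  have e : n + 4 = n + 1 + 1 + 1 + 1 := rfl
  rw [e]
  simp only [A_succ, B_succ]
  constructor <;> ring

theorem AB_val (k : ℕ) : A (Fin (4 * k + 2)) = 2 * (-4) ^ k ∧ B (Fin (4 * k + 2)) = -2 * (-4) ^ k := by
  induction k with
  | zero =>
    have e : 4 * 0 + 2 = 0 + 1 + 1 := rfl
    rw [e]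
    simp only [A_succ, B_succ, A_zero, B_zero]
    constructor <;> norm_num
  | succ k ih =>
    have e : 4 * (k + 1) + 2 = (4 * k + 2) + 4 := by ring
    rw [e, (AB_four _).1, (AB_four _).2, ih.1, ih.2]
    constructor <;> ring

theorem cc_val (k : ℕ) : cc (Fin (4 * k + 2)) = 1 := by
  induction k with
  | zero =>
    have e : 4 * 0 + 2 = 0 + 1 + 1 := rfl
    rw [e]
    simp only [cc_succ, cc_zero]
    decide
  | succ k ih =>
    have e : 4 * (k + 1) + 2 = (4 * k + 2) + 1 + 1 + 1 + 1 := by ring
    rw [e]
    simp only [cc_succ, ih]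
    push_cast
    have h2 : (2 : K) = 0 := by decide
    have h4 : (4 : K) = 0 := by decide
    linear_combination (4 * (k : K)) * h4 + 7 * h2

end Cfsg.Agent.Helper13.SymOrth
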