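import Cfsg.Agent.Helper5.TDDefs
import Cfsg.Agent.Helper5.TDTRI
import Cfsg.Agent.S4456

set_option autoImplicit false

/-! # S4460 piece NCOP: the two nonlinear degrees of a minimal nonsolvable example are coprime -/

namespace Cfsg.Agent.Helper13.TD

open Cfsg Cfsg.Agent.Helper24 Cfsg.Agent.Helper29.TwoDeg Cfsg.Agent.Helper5.TD
open scoped ComplexConjugate commutatorElement

universe u

variable {G : Type u} [Group G] [Finite G]

theorem coprime_degrees {m n : ℕ} (td : ThreeDeg G m n)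
    (IH : ∀ (H : Type u) [Group H] [Finite H], Nat.card H < Nat.card G → LeThree H →
      Group.IsSolvable H)
    (hns : ¬ Group.IsSolvable G) : m.Coprime n := by
  classical
  by_contra hcop
  obtain ⟨p, hp, hpm, hpn⟩ := Nat.Prime.not_coprime_iff_dvd.mp hcop
  have : Fact p.Prime := ⟨hp⟩
  haveI : Fintype G := Fintype.ofFinite G
  -- Thompson's theorem
  have hdeg : ∀ χ : Cfsg.IrrCharacter G, Cfsg.charDegree (χ : G → ℂ) ≠ 1 →
      p ∣ Cfsg.charDegree (χ : G → ℂ) := by
    intro χ hχ
    rw [charDegree_irr] at hχ ⊢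
    rcases td.cases χ with h1 | h1 | h1
    · exact absurd h1 hχ
    · rw [h1]; exact hpm
    · rw [h1]; exact hpn
  obtain ⟨N, hNn, hNcop, k, hk⟩ := Cfsg.Agent.S4456.result p hp hdeg
  have := hNn
  haveI : Fintype N := Fintype.ofFinite N
  -- N is proper
  have hpG : p ∣ Nat.card G := by
    obtain ⟨χ, hχ⟩ := td.exm
    have := Cfsg.Agent.Helper29.TwoDeg.irrDeg_dvd_card χ
    rw [hχ] at this
    exact hpm.trans this
  have hNtop : N ≠ ⊤ := by
    intro h
    have h1 : Nat.card N = Nat.card G := by rw [h]; exact Subgroup.card_top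
    rw [h1] at hNcop
    exact hp.one_lt.ne' (Nat.eq_one_of_dvd_coprimes hNcop.symm (dvd_refl p) hpG)
  have hlt : Nat.card N < Nat.card G := by
    apply lt_of_le_of_ne (Subgroup.card_le_card_group N)
    intro h
    exact hNtop ((Subgroup.card_eq_iff_eq_top N).mp h)
  -- degrees of N
  have hdegN : ∀ ψ : IrrCharacter N,
      irrDeg ψ ∈ (({1, m, n} : Finset ℕ).image fun x => ordCompl[p] x) := by
    intro ψ
    obtain ⟨χ, hχ⟩ := exists_irr_over N ψ
    obtain ⟨e, he, hdvd⟩ := irrDeg_dvd_of_over N χ ψ hχ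
    rw [hk] at hdvd
    obtain ⟨j, -, rfl⟩ := (Nat.dvd_prime_pow hp).mp hdvd
    have hψ : ¬ p ∣ irrDeg ψ := by
      intro h
      have h2 : p ∣ Nat.card N := h.trans (Cfsg.Agent.Helper29.TwoDeg.irrDeg_dvd_card ψ)
      exact hp.one_lt.ne' (Nat.eq_one_of_dvd_coprimes hNcop.symm (dvd_refl p) h2)
    have h3 : ordCompl[p] (irrDeg χ) = irrDeg ψ := by
      rw [he]
      exact Nat.ordCompl_pow_mul_of_not_dvd j hp hψ
    rw [Finset.mem_image]
    refine ⟨irrDeg χ, ?_, h3⟩
    rcases td.cases χ with h1 | h1 | h1 <;> simp [h1]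
  have hLT : LeThree N := by
    apply leThree_of_degrees _ _ hdegN
    refine le_trans Finset.card_image_le ?_
    exact Finset.card_le_three
  haveI hNsol : Group.IsSolvable N := IH N hlt hLT
  -- G ⧸ N is a p-group
  have hQ : IsPGroup p (G ⧸ N) := by
    apply IsPGroup.of_card (n := k)
    rw [← hk]
    rfl
  haveI : Group.IsNilpotent (G ⧸ N) := hQ.isNilpotent
  haveI : Group.IsSolvable (G ⧸ N) := inferInstance
  apply hns
  apply Group.isSolvable_of_ker_le_range N.subtype (QuotientGroup.mk' N)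
  rw [QuotientGroup.ker_mk', Subgroup.range_subtype]

end Cfsg.Agent.Helper13.TD
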