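import Mathlib
import Cfsg.Prelude.Def_OddOrderLocal
import Cfsg.Prelude.Def_Solvable
import Cfsg.Agent.Lead.Coprime2
import Cfsg.Agent.Helper6.FrobSemidirect
import Cfsg.Agent.Helper24.SolvTransB

/-! S4118 pieces (U), (FC): a TI subgroup `H` acting coprimely on a solvable normal subgroup `O`
has uniform fixed points, and then acts fixed-point-freely on a nontrivial section: `H` is a
Frobenius complement. -/

set_option autoImplicit false
set_option linter.unusedSectionVars false
set_option linter.style.haveILetI false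
set_option linter.unusedVariables false

namespace Cfsg.Agent.Helper13.TIHall

open Subgroup
open scoped commutatorElement

universe u

variable {G : Type u} [Group G]

/-- contrapositive form of the TI property -/
theorem mem_normalizer_of_ti {H : Subgroup G} (hTI : Cfsg.IsTISubset (H : Set G)) {g x : G}
    (hx : x ∈ H) (hx1 : x ≠ 1) (hgx : g * x * g⁻¹ ∈ H) : g ∈ Subgroup.normalizer (H : Set G) := by
  by_contra hg
  exact hx1 (hTI g hg x hx hgx)

/-- `H ⊓ O = ⊥` for coprime orders -/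
theorem inf_eq_bot_of_coprime [Finite G] (H O : Subgroup G)
    (hcop : (Nat.card O).Coprime (Nat.card H)) : O ⊓ H = ⊥ :=
  (Subgroup.disjoint_of_coprime_natCard hcop).eq_bot

/-- (U) uniform fixed points -/
theorem uniform_centralizer [Finite G] (H O : Subgroup G) [O.Normal]
    (hTI : Cfsg.IsTISubset (H : Set G)) (hcop : (Nat.card O).Coprime (Nat.card H)) :
    ∀ h ∈ H, h ≠ 1 → ∀ x ∈ O, x * h = h * x → ∀ h' ∈ H, x * h' = h' * x := by
  intro h hh h1 x hx hxh h' hh'
  have hxN : x ∈ Subgroup.normalizer (H : Set G) := by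
    apply mem_normalizer_of_ti hTI hh h1
    rw [hxh, mul_inv_cancel_right]
    exact hh
  have h1 : x * h' * x⁻¹ * h'⁻¹ ∈ H := by
    apply H.mul_mem _ (H.inv_mem hh')
    exact (Subgroup.mem_normalizer_iff.mp hxN h').mp hh'
  have h2 : x * h' * x⁻¹ * h'⁻¹ ∈ O := by
    have : x * h' * x⁻¹ * h'⁻¹ = x * (h' * x⁻¹ * h'⁻¹) := by group
    rw [this]
    exact O.mul_mem hx (Subgroup.Normal.conj_mem inferInstance _ (O.inv_mem hx) _)
  have h3 : x * h' * x⁻¹ * h'⁻¹ ∈ O ⊓ H := ⟨h2, h1⟩
  rw [inf_eq_bot_of_coprime H O hcop, Subgroup.mem_bot] at h3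
  calc x * h' = (x * h' * x⁻¹ * h'⁻¹) * h' * x := by group
    _ = h' * x := by rw [h3, one_mul]

/-- membership in the normaliser from invariance under conjugation -/
theorem mem_normalizer_of_map_eq (K : Subgroup G) (h : G)
    (hmap : K.map (MulAut.conj h).toMonoidHom = K) : h ∈ Subgroup.normalizer (K : Set G) := by
  rw [Subgroup.mem_normalizer_iff]
  intro x
  constructor
  · intro hx
    rw [← hmap]
    exact ⟨x, hx, rfl⟩
  · intro hx
    rw [← hmap] at hx
    obtain ⟨y, hy, hyx⟩ := hx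
    have : y = x := by
      have h1 : h * y * h⁻¹ = h * x * h⁻¹ := hyx
      have h2 : y = h⁻¹ * (h * y * h⁻¹) * h := by group
      rw [h2, h1]; group
    rwa [← this]

theorem map_conj_eq_of_mem_normalizer (K : Subgroup G) (h : G)
    (hh : h ∈ Subgroup.normalizer (K : Set G)) : K.map (MulAut.conj h).toMonoidHom = K := by
  ext x
  constructor
  · rintro ⟨y, hy, rfl⟩
    exact (Subgroup.mem_normalizer_iff.mp hh y).mp hy
  · intro hx
    refine ⟨h⁻¹ * x * h, ?_, ?_⟩
    · have := (Subgroup.mem_normalizer_iff.mp (Subgroup.inv_mem _ hh) x).mp hx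
      simpa using this
    · show h * (h⁻¹ * x * h) * h⁻¹ = x
      group

/-- the action on a section: `D ⊴ U`, both normalised by `H` -/
theorem exists_section_action (H U D : Subgroup G) (hDU : D ≤ U)
    (hHU : H ≤ Subgroup.normalizer (U : Set G)) (hHD : H ≤ Subgroup.normalizer (D : Set G))
    [hn : (D.subgroupOf U).Normal] :
    ∃ ψ : H →* MulAut (U ⧸ D.subgroupOf U), ∀ (h : H) (u : U),
      ψ h (QuotientGroup.mk u) =
        QuotientGroup.mk ⟨(h : G) * u * (h : G)⁻¹,
          (Subgroup.mem_normalizer_iff.mp (hHU h.2) u).mp u.2⟩ := by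
  classical
  -- the automorphism of `U` induced by `h`
  let α : H → MulAut U := fun h => U.normalizerMonoidHom ⟨h, hHU h.2⟩
  have α_apply : ∀ (h : H) (u : U), ((α h u : U) : G) = (h : G) * u * (h : G)⁻¹ := fun h u => rfl
  have hmap : ∀ h : H, (D.subgroupOf U).map (α h).toMonoidHom = D.subgroupOf U := by
    intro h
    ext u
    constructor
    · rintro ⟨v, hv, rfl⟩
      have hv' : (v : G) ∈ D := hv
      show ((α h v : U) : G) ∈ D
      rw [α_apply]
      exact (Subgroup.mem_normalizer_iff.mp (hHD h.2) v).mp hv'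
    · intro hu
      have hu' : (u : G) ∈ D := hu
      refine ⟨(α h).symm u, ?_, by simp⟩
      show (((α h).symm u : U) : G) ∈ D
      have h1 : ((α h) ((α h).symm u) : G) = (h : G) * ((α h).symm u : U) * (h : G)⁻¹ :=
        α_apply h _
      rw [MulEquiv.apply_symm_apply] at h1
      have h2 : (((α h).symm u : U) : G) = (h : G)⁻¹ * u * (h : G) := by
        rw [h1]; group
      rw [h2]
      have := (Subgroup.mem_normalizer_iff.mp (Subgroup.inv_mem _ (hHD h.2)) (u : G)).mp hu'
      simpa using this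
  let β : H → MulAut (U ⧸ D.subgroupOf U) := fun h =>
    QuotientGroup.congr (D.subgroupOf U) (D.subgroupOf U) (α h) (hmap h)
  have β_mk : ∀ (h : H) (u : U), β h (QuotientGroup.mk u) = QuotientGroup.mk (α h u) :=
    fun h u => QuotientGroup.congr_mk _ _ (α h) (hmap h) u
  refine ⟨MonoidHom.mk' β ?_, ?_⟩
  · intro h1 h2
    ext z
    obtain ⟨u, rfl⟩ := QuotientGroup.mk_surjective z
    rw [MulAut.mul_apply, β_mk, β_mk, β_mk]
    congr 1
    apply Subtype.ext
    rw [α_apply, α_apply, α_apply]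
    simp only [Subgroup.coe_mul, mul_inv_rev]
    group
  · intro h u
    exact β_mk h u

/-- (FC) a group acting coprimely on a solvable normal subgroup with uniform fixed points acts
fixed-point-freely on a nontrivial section -/
theorem exists_fpf_action [Finite G] (H O : Subgroup G) [O.Normal]
    (hcop : (Nat.card O).Coprime (Nat.card H)) (hOsolv : Group.IsSolvable O)
    (huni : ∀ h ∈ H, h ≠ 1 → ∀ x ∈ O, x * h = h * x → ∀ h' ∈ H, x * h' = h' * x)
    (hnt : ∃ h ∈ H, ∃ x ∈ O, x * h ≠ h * x) :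
    ∃ (V : Type u) (_ : Group V) (_ : Finite V) (_ : Nontrivial V) (ψ : H →* MulAut V),
      ∀ h : H, h ≠ 1 → ∀ v : V, ψ h v = v → v = 1 := by
  classical
  -- a minimal `H`-invariant subgroup of `O` not centralised by `H`
  let 𝒰 : Set (Subgroup G) := {U | U ≤ O ∧ H ≤ Subgroup.normalizer (U : Set G) ∧
    ¬ U ≤ Subgroup.centralizer (H : Set G)}
  have hO𝒰 : O ∈ 𝒰 := by
    refine ⟨le_rfl, ?_, ?_⟩
    · rw [Subgroup.normalizer_eq_top]; exact le_top
    · intro hle
      obtain ⟨h, hh, x, hx, hne⟩ := hnt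
      exact hne ((Subgroup.mem_centralizer_iff.mp (hle hx) h hh).symm)
  obtain ⟨U, hU𝒰, hUmin⟩ : ∃ U ∈ 𝒰, ∀ U' ∈ 𝒰, U' ≤ U → U' = U := by
    have hfin : 𝒰.Finite := Set.toFinite _
    obtain ⟨U, hU, hmin⟩ := hfin.exists_minimal ⟨O, hO𝒰⟩
    exact ⟨U, hU, fun U' hU' hle => le_antisymm hle (hmin hU' hle)⟩
  obtain ⟨hUO, hHU, hUC⟩ := hU𝒰
  set C : Subgroup G := Subgroup.centralizer (H : Set G) with hC
  set D : Subgroup G := U ⊓ C with hD
  have hDU : D ≤ U := inf_le_left
  have hHC : H ≤ Subgroup.normalizer (C : Set G) := by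
    intro h hh
    rw [Subgroup.mem_normalizer_iff]
    intro c
    constructor
    · intro hc
      rw [hC, Subgroup.mem_centralizer_iff] at hc ⊢
      intro k hk
      have h1 := hc (h⁻¹ * k * h) (H.mul_mem (H.mul_mem (H.inv_mem hh) hk) hh)
      calc k * (h * c * h⁻¹) = h * ((h⁻¹ * k * h) * c) * h⁻¹ := by group
        _ = h * (c * (h⁻¹ * k * h)) * h⁻¹ := by rw [h1]
        _ = h * c * h⁻¹ * k := by group
    · intro hc
      rw [hC, Subgroup.mem_centralizer_iff] at hc ⊢
      intro k hk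
      have h1 := hc (h * k * h⁻¹) (H.mul_mem (H.mul_mem hh hk) (H.inv_mem hh))
      calc k * c = h⁻¹ * ((h * k * h⁻¹) * (h * c * h⁻¹)) * h := by group
        _ = h⁻¹ * ((h * c * h⁻¹) * (h * k * h⁻¹)) * h := by rw [h1]
        _ = c * k := by group
  have hHD : H ≤ Subgroup.normalizer (D : Set G) := by
    intro h hh
    rw [Subgroup.mem_normalizer_iff]
    intro d
    rw [hD, Subgroup.mem_inf, Subgroup.mem_inf,
      ← Subgroup.mem_normalizer_iff.mp (hHU hh) d, ← Subgroup.mem_normalizer_iff.mp (hHC hh) d]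
  -- `U` is solvable and nontrivial, so `U' < U`, hence `U' ≤ D`
  have hUsolv : Group.IsSolvable U :=
    Group.isSolvable_of_isSolvable_injective (Subgroup.inclusion_injective hUO)
  have hU1 : U ≠ ⊥ := by
    intro h
    apply hUC
    rw [h]
    exact bot_le
  have hU'lt : ⁅U, U⁆ < U := by
    refine lt_of_le_of_ne (Subgroup.commutator_le_self U) ?_
    intro heq
    haveI : Nontrivial U := (Subgroup.nontrivial_iff_ne_bot U).mpr hU1
    have h1 := Group.IsSolvable.commutator_lt_top_of_nontrivial U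
    have h2 : (commutator U).map U.subtype = U := by rw [Subgroup.map_subtype_commutator, heq]
    have h3 : commutator U = ⊤ := by
      apply Subgroup.map_injective U.subtype_injective
      rw [h2, ← MonoidHom.range_eq_map, Subgroup.range_subtype]
    exact (ne_of_lt h1) h3
  have hU'H : H ≤ Subgroup.normalizer ((⁅U, U⁆ : Subgroup G) : Set G) := by
    intro h hh
    apply mem_normalizer_of_map_eq
    rw [Subgroup.map_commutator, map_conj_eq_of_mem_normalizer U h (hHU hh)]
  have hU'C : ⁅U, U⁆ ≤ C := by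
    by_contra hcon
    have hmem : ⁅U, U⁆ ∈ 𝒰 := ⟨(Subgroup.commutator_le_self U).trans hUO, hU'H, hcon⟩
    exact (ne_of_lt hU'lt) (hUmin _ hmem (le_of_lt hU'lt))
  have hU'D : ⁅U, U⁆ ≤ D := le_inf (Subgroup.commutator_le_self U) hU'C
  haveI hDn : (D.subgroupOf U).Normal := by
    constructor
    intro d hd u
    have hd' : (d : G) ∈ D := hd
    show ((u * d * u⁻¹ : U) : G) ∈ D
    have h1 : ((u * d * u⁻¹ : U) : G) = ⁅(u : G), (d : G)⁆ * d := by
      rw [commutatorElement_def]
      simp only [Subgroup.coe_mul, Subgroup.coe_inv]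
      group
    rw [h1]
    exact D.mul_mem (hU'D (Subgroup.commutator_mem_commutator u.2 d.2)) hd'
  obtain ⟨ψ, hψ⟩ := exists_section_action H U D hDU hHU hHD
  have hnt' : Nontrivial (U ⧸ D.subgroupOf U) := by
    obtain ⟨u, huU, huC⟩ := SetLike.not_le_iff_exists.mp hUC
    refine ⟨⟨QuotientGroup.mk ⟨u, huU⟩, 1, ?_⟩⟩
    intro h
    rw [QuotientGroup.eq_one_iff] at h
    have : u ∈ D := h
    exact huC this.2
  refine ⟨U ⧸ D.subgroupOf U, inferInstance, inferInstance, hnt', ψ, ?_⟩
  intro h h1 v hv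
  obtain ⟨u, rfl⟩ := QuotientGroup.mk_surjective v
  rw [QuotientGroup.eq_one_iff]
  show (u : G) ∈ D
  have hh1 : (h : G) ≠ 1 := fun hh => h1 (Subtype.ext hh)
  -- all powers of `h` fix the coset
  have hpow : ∀ a ∈ Subgroup.zpowers (h : G), a * u * a⁻¹ * (u : G)⁻¹ ∈ D := by
    intro a ha
    obtain ⟨k, rfl⟩ := Subgroup.mem_zpowers_iff.mp ha
    have h2 : ψ (h ^ k) (QuotientGroup.mk u) = QuotientGroup.mk u := by
      rw [map_zpow]
      have : ∀ n : ℕ, ((ψ h) ^ n) (QuotientGroup.mk u) = QuotientGroup.mk u := by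
        intro n
        induction n with
        | zero => simp
        | succ n ih => rw [pow_succ', MulAut.mul_apply, ih, hv]
      rcases Int.eq_nat_or_neg k with ⟨n, rfl | rfl⟩
      · rw [zpow_natCast]; exact this n
      · rw [zpow_neg, zpow_natCast]
        have := this n
        rw [MulAut.inv_apply, MulEquiv.symm_apply_eq]
        exact this.symm
    rw [hψ] at h2
    have h3 : (QuotientGroup.mk (⟨((h ^ k : H) : G) * u * ((h ^ k : H) : G)⁻¹,
        (Subgroup.mem_normalizer_iff.mp (hHU (h ^ k).2) u).mp u.2⟩ * u⁻¹ : U) :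
        U ⧸ D.subgroupOf U) = 1 := by
      rw [QuotientGroup.mk_mul, QuotientGroup.mk_inv, h2, mul_inv_cancel]
    rw [QuotientGroup.eq_one_iff] at h3
    have h4 : ((h ^ k : H) : G) * u * ((h ^ k : H) : G)⁻¹ * (u : G)⁻¹ ∈ D := h3
    simpa using h4
  have hcop' : (Nat.card (Subgroup.zpowers (h : G))).Coprime (Nat.card U) := by
    have h1 : Nat.card (Subgroup.zpowers (h : G)) ∣ Nat.card H :=
      Subgroup.card_dvd_of_le (Subgroup.zpowers_le.mpr h.2)
    have h2 : Nat.card U ∣ Nat.card O := Subgroup.card_dvd_of_le hUO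
    exact Nat.Coprime.coprime_dvd_left h1 (Nat.Coprime.coprime_dvd_right h2 hcop.symm)
  have hzU : Subgroup.zpowers (h : G) ≤ Subgroup.normalizer (U : Set G) :=
    Subgroup.zpowers_le.mpr (hHU h.2)
  have hzD : Subgroup.zpowers (h : G) ≤ Subgroup.normalizer (D : Set G) :=
    Subgroup.zpowers_le.mpr (hHD h.2)
  have hUD : U ≤ Subgroup.normalizer (D : Set G) := by
    intro x hx
    rw [Subgroup.mem_normalizer_iff]
    intro d
    constructor
    · intro hd
      have := hDn.conj_mem ⟨d, hDU hd⟩ hd ⟨x, hx⟩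
      exact this
    · intro hd
      have := hDn.conj_mem ⟨x * d * x⁻¹, hDU hd⟩ hd ⟨x, hx⟩⁻¹
      have h5 : (((⟨x, hx⟩ : U)⁻¹ * ⟨x * d * x⁻¹, hDU hd⟩ * (⟨x, hx⟩ : U)⁻¹⁻¹ : U) : G) = d := by
        simp only [Subgroup.coe_mul, Subgroup.coe_inv]
        group
      have h6 : (((⟨x, hx⟩ : U)⁻¹ * ⟨x * d * x⁻¹, hDU hd⟩ * (⟨x, hx⟩ : U)⁻¹⁻¹ : U) : G) ∈ D := this
      rwa [h5] at h6
  obtain ⟨c, hc, hcu⟩ := Cfsg.Agent.Lead.coprime_fixed_points_quotient
    (Subgroup.zpowers (h : G)) U hzU hcop' (Or.inr hUsolv) D hDU hUD hzD (u : G) u.2 hpow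
  have hcU : c ∈ U := hc.1
  have hch : c * (h : G) = (h : G) * c :=
    (Subgroup.mem_centralizer_iff.mp hc.2 (h : G) (Subgroup.mem_zpowers _)).symm
  have hcC : c ∈ C := by
    rw [hC, Subgroup.mem_centralizer_iff]
    intro k hk
    exact (huni (h : G) h.2 hh1 c (hUO hcU) hch k hk).symm
  have hcD : c ∈ D := ⟨hcU, hcC⟩
  have : (u : G) = c * ((u : G)⁻¹ * c)⁻¹ := by group
  rw [this]
  exact D.mul_mem hcD (D.inv_mem hcu)

end Cfsg.Agent.Helper13.TIHall
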