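import Mathlib
import Cfsg.Agent.Helper13.TIHall
import Cfsg.Agent.Helper16.TIHallN
import Cfsg.Agent.Helper25.TIHallC
import Cfsg.Agent.Helper1.TIHallE
import Cfsg.Agent.Helper4.TIHallSL
import Cfsg.Agent.Helper4.TIHallAut
import Cfsg.Agent.Helper9.AbelianSylow
import Cfsg.Agent.Helper7.Signalizer
import Cfsg.Agent.S3359

/-! S4118: a non-normal TI subgroup `H`, Hall in its normaliser, of a `π(H)`-separable group `G`:
`G = O N_G(H)`, `O H ⊴ G`, and `G` is solvable iff `O` is solvable and `SL(2,5) ≰ H`. -/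

set_option autoImplicit false
set_option linter.unusedSectionVars false
set_option linter.style.haveILetI false
set_option linter.unusedVariables false

namespace Cfsg.Agent.Helper13.TIHall

open Subgroup

universe u

variable {G : Type u} [Group G] [Finite G]

/-- parts (1), (2) -/
theorem structure_thm (H : Subgroup G)
    (hTI : Cfsg.IsTISubset (H : Set G)) (hnn : ¬ H.Normal)
    (hHall : (Nat.card H).Coprime (H.subgroupOf (Subgroup.normalizer (H : Set G))).index)
    (hsep : ∃ (n : ℕ) (M : Fin (n + 1) → Subgroup G), M 0 = ⊥ ∧ M (Fin.last n) = ⊤ ∧ Monotone M ∧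
      (∀ i, (M i).Normal) ∧
      ∀ i : Fin n, (∀ q : ℕ, q.Prime → q ∣ (M i.castSucc).relIndex (M i.succ) → q ∣ Nat.card H) ∨
        ((M i.castSucc).relIndex (M i.succ)).Coprime (Nat.card H))
    (O : Subgroup G)
    (hO : O = sSup {K : Subgroup G | K.Normal ∧ (Nat.card K).Coprime (Nat.card H)}) :
    O.Normal ∧ (Nat.card O).Coprime (Nat.card H) ∧
    (∀ K : Subgroup G, K.Normal → (Nat.card K).Coprime (Nat.card H) → K ≤ O) ∧
    O ⊔ Subgroup.normalizer (H : Set G) = ⊤ ∧ (O ⊔ H).Normal := by
  classical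
  have hH : H ≠ ⊥ := by
    intro h
    apply hnn
    rw [h]
    infer_instance
  obtain ⟨hOn, hOcop, hOmax, L, hLn, hOL, hLO, hLpi⟩ :=
    Cfsg.Agent.Helper1.TIHallE.exists_normal_pi_over H hH hsep O hO
  haveI := hOn
  haveI := hLn
  have hL : L ≤ O ⊔ H :=
    Cfsg.Agent.Helper16.TIHall.normal_pi_le_sup H O L hTI hHall hOcop hOL hLpi
  -- a nonidentity element of `H ⊓ L`
  obtain ⟨h₀, hh₀, hh₀L, hh₀1⟩ : ∃ h₀ ∈ H, h₀ ∈ L ∧ h₀ ≠ 1 := by
    obtain ⟨l, hlL, hlO⟩ := SetLike.not_le_iff_exists.mp hLO
    have hl : l ∈ ((O ⊔ H : Subgroup G) : Set G) := hL hlL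
    rw [Subgroup.normal_mul] at hl
    obtain ⟨o, ho, h, hh, hoh⟩ := hl
    have hoh' : o * h = l := hoh
    refine ⟨h, hh, ?_, ?_⟩
    · have : h = o⁻¹ * l := by rw [← hoh']; group
      rw [this]
      exact L.mul_mem (L.inv_mem (hOL ho)) hlL
    · intro h1
      apply hlO
      rw [← hoh', h1, mul_one]
      exact ho
  have htop : O ⊔ Subgroup.normalizer (H : Set G) = ⊤ := by
    rw [eq_top_iff]
    intro g _
    have hmem : g * h₀ * g⁻¹ ∈ O ⊔ H := hL (hLn.conj_mem h₀ hh₀L g)
    obtain ⟨y, hy, hyg⟩ :=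
      Cfsg.Agent.Helper16.TIHall.ti_mem_mul_normalizer H O hTI hOcop g h₀ hh₀ hh₀1 hmem
    have : g = y * (y⁻¹ * g) := by group
    rw [this]
    exact Subgroup.mul_mem _ (Subgroup.mem_sup_left hy) (Subgroup.mem_sup_right hyg)
  refine ⟨hOn, hOcop, hOmax, htop, ?_⟩
  have hnorm : Subgroup.normalizer ((O ⊔ H : Subgroup G) : Set G) = ⊤ := by
    rw [eq_top_iff, ← htop]
    apply sup_le
    · exact le_sup_left.trans Subgroup.le_normalizer
    · intro u hu
      apply mem_normalizer_of_map_eq
      rw [Subgroup.map_sup, map_conj_eq_of_mem_normalizer H u hu,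
        map_conj_eq_of_mem_normalizer O u (by rw [Subgroup.normalizer_eq_top]; exact mem_top u)]
  exact Subgroup.normalizer_eq_top_iff.mp hnorm

/-- data for the solvability criterion: fixed-point-free action, complement `Q` -/
theorem exists_action_and_complement (H : Subgroup G)
    (hTI : Cfsg.IsTISubset (H : Set G)) (hnn : ¬ H.Normal)
    (hHall : (Nat.card H).Coprime (H.subgroupOf (Subgroup.normalizer (H : Set G))).index)
    (O : Subgroup G) [O.Normal] (hOcop : (Nat.card O).Coprime (Nat.card H))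
    (htop : O ⊔ Subgroup.normalizer (H : Set G) = ⊤) (hOs : Group.IsSolvable O) :
    ∃ (V : Type u) (_ : Group V) (_ : Finite V) (_ : Nontrivial V) (ψ : H →* MulAut V),
      ∀ h : H, h ≠ 1 → ∀ v : V, ψ h v = v → v = 1 := by
  have huni := uniform_centralizer H O hTI hOcop
  have hnt : ∃ h ∈ H, ∃ x ∈ O, x * h ≠ h * x := by
    obtain ⟨g, hg⟩ : ∃ g : G, g ∉ Subgroup.normalizer (H : Set G) := by
      by_contra hcon
      apply hnn
      rw [← Subgroup.normalizer_eq_top_iff, eq_top_iff]
      intro g _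
      by_contra hg
      exact hcon ⟨g, hg⟩
    have hgtop : g ∈ O ⊔ Subgroup.normalizer (H : Set G) := by rw [htop]; exact mem_top g
    have hg' : g ∈ ((O ⊔ Subgroup.normalizer (H : Set G) : Subgroup G) : Set G) := hgtop
    rw [Subgroup.normal_mul] at hg'
    obtain ⟨y, hy, u, hu, hyu⟩ := hg'
    have hyu' : y * u = g := hyu
    have hy : y ∈ O := hy
    have hu : u ∈ Subgroup.normalizer (H : Set G) := hu
    rw [← hyu'] at hg
    have hyN : y ∉ Subgroup.normalizer (H : Set G) := fun h => hg (Subgroup.mul_mem _ h hu)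
    by_contra hcon
    apply hyN
    rw [Subgroup.mem_normalizer_iff]
    intro h
    have key : ∀ k ∈ H, y * k * y⁻¹ = k := by
      intro k hk
      have : y * k = k * y := by
        by_contra hne
        exact hcon ⟨k, hk, y, hy, hne⟩
      rw [this]; group
    constructor
    · intro hh
      rw [key h hh]; exact hh
    · intro hh
      have h1 : y⁻¹ * (y * h * y⁻¹) * y = y * h * y⁻¹ := by
        have := key _ hh
        have h2 : y⁻¹ * (y * h * y⁻¹) * y = y⁻¹ * (y * (y * h * y⁻¹) * y⁻¹) * y := by rw [this]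
        rw [h2]; group
      have h3 : h = y⁻¹ * (y * h * y⁻¹) * y := by group
      rw [h3, h1]; exact hh
  exact exists_fpf_action H O hOcop hOs huni hnt

/-- part (3) -/
theorem solvable_iff (H : Subgroup G)
    (hTI : Cfsg.IsTISubset (H : Set G)) (hnn : ¬ H.Normal)
    (hHall : (Nat.card H).Coprime (H.subgroupOf (Subgroup.normalizer (H : Set G))).index)
    (O : Subgroup G) [hOn : O.Normal] (hOcop : (Nat.card O).Coprime (Nat.card H))
    (hOmax : ∀ K : Subgroup G, K.Normal → (Nat.card K).Coprime (Nat.card H) → K ≤ O)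
    (htop : O ⊔ Subgroup.normalizer (H : Set G) = ⊤) (hOHn : (O ⊔ H).Normal) :
    (Group.IsSolvable G ↔ Group.IsSolvable O ∧
      ∀ K : Subgroup G, K ≤ H → ¬ Nonempty (K ≃* Matrix.SpecialLinearGroup (Fin 2) (ZMod 5))) := by
  classical
  constructor
  · intro hG
    refine ⟨Group.isSolvable_of_isSolvable_injective O.subtype_injective, ?_⟩
    rintro K hK ⟨e⟩
    apply Cfsg.Agent.Helper4.TIHall.not_isSolvable_sl25
    have hKs : Group.IsSolvable K := Group.isSolvable_of_isSolvable_injective K.subtype_injective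
    exact Group.isSolvable_of_isSolvable_injective (f := e.symm.toMonoidHom) e.symm.injective
  · rintro ⟨hOs, hno⟩
    obtain ⟨V, iV, iVf, iVn, ψ, hfpf⟩ :=
      exists_action_and_complement H hTI hnn hHall O hOcop htop hOs
    have hH : H ≠ ⊥ := by
      intro h
      apply hnn
      rw [h]
      infer_instance
    haveI : Nontrivial H := (Subgroup.nontrivial_iff_ne_bot H).mpr hH
    -- `H` is a Frobenius complement
    have hFC : ∃ (L : Type) (_ : Group L) (_ : Finite L) (H' : Subgroup L),
        Cfsg.IsFrobeniusComplement H' ∧ Nonempty (H ≃* H') := by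
      letI : MulDistribMulAction H V := MulDistribMulAction.compHom V ψ
      exact Cfsg.Agent.Helper6.exists_frobenius_of_fpf_mul' (S := H) (V := V) hfpf
    -- `H` is solvable
    have hHs : Group.IsSolvable H := by
      by_contra hns
      obtain ⟨G₀, -, -, S, M, -, -, -, ⟨e⟩, -, -⟩ := Cfsg.Agent.S3359.result hns hFC
      apply hno (S.map H.subtype) (Subgroup.map_subtype_le S)
      exact ⟨(S.equivMapOfInjective H.subtype H.subtype_injective).symm.trans e⟩
    -- Sylow subgroups of `H`
    have hsyl : ∀ (p : ℕ) [Fact p.Prime] (P : Sylow p H),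
        IsCyclic P ∨ ∃ n : ℕ, Nonempty (P ≃* QuaternionGroup (2 ^ n)) := by
      intro p _ P
      rcases Cfsg.Agent.Helper24.SolvTrans.fpf_cyclic_or_quaternion ψ p (P : Subgroup H)
        P.isPGroup' (fun a _ ha v hv => hfpf a ha v hv) with h | ⟨-, h⟩
      · exact Or.inl h
      · exact Or.inr h
    -- a complement `Q` of `H` in its normaliser
    obtain ⟨Q, hQN, hQcard, hQH, hHQ⟩ := Cfsg.Agent.Helper9.exists_relative_complement H
      (Subgroup.normalizer (H : Set G)) Subgroup.le_normalizer le_rfl hHall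
    have hQcop : (Nat.card Q).Coprime (Nat.card H) := by
      rw [hQcard]; exact hHall.symm
    have hC : Group.IsSolvable ↥(Q ⊓ Subgroup.centralizer (H : Set G)) := by
      have hle : Q ⊓ Subgroup.centralizer (H : Set G) ≤ O := by
        apply Cfsg.Agent.Helper25.TIHallC.centralizer_coprime_le H O hHall hOmax hOcop htop _
          inf_le_right
        exact Nat.Coprime.coprime_dvd_left (Subgroup.card_dvd_of_le inf_le_left) hQcop
      exact Cfsg.Agent.Helper4.TIHall.solvable_of_le hle hOs
    have hQs : Group.IsSolvable Q :=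
      Cfsg.Agent.Helper4.TIHall.isSolvable_of_coprime_normalizing H Q hQN hQcop hHs hsyl hC
    -- assemble
    have hOH : Group.IsSolvable ↥(O ⊔ H) :=
      Cfsg.Agent.Helper7.isSolvable_sup_of_le_normalizer hOs hHs
        (by rw [Subgroup.normalizer_eq_top]; exact le_top)
    have hall : Group.IsSolvable ↥((O ⊔ H) ⊔ Q) :=
      Cfsg.Agent.Helper7.isSolvable_sup_of_le_normalizer hOH hQs
        (by rw [Subgroup.normalizer_eq_top]; exact le_top)
    have heq : (O ⊔ H) ⊔ Q = ⊤ := by
      rw [sup_assoc, hHQ, htop]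
    rw [heq] at hall
    exact Group.isSolvable_of_isSolvable_injective (f := (Subgroup.topEquiv (G := G)).symm.toMonoidHom)
      Subgroup.topEquiv.symm.injective

end Cfsg.Agent.Helper13.TIHall
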