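import Mathlib
import Cfsg.Agent.Helper13.TIHallMain
import Cfsg.Agent.Lead.ZGroupCoprime
import Cfsg.Agent.Lead.CoprimeSylow
import Cfsg.Agent.Helper24.SolvTransB

/-! S4151 pieces: the generalised (FC') step, a non-centralised invariant Sylow subgroup for a
coprime action, and: a TI subgroup acting coprimely and nontrivially on `O` with uniform
fixed points has all Sylow subgroups cyclic or generalised quaternion. -/

set_option autoImplicit false
set_option linter.unusedSectionVars false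
set_option linter.style.haveILetI false
set_option linter.unusedVariables false

namespace Cfsg.Agent.Helper13.TIHall

open Subgroup
open scoped commutatorElement Pointwise

universe u

variable {G : Type u} [Group G]

/-- (FC') a group acting coprimely on a solvable subgroup it normalises with uniform fixed points acts
fixed-point-freely on a nontrivial section -/
theorem exists_fpf_action' [Finite G] (H O : Subgroup G)
    (hHO : H ≤ Subgroup.normalizer (O : Set G))
    (hcop : (Nat.card O).Coprime (Nat.card H)) (hOsolv : Group.IsSolvable O)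
    (huni : ∀ h ∈ H, h ≠ 1 → ∀ x ∈ O, x * h = h * x → ∀ h' ∈ H, x * h' = h' * x)
    (hnt : ∃ h ∈ H, ∃ x ∈ O, x * h ≠ h * x) :
    ∃ (V : Type u) (_ : Group V) (_ : Finite V) (_ : Nontrivial V) (ψ : H →* MulAut V),
      ∀ h : H, h ≠ 1 → ∀ v : V, ψ h v = v → v = 1 := by
  classical
  -- a minimal `H`-invariant subgroup of `O` not centralised by `H`
  let 𝒰 : Set (Subgroup G) := {U | U ≤ O ∧ H ≤ Subgroup.normalizer (U : Set G) ∧
    ¬ U ≤ Subgroup.centralizer (H : Set G)}
  have hO𝒰 : O ∈ 𝒰 := by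
    refine ⟨le_rfl, ?_, ?_⟩
    · exact hHO
    · intro hle
      obtain ⟨h, hh, x, hx, hne⟩ := hnt
      exact hne ((Subgroup.mem_centralizer_iff.mp (hle hx) h hh).symm)
  obtain ⟨U, hU𝒰, hUmin⟩ : ∃ U ∈ 𝒰, ∀ U' ∈ 𝒰, U' ≤ U → U' = U := by
    have hfin : 𝒰.Finite := Set.toFinite _
    obtain ⟨U, hU, hmin⟩ := hfin.exists_minimal ⟨O, hO𝒰⟩
    exact ⟨U, hU, fun U' hU' hle => le_antisymm hle (hmin hU' hle)⟩
  obtain ⟨hUO, hHU, hUC⟩ := hU𝒰
  set C : Subgroup G := Subgroup.centralizer (H : Set G) with hC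
  set D : Subgroup G := U ⊓ C with hD
  have hDU : D ≤ U := inf_le_left
  have hHC : H ≤ Subgroup.normalizer (C : Set G) := by
    intro h hh
    rw [Subgroup.mem_normalizer_iff]
    intro c
    constructor
    · intro hc
      rw [hC, Subgroup.mem_centralizer_iff] at hc ⊢
      intro k hk
      have h1 := hc (h⁻¹ * k * h) (H.mul_mem (H.mul_mem (H.inv_mem hh) hk) hh)
      calc k * (h * c * h⁻¹) = h * ((h⁻¹ * k * h) * c) * h⁻¹ := by group
        _ = h * (c * (h⁻¹ * k * h)) * h⁻¹ := by rw [h1]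
        _ = h * c * h⁻¹ * k := by group
    · intro hc
      rw [hC, Subgroup.mem_centralizer_iff] at hc ⊢
      intro k hk
      have h1 := hc (h * k * h⁻¹) (H.mul_mem (H.mul_mem hh hk) (H.inv_mem hh))
      calc k * c = h⁻¹ * ((h * k * h⁻¹) * (h * c * h⁻¹)) * h := by group
        _ = h⁻¹ * ((h * c * h⁻¹) * (h * k * h⁻¹)) * h := by rw [h1]
        _ = c * k := by group
  have hHD : H ≤ Subgroup.normalizer (D : Set G) := by
    intro h hh
    rw [Subgroup.mem_normalizer_iff]
    intro d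
    rw [hD, Subgroup.mem_inf, Subgroup.mem_inf,
      ← Subgroup.mem_normalizer_iff.mp (hHU hh) d, ← Subgroup.mem_normalizer_iff.mp (hHC hh) d]
  -- `U` is solvable and nontrivial, so `U' < U`, hence `U' ≤ D`
  have hUsolv : Group.IsSolvable U :=
    Group.isSolvable_of_isSolvable_injective (Subgroup.inclusion_injective hUO)
  have hU1 : U ≠ ⊥ := by
    intro h
    apply hUC
    rw [h]
    exact bot_le
  have hU'lt : ⁅U, U⁆ < U := by
    refine lt_of_le_of_ne (Subgroup.commutator_le_self U) ?_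
    intro heq
    haveI : Nontrivial U := (Subgroup.nontrivial_iff_ne_bot U).mpr hU1
    have h1 := Group.IsSolvable.commutator_lt_top_of_nontrivial U
    have h2 : (commutator U).map U.subtype = U := by rw [Subgroup.map_subtype_commutator, heq]
    have h3 : commutator U = ⊤ := by
      apply Subgroup.map_injective U.subtype_injective
      rw [h2, ← MonoidHom.range_eq_map, Subgroup.range_subtype]
    exact (ne_of_lt h1) h3
  have hU'H : H ≤ Subgroup.normalizer ((⁅U, U⁆ : Subgroup G) : Set G) := by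
    intro h hh
    apply mem_normalizer_of_map_eq
    rw [Subgroup.map_commutator, map_conj_eq_of_mem_normalizer U h (hHU hh)]
  have hU'C : ⁅U, U⁆ ≤ C := by
    by_contra hcon
    have hmem : ⁅U, U⁆ ∈ 𝒰 := ⟨(Subgroup.commutator_le_self U).trans hUO, hU'H, hcon⟩
    exact (ne_of_lt hU'lt) (hUmin _ hmem (le_of_lt hU'lt))
  have hU'D : ⁅U, U⁆ ≤ D := le_inf (Subgroup.commutator_le_self U) hU'C
  haveI hDn : (D.subgroupOf U).Normal := by
    constructor
    intro d hd u
    have hd' : (d : G) ∈ D := hd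
    show ((u * d * u⁻¹ : U) : G) ∈ D
    have h1 : ((u * d * u⁻¹ : U) : G) = ⁅(u : G), (d : G)⁆ * d := by
      rw [commutatorElement_def]
      simp only [Subgroup.coe_mul, Subgroup.coe_inv]
      group
    rw [h1]
    exact D.mul_mem (hU'D (Subgroup.commutator_mem_commutator u.2 d.2)) hd'
  obtain ⟨ψ, hψ⟩ := exists_section_action H U D hDU hHU hHD
  have hnt' : Nontrivial (U ⧸ D.subgroupOf U) := by
    obtain ⟨u, huU, huC⟩ := SetLike.not_le_iff_exists.mp hUC
    refine ⟨⟨QuotientGroup.mk ⟨u, huU⟩, 1, ?_⟩⟩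
    intro h
    rw [QuotientGroup.eq_one_iff] at h
    have : u ∈ D := h
    exact huC this.2
  refine ⟨U ⧸ D.subgroupOf U, inferInstance, inferInstance, hnt', ψ, ?_⟩
  intro h h1 v hv
  obtain ⟨u, rfl⟩ := QuotientGroup.mk_surjective v
  rw [QuotientGroup.eq_one_iff]
  show (u : G) ∈ D
  have hh1 : (h : G) ≠ 1 := fun hh => h1 (Subtype.ext hh)
  -- all powers of `h` fix the coset
  have hpow : ∀ a ∈ Subgroup.zpowers (h : G), a * u * a⁻¹ * (u : G)⁻¹ ∈ D := by
    intro a ha
    obtain ⟨k, rfl⟩ := Subgroup.mem_zpowers_iff.mp ha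
    have h2 : ψ (h ^ k) (QuotientGroup.mk u) = QuotientGroup.mk u := by
      rw [map_zpow]
      have : ∀ n : ℕ, ((ψ h) ^ n) (QuotientGroup.mk u) = QuotientGroup.mk u := by
        intro n
        induction n with
        | zero => simp
        | succ n ih => rw [pow_succ', MulAut.mul_apply, ih, hv]
      rcases Int.eq_nat_or_neg k with ⟨n, rfl | rfl⟩
      · rw [zpow_natCast]; exact this n
      · rw [zpow_neg, zpow_natCast]
        have := this n
        rw [MulAut.inv_apply, MulEquiv.symm_apply_eq]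
        exact this.symm
    rw [hψ] at h2
    have h3 : (QuotientGroup.mk (⟨((h ^ k : H) : G) * u * ((h ^ k : H) : G)⁻¹,
        (Subgroup.mem_normalizer_iff.mp (hHU (h ^ k).2) u).mp u.2⟩ * u⁻¹ : U) :
        U ⧸ D.subgroupOf U) = 1 := by
      rw [QuotientGroup.mk_mul, QuotientGroup.mk_inv, h2, mul_inv_cancel]
    rw [QuotientGroup.eq_one_iff] at h3
    have h4 : ((h ^ k : H) : G) * u * ((h ^ k : H) : G)⁻¹ * (u : G)⁻¹ ∈ D := h3
    simpa using h4
  have hcop' : (Nat.card (Subgroup.zpowers (h : G))).Coprime (Nat.card U) := by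
    have h1 : Nat.card (Subgroup.zpowers (h : G)) ∣ Nat.card H :=
      Subgroup.card_dvd_of_le (Subgroup.zpowers_le.mpr h.2)
    have h2 : Nat.card U ∣ Nat.card O := Subgroup.card_dvd_of_le hUO
    exact Nat.Coprime.coprime_dvd_left h1 (Nat.Coprime.coprime_dvd_right h2 hcop.symm)
  have hzU : Subgroup.zpowers (h : G) ≤ Subgroup.normalizer (U : Set G) :=
    Subgroup.zpowers_le.mpr (hHU h.2)
  have hzD : Subgroup.zpowers (h : G) ≤ Subgroup.normalizer (D : Set G) :=
    Subgroup.zpowers_le.mpr (hHD h.2)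
  have hUD : U ≤ Subgroup.normalizer (D : Set G) := by
    intro x hx
    rw [Subgroup.mem_normalizer_iff]
    intro d
    constructor
    · intro hd
      have := hDn.conj_mem ⟨d, hDU hd⟩ hd ⟨x, hx⟩
      exact this
    · intro hd
      have := hDn.conj_mem ⟨x * d * x⁻¹, hDU hd⟩ hd ⟨x, hx⟩⁻¹
      have h5 : (((⟨x, hx⟩ : U)⁻¹ * ⟨x * d * x⁻¹, hDU hd⟩ * (⟨x, hx⟩ : U)⁻¹⁻¹ : U) : G) = d := by
        simp only [Subgroup.coe_mul, Subgroup.coe_inv]
        group
      have h6 : (((⟨x, hx⟩ : U)⁻¹ * ⟨x * d * x⁻¹, hDU hd⟩ * (⟨x, hx⟩ : U)⁻¹⁻¹ : U) : G) ∈ D := this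
      rwa [h5] at h6
  obtain ⟨c, hc, hcu⟩ := Cfsg.Agent.Lead.coprime_fixed_points_quotient
    (Subgroup.zpowers (h : G)) U hzU hcop' (Or.inr hUsolv) D hDU hUD hzD (u : G) u.2 hpow
  have hcU : c ∈ U := hc.1
  have hch : c * (h : G) = (h : G) * c :=
    (Subgroup.mem_centralizer_iff.mp hc.2 (h : G) (Subgroup.mem_zpowers _)).symm
  have hcC : c ∈ C := by
    rw [hC, Subgroup.mem_centralizer_iff]
    intro k hk
    exact (huni (h : G) h.2 hh1 c (hUO hcU) hch k hk).symm
  have hcD : c ∈ D := ⟨hcU, hcC⟩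
  have : (u : G) = c * ((u : G)⁻¹ * c)⁻¹ := by group
  rw [this]
  exact D.mul_mem hcD (D.inv_mem hcu)


/-- coprime action of a solvable group `A` on `K`: if `A` does not centralise `K`, it does not
centralise some `A`-invariant Sylow subgroup of `K` -/
theorem exists_sylow_not_centralized [Finite G] (A K : Subgroup G)
    (hAK : A ≤ Subgroup.normalizer (K : Set G))
    (hcop : (Nat.card A).Coprime (Nat.card K)) (hA : Group.IsSolvable A)
    (hnt : ∃ a ∈ A, ∃ x ∈ K, x * a ≠ a * x) :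
    ∃ (r : ℕ) (_ : Fact r.Prime) (R : Subgroup G), R ≤ K ∧ IsPGroup r R ∧
      A ≤ Subgroup.normalizer (R : Set G) ∧ ∃ a ∈ A, ∃ x ∈ R, x * a ≠ a * x := by
  classical
  by_contra hcon
  have hex : ∀ r : ℕ, ∃ R : Subgroup G, r.Prime →
      (R ≤ K ∧ IsPGroup r R ∧ A ≤ Subgroup.normalizer (R : Set G) ∧
        r ^ (Nat.card K).factorization r ∣ Nat.card R) := by
    intro r
    by_cases hr : r.Prime
    · haveI : Fact r.Prime := ⟨hr⟩
      obtain ⟨P, hP⟩ := Cfsg.Agent.Lead.coprime_exists_invariant_sylow A K hAK hcop (Or.inl hA) r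
      refine ⟨(P : Subgroup K).map K.subtype,
        fun _ => ⟨Subgroup.map_subtype_le _, ?_, hP, ?_⟩⟩
      · exact P.isPGroup'.map _
      · have e : ↥(P : Subgroup K) ≃* ↥((P : Subgroup K).map K.subtype) :=
          Subgroup.equivMapOfInjective _ _ K.subtype_injective
        rw [← Nat.card_congr e.toEquiv, Sylow.card_eq_multiplicity]
    · exact ⟨⊥, fun h => absurd h hr⟩
  choose Rf hRf using hex
  set J : Subgroup G := ⨆ r ∈ (Nat.card K).primeFactors, Rf r with hJ
  have hJK : J ≤ K := iSup₂_le fun r hr => (hRf r (Nat.prime_of_mem_primeFactors hr)).1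
  have hcardK : Nat.card K ≠ 0 := Nat.card_pos.ne'
  have hcardJ : Nat.card J ≠ 0 := Nat.card_pos.ne'
  have hdvd : Nat.card K ∣ Nat.card J := by
    rw [← Nat.factorization_prime_le_iff_dvd hcardK hcardJ]
    intro r hr
    by_cases hrK : r ∣ Nat.card K
    · have hmem : r ∈ (Nat.card K).primeFactors := Nat.mem_primeFactors.mpr ⟨hr, hrK, hcardK⟩
      have h1 : Rf r ≤ J := by
        rw [hJ]
        exact le_iSup₂_of_le r hmem le_rfl
      have h2 : r ^ (Nat.card K).factorization r ∣ Nat.card J :=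
        (hRf r hr).2.2.2.trans (Subgroup.card_dvd_of_le h1)
      exact (hr.pow_dvd_iff_le_factorization hcardJ).mp h2
    · rw [Nat.factorization_eq_zero_of_not_dvd hrK]
      exact Nat.zero_le _
  have hJeq : J = K := Subgroup.eq_of_le_of_card_ge hJK (Nat.le_of_dvd Nat.card_pos hdvd)
  have hcent : ∀ r ∈ (Nat.card K).primeFactors, Rf r ≤ Subgroup.centralizer (A : Set G) := by
    intro r hr x hx
    have hrp := Nat.prime_of_mem_primeFactors hr
    rw [Subgroup.mem_centralizer_iff]
    intro a ha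
    by_contra hne
    exact hcon ⟨r, ⟨hrp⟩, Rf r, (hRf r hrp).1, (hRf r hrp).2.1, (hRf r hrp).2.2.1, a, ha, x, hx,
      fun h => hne h.symm⟩
  have hJC : J ≤ Subgroup.centralizer (A : Set G) := iSup₂_le hcent
  obtain ⟨a, ha, x, hx, hne⟩ := hnt
  rw [← hJeq] at hx
  exact hne ((Subgroup.mem_centralizer_iff.mp (hJC hx) a ha).symm)

/-- the Sylow subgroups of a group acting coprimely, nontrivially and with uniform fixed points
are cyclic or generalised quaternion -/
theorem sylow_cyclic_or_quaternion [Finite G] (H O : Subgroup G)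
    (hHO : H ≤ Subgroup.normalizer (O : Set G))
    (hcop : (Nat.card O).Coprime (Nat.card H))
    (huni : ∀ h ∈ H, h ≠ 1 → ∀ x ∈ O, x * h = h * x → ∀ h' ∈ H, x * h' = h' * x)
    (hnt : ∃ h ∈ H, ∃ x ∈ O, x * h ≠ h * x)
    (p : ℕ) [Fact p.Prime] (P : Sylow p H) :
    IsCyclic (P : Subgroup H) ∨
      (p = 2 ∧ ∃ n : ℕ, Nonempty ((P : Subgroup H) ≃* QuaternionGroup (2 ^ n))) := by
  classical
  by_cases hP1 : (P : Subgroup H) = ⊥
  · left
    haveI : Subsingleton (P : Subgroup H) := by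
      rw [hP1]; infer_instance
    infer_instance
  set A : Subgroup G := (P : Subgroup H).map H.subtype with hA
  have hAH : A ≤ H := Subgroup.map_subtype_le _
  let e : ↥(P : Subgroup H) ≃* ↥A := Subgroup.equivMapOfInjective _ _ H.subtype_injective
  have hAp : IsPGroup p A := P.isPGroup'.map _
  have hAsolv : Group.IsSolvable A := by
    haveI : Group.IsNilpotent A := hAp.isNilpotent
    infer_instance
  have hAO : A ≤ Subgroup.normalizer (O : Set G) := hAH.trans hHO
  have hcopA : (Nat.card A).Coprime (Nat.card O) :=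
    (hcop.coprime_dvd_right (Subgroup.card_dvd_of_le hAH)).symm
  have hntA : ∃ a ∈ A, ∃ x ∈ O, x * a ≠ a * x := by
    obtain ⟨a, haA, ha1⟩ : ∃ a ∈ A, a ≠ 1 := by
      obtain ⟨y, hy1⟩ := (Subgroup.ne_bot_iff_exists_ne_one.mp hP1)
      exact ⟨e y, (e y).2, fun h => hy1 (by
        have : e y = 1 := Subtype.ext h
        rw [MulEquiv.map_eq_one_iff] at this
        exact this)⟩
    by_contra hcon
    obtain ⟨h, hh, x, hx, hne⟩ := hnt
    apply hne
    apply huni a (hAH haA) ha1 x hx _ h hh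
    by_contra hne'
    exact hcon ⟨a, haA, x, hx, hne'⟩
  obtain ⟨r, hr, R, hRO, hRp, hAR, hntR⟩ :=
    exists_sylow_not_centralized A O hAO hcopA hAsolv hntA
  haveI := hr
  have hRsolv : Group.IsSolvable R := by
    haveI : Group.IsNilpotent R := hRp.isNilpotent
    infer_instance
  have hcopR : (Nat.card R).Coprime (Nat.card A) :=
    (hcopA.coprime_dvd_right (Subgroup.card_dvd_of_le hRO)).symm
  have huniR : ∀ h ∈ A, h ≠ 1 → ∀ x ∈ R, x * h = h * x → ∀ h' ∈ A, x * h' = h' * x :=
    fun h hh h1 x hx hxh h' hh' => huni h (hAH hh) h1 x (hRO hx) hxh h' (hAH hh')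
  obtain ⟨V, iV, iF, iN, ψ, hψ⟩ := exists_fpf_action' A R hAR hcopR hRsolv huniR hntR
  rcases Cfsg.Agent.Helper24.SolvTrans.fpf_cyclic_or_quaternion ψ p (⊤ : Subgroup A)
    (hAp.to_subgroup ⊤) (fun a _ ha v hv => hψ a ha v hv) with h | ⟨h2, n, ⟨f⟩⟩
  · left
    have : IsCyclic A := isCyclic_of_surjective Subgroup.topEquiv Subgroup.topEquiv.surjective
    exact isCyclic_of_surjective e.symm e.symm.surjective
  · right
    exact ⟨h2, n, ⟨(e.trans Subgroup.topEquiv.symm).trans f⟩⟩

/-- generalised quaternion groups of order at least `8` are not commutative -/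
theorem quaternion_not_comm (n : ℕ) :
    ¬ ∀ a b : QuaternionGroup (2 ^ (n + 1)), a * b = b * a := by
  intro h
  have h1 := h (QuaternionGroup.a 1) (QuaternionGroup.xa 0)
  rw [QuaternionGroup.a_mul_xa, QuaternionGroup.xa_mul_a] at h1
  have h2 : (0 - 1 : ZMod (2 * 2 ^ (n + 1))) = 0 + 1 := QuaternionGroup.xa.inj h1
  have h3 : ((2 : ℕ) : ZMod (2 * 2 ^ (n + 1))) = 0 := by
    have : (1 : ZMod (2 * 2 ^ (n + 1))) + 1 = 0 := by
      calc (1 : ZMod (2 * 2 ^ (n + 1))) + 1 = (0 + 1) - (0 - 1) := by ring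
        _ = 0 := by rw [h2]; ring
    rw [← this]; norm_num
  rw [ZMod.natCast_eq_zero_iff] at h3
  have h4 : 2 * 2 ^ (n + 1) ≤ 2 := Nat.le_of_dvd (by norm_num) h3
  have h5 : 2 ^ (n + 1) ≥ 2 := by
    calc 2 ^ (n + 1) = 2 ^ n * 2 := pow_succ 2 n
      _ ≥ 1 * 2 := Nat.mul_le_mul_right 2 Nat.one_le_two_pow
      _ = 2 := by norm_num
  omega

/-- with abelian Sylow `2`-subgroups, `H` is a Z-group -/
theorem isZGroup_of_uniform [Finite G] (H O : Subgroup G)
    (hHO : H ≤ Subgroup.normalizer (O : Set G))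
    (hcop : (Nat.card O).Coprime (Nat.card H))
    (huni : ∀ h ∈ H, h ≠ 1 → ∀ x ∈ O, x * h = h * x → ∀ h' ∈ H, x * h' = h' * x)
    (hnt : ∃ h ∈ H, ∃ x ∈ O, x * h ≠ h * x)
    (h2 : ∀ P : Sylow 2 H, IsMulCommutative (P : Subgroup H)) : IsZGroup H := by
  constructor
  intro p hp P
  haveI : Fact p.Prime := ⟨hp⟩
  rcases sylow_cyclic_or_quaternion H O hHO hcop huni hnt p P with h | ⟨rfl, n, ⟨f⟩⟩
  · exact h
  · rcases n with _ | n
    · haveI := QuaternionGroup.quaternionGroup_one_isCyclic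
      have f' : (P : Subgroup H) ≃* QuaternionGroup 1 := by simpa using f
      exact isCyclic_of_surjective f'.symm f'.symm.surjective
    · exfalso
      apply quaternion_not_comm n
      intro a b
      have := (h2 P).is_comm.comm (f.symm a) (f.symm b)
      have h3 : f (f.symm a * f.symm b) = f (f.symm b * f.symm a) := by rw [this]
      simpa using h3

/-- `O` is not centralised by `H` when `H` is not normal and `G = O N_G(H)` -/
theorem exists_not_commute [Finite G] (H O : Subgroup G) [O.Normal] (hnn : ¬ H.Normal)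
    (htop : O ⊔ Subgroup.normalizer (H : Set G) = ⊤) : ∃ h ∈ H, ∃ x ∈ O, x * h ≠ h * x := by
  obtain ⟨g, hg⟩ : ∃ g : G, g ∉ Subgroup.normalizer (H : Set G) := by
    by_contra hcon
    apply hnn
    rw [← Subgroup.normalizer_eq_top_iff, eq_top_iff]
    intro g _
    by_contra hg
    exact hcon ⟨g, hg⟩
  have hgtop : g ∈ O ⊔ Subgroup.normalizer (H : Set G) := by rw [htop]; exact mem_top g
  have hg' : g ∈ ((O ⊔ Subgroup.normalizer (H : Set G) : Subgroup G) : Set G) := hgtop
  rw [Subgroup.normal_mul] at hg'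
  obtain ⟨y, hy, u, hu, hyu⟩ := hg'
  have hyu' : y * u = g := hyu
  have hy : y ∈ O := hy
  have hu : u ∈ Subgroup.normalizer (H : Set G) := hu
  rw [← hyu'] at hg
  have hyN : y ∉ Subgroup.normalizer (H : Set G) := fun h => hg (Subgroup.mul_mem _ h hu)
  by_contra hcon
  apply hyN
  rw [Subgroup.mem_normalizer_iff]
  intro h
  have key : ∀ k ∈ H, y * k * y⁻¹ = k := by
    intro k hk
    have : y * k = k * y := by
      by_contra hne
      exact hcon ⟨k, hk, y, hy, hne⟩
    rw [this]; group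
  constructor
  · intro hh
    rw [key h hh]; exact hh
  · intro hh
    have h1 : y⁻¹ * (y * h * y⁻¹) * y = y * h * y⁻¹ := by
      have := key _ hh
      have h2 : y⁻¹ * (y * h * y⁻¹) * y = y⁻¹ * (y * (y * h * y⁻¹) * y⁻¹) * y := by rw [this]
      rw [h2]; group
    have h3 : h = y⁻¹ * (y * h * y⁻¹) * y := by group
    rw [h3, h1]; exact hh

/-- the order of a complement of `H` in its normaliser -/
theorem card_complement_eq [Finite G] (H Q : Subgroup G)
    (hQ : Q ≤ Subgroup.normalizer (H : Set G)) (hQH : Q ⊓ H = ⊥)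
    (hQH' : Q ⊔ H = Subgroup.normalizer (H : Set G)) :
    Nat.card Q = (H.subgroupOf (Subgroup.normalizer (H : Set G))).index := by
  set N : Subgroup G := Subgroup.normalizer (H : Set G) with hN
  have hHN : H ≤ N := Subgroup.le_normalizer
  haveI : (H.subgroupOf N).Normal := Subgroup.normal_in_normalizer
  have h1 : Disjoint (Q.subgroupOf N) (H.subgroupOf N) := by
    rw [Subgroup.disjoint_def]
    intro x hxQ hxH
    have : (x : G) ∈ Q ⊓ H := ⟨hxQ, hxH⟩
    rw [hQH, Subgroup.mem_bot] at this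
    exact Subtype.ext this
  have h2 : ((Q.subgroupOf N : Subgroup N) : Set N) * ((H.subgroupOf N : Subgroup N) : Set N) =
      Set.univ := by
    rw [← Subgroup.mul_normal, ← Subgroup.subgroupOf_sup hQ hHN, hQH', Subgroup.subgroupOf_self]
    rfl
  have h3 := (Subgroup.isComplement'_of_disjoint_and_mul_eq_univ h1 h2).index_eq_card
  rw [h3]
  exact (Nat.card_congr (Subgroup.subgroupOfEquivOfLe hQ).toEquiv).symm

/-- normalising from `map (conj s) N ≤ N` for all `s ∈ S` -/
theorem le_normalizer_of_map_le (S N : Subgroup G)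
    (h : ∀ s ∈ S, N.map (MulAut.conj s).toMonoidHom ≤ N) :
    S ≤ Subgroup.normalizer (N : Set G) := by
  intro s hs
  rw [Subgroup.mem_normalizer_iff]
  intro n
  constructor
  · intro hn
    exact h s hs ⟨n, hn, rfl⟩
  · intro hn
    have := h s⁻¹ (S.inv_mem hs) ⟨s * n * s⁻¹, hn, rfl⟩
    have h2 : (MulAut.conj s⁻¹).toMonoidHom (s * n * s⁻¹) = n := by
      show s⁻¹ * (s * n * s⁻¹) * s⁻¹⁻¹ = n
      group
    rwa [h2] at this

end Cfsg.Agent.Helper13.TIHall
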