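import Mathlib

set_option autoImplicit false

/-!
# Isomorphism of two finite subgroups from a common Cayley table

`tableIso`: two enumerations `e₁ : Fin N → G₁` (injective), `e₂ : Fin N → G₂` (with trivial kernel)
of subsets of groups that both realise the same "right multiplication by generators" step table
`stp` (connected through a spanning tree `par`, `gn`) enumerate isomorphic subgroups of order `N`.
-/

namespace Cfsg.Agent.Helper13.TableIso

section Monoid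

variable {G₁ G₂ : Type*} [Monoid G₁] [Monoid G₂]

/-- induction along the spanning tree -/
theorem tree_ind {N r : ℕ} [NeZero N]
    (stp : Fin N → Fin r → Fin N) (par : Fin N → Fin N) (gn : Fin N → Fin r)
    (htree : ∀ i : Fin N, i ≠ 0 → par i < i ∧ stp (par i) (gn i) = i)
    (P : Fin N → Prop) (h0 : P 0) (hs : ∀ i k, P i → P (stp i k)) : ∀ i, P i := by
  have : ∀ (n : ℕ) (j : Fin N), j.val = n → P j := by
    intro n
    induction n using Nat.strong_induction_on with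
    | _ n ih =>
      intro j hj
      by_cases hj0 : j = 0
      · subst hj0; exact h0
      · obtain ⟨hlt, hstp⟩ := htree j hj0
        rw [← hstp]
        exact hs _ _ (ih (par j).val (by rw [← hj]; exact hlt) (par j) rfl)
  exact fun i => this i.val i rfl

/-- joint closure of the two enumerations under multiplication -/
theorem joint_mul {N r : ℕ} [NeZero N]
    (stp : Fin N → Fin r → Fin N) (par : Fin N → Fin N) (gn : Fin N → Fin r)
    (htree : ∀ i : Fin N, i ≠ 0 → par i < i ∧ stp (par i) (gn i) = i)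
    (e₁ : Fin N → G₁) (g₁ : Fin r → G₁) (h10 : e₁ 0 = 1)
    (h1s : ∀ i k, e₁ (stp i k) = e₁ i * g₁ k)
    (e₂ : Fin N → G₂) (g₂ : Fin r → G₂) (h20 : e₂ 0 = 1)
    (h2s : ∀ i k, e₂ (stp i k) = e₂ i * g₂ k) :
    ∀ i j : Fin N, ∃ k : Fin N, e₁ i * e₁ j = e₁ k ∧ e₂ i * e₂ j = e₂ k := by
  intro i j
  revert i
  refine tree_ind stp par gn htree
    (fun j => ∀ i : Fin N, ∃ k : Fin N, e₁ i * e₁ j = e₁ k ∧ e₂ i * e₂ j = e₂ k) ?_ ?_ j
  · intro i
    exact ⟨i, by rw [h10, mul_one], by rw [h20, mul_one]⟩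
  · intro j k ih i
    obtain ⟨m, hm1, hm2⟩ := ih i
    refine ⟨stp m k, ?_, ?_⟩
    · rw [h1s, h1s, ← hm1, mul_assoc]
    · rw [h2s, h2s, ← hm2, mul_assoc]

end Monoid

section Group

variable {G₁ G₂ : Type*} [Group G₁]

/-- a finite subset of a finite group containing `1` and closed under products is a subgroup -/
def rangeSubgroup [Finite G₁] {N : ℕ} [NeZero N] (e₁ : Fin N → G₁) (h10 : e₁ 0 = 1)
    (hmul : ∀ i j, ∃ k, e₁ i * e₁ j = e₁ k) : Subgroup G₁ where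
  carrier := Set.range e₁
  one_mem' := ⟨0, h10⟩
  mul_mem' := by
    rintro _ _ ⟨i, rfl⟩ ⟨j, rfl⟩
    obtain ⟨k, hk⟩ := hmul i j
    exact ⟨k, hk.symm⟩
  inv_mem' := by
    rintro _ ⟨i, rfl⟩
    have hpow : ∀ n : ℕ, ∃ k, (e₁ i) ^ n = e₁ k := by
      intro n
      induction n with
      | zero => exact ⟨0, by rw [pow_zero, h10]⟩
      | succ n ih =>
        obtain ⟨k, hk⟩ := ih
        obtain ⟨k', hk'⟩ := hmul k i
        exact ⟨k', by rw [pow_succ, hk, hk']⟩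
    have hfin : IsOfFinOrder (e₁ i) := isOfFinOrder_of_finite _
    have hinv : (e₁ i)⁻¹ = (e₁ i) ^ (orderOf (e₁ i) - 1) := by
      have hpos : 0 < orderOf (e₁ i) := hfin.orderOf_pos
      apply inv_eq_of_mul_eq_one_right
      rw [← pow_succ', Nat.sub_add_cancel hpos, pow_orderOf_eq_one]
    obtain ⟨k, hk⟩ := hpow (orderOf (e₁ i) - 1)
    exact ⟨k, by rw [hinv, hk]⟩

/-- indices of inverses -/
theorem exists_inv_index [Finite G₁] {N : ℕ} [NeZero N] (e₁ : Fin N → G₁) (h10 : e₁ 0 = 1)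
    (hmul : ∀ i j, ∃ k, e₁ i * e₁ j = e₁ k) (i : Fin N) : ∃ j, e₁ j = (e₁ i)⁻¹ :=
  (rangeSubgroup e₁ h10 hmul).inv_mem ⟨i, rfl⟩

/-- a monoid-valued table accompanying a faithful group-valued table takes values in units -/
theorem exists_inverse [Finite G₁] [Monoid G₂] {N r : ℕ} [NeZero N]
    (stp : Fin N → Fin r → Fin N) (par : Fin N → Fin N) (gn : Fin N → Fin r)
    (htree : ∀ i : Fin N, i ≠ 0 → par i < i ∧ stp (par i) (gn i) = i)
    (e₁ : Fin N → G₁) (g₁ : Fin r → G₁) (h10 : e₁ 0 = 1)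
    (h1s : ∀ i k, e₁ (stp i k) = e₁ i * g₁ k) (h1i : Function.Injective e₁)
    (e₂ : Fin N → G₂) (g₂ : Fin r → G₂) (h20 : e₂ 0 = 1)
    (h2s : ∀ i k, e₂ (stp i k) = e₂ i * g₂ k) (i : Fin N) :
    ∃ j, e₂ i * e₂ j = 1 ∧ e₂ j * e₂ i = 1 := by
  have hjoint := joint_mul stp par gn htree e₁ g₁ h10 h1s e₂ g₂ h20 h2s
  obtain ⟨j, hj⟩ := exists_inv_index e₁ h10 (fun i j => (hjoint i j).imp fun _ h => h.1) i
  refine ⟨j, ?_, ?_⟩
  · obtain ⟨k, hk1, hk2⟩ := hjoint i j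
    rw [hj, mul_inv_cancel, ← h10] at hk1
    rw [hk2, ← h1i hk1, h20]
  · obtain ⟨k, hk1, hk2⟩ := hjoint j i
    rw [hj, inv_mul_cancel, ← h10] at hk1
    rw [hk2, ← h1i hk1, h20]

variable [Group G₂]

/-- **Table isomorphism**: two enumerations realising the same step table, the first injective and
the second with trivial kernel, enumerate isomorphic subgroups of order `N`. -/
theorem tableIso [Finite G₁] [Finite G₂] {N r : ℕ} [NeZero N]
    (stp : Fin N → Fin r → Fin N) (par : Fin N → Fin N) (gn : Fin N → Fin r)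
    (htree : ∀ i : Fin N, i ≠ 0 → par i < i ∧ stp (par i) (gn i) = i)
    (e₁ : Fin N → G₁) (g₁ : Fin r → G₁) (h10 : e₁ 0 = 1)
    (h1s : ∀ i k, e₁ (stp i k) = e₁ i * g₁ k) (h1i : Function.Injective e₁)
    (e₂ : Fin N → G₂) (g₂ : Fin r → G₂) (h20 : e₂ 0 = 1)
    (h2s : ∀ i k, e₂ (stp i k) = e₂ i * g₂ k) (h2k : ∀ k, e₂ k = 1 → k = 0) :
    ∃ (H₁ : Subgroup G₁) (H₂ : Subgroup G₂), Nat.card H₁ = N ∧ Nat.card H₂ = N ∧
      (∀ x, x ∈ H₁ ↔ ∃ i, e₁ i = x) ∧ (∀ x, x ∈ H₂ ↔ ∃ i, e₂ i = x) ∧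
      Nonempty (H₁ ≃* H₂) := by
  have hjoint := joint_mul stp par gn htree e₁ g₁ h10 h1s e₂ g₂ h20 h2s
  have hmul1 : ∀ i j, ∃ k, e₁ i * e₁ j = e₁ k := fun i j =>
    (hjoint i j).imp fun _ h => h.1
  have hmul2 : ∀ i j, ∃ k, e₂ i * e₂ j = e₂ k := fun i j =>
    (hjoint i j).imp fun _ h => h.2
  -- injectivity of `e₂`
  have h2i : Function.Injective e₂ := by
    intro i j hij
    obtain ⟨j', hj'⟩ := exists_inv_index e₁ h10 hmul1 j
    have h2j' : e₂ j * e₂ j' = 1 := by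
      obtain ⟨k, hk1, hk2⟩ := hjoint j j'
      rw [hj', mul_inv_cancel, ← h10] at hk1
      rw [hk2, ← h1i hk1, h20]
    obtain ⟨k, hk1, hk2⟩ := hjoint i j'
    rw [hij, h2j'] at hk2
    have hk0 := h2k k hk2.symm
    rw [hk0, h10, hj'] at hk1
    apply h1i
    exact mul_inv_eq_one.mp hk1
  let H₁ := rangeSubgroup e₁ h10 hmul1
  let H₂ := rangeSubgroup e₂ h20 hmul2
  let f₁ : Fin N ≃ H₁ := Equiv.ofBijective (fun i => ⟨e₁ i, ⟨i, rfl⟩⟩)
    ⟨fun i j h => h1i (congrArg Subtype.val h), fun ⟨_, ⟨i, hi⟩⟩ => ⟨i, Subtype.ext hi⟩⟩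
  let f₂ : Fin N ≃ H₂ := Equiv.ofBijective (fun i => ⟨e₂ i, ⟨i, rfl⟩⟩)
    ⟨fun i j h => h2i (congrArg Subtype.val h), fun ⟨_, ⟨i, hi⟩⟩ => ⟨i, Subtype.ext hi⟩⟩
  refine ⟨H₁, H₂, ?_, ?_, fun _ => Iff.rfl, fun _ => Iff.rfl, ⟨?_⟩⟩
  · rw [← Nat.card_congr f₁, Nat.card_fin]
  · rw [← Nat.card_congr f₂, Nat.card_fin]
  · refine { (f₁.symm.trans f₂) with map_mul' := ?_ }
    intro x y
    obtain ⟨i, rfl⟩ := f₁.surjective x
    obtain ⟨j, rfl⟩ := f₁.surjective y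
    obtain ⟨k, hk1, hk2⟩ := hjoint i j
    have hxy : f₁ i * f₁ j = f₁ k := Subtype.ext hk1
    change f₂ (f₁.symm (f₁ i * f₁ j)) = f₂ (f₁.symm (f₁ i)) * f₂ (f₁.symm (f₁ j))
    rw [hxy, Equiv.symm_apply_apply, Equiv.symm_apply_apply, Equiv.symm_apply_apply]
    exact Subtype.ext hk2.symm

end Group

end Cfsg.Agent.Helper13.TableIso
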