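import Mathlib

set_option autoImplicit false

/-! # S3797 piece HOMO: an abelian 2-group whose automorphism group is transitive on involutions
is homocyclic. -/

namespace Cfsg.Agent.Helper13.Th

/-- every element of `Multiplicative (ZMod n)` is killed by `n`. -/
theorem mzmod_pow_card (n : ℕ) (y : Multiplicative (ZMod n)) : y ^ n = 1 := by
  have : n • (Multiplicative.toAdd y) = 0 := by
    rw [nsmul_eq_mul]
    simp
  exact congrArg Multiplicative.ofAdd this

theorem mzmod_orderOf_one (n : ℕ) : orderOf (Multiplicative.ofAdd (1 : ZMod n)) = n := by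
  rw [orderOf_ofAdd_eq_addOrderOf, ZMod.addOrderOf_one]

theorem homocyclic_of_transitive {S : Type*} [Group S] [Finite S] (hS : IsPGroup 2 S)
    (hcomm : ∀ a b : S, a * b = b * a) (Y : Subgroup (MulAut S))
    (htr : ∀ x y : S, x ≠ 1 → x ^ 2 = 1 → y ≠ 1 → y ^ 2 = 1 → ∃ a ∈ Y, a x = y) :
    ∃ m r : ℕ, Nonempty (S ≃* (Fin r → Multiplicative (ZMod (2 ^ m)))) := by
  classical
  letI instC : CommGroup S := { ‹Group S› with mul_comm := hcomm }
  obtain ⟨ι, hι, n, hn1, ⟨e⟩⟩ := CommGroup.equiv_prod_multiplicative_zmod_of_finite S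
  -- the standard generators
  set g : ι → S := fun i => e.symm (Pi.mulSingle i (Multiplicative.ofAdd (1 : ZMod (n i)))) with hg
  have hordg : ∀ i, orderOf (g i) = n i := by
    intro i
    rw [hg]
    simp only
    rw [MulEquiv.orderOf_eq, orderOf_piMulSingle, mzmod_orderOf_one]
  -- each n i is a power of two
  have hpow : ∀ i, ∃ k, n i = 2 ^ k := by
    intro i
    obtain ⟨k, hk⟩ := hS (g i)
    have h1 : orderOf (g i) ∣ 2 ^ k := orderOf_dvd_of_pow_eq_one hk
    rw [hordg] at h1
    obtain ⟨j, -, hj⟩ := (Nat.dvd_prime_pow Nat.prime_two).mp h1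
    exact ⟨j, hj⟩
  by_cases hemp : IsEmpty ι
  · -- trivial group
    refine ⟨0, 0, ⟨?_⟩⟩
    haveI : Unique ((i : ι) → Multiplicative (ZMod (n i))) := Pi.uniqueOfIsEmpty _
    haveI : Unique (Fin 0 → Multiplicative (ZMod (2 ^ 0))) := Pi.uniqueOfIsEmpty _
    exact e.trans MulEquiv.ofUnique
  · rw [not_isEmpty_iff] at hemp
    obtain ⟨i0, -, hi0⟩ := Finset.exists_max_image Finset.univ n Finset.univ_nonempty
    obtain ⟨b, hb⟩ := hpow i0
    have hall : ∀ j, n j = 2 ^ b := by
      intro j
      by_contra hne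
      obtain ⟨a, ha⟩ := hpow j
      have hle : n j ≤ n i0 := hi0 j (Finset.mem_univ j)
      have hlt : n j < n i0 := by
        rw [hb] at hle ⊢
        exact lt_of_le_of_ne hle hne
      rw [ha, hb] at hlt
      have hab : a < b := (Nat.pow_lt_pow_iff_right (by norm_num)).mp hlt
      have ha1 : 1 ≤ a := by
        by_contra h0
        have : a = 0 := by omega
        have := hn1 j
        rw [ha, ‹a = 0›] at this
        norm_num at this
      have hb1 : 1 ≤ b := by omega
      -- the two involutions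
      set w : S := (g i0) ^ (2 ^ (b - 1)) with hw
      set z : S := (g j) ^ (2 ^ (a - 1)) with hz
      have hw1 : w ≠ 1 := by
        intro h
        have h1 : orderOf (g i0) ∣ 2 ^ (b - 1) := orderOf_dvd_of_pow_eq_one h
        rw [hordg, hb] at h1
        have := (Nat.pow_dvd_pow_iff_le_right (by norm_num : 1 < 2)).mp h1
        omega
      have hw2 : w ^ 2 = 1 := by
        rw [hw, ← pow_mul, ← pow_succ, show b - 1 + 1 = b by omega, ← hb, ← hordg]
        exact pow_orderOf_eq_one _
      have hz1 : z ≠ 1 := by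
        intro h
        have h1 : orderOf (g j) ∣ 2 ^ (a - 1) := orderOf_dvd_of_pow_eq_one h
        rw [hordg, ha] at h1
        have := (Nat.pow_dvd_pow_iff_le_right (by norm_num : 1 < 2)).mp h1
        omega
      have hz2 : z ^ 2 = 1 := by
        rw [hz, ← pow_mul, ← pow_succ, show a - 1 + 1 = a by omega, ← ha, ← hordg]
        exact pow_orderOf_eq_one _
      obtain ⟨α, -, hα⟩ := htr w z hw1 hw2 hz1 hz2
      -- z is a 2^(b-1)-th power
      have hzx : z = (α (g i0)) ^ (2 ^ (b - 1)) := by
        rw [← hα, hw, map_pow]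
      -- look at the component j
      have h1 : (e z) j = ((e (α (g i0))) j) ^ (2 ^ (b - 1)) := by
        rw [hzx, map_pow, Pi.pow_apply]
      have h2 : ((e (α (g i0))) j) ^ (2 ^ (b - 1)) = 1 := by
        have hdvd : n j ∣ 2 ^ (b - 1) := by
          rw [ha]
          exact pow_dvd_pow 2 (by omega)
        obtain ⟨c, hc⟩ := hdvd
        rw [hc, pow_mul, mzmod_pow_card, one_pow]
      have h3 : (e z) j = (Multiplicative.ofAdd (1 : ZMod (n j))) ^ (2 ^ (a - 1)) := by
        rw [hz, map_pow, Pi.pow_apply, hg]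
        simp
      rw [h1, h2] at h3
      have h4 : orderOf (Multiplicative.ofAdd (1 : ZMod (n j))) ∣ 2 ^ (a - 1) :=
        orderOf_dvd_of_pow_eq_one h3.symm
      rw [mzmod_orderOf_one, ha] at h4
      have := (Nat.pow_dvd_pow_iff_le_right (by norm_num : 1 < 2)).mp h4
      omega
    have hn : n = fun _ => 2 ^ b := funext hall
    subst hn
    exact ⟨b, Fintype.card ι, ⟨e.trans (MulEquiv.arrowCongr (Fintype.equivFin ι) (MulEquiv.refl _))⟩⟩

end Cfsg.Agent.Helper13.Th
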