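import Mathlib

set_option autoImplicit false

/-! # S3797 piece UPPER: Chevalley–Warning bound `|Qm : V| ≤ 4 ^ n`. -/

namespace Cfsg.Agent.Helper13.Th

open MvPolynomial

section quad

variable {k : ℕ}

/-- scalar multiples over `ZMod 2` for a function vanishing at `0`. -/
theorem zmod2_smul_apply {X : Type*} [AddCommGroup X] [Module (ZMod 2) X] (F : X → ZMod 2)
    (h0 : F 0 = 0) (c : ZMod 2) (v : X) : F (c • v) = c * F v := by
  rcases (by decide : ∀ c : ZMod 2, c = 0 ∨ c = 1) c with rfl | rfl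
  · rw [zero_smul, h0, zero_mul]
  · rw [one_smul, one_mul]

/-- A function on `F_2^k` vanishing at `0` with biadditive polarization is given by the expected
quadratic expression. -/
theorem quad_formula (F : (Fin k → ZMod 2) → ZMod 2)
    (B : (Fin k → ZMod 2) → (Fin k → ZMod 2) → ZMod 2)
    (h0 : F 0 = 0) (hF : ∀ x y, F (x + y) = F x + F y + B x y)
    (hB : ∀ x x' y, B (x + x') y = B x y + B x' y)
    (ε : Fin k → ZMod 2) :
    F ε = ∑ i, ε i * F (Pi.single i 1) +
      ∑ j, ∑ i ∈ Finset.univ.filter (· < j), ε i * ε j * B (Pi.single i 1) (Pi.single j 1) := by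
  classical
  have hB0 : ∀ y, B 0 y = 0 := by
    intro y
    have := hB 0 0 y
    rw [add_zero] at this
    exact left_eq_add.mp this
  have hBsymm : ∀ x y, B x y = B y x := by
    intro x y
    have h1 := hF x y
    have h2 := hF y x
    rw [add_comm y x] at h2
    have : F x + F y + B x y = F y + F x + B y x := by rw [← h1, ← h2]
    have h3 : F x + F y = F y + F x := add_comm _ _
    rw [h3] at this
    exact add_left_cancel this
  have hB' : ∀ x y y', B x (y + y') = B x y + B x y' := by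
    intro x y y'
    rw [hBsymm, hB, hBsymm y, hBsymm y']
  have hBy0 : ∀ x, B x 0 = 0 := fun x => by rw [hBsymm]; exact hB0 x
  have hBsmul : ∀ (c : ZMod 2) x y, B (c • x) y = c * B x y := by
    intro c x y
    exact zmod2_smul_apply (fun x => B x y) (hB0 y) c x
  have hBsmul' : ∀ (c : ZMod 2) x y, B x (c • y) = c * B x y := by
    intro c x y
    exact zmod2_smul_apply (fun y => B x y) (hBy0 x) c y
  have hBsum : ∀ (S : Finset (Fin k)) (f : Fin k → (Fin k → ZMod 2)) y,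
      B (∑ i ∈ S, f i) y = ∑ i ∈ S, B (f i) y := by
    intro S f y
    induction S using Finset.induction_on with
    | empty => simp [hB0]
    | insert a S ha ih => rw [Finset.sum_insert ha, Finset.sum_insert ha, hB, ih]
  -- partial sums
  have key : ∀ S : Finset (Fin k),
      F (∑ i ∈ S, ε i • (Pi.single i 1 : Fin k → ZMod 2)) =
        ∑ i ∈ S, ε i * F (Pi.single i 1) +
        ∑ j ∈ S, ∑ i ∈ S.filter (· < j), ε i * ε j * B (Pi.single i 1) (Pi.single j 1) := by
    intro S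
    refine Finset.induction_on_max S ?_ ?_
    · simp [h0]
    · intro a S hmax ih
      have ha : a ∉ S := fun h => lt_irrefl a (hmax a h)
      have e1 : (insert a S).filter (· < a) = S := by
        ext i
        simp only [Finset.mem_filter, Finset.mem_insert]
        constructor
        · rintro ⟨rfl | h, h2⟩
          · exact absurd h2 (lt_irrefl _)
          · exact h
        · intro h
          exact ⟨Or.inr h, hmax i h⟩
      have e2 : ∀ j ∈ S, (insert a S).filter (· < j) = S.filter (· < j) := by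
        intro j hj
        ext i
        simp only [Finset.mem_filter, Finset.mem_insert]
        constructor
        · rintro ⟨rfl | h, h2⟩
          · exact absurd (lt_trans (hmax j hj) h2) (lt_irrefl _)
          · exact ⟨h, h2⟩
        · rintro ⟨h, h2⟩
          exact ⟨Or.inr h, h2⟩
      have hv : ∑ i ∈ insert a S, ε i • (Pi.single i 1 : Fin k → ZMod 2) =
          ∑ i ∈ S, ε i • (Pi.single i 1 : Fin k → ZMod 2) + ε a • Pi.single a 1 := by
        rw [Finset.sum_insert ha, add_comm]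
      have hl : ∑ i ∈ insert a S, ε i * F (Pi.single i 1) =
          ∑ i ∈ S, ε i * F (Pi.single i 1) + ε a * F (Pi.single a 1) := by
        rw [Finset.sum_insert ha, add_comm]
      have hq : ∑ j ∈ insert a S, ∑ i ∈ (insert a S).filter (· < j),
            ε i * ε j * B (Pi.single i 1) (Pi.single j 1) =
          ∑ i ∈ S, ε i * ε a * B (Pi.single i 1) (Pi.single a 1) +
          ∑ j ∈ S, ∑ i ∈ S.filter (· < j), ε i * ε j * B (Pi.single i 1) (Pi.single j 1) := by
        rw [Finset.sum_insert ha, e1]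
        congr 1
        exact Finset.sum_congr rfl (fun j hj => by rw [e2 j hj])
      have e3 : ε a * ∑ i ∈ S, B (ε i • (Pi.single i 1 : Fin k → ZMod 2)) (Pi.single a 1) =
          ∑ i ∈ S, ε i * ε a * B (Pi.single i 1) (Pi.single a 1) := by
        rw [Finset.mul_sum]
        apply Finset.sum_congr rfl
        intro i _
        rw [hBsmul]
        ring
      rw [hv, hF, ih, hl, hq, zmod2_smul_apply F h0, hBsmul', hBsum, e3]
      ring
  have hε : ε = ∑ i, ε i • (Pi.single i 1 : Fin k → ZMod 2) := by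
    ext j
    simp [Finset.sum_apply, Pi.single_apply]
  conv_lhs => rw [hε]
  rw [key Finset.univ]

/-- The polynomial attached to such a function. -/
noncomputable def quadPoly (F : (Fin k → ZMod 2) → ZMod 2)
    (B : (Fin k → ZMod 2) → (Fin k → ZMod 2) → ZMod 2) : MvPolynomial (Fin k) (ZMod 2) :=
  ∑ i, C (F (Pi.single i 1)) * X i +
    ∑ j, ∑ i ∈ Finset.univ.filter (· < j),
      C (B (Pi.single i 1) (Pi.single j 1)) * (X i * X j)

theorem quadPoly_totalDegree (F : (Fin k → ZMod 2) → ZMod 2)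
    (B : (Fin k → ZMod 2) → (Fin k → ZMod 2) → ZMod 2) : (quadPoly F B).totalDegree ≤ 2 := by
  unfold quadPoly
  refine (totalDegree_add _ _).trans (max_le ?_ ?_)
  · refine (totalDegree_finsetSum _ _).trans (Finset.sup_le ?_)
    intro i _
    refine (totalDegree_mul _ _).trans ?_
    rw [totalDegree_C, totalDegree_X]
    norm_num
  · refine (totalDegree_finsetSum _ _).trans (Finset.sup_le ?_)
    intro j _
    refine (totalDegree_finsetSum _ _).trans (Finset.sup_le ?_)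
    intro i _
    refine (totalDegree_mul _ _).trans ?_
    rw [totalDegree_C, zero_add]
    refine (totalDegree_mul _ _).trans ?_
    rw [totalDegree_X, totalDegree_X]

theorem quadPoly_eval (F : (Fin k → ZMod 2) → ZMod 2)
    (B : (Fin k → ZMod 2) → (Fin k → ZMod 2) → ZMod 2)
    (h0 : F 0 = 0) (hF : ∀ x y, F (x + y) = F x + F y + B x y)
    (hB : ∀ x x' y, B (x + x') y = B x y + B x' y) (ε : Fin k → ZMod 2) :
    eval ε (quadPoly F B) = F ε := by
  rw [quad_formula F B h0 hF hB ε]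
  unfold quadPoly
  simp only [map_add, map_sum, map_mul, eval_C, eval_X]
  congr 1
  · apply Finset.sum_congr rfl
    intro i _
    ring
  · apply Finset.sum_congr rfl
    intro j _
    apply Finset.sum_congr rfl
    intro i _
    ring

/-- Chevalley–Warning for quadratic maps `F_2^k → F_2^m` with `2 m < k`. -/
theorem exists_ne_zero_of_quad {m : ℕ} (F : (Fin k → ZMod 2) → (Fin m → ZMod 2))
    (B : (Fin k → ZMod 2) → (Fin k → ZMod 2) → (Fin m → ZMod 2))
    (h0 : F 0 = 0) (hF : ∀ x y, F (x + y) = F x + F y + B x y)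
    (hB : ∀ x x' y, B (x + x') y = B x y + B x' y) (hkm : 2 * m < k) :
    ∃ ε : Fin k → ZMod 2, ε ≠ 0 ∧ F ε = 0 := by
  classical
  set p : Fin m → MvPolynomial (Fin k) (ZMod 2) :=
    fun l => quadPoly (fun x => F x l) (fun x y => B x y l) with hp
  have heval : ∀ l ε, eval ε (p l) = F ε l := by
    intro l ε
    apply quadPoly_eval
    · simp [h0]
    · intro x y; simp [hF x y]
    · intro x x' y; simp [hB x x' y]
  have hdeg : (∑ l, (p l).totalDegree) < Fintype.card (Fin k) := by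
    have h1 : (∑ l, (p l).totalDegree) ≤ ∑ _l : Fin m, 2 :=
      Finset.sum_le_sum (fun l _ => quadPoly_totalDegree _ _)
    simp only [Finset.sum_const, Finset.card_univ, Fintype.card_fin, smul_eq_mul] at h1 ⊢
    omega
  have hcw := char_dvd_card_solutions_of_fintype_sum_lt 2 hdeg
  by_contra hcon
  have hall : ∀ ε : Fin k → ZMod 2, F ε = 0 → ε = 0 := by
    intro ε hε
    by_contra hne
    exact hcon ⟨ε, hne, hε⟩
  rw [Fintype.card_eq_nat_card] at hcw
  haveI : Unique { x : Fin k → ZMod 2 // ∀ l, eval x (p l) = 0 } :=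
    { default := ⟨0, fun l => by rw [heval, h0]; rfl⟩
      uniq := by
        rintro ⟨x, hx⟩
        apply Subtype.ext
        apply hall
        ext l
        rw [← heval, hx l]
        rfl }
  rw [Nat.card_unique] at hcw
  norm_num at hcw

end quad


section coord

theorem mzmod_orderOf_one' (n : ℕ) : orderOf (Multiplicative.ofAdd (1 : ZMod n)) = n := by
  rw [orderOf_ofAdd_eq_addOrderOf, ZMod.addOrderOf_one]

/-- A finite group of exponent two is `F_2^k`. -/
theorem exists_mulEquiv_of_exp_two {Q : Type*} [Group Q] [Finite Q] (h2 : ∀ q : Q, q ^ 2 = 1) :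
    ∃ k : ℕ, Nonempty (Q ≃* Multiplicative (Fin k → ZMod 2)) := by
  classical
  have hcomm : ∀ a b : Q, a * b = b * a := by
    intro a b
    have inv_eq : ∀ x : Q, x⁻¹ = x := fun x => by
      rw [inv_eq_iff_mul_eq_one, ← pow_two]; exact h2 x
    calc a * b = (a * b)⁻¹ := (inv_eq _).symm
      _ = b⁻¹ * a⁻¹ := mul_inv_rev _ _
      _ = b * a := by rw [inv_eq, inv_eq]
  letI instC : CommGroup Q := { ‹Group Q› with mul_comm := hcomm }
  obtain ⟨ι, hι, n, hn1, ⟨e⟩⟩ := CommGroup.equiv_prod_multiplicative_zmod_of_finite Q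
  have hn2 : ∀ i, n i = 2 := by
    intro i
    have h1 : orderOf (e.symm (Pi.mulSingle i (Multiplicative.ofAdd (1 : ZMod (n i))))) = n i := by
      rw [MulEquiv.orderOf_eq, orderOf_piMulSingle, mzmod_orderOf_one']
    have h3 : n i ∣ 2 := by
      rw [← h1]
      exact orderOf_dvd_of_pow_eq_one (h2 _)
    have h4 := Nat.le_of_dvd (by norm_num) h3
    have := hn1 i
    omega
  have hn : n = fun _ => 2 := funext hn2
  subst hn
  refine ⟨Fintype.card ι, ⟨?_⟩⟩
  exact (e.trans (MulEquiv.piMultiplicative (fun _ : ι => ZMod 2)).symm).trans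
    (AddEquiv.toMultiplicative (AddEquiv.arrowCongr (Fintype.equivFin ι) (AddEquiv.refl (ZMod 2))))

/-- coordinates modulo a normal subgroup containing all squares. -/
theorem exists_coord {A : Type*} [Group A] [Finite A] (B : Subgroup A) [B.Normal]
    (hsq : ∀ a : A, a ^ 2 ∈ B) :
    ∃ (k : ℕ) (c : A →* Multiplicative (Fin k → ZMod 2)), Function.Surjective c ∧ c.ker = B := by
  have h2 : ∀ q : A ⧸ B, q ^ 2 = 1 := by
    intro q
    induction q using QuotientGroup.induction_on with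
    | H a =>
      rw [← QuotientGroup.mk_pow]
      exact (QuotientGroup.eq_one_iff _).mpr (hsq a)
  obtain ⟨k, ⟨e⟩⟩ := exists_mulEquiv_of_exp_two h2
  refine ⟨k, e.toMonoidHom.comp (QuotientGroup.mk' B), ?_, ?_⟩
  · exact e.surjective.comp (QuotientGroup.mk'_surjective B)
  · ext a
    rw [MonoidHom.mem_ker, MonoidHom.comp_apply]
    constructor
    · intro h
      have : (QuotientGroup.mk' B a) = 1 := e.injective (by rw [map_one]; exact h)
      exact (QuotientGroup.eq_one_iff a).mp this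
    · intro h
      have : (QuotientGroup.mk' B a) = 1 := (QuotientGroup.eq_one_iff a).mpr h
      rw [this]
      exact map_one _

end coord

section main

variable {H : Type*} [Group H]

theorem zmod2_fun_add_self {k : ℕ} (x : Fin k → ZMod 2) : x + x = 0 := by
  ext i
  exact CharTwo.add_self_eq_zero (x i)

/-- the abstract core: `k ≤ 2 m`. -/
theorem k_le_two_m (Qm V : Subgroup H) (hVQ : V ≤ Qm)
    (hcent : ∀ v ∈ V, ∀ x ∈ Qm, v * x = x * v) (hsq : ∀ x ∈ Qm, x ^ 2 ∈ V)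
    (hinv : ∀ x ∈ Qm, x ^ 2 = 1 → x ∈ V) (k m : ℕ)
    (cU : H → (Fin k → ZMod 2)) (hcU : ∀ x ∈ Qm, ∀ y ∈ Qm, cU (x * y) = cU x + cU y)
    (hcUk : ∀ x ∈ Qm, (cU x = 0 ↔ x ∈ V)) (hcUs : ∀ ε, ∃ x ∈ Qm, cU x = ε)
    (cM : H → (Fin m → ZMod 2)) (hcM : ∀ x ∈ V, ∀ y ∈ V, cM (x * y) = cM x + cM y)
    (hcMk : ∀ x ∈ V, (cM x = 0 ↔ ∃ v ∈ V, x = v ^ 2)) : k ≤ 2 * m := by
  by_contra hlt
  rw [not_le] at hlt
  choose s hsQ hs using hcUs
  have hcU1 : cU 1 = 0 := by
    have := hcU 1 Qm.one_mem 1 Qm.one_mem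
    rw [one_mul] at this
    exact left_eq_add.mp this
  have hcUinv : ∀ x ∈ Qm, cU x⁻¹ = cU x := by
    intro x hx
    have h1 := hcU x hx x⁻¹ (Qm.inv_mem hx)
    rw [mul_inv_cancel, hcU1] at h1
    have h2 : cU x⁻¹ = cU x⁻¹ + (cU x + cU x) := by rw [zmod2_fun_add_self, add_zero]
    rw [h2, ← add_assoc, add_comm (cU x⁻¹), ← h1, zero_add]
  have hcM1 : cM 1 = 0 := by
    have := hcM 1 V.one_mem 1 V.one_mem
    rw [one_mul] at this
    exact left_eq_add.mp this
  -- commutators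
  have hκV : ∀ a ∈ Qm, ∀ b ∈ Qm, b⁻¹ * a⁻¹ * b * a ∈ V := by
    intro a ha b hb
    have hmem : b⁻¹ * a⁻¹ * b * a ∈ Qm :=
      Qm.mul_mem (Qm.mul_mem (Qm.mul_mem (Qm.inv_mem hb) (Qm.inv_mem ha)) hb) ha
    rw [← hcUk _ hmem, hcU _ (Qm.mul_mem (Qm.mul_mem (Qm.inv_mem hb) (Qm.inv_mem ha)) hb) _ ha,
      hcU _ (Qm.mul_mem (Qm.inv_mem hb) (Qm.inv_mem ha)) _ hb,
      hcU _ (Qm.inv_mem hb) _ (Qm.inv_mem ha), hcUinv a ha, hcUinv b hb]
    have : cU b + cU a + cU b + cU a = (cU b + cU b) + (cU a + cU a) := by abel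
    rw [this, zmod2_fun_add_self, zmod2_fun_add_self, add_zero]
  have hκmul : ∀ b ∈ Qm, ∀ x ∈ Qm, ∀ y ∈ Qm,
      b⁻¹ * (x * y)⁻¹ * b * (x * y) = (b⁻¹ * y⁻¹ * b * y) * (b⁻¹ * x⁻¹ * b * x) := by
    intro b hb x hx y hy
    have hc := hcent _ (hκV x hx b hb) y hy
    calc b⁻¹ * (x * y)⁻¹ * b * (x * y) = b⁻¹ * y⁻¹ * b * ((b⁻¹ * x⁻¹ * b * x) * y) := by group
      _ = b⁻¹ * y⁻¹ * b * (y * (b⁻¹ * x⁻¹ * b * x)) := by rw [hc]
      _ = (b⁻¹ * y⁻¹ * b * y) * (b⁻¹ * x⁻¹ * b * x) := by group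
  have hκv : ∀ b ∈ Qm, ∀ v ∈ V, b⁻¹ * v⁻¹ * b * v = 1 := by
    intro b hb v hv
    have hc := hcent v⁻¹ (V.inv_mem hv) b hb
    calc b⁻¹ * v⁻¹ * b * v = b⁻¹ * (v⁻¹ * b) * v := by group
      _ = b⁻¹ * (b * v⁻¹) * v := by rw [hc]
      _ = 1 := by group
  -- decomposition of the section
  have hdec : ∀ x y : Fin k → ZMod 2, ∃ v ∈ V, s (x + y) = s x * s y * v := by
    intro x y
    refine ⟨(s x * s y)⁻¹ * s (x + y), ?_, by group⟩
    have hxy : s x * s y ∈ Qm := Qm.mul_mem (hsQ x) (hsQ y)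
    have hmem : (s x * s y)⁻¹ * s (x + y) ∈ Qm := Qm.mul_mem (Qm.inv_mem hxy) (hsQ _)
    rw [← hcUk _ hmem, hcU _ (Qm.inv_mem hxy) _ (hsQ _), hcUinv _ hxy, hcU _ (hsQ x) _ (hsQ y),
      hs, hs, hs, zmod2_fun_add_self]
  set F : (Fin k → ZMod 2) → (Fin m → ZMod 2) := fun ε => cM ((s ε) ^ 2) with hFdef
  set B : (Fin k → ZMod 2) → (Fin k → ZMod 2) → (Fin m → ZMod 2) :=
    fun x y => cM ((s y)⁻¹ * (s x)⁻¹ * s y * s x) with hBdef
  have hF0 : F 0 = 0 := by
    have h0V : s 0 ∈ V := (hcUk _ (hsQ 0)).mp (hs 0)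
    exact (hcMk _ (hsq _ (hsQ 0))).mpr ⟨s 0, h0V, rfl⟩
  have hFadd : ∀ x y, F (x + y) = F x + F y + B x y := by
    intro x y
    obtain ⟨v, hv, hd⟩ := hdec x y
    have ha := hsQ x
    have hb := hsQ y
    have hκ := hκV (s x) ha (s y) hb
    have e1 : (s (x + y)) ^ 2 = (s x) ^ 2 * (s y) ^ 2 * ((s y)⁻¹ * (s x)⁻¹ * s y * s x) * v ^ 2 := by
      rw [hd]
      have hc1 := hcent v hv (s x * s y) (Qm.mul_mem ha hb)
      have hc2 := hcent _ hκ (s y) hb
      calc (s x * s y * v) ^ 2 = s x * s y * (v * (s x * s y)) * v := by rw [pow_two]; group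
        _ = s x * s y * ((s x * s y) * v) * v := by rw [hc1]
        _ = s x * (s x * s y * ((s y)⁻¹ * (s x)⁻¹ * s y * s x)) * s y * v ^ 2 := by
            rw [pow_two]; group
        _ = s x * s x * s y * (((s y)⁻¹ * (s x)⁻¹ * s y * s x) * s y) * v ^ 2 := by group
        _ = s x * s x * s y * (s y * ((s y)⁻¹ * (s x)⁻¹ * s y * s x)) * v ^ 2 := by rw [hc2]
        _ = (s x) ^ 2 * (s y) ^ 2 * ((s y)⁻¹ * (s x)⁻¹ * s y * s x) * v ^ 2 := by
            rw [pow_two, pow_two]; group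
    have hv2 : cM (v ^ 2) = 0 := (hcMk _ (V.pow_mem hv 2)).mpr ⟨v, hv, rfl⟩
    show cM ((s (x + y)) ^ 2) = cM ((s x) ^ 2) + cM ((s y) ^ 2) + cM ((s y)⁻¹ * (s x)⁻¹ * s y * s x)
    rw [e1, hcM _ (V.mul_mem (V.mul_mem (hsq _ ha) (hsq _ hb)) hκ) _ (V.pow_mem hv 2),
      hcM _ (V.mul_mem (hsq _ ha) (hsq _ hb)) _ hκ, hcM _ (hsq _ ha) _ (hsq _ hb), hv2, add_zero]
  have hBadd : ∀ x x' y, B (x + x') y = B x y + B x' y := by
    intro x x' y
    obtain ⟨v, hv, hd⟩ := hdec x x'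
    have ha := hsQ x
    have ha' := hsQ x'
    have hb := hsQ y
    show cM ((s y)⁻¹ * (s (x + x'))⁻¹ * s y * s (x + x')) =
      cM ((s y)⁻¹ * (s x)⁻¹ * s y * s x) + cM ((s y)⁻¹ * (s x')⁻¹ * s y * s x')
    rw [hd, hκmul (s y) hb (s x * s x') (Qm.mul_mem ha ha') v (hVQ hv), hκv (s y) hb v hv, one_mul,
      hκmul (s y) hb (s x) ha (s x') ha',
      hcM _ (hκV _ ha' _ hb) _ (hκV _ ha _ hb), add_comm]
  obtain ⟨ε, hε0, hFε⟩ := exists_ne_zero_of_quad F B hF0 hFadd hBadd hlt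
  apply hε0
  obtain ⟨v, hv, hv2⟩ := (hcMk _ (hsq _ (hsQ ε))).mp hFε
  have hy : s ε * v⁻¹ ∈ Qm := Qm.mul_mem (hsQ ε) (Qm.inv_mem (hVQ hv))
  have hy2 : (s ε * v⁻¹) ^ 2 = 1 := by
    have hc := hcent v⁻¹ (V.inv_mem hv) (s ε) (hsQ ε)
    calc (s ε * v⁻¹) ^ 2 = s ε * (v⁻¹ * s ε) * v⁻¹ := by rw [pow_two]; group
      _ = s ε * (s ε * v⁻¹) * v⁻¹ := by rw [hc]
      _ = (s ε) ^ 2 * (v ^ 2)⁻¹ := by rw [pow_two, pow_two]; group
      _ = 1 := by rw [hv2, mul_inv_cancel]
  have hyV := hinv _ hy hy2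
  have hsV : s ε ∈ V := by
    have := V.mul_mem hyV hv
    rwa [inv_mul_cancel_right] at this
  rw [← hs ε]
  exact (hcUk _ (hsQ ε)).mpr hsV

theorem relIndex_le_of_anisotropic {H : Type*} [Group H] [Finite H] (Qm V : Subgroup H)
    (hVQ : V ≤ Qm) (n : ℕ) (hcard : Nat.card V = 2 ^ n)
    (hcent : ∀ v ∈ V, ∀ x ∈ Qm, v * x = x * v) (hsq : ∀ x ∈ Qm, x ^ 2 ∈ V)
    (hinv : ∀ x ∈ Qm, x ^ 2 = 1 → x ∈ V) : V.relIndex Qm ≤ 4 ^ n := by
  classical
  -- coordinates on Qm / V
  haveI hBUn : (V.subgroupOf Qm).Normal := by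
    refine ⟨fun v hv g => ?_⟩
    have hc := hcent (v : H) (Subgroup.mem_subgroupOf.mp hv) (g : H) g.2
    have : g * v * g⁻¹ = v := by
      apply Subtype.ext
      simp only [Subgroup.coe_mul, Subgroup.coe_inv]
      rw [← hc, mul_inv_cancel_right]
    rw [this]
    exact hv
  obtain ⟨k, cU0, hcU0s, hcU0k⟩ := exists_coord (V.subgroupOf Qm) (fun a => by
    rw [Subgroup.mem_subgroupOf]
    simpa using hsq (a : H) a.2)
  have hidx : V.relIndex Qm = 2 ^ k := by
    show (V.subgroupOf Qm).index = 2 ^ k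
    rw [← hcU0k, Subgroup.index_ker, MonoidHom.range_eq_top.mpr hcU0s, Subgroup.card_top,
      Nat.card_congr Multiplicative.toAdd, Nat.card_eq_fintype_card, Fintype.card_fun, ZMod.card,
      Fintype.card_fin]
  -- coordinates on V / V^2
  have hVcomm : ∀ a b : ↥V, a * b = b * a := by
    intro a b
    apply Subtype.ext
    simp only [Subgroup.coe_mul]
    exact hcent a a.2 b (hVQ b.2)
  let Bsq : Subgroup ↥V :=
    { carrier := {y | ∃ v : ↥V, y = v ^ 2}
      mul_mem' := by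
        rintro _ _ ⟨v, rfl⟩ ⟨w, rfl⟩
        refine ⟨v * w, ?_⟩
        rw [pow_two, pow_two, pow_two]
        calc v * v * (w * w) = v * (v * w) * w := by group
          _ = v * (w * v) * w := by rw [hVcomm v w]
          _ = v * w * (v * w) := by group
      one_mem' := ⟨1, by simp⟩
      inv_mem' := by
        rintro _ ⟨v, rfl⟩
        exact ⟨v⁻¹, by simp⟩ }
  haveI hBsqn : Bsq.Normal := by
    refine ⟨fun y hy g => ?_⟩
    have : g * y * g⁻¹ = y := by rw [hVcomm g y, mul_inv_cancel_right]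
    rw [this]
    exact hy
  obtain ⟨m, cM0, hcM0s, hcM0k⟩ := exists_coord Bsq (fun a => ⟨a, rfl⟩)
  have hmn : m ≤ n := by
    have h1 : Bsq.index = 2 ^ m := by
      rw [← hcM0k, Subgroup.index_ker, MonoidHom.range_eq_top.mpr hcM0s, Subgroup.card_top,
        Nat.card_congr Multiplicative.toAdd, Nat.card_eq_fintype_card, Fintype.card_fun, ZMod.card,
        Fintype.card_fin]
    have h2 : Bsq.index ∣ Nat.card ↥V := Subgroup.index_dvd_card Bsq
    rw [h1, hcard] at h2
    exact (Nat.pow_dvd_pow_iff_le_right (by norm_num : 1 < 2)).mp h2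
  -- extend the coordinates to functions on H
  let cU : H → (Fin k → ZMod 2) := fun x =>
    if hx : x ∈ Qm then Multiplicative.toAdd (cU0 ⟨x, hx⟩) else 0
  let cM : H → (Fin m → ZMod 2) := fun x =>
    if hx : x ∈ V then Multiplicative.toAdd (cM0 ⟨x, hx⟩) else 0
  have hcUval : ∀ x (hx : x ∈ Qm), cU x = Multiplicative.toAdd (cU0 ⟨x, hx⟩) := fun x hx => dif_pos hx
  have hcMval : ∀ x (hx : x ∈ V), cM x = Multiplicative.toAdd (cM0 ⟨x, hx⟩) := fun x hx => dif_pos hx
  have hkm : k ≤ 2 * m := by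
    apply k_le_two_m Qm V hVQ hcent hsq hinv k m cU ?_ ?_ ?_ cM ?_ ?_
    · intro x hx y hy
      rw [hcUval x hx, hcUval y hy, hcUval _ (Qm.mul_mem hx hy)]
      have : (⟨x * y, Qm.mul_mem hx hy⟩ : ↥Qm) = ⟨x, hx⟩ * ⟨y, hy⟩ := rfl
      rw [this, map_mul, toAdd_mul]
    · intro x hx
      rw [hcUval x hx]
      have h1 : Multiplicative.toAdd (cU0 ⟨x, hx⟩) = 0 ↔ (⟨x, hx⟩ : ↥Qm) ∈ cU0.ker := by
        rw [MonoidHom.mem_ker]
        exact Iff.rfl
      rw [h1, hcU0k, Subgroup.mem_subgroupOf]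
    · intro ε
      obtain ⟨x, hx⟩ := hcU0s (Multiplicative.ofAdd ε)
      refine ⟨(x : H), x.2, ?_⟩
      rw [hcUval _ x.2]
      have : (⟨(x : H), x.2⟩ : ↥Qm) = x := rfl
      rw [this, hx]
      rfl
    · intro x hx y hy
      rw [hcMval x hx, hcMval y hy, hcMval _ (V.mul_mem hx hy)]
      have : (⟨x * y, V.mul_mem hx hy⟩ : ↥V) = ⟨x, hx⟩ * ⟨y, hy⟩ := rfl
      rw [this, map_mul, toAdd_mul]
    · intro x hx
      rw [hcMval x hx]
      have h1 : Multiplicative.toAdd (cM0 ⟨x, hx⟩) = 0 ↔ (⟨x, hx⟩ : ↥V) ∈ cM0.ker := by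
        rw [MonoidHom.mem_ker]
        exact Iff.rfl
      rw [h1, hcM0k]
      constructor
      · rintro ⟨v, hv⟩
        refine ⟨(v : H), v.2, ?_⟩
        have := congrArg (fun y : ↥V => (y : H)) hv
        simpa using this
      · rintro ⟨v, hv, hxv⟩
        exact ⟨⟨v, hv⟩, Subtype.ext (by simpa using hxv)⟩
  rw [hidx]
  calc 2 ^ k ≤ 2 ^ (2 * n) := Nat.pow_le_pow_right (by norm_num) (by omega)
    _ = 4 ^ n := by rw [pow_mul]; norm_num

end main

end Cfsg.Agent.Helper13.Th
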