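import Mathlib
import Cfsg.Prelude.Def_LocalEven
import Cfsg.Agent.S2119
import Cfsg.Agent.Helper14.AutAltD
import Cfsg.Agent.Helper7.FStar

set_option autoImplicit false

namespace Cfsg.Agent.Helper13.ThreeMin

open Equiv Equiv.Perm

/-- `3 ∣ |A_n|` and `2 ∣ |A_n|` for `n ≥ 5`. -/
theorem card_alt_dvd (n : ℕ) (hn : 5 ≤ n) :
    3 ∣ Nat.card ↥(alternatingGroup (Fin n)) ∧ 2 ∣ Nat.card ↥(alternatingGroup (Fin n)) := by
  have : Nontrivial (Fin n) := Fin.nontrivial_iff_two_le.mpr (by omega)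
  have h := two_mul_nat_card_alternatingGroup (α := Fin n)
  have hperm : Nat.card (Perm (Fin n)) = n.factorial := by
    rw [Nat.card_eq_fintype_card, Fintype.card_perm, Fintype.card_fin]
  rw [hperm] at h
  constructor
  · have h3 : 3 ∣ n.factorial := Nat.dvd_factorial (by norm_num) (by omega)
    rw [← h] at h3
    exact (Nat.Coprime.dvd_mul_left (by norm_num : Nat.Coprime 3 2)).mp h3
  · have h4 : 4 ∣ n.factorial := by
      have : (4 : ℕ).factorial ∣ n.factorial := Nat.factorial_dvd_factorial (by omega)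
      exact Dvd.dvd.trans (by decide : 4 ∣ (4 : ℕ).factorial) this
    rw [← h] at h4
    have : (2 : ℕ) * 2 ∣ 2 * Nat.card ↥(alternatingGroup (Fin n)) := h4
    exact (Nat.mul_dvd_mul_iff_left (by norm_num : 0 < 2)).mp this

/-- an automorphism of `A_n` of odd order induced by a permutation is inner -/
theorem exists_inner_of_odd (n : ℕ) (θ : MulAut ↥(alternatingGroup (Fin n)))
    (hodd : Odd (orderOf θ))
    (hr : θ ∈ (MulAut.conjNormal : Perm (Fin n) →* MulAut ↥(alternatingGroup (Fin n))).range) :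
    ∃ g' : ↥(alternatingGroup (Fin n)), ∀ a, θ a = g' * a * g'⁻¹ := by
  obtain ⟨π, hπ⟩ := hr
  obtain ⟨m, hm⟩ := hodd
  have hpow : θ ^ (orderOf θ + 1) = θ := by
    rw [pow_succ, pow_orderOf_eq_one, one_mul]
  set σ : Perm (Fin n) := π ^ (orderOf θ + 1) with hσ
  have hσθ : (MulAut.conjNormal σ : MulAut ↥(alternatingGroup (Fin n))) = θ := by
    rw [hσ, map_pow, hπ, hpow]
  have hσsq : σ = (π ^ (m + 1)) ^ 2 := by
    rw [hσ, ← pow_mul]
    congr 1
    omega
  have hσalt : σ ∈ alternatingGroup (Fin n) := by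
    rw [mem_alternatingGroup, hσsq, map_pow]
    exact Int.units_sq _
  refine ⟨⟨σ, hσalt⟩, ?_⟩
  intro a
  rw [← hσθ]
  apply Subtype.ext
  rw [MulAut.conjNormal_apply]
  rfl

end Cfsg.Agent.Helper13.ThreeMin

namespace Cfsg.Agent.Helper13.ThreeMin

open Cfsg Equiv Equiv.Perm

theorem fstar_eq_top {X : Type*} [Group X] [Finite X] (hX : Cfsg.IsPMinimal 3 X) (n : ℕ) (hn : 5 ≤ n)
    (hF : Nonempty (↥(Cfsg.generalizedFittingSubgroup X) ≃* ↥(alternatingGroup (Fin n)))) :
    Cfsg.generalizedFittingSubgroup X = ⊤ := by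
  classical
  have : Fact (Nat.Prime 3) := ⟨by norm_num⟩
  obtain ⟨e⟩ := hF
  set N : Subgroup X := Cfsg.generalizedFittingSubgroup X with hN
  have hNn : N.Normal := Cfsg.Agent.Helper7.generalizedFittingSubgroup_normal X
  -- `N` is simple
  have hAsimple : IsSimpleGroup ↥(alternatingGroup (Fin n)) :=
    alternatingGroup.isSimpleGroup (by rw [Nat.card_eq_fintype_card, Fintype.card_fin]; exact hn)
  have hNsimple : IsSimpleGroup ↥N := e.isSimpleGroup
  obtain ⟨h3, h2⟩ := card_alt_dvd n hn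
  have hcardN : Nat.card ↥N = Nat.card ↥(alternatingGroup (Fin n)) := Nat.card_congr e.toEquiv
  -- a Sylow 3-subgroup of `N`
  obtain ⟨P⟩ : Nonempty (Sylow 3 ↥N) := inferInstance
  have hPbot : (P : Subgroup ↥N) ≠ ⊥ := P.ne_bot_of_dvd_card (by rw [hcardN]; exact h3)
  have hPtop : (P : Subgroup ↥N) ≠ ⊤ := by
    intro htop
    have hpg : IsPGroup 3 ↥N := by
      have := P.2
      rw [htop] at this
      exact IsPGroup.of_surjective this (Subgroup.topEquiv (G := ↥N)).toMonoidHom
        (Subgroup.topEquiv (G := ↥N)).surjective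
    obtain ⟨k, hk⟩ := IsPGroup.iff_card.mp hpg
    rw [hcardN] at hk
    rw [hk] at h2
    have := (Nat.Prime.dvd_of_dvd_pow Nat.prime_two h2)
    omega
  set Q : Subgroup X := (P : Subgroup ↥N).map N.subtype with hQ
  have hQN : Q ≤ N := by
    rintro _ ⟨u, _, rfl⟩
    exact u.2
  have hQp : IsPGroup 3 ↥Q := P.2.map N.subtype
  obtain ⟨S, hQS⟩ := hQp.exists_le_sylow
  obtain ⟨hSnn, M, ⟨hMco, hSM⟩, hMuniq⟩ := hX S
  -- `S ⊓ N = Q`
  have hSNQ : (S : Subgroup X) ⊓ N = Q := by
    have h1 : ((S : Subgroup X) ⊓ N).subgroupOf N = (P : Subgroup ↥N) := by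
      apply P.is_maximal'
      · have : IsPGroup 3 ↥((S : Subgroup X) ⊓ N) := S.2.to_le inf_le_left
        exact this.comap_subtype
      · intro u hu
        rw [Subgroup.mem_subgroupOf]
        exact ⟨hQS ⟨u, hu, rfl⟩, u.2⟩
    rw [hQ, ← h1]
    exact (Subgroup.map_subgroupOf_eq_of_le inf_le_right).symm
  -- `S` normalizes `Q`
  have hSnorm : (S : Subgroup X) ≤ Subgroup.normalizer (Q : Set X) := by
    intro x hx
    rw [Subgroup.mem_normalizer_iff]
    intro h
    rw [← hSNQ, Subgroup.mem_inf, Subgroup.mem_inf]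
    constructor
    · rintro ⟨h1, h2⟩
      exact ⟨Subgroup.mul_mem _ (Subgroup.mul_mem _ hx h1) (Subgroup.inv_mem _ hx),
        hNn.conj_mem h h2 x⟩
    · rintro ⟨h1, h2⟩
      constructor
      · have : h = x⁻¹ * (x * h * x⁻¹) * x := by group
        rw [this]
        exact Subgroup.mul_mem _ (Subgroup.mul_mem _ (Subgroup.inv_mem _ hx) h1) hx
      · have : h = x⁻¹ * (x * h * x⁻¹) * x⁻¹⁻¹ := by group
        rw [this]
        exact hNn.conj_mem _ h2 x⁻¹
  -- the normalizer is proper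
  have hnormtop : Subgroup.normalizer (Q : Set X) ≠ ⊤ := by
    intro htop
    have hQn : Q.Normal := Subgroup.normalizer_eq_top_iff.mp htop
    have hPn : (P : Subgroup ↥N).Normal := by
      have : (P : Subgroup ↥N) = Q.comap N.subtype := by
        rw [hQ, Subgroup.comap_map_eq_self_of_injective (Subgroup.subtype_injective N)]
      rw [this]
      exact hQn.comap _
    rcases hPn.eq_bot_or_eq_top with h | h
    · exact hPbot h
    · exact hPtop h
  -- every proper subgroup containing `S` lies in `M`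
  have hle : ∀ H : Subgroup X, (S : Subgroup X) ≤ H → H ≠ ⊤ → H ≤ M := by
    intro H hSH hH
    rcases eq_top_or_exists_le_coatom H with h | ⟨M', hM', hHM'⟩
    · exact absurd h hH
    · have : M' = M := hMuniq M' ⟨hM', hSH.trans hHM'⟩
      rw [← this]
      exact hHM'
  have hnormM : Subgroup.normalizer (Q : Set X) ≤ M := hle _ hSnorm hnormtop
  -- `N ⊔ S = ⊤`
  have hNS : N ⊔ (S : Subgroup X) = ⊤ := by
    by_contra hne
    have h1 : N ⊔ (S : Subgroup X) ≤ M := hle _ le_sup_right hne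
    have hfr : Subgroup.normalizer (Q : Set X) ⊔ N = ⊤ := Sylow.normalizer_sup_eq_top P
    have : (⊤ : Subgroup X) ≤ M := by
      rw [← hfr]
      exact sup_le hnormM (le_sup_left.trans h1)
    exact hMco.1 (top_le_iff.mp this)
  -- every element of `S` lies in `N`
  let Φ : X →* MulAut ↥(alternatingGroup (Fin n)) :=
    (MulAut.congr e).toMonoidHom.comp (MulAut.conjNormal (H := N))
  have hΦ : ∀ (x : X) (u : ↥N), Φ x (e u) = e ((MulAut.conjNormal x : MulAut ↥N) u) := by
    intro x u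
    change e ((MulAut.conjNormal x : MulAut ↥N) (e.symm (e u))) = _
    rw [e.symm_apply_apply]
  have hSN : (S : Subgroup X) ≤ N := by
    intro x hx
    -- odd order
    have hodd : Odd (orderOf (Φ x)) := by
      obtain ⟨k, hk⟩ := S.2 ⟨x, hx⟩
      have hxk : x ^ 3 ^ k = 1 := by
        have := congrArg Subtype.val hk
        simpa using this
      have hd : orderOf (Φ x) ∣ 3 ^ k :=
        (orderOf_map_dvd Φ x).trans (orderOf_dvd_of_pow_eq_one hxk)
      exact Odd.of_dvd_nat (Odd.pow (by decide : Odd 3)) hd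
    have hrange : Φ x ∈
        (MulAut.conjNormal : Perm (Fin n) →* MulAut ↥(alternatingGroup (Fin n))).range := by
      by_cases h6 : n = 6
      · subst h6
        exact Cfsg.Agent.Helper14.AutAltN.mem_range_of_K3 6 (by norm_num) (Φ x)
          (Cfsg.Agent.Helper14.AutAltN.K3_of_odd (Φ x) hodd)
      · obtain ⟨π, hπ⟩ := (Cfsg.Agent.S2119.result n (by omega) h6).2 (Φ x)
        exact ⟨π, hπ⟩
    obtain ⟨g', hg'⟩ := exists_inner_of_odd n (Φ x) hodd hrange
    set y : ↥N := e.symm g' with hy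
    -- `x u x⁻¹ = y u y⁻¹` on `N`
    have hconj : ∀ u : ↥N, x * (u : X) * x⁻¹ = (y : X) * u * (y : X)⁻¹ := by
      intro u
      have h1 : e ((MulAut.conjNormal x : MulAut ↥N) u) = g' * e u * g'⁻¹ := by
        rw [← hΦ, hg']
      have h2 : (MulAut.conjNormal x : MulAut ↥N) u = y * u * y⁻¹ := by
        apply e.injective
        rw [h1, map_mul, map_mul, map_inv, hy, e.apply_symm_apply]
      have h3 := congrArg Subtype.val h2
      rw [MulAut.conjNormal_apply] at h3
      rw [h3]
      simp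
    have hz : (y : X)⁻¹ * x ∈ Subgroup.centralizer (N : Set X) := by
      rw [Subgroup.mem_centralizer_iff]
      intro u hu
      have := hconj ⟨u, hu⟩
      simp only at this
      -- `x u x⁻¹ = y u y⁻¹`
      have e1 : u * ((y : X)⁻¹ * x) = (y : X)⁻¹ * ((y : X) * u * (y : X)⁻¹) * x := by group
      rw [e1, ← this]
      group
    have hzN : (y : X)⁻¹ * x ∈ N := Cfsg.Agent.Helper7.centralizer_generalizedFitting_le hz
    have : x = (y : X) * ((y : X)⁻¹ * x) := by group
    rw [this]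
    exact N.mul_mem y.2 hzN
  rw [← hNS]
  exact (sup_eq_left.mpr hSN).symm

end Cfsg.Agent.Helper13.ThreeMin
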