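import Mathlib
import Cfsg.Agent.Helper13.U42
import Cfsg.Agent.Helper13.U42D
import Cfsg.Agent.Helper12.PSUCommD
import Cfsg.Agent.Helper2.UnitaryCenter
import Cfsg.Agent.Helper2.SpCard
import Cfsg.Agent.S0246

set_option autoImplicit false

/-! Assembly of `PSU₄(2) ≃* PSp₄(3)` from the verified table. -/

namespace Cfsg.Agent.Helper13.U42A

open Cfsg.Agent.Helper13.U42 Cfsg.Agent.Helper13.U42D Matrix

/-- the order -/
abbrev NN : ℕ := 25920

theorem chkP (k : ℕ) (hk : k < NN) : ChkP D NN k :=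
  chk_spec D NN k hk (allRange_spec _ 15 0 chk_all k (Nat.zero_le _) (by norm_num [NN] at hk ⊢; omega))

theorem gL_lt (k : ℕ) : gL k < 4294967296 := Nat.mod_lt _ (by norm_num)

theorem gS0_lt {k : ℕ} (hk : k < NN) : gS0 k < NN := (chkP k hk).s0lt
theorem gS1_lt {k : ℕ} (hk : k < NN) : gS1 k < NN := (chkP k hk).s1lt

theorem htree : ∀ k, 0 < k → k < NN → gPG k / 2 < k ∧
    (if gPG k % 2 = 0 then gS0 (gPG k / 2) else gS1 (gPG k / 2)) = k := by
  intro k hpos hk
  rcases (chkP k hk).tree with h | h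
  · omega
  · exact h

theorem gL_inj : ∀ i < NN, ∀ j < NN, gL i = gL j → i = j := by
  apply injOn_of_sorted NN gL gPI
  · intro j hj
    exact (chkP j hj).pilt
  · intro j hj
    rcases (chkP j (by omega)).sorted with h | h
    · omega
    · exact h

section SU

variable {F : Type*} [Field F] [Fintype F]

theorem exists_isF4 (hF : Fintype.card F = 4) : ∃ ω : F, IsF4 ω := by
  classical
  -- characteristic 2
  obtain ⟨p, hchar⟩ := CharP.exists F
  have := hchar
  have hp : p.Prime :=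
    (CharP.char_is_prime_or_zero F p).resolve_right (CharP.char_ne_zero_of_finite F p)
  have : Fact p.Prime := ⟨hp⟩
  obtain ⟨n, -, hn⟩ := FiniteField.card F p
  rw [hF] at hn
  have h2 : p ∣ 2 ^ 2 := by
    have : p ∣ p ^ (n : ℕ) := dvd_pow_self p n.ne_zero
    rw [← hn] at this
    exact this
  have hp2 : p = 2 := (Nat.prime_dvd_prime_iff_eq hp Nat.prime_two).mp (hp.dvd_of_dvd_pow h2)
  subst hp2
  have h20 : (2 : F) = 0 := by exact_mod_cast CharP.cast_eq_zero F 2
  -- a generator of the unit group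
  obtain ⟨z, hz⟩ := IsCyclic.exists_generator (α := Fˣ)
  have hord : orderOf z = 3 := by
    rw [orderOf_eq_card_of_forall_mem_zpowers hz, Nat.card_eq_fintype_card, Fintype.card_units, hF]
  have hz3 : (z : F) ^ 3 = 1 := by
    have : z ^ 3 = 1 := by rw [← hord]; exact pow_orderOf_eq_one z
    have h3 := congrArg Units.val this
    simpa using h3
  have hz1 : (z : F) ≠ 1 := by
    intro h
    have : z = 1 := Units.ext h
    rw [this, orderOf_one] at hord
    omega
  refine ⟨(z : F), h20, ?_⟩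
  have hfac : ((z : F) - 1) * ((z : F) * z + z + 1) = 0 := by linear_combination hz3
  rcases mul_eq_zero.mp hfac with h | h
  · exact absurd (sub_eq_zero.mp h) hz1
  · linear_combination h - ((z : F) + 1) * h20

variable {ω : F}

/-- the enumeration of `SU₄(2)` -/
def e1 (ω : F) (k : ℕ) : Matrix (Fin 4) (Fin 4) F := decM ω (gL k)

theorem e1_zero : e1 ω 0 = 1 := by
  unfold e1
  rw [gL_zero]
  exact decM_one ω

theorem e1_step (hω : IsF4 ω) {k : ℕ} (hk : k < NN) :
    e1 ω (gS0 k) = e1 ω k * decM ω cA ∧ e1 ω (gS1 k) = e1 ω k * decM ω cB := by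
  constructor
  · unfold e1
    rw [decM_mulrow hω tabA]
    exact congrArg (decM ω) (chkP k hk).a4.symm
  · unfold e1
    rw [decM_mulrow hω tabB]
    exact congrArg (decM ω) (chkP k hk).b4.symm

theorem e1_inj (hω : IsF4 ω) : ∀ i < NN, ∀ j < NN, e1 ω i = e1 ω j → i = j := by
  intro i hi j hj h
  exact gL_inj i hi j hj (decM_inj hω (gL_lt i) (gL_lt j) h)

theorem e1_A : e1 ω (gS0 0) = decM ω cA := by
  unfold e1; rw [gL_A]

theorem e1_B : e1 ω (gS1 0) = decM ω cB := by
  unfold e1; rw [gL_B]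

theorem sA_sq (hω : IsF4 ω) : decM ω cA * decM ω cA = 1 := by
  have h0 : (0 : ℕ) < NN := by norm_num
  have h1 := (e1_step hω (gS0_lt h0)).1
  rw [ordA, e1_zero, e1_A] at h1
  exact h1.symm

theorem sB_pow (hω : IsF4 ω) : (decM ω cB) ^ 5 = 1 := by
  have h0 : (0 : ℕ) < NN := by norm_num
  have k1 := gS1_lt h0
  have k2 := gS1_lt k1
  have k3 := gS1_lt k2
  have k4 := gS1_lt k3
  have s1 := (e1_step hω k1).2
  have s2 := (e1_step hω k2).2
  have s3 := (e1_step hω k3).2
  have s4 := (e1_step hω k4).2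
  rw [ordB, s3, s2, s1, e1_B, e1_zero] at s4
  rw [s4]
  simp only [pow_succ, pow_zero, one_mul]

theorem det_sA (hω : IsF4 ω) : (decM ω cA).det = 1 := by
  have h := congrArg Matrix.det (sA_sq hω)
  rw [Matrix.det_mul, Matrix.det_one] at h
  have h2 := hω.two
  have : ((decM ω cA).det - 1) * ((decM ω cA).det - 1) = 0 := by
    linear_combination h + (1 - (decM ω cA).det) * h2
  rcases mul_eq_zero.mp this with h' | h' <;> exact sub_eq_zero.mp h'

theorem det_sB (hF : Fintype.card F = 4) (hω : IsF4 ω) : (decM ω cB).det = 1 := by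
  have h := congrArg Matrix.det (sB_pow hω)
  rw [Matrix.det_pow, Matrix.det_one] at h
  set d := (decM ω cB).det with hd
  have hd0 : d ≠ 0 := by
    intro h0
    rw [h0] at h
    simp at h
  have h3 : d ^ 3 = 1 := by
    have := FiniteField.pow_card_sub_one_eq_one d hd0
    rw [hF] at this
    exact this
  calc d = d * 1 := (mul_one d).symm
    _ = d * d ^ 5 := by rw [h]
    _ = (d ^ 3) ^ 2 := by ring
    _ = 1 := by rw [h3, one_pow]

/-- membership in `SU₄(2)` on the level of matrices -/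
def InSU (A : Matrix (Fin 4) (Fin 4) F) : Prop :=
  ∃ g : Cfsg.SU 4 F 2, ((g : SpecialLinearGroup (Fin 4) F) : Matrix (Fin 4) (Fin 4) F) = A

theorem inSU_one : InSU (1 : Matrix (Fin 4) (Fin 4) F) := ⟨1, rfl⟩

theorem inSU_mul {A B : Matrix (Fin 4) (Fin 4) F} (hA : InSU A) (hB : InSU B) : InSU (A * B) := by
  obtain ⟨g, rfl⟩ := hA
  obtain ⟨h, rfl⟩ := hB
  exact ⟨g * h, rfl⟩

theorem inSU_of_unitOK (hF : Fintype.card F = 4) (hω : IsF4 ω) {c : ℕ} (hc : unitOK c)
    (hdet : (decM ω c).det = 1) : InSU (decM ω c) := by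
  have hF' : Fintype.card F = 2 ^ 2 := hF.trans (by norm_num)
  refine ⟨⟨(⟨decM ω c, hdet⟩ : SpecialLinearGroup (Fin 4) F), ?_⟩, rfl⟩
  apply (Cfsg.Agent.Helper2.Herm.mem_SU_iff_isON hF' _).2
  intro i j
  have := unitOK_spec hω hc i j
  exact this

theorem inSU_e1 (hF : Fintype.card F = 4) (hω : IsF4 ω) : ∀ k < NN, InSU (e1 ω k) := by
  refine tree_ind NN gS0 gS1 gPG htree (fun k => InSU (e1 ω k)) ?_ ?_
  · rw [e1_zero]; exact inSU_one
  · intro k hk ih
    obtain ⟨h1, h2⟩ := e1_step hω hk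
    rw [h1, h2]
    exact ⟨inSU_mul ih (inSU_of_unitOK hF hω unitA (det_sA hω)),
      inSU_mul ih (inSU_of_unitOK hF hω unitB (det_sB hF hω))⟩

theorem card_SU (hF : Fintype.card F = 4) : Nat.card (Cfsg.SU 4 F 2) = NN := by
  have hF' : Fintype.card F = 2 ^ 2 := hF.trans (by norm_num)
  rw [Cfsg.Agent.Helper12.PSUComm.card_SU_eq hF' 4 (by norm_num)]
  decide

end SU

section Sp

variable {K : Type*} [Field K] [Fintype K]

theorem charP3 (hK : Fintype.card K = 3) : CharP K 3 := by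
  have : Fact (Nat.Prime 3) := ⟨Nat.prime_three⟩
  exact charP_of_card_eq_prime hK

theorem decK_map [CharP K 3] (c : ℕ) :
    decK K c = (decK (ZMod 3) c).map (ZMod.castHom (dvd_refl 3) K) := by
  ext x y
  simp [decK]

theorem J_map (f : ZMod 3 →+* K) : (J (Fin 2) (ZMod 3)).map f = J (Fin 2) K := by
  ext x y
  rcases x with x | x <;> rcases y with y | y <;>
    simp [Matrix.J, Matrix.one_apply, apply_ite f]

theorem symp_of_zmod [CharP K 3] {c : ℕ}
    (h : decK (ZMod 3) c * J (Fin 2) (ZMod 3) * (decK (ZMod 3) c)ᵀ = J (Fin 2) (ZMod 3)) :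
    decK K c ∈ symplecticGroup (Fin 2) K := by
  rw [SymplecticGroup.mem_iff, decK_map]
  have h1 := congrArg (fun M => M.map (ZMod.castHom (dvd_refl 3) K)) h
  simp only [Matrix.map_mul, J_map, Matrix.transpose_map] at h1
  exact h1

theorem sympA3 : decK (ZMod 3) cAp * J (Fin 2) (ZMod 3) * (decK (ZMod 3) cAp)ᵀ =
    J (Fin 2) (ZMod 3) := by decide +kernel

theorem sympB3 : decK (ZMod 3) cBp * J (Fin 2) (ZMod 3) * (decK (ZMod 3) cBp)ᵀ =
    J (Fin 2) (ZMod 3) := by decide +kernel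

variable (K) in
/-- the enumeration of (representatives of) `PSp₄(3)` -/
def e2m (k : ℕ) : Matrix (Fin 2 ⊕ Fin 2) (Fin 2 ⊕ Fin 2) K := decK K (gLp k)

theorem e2m_zero : e2m K 0 = 1 := by
  unfold e2m
  rw [gLp_zero]
  exact decK_one

theorem e2m_step [CharP K 3] {k : ℕ} (hk : k < NN) :
    (e2m K (gS0 k) = e2m K k * decK K cAp ∨ e2m K (gS0 k) = -(e2m K k * decK K cAp)) ∧
    (e2m K (gS1 k) = e2m K k * decK K cBp ∨ e2m K (gS1 k) = -(e2m K k * decK K cBp)) := by
  constructor
  · rcases (chkP k hk).a3 with h | h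
    · left
      unfold e2m
      rw [decK_mulrow tabAp]
      exact congrArg (decK K) h.symm
    · right
      unfold e2m
      rw [decK_mulrow_neg tabAn, neg_neg]
      exact congrArg (decK K) h.symm
  · rcases (chkP k hk).b3 with h | h
    · left
      unfold e2m
      rw [decK_mulrow tabBp]
      exact congrArg (decK K) h.symm
    · right
      unfold e2m
      rw [decK_mulrow_neg tabBn, neg_neg]
      exact congrArg (decK K) h.symm

theorem e2m_mem [CharP K 3] : ∀ k < NN, e2m K k ∈ symplecticGroup (Fin 2) K := by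
  refine tree_ind NN gS0 gS1 gPG htree (fun k => e2m K k ∈ symplecticGroup (Fin 2) K) ?_ ?_
  · rw [e2m_zero]; exact Submonoid.one_mem _
  · intro k hk ih
    obtain ⟨h1, h2⟩ := e2m_step (K := K) hk
    have hA : e2m K k * decK K cAp ∈ symplecticGroup (Fin 2) K :=
      Submonoid.mul_mem _ ih (symp_of_zmod sympA3)
    have hB : e2m K k * decK K cBp ∈ symplecticGroup (Fin 2) K :=
      Submonoid.mul_mem _ ih (symp_of_zmod sympB3)
    constructor
    · rcases h1 with h | h
      · rw [h]; exact hA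
      · rw [h]; exact SymplecticGroup.neg_mem hA
    · rcases h2 with h | h
      · rw [h]; exact hB
      · rw [h]; exact SymplecticGroup.neg_mem hB

/-- `-1` in the symplectic group -/
def negOne : symplecticGroup (Fin 2) K :=
  ⟨-1, SymplecticGroup.neg_mem (Submonoid.one_mem _)⟩

theorem negOne_mem_center : (negOne : symplecticGroup (Fin 2) K) ∈
    Subgroup.center (symplecticGroup (Fin 2) K) := by
  rw [Subgroup.mem_center_iff]
  intro g
  apply Subtype.ext
  show (g : Matrix (Fin 2 ⊕ Fin 2) (Fin 2 ⊕ Fin 2) K) * (-1 : Matrix (Fin 2 ⊕ Fin 2) (Fin 2 ⊕ Fin 2) K) =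
    (-1 : Matrix (Fin 2 ⊕ Fin 2) (Fin 2 ⊕ Fin 2) K) * (g : Matrix (Fin 2 ⊕ Fin 2) (Fin 2 ⊕ Fin 2) K)
  simp

theorem mk_eq_of_neg {S T : symplecticGroup (Fin 2) K}
    (h : (T : Matrix (Fin 2 ⊕ Fin 2) (Fin 2 ⊕ Fin 2) K) = -(S : Matrix (Fin 2 ⊕ Fin 2) (Fin 2 ⊕ Fin 2) K)) :
    (QuotientGroup.mk T : Cfsg.PSp 2 K) = QuotientGroup.mk S := by
  have hT : T = negOne * S := by
    apply Subtype.ext
    show (T : Matrix (Fin 2 ⊕ Fin 2) (Fin 2 ⊕ Fin 2) K) =
      (-1 : Matrix (Fin 2 ⊕ Fin 2) (Fin 2 ⊕ Fin 2) K) * (S : Matrix (Fin 2 ⊕ Fin 2) (Fin 2 ⊕ Fin 2) K)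
    rw [h]; simp
  rw [hT, QuotientGroup.mk_mul]
  have : (QuotientGroup.mk negOne : Cfsg.PSp 2 K) = 1 :=
    (QuotientGroup.eq_one_iff _).2 negOne_mem_center
  rw [this, one_mul]

theorem center_cases (hK : Fintype.card K = 3) [CharP K 3] {z : symplecticGroup (Fin 2) K}
    (hz : z ∈ Subgroup.center (symplecticGroup (Fin 2) K)) : z = 1 ∨ z = negOne := by
  have hcard : Nat.card (Subgroup.center (symplecticGroup (Fin 2) K)) = 2 := by
    rw [Cfsg.Agent.S0246.result hK 2 (by norm_num)]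
    rfl
  by_contra hcon
  push Not at hcon
  obtain ⟨y, -, huniq⟩ := (Nat.card_eq_two_iff' (1 : Subgroup.center (symplecticGroup (Fin 2) K))).1 hcard
  have h1 : (⟨z, hz⟩ : Subgroup.center (symplecticGroup (Fin 2) K)) = y :=
    huniq _ (fun h => hcon.1 (congrArg Subtype.val h))
  have hne : (negOne : symplecticGroup (Fin 2) K) ≠ 1 := by
    intro h
    have h2 := congrFun (congrFun (congrArg Subtype.val h) (Sum.inl 0)) (Sum.inl 0)
    have h3 : (-1 : K) = 1 := by simpa [negOne] using h2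
    have h4 : ((2 : ℕ) : K) = 0 := by push_cast; linear_combination (-1 : K) * h3
    rw [CharP.cast_eq_zero_iff K 3] at h4
    omega
  have h2 : (⟨negOne, negOne_mem_center⟩ : Subgroup.center (symplecticGroup (Fin 2) K)) = y :=
    huniq _ (fun h => hne (congrArg Subtype.val h))
  exact hcon.2 (congrArg Subtype.val (h1.trans h2.symm))

end Sp

section Final

variable {F : Type*} [Field F] [Fintype F] {K : Type*} [Field K] [Fintype K]

theorem card_PSp (hK : Fintype.card K = 3) : Nat.card (Cfsg.PSp 2 K) = NN := by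
  have h1 := Cfsg.Agent.Helper2.Sp.card_symplectic_fin (F := K) 2
  rw [hK] at h1
  have h2 : Nat.card (Subgroup.center (symplecticGroup (Fin 2) K)) = 2 := by
    rw [Cfsg.Agent.S0246.result hK 2 (by norm_num)]
    rfl
  have h3 := Subgroup.card_eq_card_quotient_mul_card_subgroup
    (Subgroup.center (symplecticGroup (Fin 2) K))
  rw [h1, h2] at h3
  have h4 : (3 ^ 2 ^ 2 * ∏ i ∈ Finset.range 2, (3 ^ (2 * (i + 1)) - 1) : ℕ) = 51840 := by decide
  rw [h4] at h3
  show Nat.card (symplecticGroup (Fin 2) K ⧸ Subgroup.center (symplecticGroup (Fin 2) K)) = 25920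
  omega

theorem su_equiv_psp (hF : Fintype.card F = 4) (hK : Fintype.card K = 3) :
    Nonempty (Cfsg.SU 4 F 2 ≃* Cfsg.PSp 2 K) := by
  classical
  obtain ⟨ω, hω⟩ := exists_isF4 hF
  have hchar : CharP K 3 := charP3 hK
  have hIn := inSU_e1 hF hω
  -- the enumeration of `SU₄(2)`
  let f : Fin NN → Cfsg.SU 4 F 2 := fun k => (hIn k.val k.2).choose
  have hf : ∀ k : Fin NN,
      ((f k : SpecialLinearGroup (Fin 4) F) : Matrix (Fin 4) (Fin 4) F) = e1 ω k.val :=
    fun k => (hIn k.val k.2).choose_spec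
  have hfinj : Function.Injective f := by
    intro i j hij
    have h1 : e1 ω i.val = e1 ω j.val := by rw [← hf i, ← hf j, hij]
    exact Fin.ext (e1_inj hω i.val i.2 j.val j.2 h1)
  have hfbij : Function.Bijective f :=
    hfinj.bijective_of_nat_card_le (by rw [card_SU hF, Nat.card_fin])
  let E : Fin NN ≃ Cfsg.SU 4 F 2 := Equiv.ofBijective f hfbij
  -- the enumeration of `PSp₄(3)`
  let tA : symplecticGroup (Fin 2) K := ⟨decK K cAp, symp_of_zmod sympA3⟩
  let tB : symplecticGroup (Fin 2) K := ⟨decK K cBp, symp_of_zmod sympB3⟩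
  let e2 : ℕ → Cfsg.PSp 2 K := fun k =>
    if h : k < NN then QuotientGroup.mk ⟨e2m K k, e2m_mem k h⟩ else 1
  have e2_eq : ∀ k (h : k < NN), e2 k = QuotientGroup.mk ⟨e2m K k, e2m_mem k h⟩ := by
    intro k h
    simp only [e2, dif_pos h]
  have h0 : (0 : ℕ) < NN := by norm_num
  have e2_zero : e2 0 = 1 := by
    rw [e2_eq 0 h0]
    have : (⟨e2m K 0, e2m_mem 0 h0⟩ : symplecticGroup (Fin 2) K) = 1 := Subtype.ext e2m_zero
    rw [this]
    rfl
  have e2_step : ∀ k < NN, e2 (gS0 k) = e2 k * QuotientGroup.mk tA ∧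
      e2 (gS1 k) = e2 k * QuotientGroup.mk tB := by
    intro k hk
    obtain ⟨h1, h2⟩ := e2m_step (K := K) hk
    rw [e2_eq k hk, e2_eq _ (gS0_lt hk), e2_eq _ (gS1_lt hk)]
    constructor
    · rw [← QuotientGroup.mk_mul]
      rcases h1 with h | h
      · congr 1
        exact Subtype.ext h
      · exact mk_eq_of_neg h
    · rw [← QuotientGroup.mk_mul]
      rcases h2 with h | h
      · congr 1
        exact Subtype.ext h
      · exact mk_eq_of_neg h
  have hjoint := joint_mul NN gS0 gS1 gPG htree (fun k hk => ⟨gS0_lt hk, gS1_lt hk⟩)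
    (e1 ω) (decM ω cA) (decM ω cB) e1_zero (fun k hk => e1_step hω hk)
    e2 (QuotientGroup.mk tA) (QuotientGroup.mk tB) e2_zero e2_step
  -- the homomorphism
  let ψ : Cfsg.SU 4 F 2 → Cfsg.PSp 2 K := fun g => e2 (E.symm g).val
  have hψmul : ∀ g h, ψ (g * h) = ψ g * ψ h := by
    intro g h
    obtain ⟨i, rfl⟩ := E.surjective g
    obtain ⟨j, rfl⟩ := E.surjective h
    obtain ⟨k, hk, hk1, hk2⟩ := hjoint j.val j.2 i.val i.2
    have hprod : E i * E j = E ⟨k, hk⟩ := by
      apply Subtype.ext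
      apply Subtype.ext
      show ((f i : SpecialLinearGroup (Fin 4) F) : Matrix (Fin 4) (Fin 4) F) *
        ((f j : SpecialLinearGroup (Fin 4) F) : Matrix (Fin 4) (Fin 4) F) =
        ((f ⟨k, hk⟩ : SpecialLinearGroup (Fin 4) F) : Matrix (Fin 4) (Fin 4) F)
      rw [hf, hf, hf]
      exact hk1
    simp only [ψ]
    rw [hprod, Equiv.symm_apply_apply, Equiv.symm_apply_apply, Equiv.symm_apply_apply]
    exact hk2.symm
  let Ψ : Cfsg.SU 4 F 2 →* Cfsg.PSp 2 K := MonoidHom.mk' ψ hψmul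
  have hΨinj : Function.Injective Ψ := by
    rw [injective_iff_map_eq_one]
    intro g hg
    obtain ⟨i, rfl⟩ := E.surjective g
    have hg' : e2 i.val = 1 := by
      have : Ψ (E i) = e2 (E.symm (E i)).val := rfl
      rw [this, Equiv.symm_apply_apply] at hg
      exact hg
    rw [e2_eq i.val i.2] at hg'
    have hcen := (QuotientGroup.eq_one_iff _).1 hg'
    have hi0 : i.val = 0 := by
      rcases (chkP i.val i.2).ker with h | h
      · exact h
      · exfalso
        apply h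
        rcases center_cases hK hcen with hc | hc
        · left
          apply isOne3b_of_decK (K := K)
          exact congrArg Subtype.val hc
        · right
          apply isNeg3b_of_decK (K := K)
          exact congrArg Subtype.val hc
    have hi : i = ⟨0, h0⟩ := Fin.ext hi0
    subst hi
    apply Subtype.ext
    apply Subtype.ext
    show ((f ⟨0, h0⟩ : SpecialLinearGroup (Fin 4) F) : Matrix (Fin 4) (Fin 4) F) = 1
    rw [hf]
    exact e1_zero
  have hΨbij : Function.Bijective Ψ :=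
    hΨinj.bijective_of_nat_card_le (by rw [card_SU hF, card_PSp hK])
  exact ⟨MulEquiv.ofBijective Ψ hΨbij⟩

theorem psu_equiv_su (hF : Fintype.card F = 4) : Nonempty (Cfsg.PSU 4 F 2 ≃* Cfsg.SU 4 F 2) := by
  have hF' : Fintype.card F = 2 ^ 2 := hF.trans (by norm_num)
  have h1 := Cfsg.Agent.Helper2.Herm.card_center_SU hF' 4 (by norm_num)
  have h2 : Subgroup.center (Cfsg.SU 4 F 2) = ⊥ := by
    apply Subgroup.card_eq_one.mp
    rw [h1]
    rfl
  exact ⟨(QuotientGroup.quotientMulEquivOfEq h2).trans QuotientGroup.quotientBot⟩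

theorem psu_equiv_psp (hF : Fintype.card F = 4) (hK : Fintype.card K = 3) :
    Nonempty (Cfsg.PSU 4 F 2 ≃* Cfsg.PSp 2 K) := by
  obtain ⟨e1⟩ := psu_equiv_su hF
  obtain ⟨e2⟩ := su_equiv_psp (K := K) hF hK
  exact ⟨e1.trans e2⟩

end Final

end Cfsg.Agent.Helper13.U42A
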