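import Mathlib
import Cfsg.Agent.Helper26.WEDefs

set_option autoImplicit false

/-! S5271 piece C4. -/

namespace Cfsg.Agent.S5271P

open Cfsg Cfsg.FusionSystem Cfsg.Agent.Helper25 Cfsg.Agent.Helper26.MasterRed

theorem c4 {Ω : Type*} [Group Ω] {S : Subgroup Ω} [Finite S] (p : ℕ) [Fact p.Prime]
    (hS : IsPGroup p S) (F : FusionSystem S) {d : ℕ} (hd : 1 ≤ d) (hWE : WE F (p ^ d))
    {X : Subgroup Ω} (hX : F.StronglyClosed X)
    (hmin : ∀ T : Subgroup Ω, F.StronglyClosed T → T ≠ ⊥ → X ≤ T) :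
    Nat.card X ≤ p ^ d := by
  by_contra hlt
  have hlt' : p ^ d < Nat.card X := not_le.mp hlt
  have hp : p.Prime := Fact.out
  have hXS : X ≤ S := hX.1
  have hXfin : Finite X := Finite.of_injective (Subgroup.inclusion hXS)
    (Subgroup.inclusion_injective hXS)
  have hXp : IsPGroup p X := hS.to_le hXS
  obtain ⟨n, hn⟩ := hXp.exists_card_eq
  have hdn : d ≤ n := by
    by_contra h
    have : n ≤ d := by omega
    have := Nat.pow_le_pow_right hp.pos this
    omega
  obtain ⟨Q', hQ'⟩ := Sylow.exists_subgroup_card_pow_prime (G := X) p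
    (n := d) (by rw [hn]; exact pow_dvd_pow p hdn)
  have hQX : Q'.map X.subtype ≤ X := by
    rintro _ ⟨q, -, rfl⟩
    exact q.2
  have hQcard : Nat.card (Q'.map X.subtype) = p ^ d := by
    rw [Nat.card_congr (Subgroup.equivMapOfInjective Q' X.subtype
      (Subgroup.subtype_injective X)).toEquiv.symm, hQ']
  have hQne : Q'.map X.subtype ≠ ⊥ := by
    intro h
    rw [h, Subgroup.card_bot] at hQcard
    have : 2 ≤ p ^ d := by
      calc 2 ≤ p := hp.two_le
        _ = p ^ 1 := (pow_one p).symm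
        _ ≤ p ^ d := Nat.pow_le_pow_right hp.pos hd
    omega
  have hfinal : X ≤ Q'.map X.subtype → False := by
    intro h
    have hQfin : Finite (Q'.map X.subtype : Subgroup Ω) :=
      Finite.of_injective (Subgroup.inclusion hQX) (Subgroup.inclusion_injective hQX)
    have := Nat.le_of_dvd Nat.card_pos (Subgroup.card_dvd_of_le h)
    omega
  obtain ⟨P, hP, hsup, hinf⟩ := hWE (Q'.map X.subtype) (hQX.trans hXS) hQcard
  by_cases hPbot : P = ⊥
  · rw [hPbot, sup_bot_eq] at hsup
    exact hfinal (hmin _ hsup hQne)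
  · have hXP : X ≤ P := hmin P hP hPbot
    rw [inf_of_le_left (hQX.trans hXP)] at hinf
    exact hfinal (hmin _ hinf hQne)

end Cfsg.Agent.S5271P
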