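import Mathlib

set_option autoImplicit false

/-! S5271 piece FRAT: the Frattini argument. -/

namespace Cfsg.Agent.S5271P

namespace FRAT

theorem card_eq_relIndex_mul {A : Type*} [Group A] (H K : Subgroup A) (h : H ≤ K) :
    Nat.card K = H.relIndex K * Nat.card H := by
  have h1 := Subgroup.index_mul_card (H.subgroupOf K)
  rw [Nat.card_congr (Subgroup.subgroupOfEquivOfLe h).toEquiv] at h1
  exact h1.symm

theorem relIndex_of_normal {A : Type*} [Group A] [Finite A] (P L : Subgroup A) [L.Normal] :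
    P.relIndex L = P.relIndex (P ⊔ L) := by
  have h1 : L.relIndex (P ⊔ L) = L.relIndex P := Subgroup.relIndex_sup_right P L
  have e1 := card_eq_relIndex_mul L (P ⊔ L) le_sup_right
  have e2 := card_eq_relIndex_mul P (P ⊔ L) le_sup_left
  have e3 := card_eq_relIndex_mul (P ⊓ L) P inf_le_left
  have e4 := card_eq_relIndex_mul (P ⊓ L) L inf_le_right
  rw [Subgroup.inf_relIndex_right] at e4
  rw [inf_comm, Subgroup.inf_relIndex_right, inf_comm] at e3
  have hpos : 0 < Nat.card (P ⊓ L : Subgroup A) := Nat.card_pos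
  have hposP : 0 < Nat.card P := Nat.card_pos
  rw [h1] at e1
  have : Nat.card P * P.relIndex L = Nat.card P * P.relIndex (P ⊔ L) := by
    calc Nat.card P * P.relIndex L
        = L.relIndex P * (P.relIndex L * Nat.card (P ⊓ L : Subgroup A)) := by rw [e3]; ring
      _ = L.relIndex P * Nat.card L := by rw [← e4]
      _ = Nat.card (P ⊔ L : Subgroup A) := e1.symm
      _ = Nat.card P * P.relIndex (P ⊔ L) := by rw [e2]; ring
  exact Nat.eq_of_mul_eq_mul_left hposP this

end FRAT

theorem frat {A : Type*} [Group A] [Finite A] (p : ℕ) [Fact p.Prime] (P : Sylow p A)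
    (L : Subgroup A) [L.Normal]
    (hN : IsPGroup p (Subgroup.normalizer ((L ⊓ (P : Subgroup A) : Subgroup A) : Set A)))
    (β : A) (hβ : (orderOf β).Coprime p) : β ∈ L := by
  have hQ : IsPGroup p ((P : Subgroup A).subgroupOf L) := P.2.comap_subtype
  have hidx : ¬ p ∣ ((P : Subgroup A).subgroupOf L).index := by
    have h1 : ((P : Subgroup A).subgroupOf L).index = (P : Subgroup A).relIndex L := rfl
    rw [h1, FRAT.relIndex_of_normal]
    intro h
    exact P.not_dvd_index (h.trans (Subgroup.relIndex_dvd_index_of_le le_sup_left))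
  have hfr := Sylow.normalizer_sup_eq_top (hQ.toSylow hidx)
  rw [IsPGroup.toSylow_coe, Subgroup.subgroupOf_map_subtype, inf_comm] at hfr
  have hβtop : β ∈ (Subgroup.normalizer ((L ⊓ (P : Subgroup A) : Subgroup A) : Set A)) ⊔ L := by
    rw [hfr]; exact Subgroup.mem_top β
  rw [← SetLike.mem_coe, Subgroup.mul_normal, Set.mem_mul] at hβtop
  obtain ⟨n, hn, l, hl, rfl⟩ := hβtop
  obtain ⟨k, hk⟩ := hN ⟨n, hn⟩
  have hk' : n ^ p ^ k = 1 := by
    have := congrArg Subtype.val hk
    simpa using this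
  have hq : (QuotientGroup.mk' L (n * l)) ^ p ^ k = 1 := by
    have h2 : QuotientGroup.mk' L (n * l) = QuotientGroup.mk' L n := by
      have h3 : QuotientGroup.mk' L l = 1 := (QuotientGroup.eq_one_iff l).mpr hl
      rw [map_mul, h3, mul_one]
    rw [h2, ← map_pow, hk', map_one]
  have hd1 : orderOf (QuotientGroup.mk' L (n * l)) ∣ p ^ k := orderOf_dvd_of_pow_eq_one hq
  have hd2 : orderOf (QuotientGroup.mk' L (n * l)) ∣ orderOf (n * l) := orderOf_map_dvd _ _
  have hcop : (orderOf (n * l)).Coprime (p ^ k) := Nat.Coprime.pow_right k hβ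
  have h1 : orderOf (QuotientGroup.mk' L (n * l)) = 1 :=
    Nat.eq_one_of_dvd_coprimes hcop hd2 hd1
  rw [orderOf_eq_one_iff] at h1
  exact (QuotientGroup.eq_one_iff _).mp h1

end Cfsg.Agent.S5271P
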