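import Mathlib
import Cfsg.Agent.Helper9.NormalSeries
import Cfsg.Agent.Helper26.WEDefs

set_option autoImplicit false

/-! S5271 piece LEMA2. -/

namespace Cfsg.Agent.S5271P

open Cfsg Cfsg.FusionSystem Cfsg.Agent.Helper25 Cfsg.Agent.Helper26.MasterRed

namespace LEMA2

/-- The subgroup of fixed points of an automorphism. -/
def fixedSub {G : Type*} [Group G] (α : MulAut G) : Subgroup G where
  carrier := {x | α x = x}
  one_mem' := map_one α
  mul_mem' := by
    intro a b ha hb
    change α a = a at ha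
    change α b = b at hb
    change α (a * b) = a * b
    rw [map_mul, ha, hb]
  inv_mem' := by
    intro a ha
    change α a = a at ha
    change α a⁻¹ = a⁻¹
    rw [map_inv, ha]

theorem mem_fixedSub {G : Type*} [Group G] (α : MulAut G) (x : G) :
    x ∈ fixedSub α ↔ α x = x := Iff.rfl

theorem aut_eq_one {G : Type*} [Group G] [Finite G] (p : ℕ) [Fact p.Prime] (hG : IsPGroup p G)
    {m : ℕ} (α : MulAut G)
    (hA : ∀ K : Subgroup G, Nat.card K = m → (∀ x ∈ K, α x ∈ K) →
      ∀ x ∈ Subgroup.normalizer (K : Set G), α x = x)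
    (K : Subgroup G) (hKm : Nat.card K = m) (hαK : ∀ x ∈ K, α x ∈ K) : α = 1 := by
  by_contra hne
  have hp : p.Prime := Fact.out
  have hKC : K ≤ fixedSub α := fun x hx => hA K hKm hαK x (Subgroup.le_normalizer hx)
  have hCtop : fixedSub α < ⊤ := by
    rw [lt_top_iff_ne_top]
    intro h
    apply hne
    ext x
    have : x ∈ fixedSub α := by rw [h]; exact Subgroup.mem_top x
    exact this
  have hnil : Group.IsNilpotent G := hG.isNilpotent
  have hlt : fixedSub α < Subgroup.normalizer (fixedSub α : Set G) :=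
    Group.normalizerCondition_of_isNilpotent _ hCtop
  set C := fixedSub α with hC
  set N : Subgroup G := Subgroup.normalizer (C : Set G) with hN
  have hCN : C ≤ N := hlt.le
  have hNp : IsPGroup p N := hG.to_subgroup N
  have hCn : (C.subgroupOf N).Normal := Subgroup.normal_in_normalizer
  obtain ⟨j, hj⟩ := (hG.to_subgroup K).exists_card_eq
  have hcardC : Nat.card (C.subgroupOf N) = Nat.card C :=
    Nat.card_congr (Subgroup.subgroupOfEquivOfLe hCN).toEquiv
  have hle : p ^ j ≤ Nat.card (C.subgroupOf N) := by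
    rw [hcardC, ← hj]
    exact Nat.le_of_dvd Nat.card_pos (Subgroup.card_dvd_of_le hKC)
  obtain ⟨B, hBn, hBC, hBcard⟩ :=
    Cfsg.Agent.Helper9.exists_normal_le_card_eq hNp (C.subgroupOf N) j hle
  have hH2C : B.map N.subtype ≤ C := by
    rintro _ ⟨b, hb, rfl⟩
    exact hBC hb
  have hH2card : Nat.card (B.map N.subtype) = m := by
    rw [Nat.card_congr (Subgroup.equivMapOfInjective B N.subtype
      (Subgroup.subtype_injective N)).toEquiv.symm, hBcard, ← hj, hKm]
  have hH2inv : ∀ x ∈ B.map N.subtype, α x ∈ B.map N.subtype := by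
    intro x hx
    have : α x = x := hH2C hx
    rw [this]; exact hx
  have hNle : N ≤ Subgroup.normalizer ((B.map N.subtype : Subgroup G) : Set G) := by
    have h1 := Subgroup.le_normalizer_map (H := B) N.subtype
    have h2 : Subgroup.normalizer (B : Set N) = ⊤ := Subgroup.normalizer_eq_top_iff.mpr hBn
    rw [h2] at h1
    intro n hn
    exact h1 ⟨⟨n, hn⟩, Subgroup.mem_top _, rfl⟩
  have hNC : N ≤ C := fun n hn => hA _ hH2card hH2inv n (hNle hn)
  exact absurd (lt_of_lt_of_le hlt hNC) (lt_irrefl _)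

end LEMA2

theorem lemA2 {Ω : Type*} [Group Ω] {R : Subgroup Ω} [Finite R] (p : ℕ) [Fact p.Prime]
    (hR : IsPGroup p R) {m : ℕ} (α : MulAut R)
    (hA : ∀ H : Subgroup Ω, H ≤ R → Nat.card H = m → Inv α H →
      ∀ x : R, (x : Ω) ∈ Subgroup.normalizer (H : Set Ω) → α x = x)
    {H : Subgroup Ω} (hHR : H ≤ R) (hHm : Nat.card H = m) (hαH : Inv α H) : α = 1 := by
  refine LEMA2.aut_eq_one (m := m) p hR α ?_ (H.subgroupOf R) ?_ ?_
  · intro K hKm hKinv x hx
    refine hA (K.map R.subtype) ?_ ?_ ?_ x ?_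
    · rintro _ ⟨k, -, rfl⟩
      exact k.2
    · rw [Nat.card_congr (Subgroup.equivMapOfInjective K R.subtype
        (Subgroup.subtype_injective R)).toEquiv.symm, hKm]
    · intro y hy
      obtain ⟨k, hk, hky⟩ := hy
      have : k = y := Subtype.ext hky
      subst this
      exact ⟨α k, hKinv k hk, rfl⟩
    · exact Subgroup.le_normalizer_map (H := K) R.subtype ⟨x, hx, rfl⟩
  · rw [Nat.card_congr (Subgroup.subgroupOfEquivOfLe hHR).toEquiv, hHm]
  · intro x hx
    exact hαH x hx

end Cfsg.Agent.S5271P
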