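import Mathlib
import Cfsg.Agent.Helper26.WEDefs

set_option autoImplicit false

/-! S5271 piece TRI. -/

namespace Cfsg.Agent.S5271P

open Cfsg Cfsg.FusionSystem Cfsg.Agent.Helper25 Cfsg.Agent.Helper26.MasterRed

namespace TRI

theorem card_eq_relIndex_mul {A : Type*} [Group A] (H K : Subgroup A) (h : H ≤ K) :
    Nat.card K = H.relIndex K * Nat.card H := by
  have h1 := Subgroup.index_mul_card (H.subgroupOf K)
  rw [Nat.card_congr (Subgroup.subgroupOfEquivOfLe h).toEquiv] at h1
  exact h1.symm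

/-- A maximal subgroup of a finite `p`-group has index `p`. -/
theorem index_coatom {G : Type*} [Group G] [Finite G] (p : ℕ) [Fact p.Prime] (hG : IsPGroup p G)
    {M : Subgroup G} (hM : IsCoatom M) : M.index = p := by
  have hp : p.Prime := Fact.out
  obtain ⟨a, ha⟩ := (hG.to_subgroup M).exists_card_eq
  obtain ⟨n, hn⟩ := hG.exists_card_eq
  have hidx := Subgroup.card_mul_index M
  have han : a < n := by
    by_contra h
    have hna : n ≤ a := by omega
    have h1 : Nat.card G ≤ Nat.card M := by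
      rw [ha, hn]; exact Nat.pow_le_pow_right hp.pos hna
    have h2 : M = ⊤ := Subgroup.eq_top_of_le_card M h1
    exact hM.1 h2
  obtain ⟨K, hK, hMK⟩ := Sylow.exists_subgroup_card_pow_prime_le (G := G) p
    (n := a) (m := a + 1) (by rw [hn]; exact pow_dvd_pow p han) M ha (Nat.le_succ a)
  have hlt : M < K := by
    refine lt_of_le_of_ne hMK ?_
    intro h
    rw [← h, ha] at hK
    have := Nat.pow_lt_pow_right hp.one_lt (show a < a + 1 by omega)
    omega
  have hKtop : K = ⊤ := hM.2 K hlt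
  rw [hKtop, Subgroup.card_top] at hK
  rw [ha, hK, pow_succ] at hidx
  have hpos : 0 < p ^ a := Nat.pow_pos hp.pos
  exact Nat.eq_of_mul_eq_mul_left hpos hidx

theorem key {G : Type*} [Group G] [Finite G] (p : ℕ) [Fact p.Prime] (hG : IsPGroup p G)
    {d : ℕ} (hd : 1 ≤ d) (hdG : p ^ d < Nat.card G) {M : Subgroup G} (hM : IsCoatom M)
    (X : Subgroup G) (hX : p ^ 2 ≤ Nat.card X) :
    ∃ Q : Subgroup G, Nat.card Q = p ^ d ∧ Q ≤ M ∧ ∃ z : G, z ∈ Q ∧ z ∈ X ∧ z ≠ 1 := by
  have hp : p.Prime := Fact.out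
  have hidx : M.index = p := index_coatom p hG hM
  have hnil : Group.IsNilpotent G := hG.isNilpotent
  have hMn : M.Normal :=
    Subgroup.NormalizerCondition.normal_of_coatom M Group.normalizerCondition_of_isNilpotent hM
  have hr : M.relIndex X ∣ p := hidx ▸ Subgroup.relIndex_dvd_index_of_normal M X
  have hcard := card_eq_relIndex_mul (M ⊓ X) X inf_le_right
  rw [Subgroup.inf_relIndex_right] at hcard
  have hYne : Nat.card (M ⊓ X : Subgroup G) ≠ 1 := by
    intro h1
    rw [h1, mul_one] at hcard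
    have h2 : M.relIndex X ≤ p := Nat.le_of_dvd hp.pos hr
    have h3 : p < p ^ 2 := by
      have := hp.two_le
      nlinarith
    omega
  obtain ⟨k, hk⟩ := (hG.to_subgroup (M ⊓ X)).exists_card_eq
  have hk0 : k ≠ 0 := by
    intro h
    rw [h, pow_zero] at hk
    exact hYne hk
  have hdvd : p ∣ Nat.card (M ⊓ X : Subgroup G) := by
    rw [hk]; exact dvd_pow_self p hk0
  obtain ⟨y, hy⟩ := exists_prime_orderOf_dvd_card' p hdvd
  have hyo : orderOf (y : G) = p := by rw [Subgroup.orderOf_coe]; exact hy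
  have hyM : (y : G) ∈ M := y.2.1
  have hyX : (y : G) ∈ X := y.2.2
  have hQ0M : Subgroup.zpowers (y : G) ≤ M := by
    rw [Subgroup.zpowers_le]; exact hyM
  have hQ0card : Nat.card ((Subgroup.zpowers (y : G)).subgroupOf M) = p ^ 1 := by
    rw [Nat.card_congr (Subgroup.subgroupOfEquivOfLe hQ0M).toEquiv, Nat.card_zpowers, hyo, pow_one]
  obtain ⟨n, hn⟩ := hG.exists_card_eq
  have hMcard := Subgroup.card_mul_index M
  rw [hidx, hn] at hMcard
  have hdn : d < n := by
    by_contra h
    have hnd : n ≤ d := by omega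
    have := Nat.pow_le_pow_right hp.pos hnd
    omega
  have hMcard' : Nat.card M = p ^ (n - 1) := by
    have h1 : p ^ n = p ^ (n - 1) * p := by
      rw [← pow_succ]; congr 1; omega
    rw [h1] at hMcard
    exact Nat.eq_of_mul_eq_mul_right hp.pos hMcard
  obtain ⟨K, hK, hQ0K⟩ := Sylow.exists_subgroup_card_pow_prime_le (G := M) p
    (n := 1) (m := d) (by rw [hMcard']; exact pow_dvd_pow p (by omega)) _ hQ0card hd
  refine ⟨K.map M.subtype, ?_, ?_, (y : G), ?_, hyX, ?_⟩
  · rw [Nat.card_congr (Subgroup.equivMapOfInjective K M.subtype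
      (Subgroup.subtype_injective M)).toEquiv.symm, hK]
  · rintro _ ⟨q, -, rfl⟩
    exact q.2
  · refine ⟨⟨(y : G), hyM⟩, hQ0K ?_, rfl⟩
    rw [Subgroup.mem_subgroupOf]
    exact Subgroup.mem_zpowers _
  · intro h1
    rw [h1, orderOf_one] at hyo
    exact hp.one_lt.ne hyo

end TRI

theorem tri {Ω : Type*} [Group Ω] {S : Subgroup Ω} [Finite S] (p : ℕ) [Fact p.Prime]
    (hS : IsPGroup p S) (F : FusionSystem S) {d : ℕ} (hd : 1 ≤ d) (hdS : p ^ d < Nat.card S)
    (hWE : WE F (p ^ d)) {X : Subgroup Ω} (hX : F.StronglyClosed X)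
    (hXcard : p ^ 2 ≤ Nat.card X)
    (hmin : ∀ T : Subgroup Ω, F.StronglyClosed T → T ≠ ⊥ → X ≤ T) :
    X ≤ (frattini ↥S).map S.subtype := by
  have hXS : X ≤ S := hX.1
  have hX'card : Nat.card (X.subgroupOf S) = Nat.card X :=
    Nat.card_congr (Subgroup.subgroupOfEquivOfLe hXS).toEquiv
  have hall : ∀ M : Subgroup S, IsCoatom M → X ≤ M.map S.subtype := by
    intro M hM
    obtain ⟨Q, hQcard, hQM, z, hzQ, hzX, hz1⟩ :=
      TRI.key p hS hd hdS hM (X.subgroupOf S) (by rw [hX'card]; exact hXcard)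
    have hQS : Q.map S.subtype ≤ S := by
      rintro _ ⟨q, -, rfl⟩
      exact q.2
    have hQΩcard : Nat.card (Q.map S.subtype) = p ^ d := by
      rw [Nat.card_congr (Subgroup.equivMapOfInjective Q S.subtype
        (Subgroup.subtype_injective S)).toEquiv.symm, hQcard]
    have hQM' : Q.map S.subtype ≤ M.map S.subtype := Subgroup.map_mono hQM
    have hzQ' : (z : Ω) ∈ Q.map S.subtype := ⟨z, hzQ, rfl⟩
    have hzX' : (z : Ω) ∈ X := hzX
    have hz1' : (z : Ω) ≠ 1 := by
      intro h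
      apply hz1
      exact Subtype.ext h
    obtain ⟨P, hP, hsup, hinf⟩ := hWE (Q.map S.subtype) hQS hQΩcard
    by_cases hPbot : P = ⊥
    · rw [hPbot, sup_bot_eq] at hsup
      have hne : Q.map S.subtype ≠ ⊥ := by
        intro h
        rw [h, Subgroup.mem_bot] at hzQ'
        exact hz1' hzQ'
      exact (hmin _ hsup hne).trans hQM'
    · have hXP : X ≤ P := hmin P hP hPbot
      have hne : Q.map S.subtype ⊓ P ≠ ⊥ := by
        intro h
        have : (z : Ω) ∈ Q.map S.subtype ⊓ P := ⟨hzQ', hXP hzX'⟩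
        rw [h, Subgroup.mem_bot] at this
        exact hz1' this
      exact ((hmin _ hinf hne).trans inf_le_left).trans hQM'
  have hfr : X.subgroupOf S ≤ frattini ↥S := by
    unfold frattini Order.radical
    refine le_iInf₂ (fun M hM => ?_)
    intro y hy
    rw [Subgroup.mem_subgroupOf] at hy
    obtain ⟨y', hy', hyy⟩ := hall M hM hy
    have : y' = y := Subtype.ext hyy
    rw [← this]; exact hy'
  intro x hx
  exact ⟨⟨x, hXS hx⟩, hfr (by rw [Subgroup.mem_subgroupOf]; exact hx), rfl⟩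

end Cfsg.Agent.S5271P
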