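import Mathlib
import Cfsg.Agent.Helper10.PGroupBasic
import Cfsg.Agent.Helper26.WEDefs

set_option autoImplicit false

/-! S5271 piece XP. -/

namespace Cfsg.Agent.S5271P

open Cfsg Cfsg.FusionSystem Cfsg.Agent.Helper25 Cfsg.Agent.Helper26.MasterRed

namespace XP

/-- In a finite `p`-group, a normal subgroup of order `p` is central. -/
theorem le_center_of_card_prime {H : Type*} [Group H] [Finite H] {p : ℕ} [hp : Fact p.Prime]
    (hH : IsPGroup p H) (K : Subgroup H) [K.Normal] (hK : Nat.card K = p) :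
    K ≤ Subgroup.center H := by
  have hne : K ≠ ⊥ := by
    intro h
    rw [h, Subgroup.card_bot] at hK
    exact hp.out.one_lt.ne hK
  obtain ⟨z, hzK, hz1, hzZ⟩ := Cfsg.Agent.Helper10.exists_ne_one_mem_inf_center hH K hne
  have h2 : Nat.card ↥(K ⊓ Subgroup.center H) ∣ p := hK ▸ Subgroup.card_dvd_of_le inf_le_left
  rcases (Nat.dvd_prime hp.out).mp h2 with h | h
  · have h3 := Subgroup.card_eq_one.mp h
    have : z ∈ K ⊓ Subgroup.center H := ⟨hzK, hzZ⟩
    rw [h3, Subgroup.mem_bot] at this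
    exact absurd this hz1
  · have : K ⊓ Subgroup.center H = K :=
      Subgroup.eq_of_le_of_card_ge inf_le_left (by rw [h, hK])
    rw [← this]; exact inf_le_right

/-- A strongly closed subgroup of order `p` is central in `S`. -/
theorem central {Ω : Type*} [Group Ω] {S : Subgroup Ω} [Finite S] (p : ℕ) [Fact p.Prime]
    (hS : IsPGroup p S) (F : FusionSystem S) {X : Subgroup Ω} (hX : F.StronglyClosed X)
    (hXp : Nat.card X = p) (v : Ω) (hv : v ∈ S) (x : Ω) (hx : x ∈ X) : v * x * v⁻¹ = x := by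
  have hXS : X ≤ S := hX.1
  have hn : (X.subgroupOf S).Normal := by
    constructor
    intro n hn g
    rw [Subgroup.mem_subgroupOf] at hn ⊢
    have hg := le_normalizer_of_stronglyClosed F hX g.2
    exact (Subgroup.mem_normalizer_iff.mp hg _).mp hn
  have hcard : Nat.card (X.subgroupOf S) = p := by
    rw [Nat.card_congr (Subgroup.subgroupOfEquivOfLe hXS).toEquiv, hXp]
  have hc := le_center_of_card_prime hS (X.subgroupOf S) hcard
  have hxc : (⟨x, hXS hx⟩ : S) ∈ Subgroup.center S := hc (by rw [Subgroup.mem_subgroupOf]; exact hx)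
  rw [Subgroup.mem_center_iff] at hxc
  have h1 := hxc ⟨v, hv⟩
  have h2 : v * x = x * v := congrArg Subtype.val h1
  rw [h2, mul_inv_cancel_right]

theorem pow_apply_of_fix {G : Type*} [Group G] (β : MulAut G) (x z : G) (hx : β x = x * z)
    (hz : β z = z) (j : ℕ) : (β ^ j) x = x * z ^ j := by
  induction j with
  | zero => simp
  | succ j ih =>
    rw [pow_succ', MulAut.mul_apply, ih, map_mul, map_pow, hx, hz, pow_succ', mul_assoc]

end XP

theorem xp {Ω : Type*} [Group Ω] {S : Subgroup Ω} [Finite S] (p : ℕ) [Fact p.Prime]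
    (hS : IsPGroup p S) (F : FusionSystem S) (hF : F.IsSaturated p) (hR1 : R1Concl p F)
    {E X : Subgroup Ω} (hES : E ≤ S) (hX : F.StronglyClosed X) (hXp : Nat.card X = p)
    (hAutS : IsPGroup p (F.autGroup S)) (β : MulAut E) (hβ : β ∈ F.autGroup E)
    (hcop : (orderOf β).Coprime p)
    (hβX : ∀ x : E, (x : Ω)⁻¹ * ((β x : E) : Ω) ∈ X) : β = 1 := by
  have hp : p.Prime := Fact.out
  have hXS : X ≤ S := hX.1
  have hEfin : Finite E := finite_of_le hES
  have hXfin : Finite X := finite_of_le hXS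
  have hinfcard : Nat.card (X ⊓ E : Subgroup Ω) ∣ p := hXp ▸ Subgroup.card_dvd_of_le inf_le_left
  rcases (Nat.dvd_prime hp).mp hinfcard with h1 | hpcard
  · -- `X ⊓ E = ⊥`
    have hbot : X ⊓ E = ⊥ := Subgroup.card_eq_one.mp h1
    ext x
    have h2 : (x : Ω)⁻¹ * ((β x : E) : Ω) ∈ X ⊓ E :=
      ⟨hβX x, E.mul_mem (E.inv_mem x.2) (β x).2⟩
    rw [hbot, Subgroup.mem_bot] at h2
    have h3 : ((β x : E) : Ω) = (x : Ω) := by
      have := congrArg (fun t => (x : Ω) * t) h2
      simpa using this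
    rw [h3]; rfl
  · -- `X ≤ E`
    have hXE : X ≤ E := by
      have : X ⊓ E = X := Subgroup.eq_of_le_of_card_ge inf_le_left (by rw [hpcard, hXp])
      rw [← this]; exact inf_le_right
    have hφE : autHom β ∈ F.Hom E := (mem_autGroup_iff F hES β).mp hβ
    obtain ⟨χ, hχe⟩ : ∃ χ : X →* Ω, χ = (autHom β).comp (Subgroup.inclusion hXE) := ⟨_, rfl⟩
    have hχ : χ ∈ F.Hom X := by
      rw [hχe]
      exact restrict_mem F hXE hφE
    have hχapp : ∀ y : X, χ y = ((β ⟨y, hXE y.2⟩ : E) : Ω) := fun y => by rw [hχe]; rfl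
    have hinj : Function.Injective χ := F.injective_of_mem hχ
    have hr : χ.range = X := by
      have hle : χ.range ≤ X := by
        rintro _ ⟨y, rfl⟩
        rw [hχapp]
        exact autGroup_apply_mem_of_stronglyClosed F hX hES β hβ _ y.2
      apply Subgroup.eq_of_le_of_card_ge hle
      exact (Nat.card_congr (MonoidHom.ofInjective hinj).toEquiv).le
    obtain ⟨γ, hγe⟩ : ∃ γ : MulAut X, γ = isoOfHom χ hinj hr := ⟨_, rfl⟩
    have hγχ : autHom γ = χ := by
      ext y
      rw [hγe]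
      rfl
    have hγapp : ∀ y : X, ((γ y : X) : Ω) = ((β ⟨y, hXE y.2⟩ : E) : Ω) := by
      intro y
      rw [← hχapp, ← hγχ]
      rfl
    have hγ : γ ∈ F.autGroup X := by
      rw [mem_autGroup_iff F hXS, hγχ]
      exact hχ
    -- `γ` has `p`-power order
    obtain ⟨k, hk⟩ := hR1 X S (isReceptive_of_stronglyClosed p F hF hX) hXS inf_le_left
      (le_inf le_rfl (le_normalizer_of_stronglyClosed F hX)) hAutS γ hγ (by
        intro v hv
        refine ⟨1, S.one_mem, ?_⟩
        intro x hx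
        have hc : v * (x : Ω) * v⁻¹ = (x : Ω) := XP.central p hS F hX hXp v hv x x.2
        have : (⟨v * (x : Ω) * v⁻¹, hx⟩ : X) = x := Subtype.ext hc
        rw [this]
        simp)
    -- powers of `γ`
    have hγpow : ∀ (n : ℕ) (y : X), (((γ ^ n) y : X) : Ω) = (((β ^ n) ⟨y, hXE y.2⟩ : E) : Ω) := by
      intro n
      induction n with
      | zero => intro y; rfl
      | succ n ih =>
        intro y
        rw [pow_succ, MulAut.mul_apply, ih, pow_succ, MulAut.mul_apply]
        have : (⟨((γ y : X) : Ω), hXE (γ y).2⟩ : E) = β ⟨y, hXE y.2⟩ := Subtype.ext (hγapp y)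
        rw [this]
    have hγord : γ ^ orderOf β = 1 := by
      ext y
      rw [hγpow, pow_orderOf_eq_one]
      rfl
    have hd1 : orderOf γ ∣ orderOf β := orderOf_dvd_of_pow_eq_one hγord
    have hd2 : orderOf γ ∣ p ^ k := orderOf_dvd_of_pow_eq_one hk
    have hγ1 : γ = 1 := by
      rw [← orderOf_eq_one_iff]
      exact Nat.eq_one_of_dvd_coprimes (Nat.Coprime.pow_right k hcop) hd1 hd2
    have hfix : ∀ y : E, (y : Ω) ∈ X → β y = y := by
      intro y hy
      have := hγapp ⟨y, hy⟩
      rw [hγ1] at this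
      exact Subtype.ext this.symm
    -- `β ^ p = 1`
    have hβp : β ^ p = 1 := by
      ext x
      have hz : ((x⁻¹ * β x : E) : Ω) ∈ X := hβX x
      have h1 : β x = x * (x⁻¹ * β x) := by group
      have h2 := XP.pow_apply_of_fix β x (x⁻¹ * β x) h1 (hfix _ hz) p
      have h3 : (x⁻¹ * β x) ^ p = 1 := by
        have h4 : (⟨((x⁻¹ * β x : E) : Ω), hz⟩ : X) ^ Nat.card X = 1 := pow_card_eq_one'
        rw [hXp] at h4
        have h5 := congrArg (fun t : X => (t : Ω)) h4
        apply Subtype.ext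
        simpa using h5
      rw [h2, h3, mul_one]
      rfl
    have hd : orderOf β ∣ p := orderOf_dvd_of_pow_eq_one hβp
    rw [← orderOf_eq_one_iff]
    exact Nat.eq_one_of_dvd_coprimes hcop dvd_rfl hd

end Cfsg.Agent.S5271P
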