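import Mathlib
import Cfsg.Prelude.Def_Characters
import Cfsg.Agent.Helper24.Rep
import Cfsg.Agent.Helper24.Expansion
import Cfsg.Agent.Helper8.CharComp
import Cfsg.Agent.Helper12.LSpWDefs
import Cfsg.Agent.Helper12.WGDefs
import Cfsg.Agent.Helper12.WGDefsC
import Cfsg.Agent.Helper12.WGDefsD
import Cfsg.Agent.Helper12.WGStruct
import Cfsg.Agent.Helper18.WGSPECADD
import Cfsg.Agent.Helper18.WGSPECNAT
import Cfsg.Agent.Helper22.WGCLASS
import Cfsg.Agent.Helper15.WGLINV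
import Cfsg.Agent.Helper26.WGNONTRIV
import Cfsg.Agent.Helper13.WGGap
import Cfsg.Agent.Helper28.WGBLKCLASS
import Cfsg.Agent.Helper14.WGSPECRIGHT
import Cfsg.Agent.Helper18.WGCONSTRANS
import Cfsg.Agent.Helper14.WGSPECZ

/-!
# S2524, piece DECOMP, part A: preliminaries
-/

set_option autoImplicit false

namespace Cfsg.Agent.S2524P

open Matrix Cfsg Cfsg.Agent.S2333P Cfsg.Agent.Helper2.Sp Cfsg.Agent.Helper12.LSp Cfsg.Agent.Helper25
open Cfsg.Agent.Helper24

variable {F : Type*} [Field F] [Fintype F]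

omit [Fintype F] in
theorem decomp_rk1_zero {n : ℕ} : rk1 (0 : F) (0 : Fin n → F) = 0 := by
  apply Subtype.ext
  rw [rk1_val, zero_smul]
  rfl

/-- a spectrum of pure class has rank at most one -/
theorem decomp_rankLeOne_of_pure {n : ℕ} {H : Type*} [Group H] (ψ : AddChar F ℂ)
    (U : Multiplicative ↥(SymM n F) →* H) (f : H → ℂ) (c : F) (hp : PureClass ψ U f c) :
    RankLeOne ψ U f := by
  intro T hT
  rcases hp T hT with rfl | ⟨x, -, rfl⟩
  · exact ⟨0, 0, decomp_rk1_zero.symm⟩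
  · exact ⟨c, x, rfl⟩

/-- the spectrum of the trivial character -/
theorem decomp_spec_one (h2 : (2 : F) ≠ 0) (ψ : AddChar F ℂ) (hψ : ψ ≠ 1) {n : ℕ}
    (T : ↥(SymM n F)) (hT : T ≠ 0) :
    spec ψ (fun _ : ↥(symplecticGroup (Fin n) F) => (1 : ℂ)) T = 0 := by
  classical
  have h := specU_lamT h2 ψ hψ (0 : ↥(SymM n F)) T
  rw [if_neg (fun h0 => hT h0.symm)] at h
  have h1 : (fun Y : Multiplicative ↥(SymM n F) => lamT ψ (0 : ↥(SymM n F)) Y) = fun _ => 1 := by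
    funext Y
    show ψ (Matrix.trace ((0 : ↥(SymM n F)).1 * (Multiplicative.toAdd Y).1)) = 1
    rw [AddSubgroup.coe_zero, Matrix.zero_mul, Matrix.trace_zero, AddChar.map_zero_eq_one]
  unfold specU at h
  rw [h1] at h
  unfold spec specU
  exact h

/-- there is a matrix of class `c` -/
theorem decomp_exists_ofClass {n : ℕ} (hn : 1 ≤ n) (c : F) :
    ∃ T : ↥(SymM n F), OfClass c T := by
  refine ⟨rk1 c (Pi.single ⟨0, hn⟩ 1), Pi.single ⟨0, hn⟩ 1, ?_, rfl⟩
  intro h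
  have := congrFun h ⟨0, hn⟩
  rw [Pi.single_eq_same, Pi.zero_apply] at this
  exact one_ne_zero this

/-- the members of a Weil pair: nontrivial -/
theorem decomp_weil_ne_one (h2 : (2 : F) ≠ 0) (ψ : AddChar F ℂ) (hψ : ψ ≠ 1) {n : ℕ} (hn : 1 ≤ n)
    (c : F) (hc : c ≠ 0) (A : ↥(symplecticGroup (Fin n) F) → ℂ) (e : ℕ)
    (hA : WeilSpec ψ A c e) : A ≠ fun _ => 1 := by
  rintro rfl
  obtain ⟨T, hT⟩ := decomp_exists_ofClass hn c
  have h1 := hA.2.1 T hT
  rw [decomp_spec_one h2 ψ hψ T (ne_zero_of_ofClass hc hT)] at h1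
  exact zero_ne_one h1

/-- the members of a Weil pair: pure class -/
theorem decomp_weil_pure (ψ : AddChar F ℂ) {n : ℕ}
    (c : F) (A : ↥(symplecticGroup (Fin n) F) → ℂ) (e : ℕ)
    (hA : WeilSpec ψ A c e) : PureClass ψ (US n F) A c := by
  intro T hT
  by_contra hcon
  rw [not_or] at hcon
  exact hT (hA.2.2 T hcon.1 hcon.2)

/-- the spectrum of the restriction to the stabiliser of `e0` -/
theorem decomp_spec_eq {m : ℕ} (ψ : AddChar F ℂ) (Y : ↥(symplecticGroup (Fin (m + 1)) F) → ℂ)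
    (T : ↥(SymM (m + 1) F)) :
    spec ψ Y T = specU ψ (qt m F) (fun x : Gam m F => Y (iota m F x)) T := by
  unfold spec specU
  simp only [iota_qt]

/-- the spectrum as a sum over the constituents of the restriction -/
theorem decomp_spec_sum {m : ℕ} (ψ : AddChar F ℂ) [Fintype (IrrCharacter (Gam m F))]
    (Y : ↥(symplecticGroup (Fin (m + 1)) F) → ℂ)
    (hY : IsCharacter ↥(symplecticGroup (Fin (m + 1)) F) Y) (T : ↥(SymM (m + 1) F)) :
    spec ψ Y T = ∑ ζ : IrrCharacter (Gam m F),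
      classInner (fun x : Gam m F => Y (iota m F x)) (ζ : Gam m F → ℂ) *
        specU ψ (qt m F) (ζ : Gam m F → ℂ) T := by
  rw [decomp_spec_eq]
  exact specU_sum_irr ψ (qt m F) _ (Cfsg.Agent.Helper8.isCharacter_comp (iota m F) hY) T

/-- positivity: a constituent contributes to the spectrum -/
theorem decomp_spec_ne_zero (h2 : (2 : F) ≠ 0) {m : ℕ} (ψ : AddChar F ℂ) (hψ : ψ ≠ 1)
    (Y : ↥(symplecticGroup (Fin (m + 1)) F) → ℂ)
    (hY : IsCharacter ↥(symplecticGroup (Fin (m + 1)) F) Y) (T : ↥(SymM (m + 1) F))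
    (ζ : IrrCharacter (Gam m F))
    (hn : classInner (fun x : Gam m F => Y (iota m F x)) (ζ : Gam m F → ℂ) ≠ 0)
    (hs : specU ψ (qt m F) (ζ : Gam m F → ℂ) T ≠ 0) : spec ψ Y T ≠ 0 := by
  classical
  haveI : Fintype (IrrCharacter (Gam m F)) := Fintype.ofFinite _
  rw [decomp_spec_sum ψ Y hY T]
  have hYJ := Cfsg.Agent.Helper8.isCharacter_comp (iota m F) hY
  have ha : ∀ ζ' : IrrCharacter (Gam m F), ∃ a : ℕ,
      classInner (fun x : Gam m F => Y (iota m F x)) (ζ' : Gam m F → ℂ) = a :=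
    fun ζ' => IsCharacter.classInner_irr_nat hYJ ζ'
  have hk : ∀ ζ' : IrrCharacter (Gam m F), ∃ k : ℕ,
      specU ψ (qt m F) (ζ' : Gam m F → ℂ) T = k := by
    intro ζ'
    obtain ⟨k, hk, -⟩ := specU_nat h2 ψ hψ (qt m F) (ζ' : Gam m F → ℂ)
      (IsIrrCharacter.isCharacter ζ'.2)
    exact ⟨k T, hk T⟩
  choose a ha using ha
  choose k hk using hk
  simp_rw [ha, hk]
  rw [ha] at hn
  rw [hk] at hs
  have hn' : a ζ ≠ 0 := by
    intro h0; apply hn; rw [h0, Nat.cast_zero]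
  have hs' : k ζ ≠ 0 := by
    intro h0; apply hs; rw [h0, Nat.cast_zero]
  have hle : a ζ * k ζ ≤ ∑ ζ' : IrrCharacter (Gam m F), a ζ' * k ζ' :=
    Finset.single_le_sum (f := fun ζ' => a ζ' * k ζ') (fun _ _ => Nat.zero_le _)
      (Finset.mem_univ ζ)
  have hpos : 0 < a ζ * k ζ := Nat.mul_pos (Nat.pos_of_ne_zero hn') (Nat.pos_of_ne_zero hs')
  have : ((∑ ζ' : IrrCharacter (Gam m F), a ζ' * k ζ' : ℕ) : ℂ) ≠ 0 := by
    rw [Nat.cast_ne_zero]
    omega
  push_cast at this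
  exact this

end Cfsg.Agent.S2524P
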