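import Mathlib
import Cfsg.Prelude.Def_Characters
import Cfsg.Agent.Helper13.WGDecompA
import Cfsg.Agent.Helper12.WGClaimC
import Cfsg.Agent.Helper12.WGConstit

/-!
# S2524, piece DECOMP, part B: the constituents and the read-off lemmas
-/

set_option autoImplicit false

namespace Cfsg.Agent.S2524P

open Matrix Cfsg Cfsg.Agent.S2333P Cfsg.Agent.Helper2.Sp Cfsg.Agent.Helper12.LSp Cfsg.Agent.Helper25
open Cfsg.Agent.Helper24

variable {F : Type*} [Field F] [Fintype F]

/-- inflation from `Sp_{2m}` to `Heis ⋊ Sp_{2m}` -/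
def infl {m : ℕ} (κ : ↥(symplecticGroup (Fin m) F) → ℂ) : Gam m F → ℂ := fun x => κ x.right

omit [Fintype F] in
theorem infl_apply {m : ℕ} (κ : ↥(symplecticGroup (Fin m) F) → ℂ) (x : Gam m F) :
    infl κ x = κ x.right := rfl

omit [Fintype F] in
theorem infl_injective {m : ℕ} {κ κ' : ↥(symplecticGroup (Fin m) F) → ℂ} (h : infl κ = infl κ') :
    κ = κ' := by
  funext g
  have := congrFun h (SemidirectProduct.inr g)
  rwa [infl_apply, infl_apply, SemidirectProduct.right_inr] at this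

omit [Fintype F] in
theorem infl_irr {m : ℕ} {κ : ↥(symplecticGroup (Fin m) F) → ℂ}
    (hκ : IsIrrCharacter ↥(symplecticGroup (Fin m) F) κ) : IsIrrCharacter (Gam m F) (infl κ) :=
  Cfsg.Agent.Helper8.isIrrCharacter_comp_surjective
    (SemidirectProduct.rightHom : Gam m F →* ↥(symplecticGroup (Fin m) F))
    SemidirectProduct.rightHom_surjective hκ

omit [Fintype F] in
theorem decomp_qS_zero {m : ℕ} : qS (0 : ↥(SymM (m + 1) F)) = 0 := by
  apply Subtype.ext
  ext i j
  rfl

/-- the spectrum of an inflated character at a block matrix -/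
theorem decomp_specU_infl_blk (h2 : (2 : F) ≠ 0) (ψ : AddChar F ℂ) (hψ : ψ ≠ 1) {m : ℕ}
    (κ : ↥(symplecticGroup (Fin m) F) → ℂ) (T' : ↥(SymM m F)) :
    specU ψ (qt m F) (infl κ) (blk T') = spec ψ κ T' := by
  classical
  have h := specU_qt_right h2 ψ hψ κ (blk T')
  rw [if_pos (fun j => blk_zero_left T' j), qS_blk] at h
  exact h

/-- the spectrum of an inflated character at a matrix with nonzero `(0,0)` entry -/
theorem decomp_specU_infl_ne (h2 : (2 : F) ≠ 0) (ψ : AddChar F ℂ) (hψ : ψ ≠ 1) {m : ℕ}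
    (κ : ↥(symplecticGroup (Fin m) F) → ℂ) (T : ↥(SymM (m + 1) F)) (hT : T.1 0 0 ≠ 0) :
    specU ψ (qt m F) (infl κ) T = 0 := by
  classical
  have h := specU_qt_right h2 ψ hψ κ T
  rw [if_neg (fun hall => hT (hall 0))] at h
  exact h

/-- the constituents of the restriction of a character of pure class `c` -/
theorem decomp_constituent_cases (hodd : Odd (Fintype.card F)) {m : ℕ} (hm : 1 ≤ m)
    (ψ : AddChar F ℂ) (hψ : ψ ≠ 1) (c : F) (hc : c ≠ 0)
    (a0 a1 : ↥(symplecticGroup (Fin m) F) → ℂ)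
    (hH : ∀ κ : ↥(symplecticGroup (Fin m) F) → ℂ, IsIrrCharacter ↥(symplecticGroup (Fin m) F) κ →
      κ ≠ (fun _ => 1) → PureClass ψ (US m F) κ c → κ = a0 ∨ κ = a1)
    (Y : ↥(symplecticGroup (Fin (m + 1)) F) → ℂ)
    (hY : IsIrrCharacter ↥(symplecticGroup (Fin (m + 1)) F) Y) (hY1 : Y ≠ (fun _ => 1))
    (hYp : PureClass ψ (US (m + 1) F) Y c) (ζ : IrrCharacter (Gam m F))
    (hn : classInner (fun x : Gam m F => Y (iota m F x)) (ζ : Gam m F → ℂ) ≠ 0) :
    (ζ : Gam m F → ℂ) = infl a0 ∨ (ζ : Gam m F → ℂ) = infl a1 ∨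
      ∃ z : F, z ≠ 0 ∧ LiesOver ψ (ζ : Gam m F → ℂ) z ∧ RankLeOne ψ (qt m F) (ζ : Gam m F → ℂ) := by
  have h2 : (2 : F) ≠ 0 := gap_two_ne_zero hodd
  rcases constit hodd hm ψ hψ Y hY hY1 (decomp_rankLeOne_of_pure ψ _ Y c hYp) ζ.1 ζ.2 hn with
    ⟨κ, hκ, hκ1, ⟨c', hc', hp'⟩, hζκ⟩ | h
  · -- inflated from `Sp_{2m}`
    obtain ⟨T', hT'0, hT'⟩ := exists_spec_ne_zero hodd hm ψ hψ κ hκ hκ1
    have hs : specU ψ (qt m F) (ζ : Gam m F → ℂ) (blk T') ≠ 0 := by
      rw [hζκ]
      have := decomp_specU_infl_blk h2 ψ hψ κ T'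
      unfold infl at this
      rw [this]
      exact hT'
    have hYs := decomp_spec_ne_zero h2 ψ hψ Y (IsIrrCharacter.isCharacter hY) (blk T') ζ hn hs
    have hcl : OfClass c T' := by
      rcases hYp (blk T') hYs with h0 | h0
      · exact absurd ((blk_eq_zero_iff T').mp h0) hT'0
      · exact (ofClass_blk hc T').mp h0
    have hcl' : OfClass c' T' := by
      rcases hp' T' hT' with h0 | h0
      · exact absurd h0 hT'0
      · exact h0
    have hsq : IsSquare (c' / c) := by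
      by_contra hns
      exact not_ofClass_of_not_isSquare hc hns T' hcl hcl'
    obtain ⟨t, ht⟩ := hsq
    have ht0 : t ≠ 0 := by
      rintro rfl
      rw [mul_zero] at ht
      exact (div_ne_zero hc' hc) ht
    have hc'eq : c' = c * t ^ 2 := by
      rw [div_eq_iff hc] at ht
      rw [ht]; ring
    have hκp : PureClass ψ (US m F) κ c := by
      intro T hT
      rcases hp' T hT with h0 | h0
      · left; exact h0
      · right
        rw [hc'eq] at h0
        exact (ofClass_mul_sq c t ht0 T).mp h0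
    rcases hH κ hκ hκ1 hκp with rfl | rfl
    · left; exact hζκ
    · right; left; exact hζκ
  · right; right; exact h

end Cfsg.Agent.S2524P
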