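import Mathlib
import Cfsg.Prelude.Def_Characters
import Cfsg.Agent.Helper13.WGDecompB

/-!
# S2524, piece DECOMP, part C: reading off the multiplicities of the constituents
-/

set_option autoImplicit false

namespace Cfsg.Agent.S2524P

open Matrix Cfsg Cfsg.Agent.S2333P Cfsg.Agent.Helper2.Sp Cfsg.Agent.Helper12.LSp Cfsg.Agent.Helper25
open Cfsg.Agent.Helper24

variable {F : Type*} [Field F] [Fintype F]

/-- the alternatives for a constituent of the restriction to the stabiliser of `e0` -/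
def DecompCases (ψ : AddChar F ℂ) {m : ℕ} (a0 a1 : ↥(symplecticGroup (Fin m) F) → ℂ)
    (ζ : Gam m F → ℂ) : Prop :=
  ζ = infl a0 ∨ ζ = infl a1 ∨
    ∃ z : F, z ≠ 0 ∧ LiesOver ψ ζ z ∧ RankLeOne ψ (qt m F) ζ

/-- the matrix `-z E_00` -/
def tz (m : ℕ) (z : F) : ↥(SymM (m + 1) F) := rk1 (-z) (Fin.cons 1 (0 : Fin m → F))

omit [Fintype F] in
theorem tz_zero_zero (m : ℕ) (z : F) : (tz m z).1 0 0 = -z := by
  unfold tz
  rw [rk1_apply, Fin.cons_zero]
  ring

section read

variable {m : ℕ} (hodd : Odd (Fintype.card F)) (hm : 1 ≤ m) (ψ : AddChar F ℂ) (hψ : ψ ≠ 1)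
  (c : F) (hc : c ≠ 0) (a0 a1 : ↥(symplecticGroup (Fin m) F) → ℂ)
  (ha : IsWeilPair ψ m c a0 a1)
  (Y : ↥(symplecticGroup (Fin (m + 1)) F) → ℂ)
  (hY : IsCharacter ↥(symplecticGroup (Fin (m + 1)) F) Y)
  (hcase : ∀ ζ' : IrrCharacter (Gam m F),
    classInner (fun x : Gam m F => Y (iota m F x)) (ζ' : Gam m F → ℂ) ≠ 0 →
      DecompCases ψ a0 a1 (ζ' : Gam m F → ℂ))

include hodd hm hψ hY hcase in
/-- the multiplicity of a constituent with nontrivial central character -/
theorem decomp_read_II (ζ : IrrCharacter (Gam m F)) (z : F) (hz : z ≠ 0)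
    (hov : LiesOver ψ (ζ : Gam m F → ℂ) z) (hrk : RankLeOne ψ (qt m F) (ζ : Gam m F → ℂ)) :
    spec ψ Y (tz m z) = classInner (fun x : Gam m F => Y (iota m F x)) (ζ : Gam m F → ℂ) := by
  classical
  have h2 : (2 : F) ≠ 0 := gap_two_ne_zero hodd
  haveI : Fintype (IrrCharacter (Gam m F)) := Fintype.ofFinite _
  rw [decomp_spec_sum ψ Y hY (tz m z), Finset.sum_eq_single ζ]
  · rw [claimC_spec hodd ψ hψ hm z hz ζ.1 ζ.2 hov hrk (tz m z), if_pos ⟨0, rfl⟩, mul_one]
  · intro ζ' _ hne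
    by_cases hn : classInner (fun x : Gam m F => Y (iota m F x)) (ζ' : Gam m F → ℂ) = 0
    · rw [hn, zero_mul]
    · have h00 : (tz m z).1 0 0 ≠ 0 := by
        rw [tz_zero_zero]; exact neg_ne_zero.mpr hz
      rcases hcase ζ' hn with h | h | ⟨z', hz', hov', hrk'⟩
      · rw [h, decomp_specU_infl_ne h2 ψ hψ a0 _ h00, mul_zero]
      · rw [h, decomp_specU_infl_ne h2 ψ hψ a1 _ h00, mul_zero]
      · by_contra hcon
        have hs : specU ψ (qt m F) (ζ' : Gam m F → ℂ) (tz m z) ≠ 0 := by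
          intro h0; apply hcon; rw [h0, mul_zero]
        have := spec_entry_of_liesOver ψ hψ ζ'.1 z' hov' (tz m z) hs
        rw [tz_zero_zero, neg_inj] at this
        subst this
        exact hne (Subtype.ext (claimC_unique hodd ψ hψ hm z hz ζ'.1 ζ.1 ζ'.2 ζ.2 hov' hov hrk' hrk))
  · intro h; exact absurd (Finset.mem_univ ζ) h

include hodd hψ ha hY hcase in
/-- the multiplicity of `a1 ∘ right` -/
theorem decomp_read_zero :
    spec ψ Y 0 = classInner (fun x : Gam m F => Y (iota m F x)) (infl a1) := by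
  classical
  have h2 : (2 : F) ≠ 0 := gap_two_ne_zero hodd
  haveI : Fintype (IrrCharacter (Gam m F)) := Fintype.ofFinite _
  obtain ⟨ha0, ha1, hw0, hw1⟩ := ha
  have hz0 : ∀ κ : ↥(symplecticGroup (Fin m) F) → ℂ,
      specU ψ (qt m F) (infl κ) (0 : ↥(SymM (m + 1) F)) = spec ψ κ 0 := by
    intro κ
    have := decomp_specU_infl_blk h2 ψ hψ κ (0 : ↥(SymM m F))
    rwa [blk_zero] at this
  rw [decomp_spec_sum ψ Y hY 0, Finset.sum_eq_single (⟨infl a1, infl_irr ha1⟩ : IrrCharacter (Gam m F))]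
  · show _ * specU ψ (qt m F) (infl a1) 0 = _
    rw [hz0, hw1.1, Nat.cast_one, mul_one]
  · intro ζ' _ hne
    by_cases hn : classInner (fun x : Gam m F => Y (iota m F x)) (ζ' : Gam m F → ℂ) = 0
    · rw [hn, zero_mul]
    · rcases hcase ζ' hn with h | h | ⟨z', hz', hov', hrk'⟩
      · rw [h, hz0, hw0.1, Nat.cast_zero, mul_zero]
      · exact absurd (Subtype.ext h) hne
      · by_contra hcon
        have hs : specU ψ (qt m F) (ζ' : Gam m F → ℂ) 0 ≠ 0 := by
          intro h0; apply hcon; rw [h0, mul_zero]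
        have := spec_entry_of_liesOver ψ hψ ζ'.1 z' hov' 0 hs
        have h00 : ((0 : ↥(SymM (m + 1) F)) : Matrix (Fin (m + 1)) (Fin (m + 1)) F) 0 0 = 0 := rfl
        rw [h00] at this
        exact hz' (neg_eq_zero.mp this.symm)
  · intro h; exact absurd (Finset.mem_univ _) h

include hodd hψ ha hY hcase in
/-- the sum of the multiplicities of `a0 ∘ right` and `a1 ∘ right` -/
theorem decomp_read_blk (T₀ : ↥(SymM m F)) (hT₀ : OfClass c T₀) :
    spec ψ Y (blk T₀) = classInner (fun x : Gam m F => Y (iota m F x)) (infl a0) +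
      classInner (fun x : Gam m F => Y (iota m F x)) (infl a1) := by
  classical
  have h2 : (2 : F) ≠ 0 := gap_two_ne_zero hodd
  haveI : Fintype (IrrCharacter (Gam m F)) := Fintype.ofFinite _
  obtain ⟨ha0, ha1, hw0, hw1⟩ := ha
  have hne01 : (⟨infl a0, infl_irr ha0⟩ : IrrCharacter (Gam m F)) ≠ ⟨infl a1, infl_irr ha1⟩ := by
    intro h
    have h' : infl a0 = infl a1 := congrArg Subtype.val h
    have h'' := infl_injective h'
    have e0 := hw0.1
    rw [h'', hw1.1] at e0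
    have : (1 : ℕ) = 0 := by exact_mod_cast e0
    omega
  rw [decomp_spec_sum ψ Y hY (blk T₀),
    Finset.sum_eq_add (⟨infl a0, infl_irr ha0⟩ : IrrCharacter (Gam m F)) ⟨infl a1, infl_irr ha1⟩ hne01]
  · show _ * specU ψ (qt m F) (infl a0) (blk T₀) + _ * specU ψ (qt m F) (infl a1) (blk T₀) = _
    rw [decomp_specU_infl_blk h2 ψ hψ, decomp_specU_infl_blk h2 ψ hψ, hw0.2.1 T₀ hT₀,
      hw1.2.1 T₀ hT₀, mul_one, mul_one]
  · intro ζ' _ hne
    by_cases hn : classInner (fun x : Gam m F => Y (iota m F x)) (ζ' : Gam m F → ℂ) = 0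
    · rw [hn, zero_mul]
    · rcases hcase ζ' hn with h | h | ⟨z', hz', hov', hrk'⟩
      · exact absurd (Subtype.ext h) hne.1
      · exact absurd (Subtype.ext h) hne.2
      · by_contra hcon
        have hs : specU ψ (qt m F) (ζ' : Gam m F → ℂ) (blk T₀) ≠ 0 := by
          intro h0; apply hcon; rw [h0, mul_zero]
        have := spec_entry_of_liesOver ψ hψ ζ'.1 z' hov' (blk T₀) hs
        rw [blk_zero_left] at this
        exact hz' (neg_eq_zero.mp this.symm)
  · intro h; exact absurd (Finset.mem_univ _) h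
  · intro h; exact absurd (Finset.mem_univ _) h

end read

end Cfsg.Agent.S2524P
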