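import Mathlib
import Cfsg.Prelude.Def_Characters
import Cfsg.Agent.Helper13.WGDecompC

/-!
# S2524, piece DECOMP: on the stabiliser of `e0` a character of pure class `c` is a combination of
the Weil pair
-/

set_option autoImplicit false

namespace Cfsg.Agent.S2524P

open Matrix Cfsg Cfsg.Agent.S2333P Cfsg.Agent.Helper2.Sp Cfsg.Agent.Helper12.LSp Cfsg.Agent.Helper25
open Cfsg.Agent.Helper24

variable {F : Type*} [Field F] [Fintype F]

/-- the expansion of the restriction of a character along its constituents, pointwise -/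
theorem decomp_expand {m : ℕ} [Fintype (IrrCharacter (Gam m F))]
    (Y : ↥(symplecticGroup (Fin (m + 1)) F) → ℂ)
    (hY : IsCharacter ↥(symplecticGroup (Fin (m + 1)) F) Y) (x : Gam m F) :
    Y (iota m F x) = ∑ ζ : IrrCharacter (Gam m F),
      classInner (fun x : Gam m F => Y (iota m F x)) (ζ : Gam m F → ℂ) * (ζ : Gam m F → ℂ) x := by
  have h := congrFun (IsCharacter.eq_sum_classInner
    (Cfsg.Agent.Helper8.isCharacter_comp (iota m F) hY)) x
  rw [Finset.sum_apply] at h
  simp only [Pi.smul_apply, smul_eq_mul] at h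
  exact h

/-- **DECOMP**: on the stabiliser of `e0` a character of pure class `c` is a combination of the
Weil pair -/
theorem decomp (hodd : Odd (Fintype.card F)) {m : ℕ} (hm : 1 ≤ m) (ψ : AddChar F ℂ) (hψ : ψ ≠ 1)
    (H : HypLevel ψ m) (c : F) (hc : c ≠ 0)
    (A0 A1 : ↥(symplecticGroup (Fin (m + 1)) F) → ℂ) (hA : IsWeilPair ψ (m + 1) c A0 A1)
    (χ : ↥(symplecticGroup (Fin (m + 1)) F) → ℂ)
    (hχ : IsIrrCharacter ↥(symplecticGroup (Fin (m + 1)) F) χ) (h1 : χ ≠ (fun _ => 1))
    (hp : PureClass ψ (US (m + 1) F) χ c) :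
    ∃ b0 b1 : ℕ, ∀ x : Gam m F,
      χ (iota m F x) = b0 * A0 (iota m F x) + b1 * A1 (iota m F x) := by
  classical
  have h2 : (2 : F) ≠ 0 := gap_two_ne_zero hodd
  haveI : Fintype (IrrCharacter (Gam m F)) := Fintype.ofFinite _
  obtain ⟨a0, a1, ha, hH⟩ := H c hc
  obtain ⟨hA0, hA1, hW0, hW1⟩ := hA
  have hA0c := IsIrrCharacter.isCharacter hA0
  have hA1c := IsIrrCharacter.isCharacter hA1
  have hχc := IsIrrCharacter.isCharacter hχ
  have hA0one := decomp_weil_ne_one h2 ψ hψ (Nat.succ_le_succ (Nat.zero_le m)) c hc A0 0 hW0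
  have hA1one := decomp_weil_ne_one h2 ψ hψ (Nat.succ_le_succ (Nat.zero_le m)) c hc A1 1 hW1
  have hA0p := decomp_weil_pure ψ c A0 0 hW0
  have hA1p := decomp_weil_pure ψ c A1 1 hW1
  -- the constituents
  have hcaseχ : ∀ ζ' : IrrCharacter (Gam m F),
      classInner (fun x : Gam m F => χ (iota m F x)) (ζ' : Gam m F → ℂ) ≠ 0 →
        DecompCases ψ a0 a1 (ζ' : Gam m F → ℂ) :=
    fun ζ' hn => decomp_constituent_cases hodd hm ψ hψ c hc a0 a1 hH χ hχ h1 hp ζ' hn
  have hcase0 : ∀ ζ' : IrrCharacter (Gam m F),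
      classInner (fun x : Gam m F => A0 (iota m F x)) (ζ' : Gam m F → ℂ) ≠ 0 →
        DecompCases ψ a0 a1 (ζ' : Gam m F → ℂ) :=
    fun ζ' hn => decomp_constituent_cases hodd hm ψ hψ c hc a0 a1 hH A0 hA0 hA0one hA0p ζ' hn
  have hcase1 : ∀ ζ' : IrrCharacter (Gam m F),
      classInner (fun x : Gam m F => A1 (iota m F x)) (ζ' : Gam m F → ℂ) ≠ 0 →
        DecompCases ψ a0 a1 (ζ' : Gam m F → ℂ) :=
    fun ζ' hn => decomp_constituent_cases hodd hm ψ hψ c hc a0 a1 hH A1 hA1 hA1one hA1p ζ' hn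
  -- a matrix of class `c` at level `m`
  obtain ⟨T₀, hT₀⟩ := decomp_exists_ofClass hm c
  have hblk : OfClass c (blk T₀) := (ofClass_blk hc T₀).mpr hT₀
  -- the multiplicities of the inflated characters
  have r0χ := decomp_read_zero hodd ψ hψ c a0 a1 ha χ hχc hcaseχ
  have r00 := decomp_read_zero hodd ψ hψ c a0 a1 ha A0 hA0c hcase0
  have r01 := decomp_read_zero hodd ψ hψ c a0 a1 ha A1 hA1c hcase1
  have rbχ := decomp_read_blk hodd ψ hψ c a0 a1 ha χ hχc hcaseχ T₀ hT₀
  have rb0 := decomp_read_blk hodd ψ hψ c a0 a1 ha A0 hA0c hcase0 T₀ hT₀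
  have rb1 := decomp_read_blk hodd ψ hψ c a0 a1 ha A1 hA1c hcase1 T₀ hT₀
  rw [hW0.1, Nat.cast_zero] at r00
  rw [hW1.1, Nat.cast_one] at r01
  rw [hW0.2.1 _ hblk, ← r00, add_zero] at rb0
  rw [hW1.2.1 _ hblk, ← r01] at rb1
  have rb1' : classInner (fun x : Gam m F => A1 (iota m F x)) (infl a0) = 0 := by
    linear_combination -rb1
  -- the coefficients
  obtain ⟨b0, hb0⟩ := IsCharacter.classInner_irr_nat
    (Cfsg.Agent.Helper8.isCharacter_comp (iota m F) hχc) ⟨infl a0, infl_irr ha.1⟩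
  obtain ⟨b1, hb1⟩ := IsCharacter.classInner_irr_nat
    (Cfsg.Agent.Helper8.isCharacter_comp (iota m F) hχc) ⟨infl a1, infl_irr ha.2.1⟩
  have hb0' : classInner (fun x : Gam m F => χ (iota m F x)) (infl a0) = b0 := hb0
  have hb1' : classInner (fun x : Gam m F => χ (iota m F x)) (infl a1) = b1 := hb1
  refine ⟨b0, b1, ?_⟩
  -- the key identity of multiplicities
  have key : ∀ ζ : IrrCharacter (Gam m F),
      classInner (fun x : Gam m F => χ (iota m F x)) (ζ : Gam m F → ℂ) =
        b0 * classInner (fun x : Gam m F => A0 (iota m F x)) (ζ : Gam m F → ℂ) +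
        b1 * classInner (fun x : Gam m F => A1 (iota m F x)) (ζ : Gam m F → ℂ) := by
    intro ζ
    by_cases hall : classInner (fun x : Gam m F => χ (iota m F x)) (ζ : Gam m F → ℂ) = 0 ∧
        classInner (fun x : Gam m F => A0 (iota m F x)) (ζ : Gam m F → ℂ) = 0 ∧
        classInner (fun x : Gam m F => A1 (iota m F x)) (ζ : Gam m F → ℂ) = 0
    · rw [hall.1, hall.2.1, hall.2.2]; ring
    · have hc' : DecompCases ψ a0 a1 (ζ : Gam m F → ℂ) := by
        by_contra hno
        apply hall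
        refine ⟨?_, ?_, ?_⟩
        · by_contra h; exact hno (hcaseχ ζ h)
        · by_contra h; exact hno (hcase0 ζ h)
        · by_contra h; exact hno (hcase1 ζ h)
      rcases hc' with h | h | ⟨z, hz, hov, hrk⟩
      · rw [h, hb0', ← rb0, rb1']; ring
      · rw [h, hb1', ← r00, ← r01]; ring
      · rw [← decomp_read_II hodd hm ψ hψ a0 a1 χ hχc hcaseχ ζ z hz hov hrk,
          ← decomp_read_II hodd hm ψ hψ a0 a1 A0 hA0c hcase0 ζ z hz hov hrk,
          ← decomp_read_II hodd hm ψ hψ a0 a1 A1 hA1c hcase1 ζ z hz hov hrk]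
        by_cases hcl : OfClass c (tz m z)
        · rw [hW0.2.1 _ hcl, hW1.2.1 _ hcl,
            spec_eq_of_ofClass ψ χ (IsCharacter.isClassFunction hχc) hcl hblk, rbχ, hb0', hb1']
          ring
        · have hne : tz m z ≠ 0 := by
            intro h0
            have := tz_zero_zero m z
            rw [h0] at this
            exact hz (neg_eq_zero.mp this.symm)
          have hzero : ∀ Y : ↥(symplecticGroup (Fin (m + 1)) F) → ℂ,
              PureClass ψ (US (m + 1) F) Y c → spec ψ Y (tz m z) = 0 := by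
            intro Y hYp
            by_contra hs
            rcases hYp (tz m z) hs with h0 | h0
            · exact hne h0
            · exact hcl h0
          rw [hzero χ hp, hzero A0 hA0p, hzero A1 hA1p]; ring
  intro x
  rw [decomp_expand χ hχc x, decomp_expand A0 hA0c x, decomp_expand A1 hA1c x, Finset.mul_sum,
    Finset.mul_sum, ← Finset.sum_add_distrib]
  refine Finset.sum_congr rfl fun ζ _ => ?_
  rw [key ζ]
  ring

end Cfsg.Agent.S2524P
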